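import Mathlib
import Cfsg.Agent.CHAR.PermRank
import Cfsg.Agent.CHAR.Constit
import Cfsg.Agent.CHAR.Central
import Cfsg.Agent.CHAR.RepEquiv
import Cfsg.Agent.PERM.Deg2pB

/-!
The centraliser algebra of a complex representation, in particular of a permutation
representation.
-/

set_option autoImplicit false
set_option linter.unusedSectionVars false

namespace CL.PermAlg

open Cfsg CL.Char Module
open scoped ComplexConjugate

section General

variable {G : Type*} [Group G] [Fintype G] {V : Type*} [AddCommGroup V] [Module ℂ V]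
  [FiniteDimensional ℂ V] (ρ : Representation ℂ G V)

theorem trace_mul_pow {f g : End ℂ V} (μ : ℂ) (h : Commute f g)
    (hg : IsNilpotent (g - algebraMap ℂ _ μ)) (k : ℕ) :
    LinearMap.trace ℂ V (f * g ^ k) = μ ^ k * LinearMap.trace ℂ V f := by
  induction k with
  | zero => simp
  | succ k ih =>
    rw [pow_succ, ← mul_assoc, End.mul_eq_comp,
      LinearMap.trace_comp_eq_mul_of_commute_of_isNilpotent μ
        (h.mul_left (Commute.pow_self g k)) hg, ih]
    ring

/-- The multiplicities of the eigenvalues of an endomorphism on the isotypic components. -/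
theorem exists_spectrum (T : End ℂ V) (hT : ∀ g, Commute T (ρ g)) {χ : G → ℂ}
    (hχ : IsCharacter G χ) : ∃ s : Multiset ℂ, (∀ μ ∈ s, T.HasEigenvalue μ) ∧
      ∀ k : ℕ, classInner (fun g => LinearMap.trace ℂ V (ρ g * T ^ k)) χ =
        (s.map (· ^ k)).sum := by
  classical
  have hds := DirectSum.isInternal_submodule_of_iSupIndep_of_iSup_eq_top
    T.independent_maxGenEigenspace T.iSup_maxGenEigenspace_eq_top
  have hfin : {μ | T.maxGenEigenspace μ ≠ ⊥}.Finite :=
    WellFoundedGT.finite_ne_bot_of_iSupIndep T.independent_maxGenEigenspace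
  let U : ℂ → Subrepresentation ρ := fun μ =>
    ⟨T.maxGenEigenspace μ, fun g _ hv => T.mapsTo_maxGenEigenspace_of_comm (hT g) μ hv⟩
  choose n hn using fun μ =>
    (isCharacter_character (U μ).toRepresentation).exists_nat_inner hχ
  refine ⟨∑ μ ∈ hfin.toFinset, Multiset.replicate (n μ) μ, fun μ hμ => ?_, fun k => ?_⟩
  · simp only [Multiset.mem_sum, Set.Finite.mem_toFinset, Set.mem_ofPred_eq,
      Multiset.mem_replicate] at hμ
    obtain ⟨ν, h1, -, rfl⟩ := hμ
    exact End.HasUnifEigenvalue.lt zero_lt_one h1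
  · have h1 : (fun g => LinearMap.trace ℂ V (ρ g * T ^ k)) =
        ∑ μ ∈ hfin.toFinset, μ ^ k • (U μ).toRepresentation.character := by
      ext g
      have hm : ∀ μ, Set.MapsTo (ρ g * T ^ k : End ℂ V) (T.maxGenEigenspace μ)
          (T.maxGenEigenspace μ) := fun μ => T.mapsTo_maxGenEigenspace_of_comm
            ((hT g).mul_right (Commute.self_pow T k)) μ
      rw [LinearMap.trace_eq_sum_trace_restrict' hds hfin hm, Finset.sum_apply]
      refine Finset.sum_congr rfl fun μ _ => ?_
      have hf' := T.mapsTo_maxGenEigenspace_of_comm (Commute.refl _) μ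
      have hg' := T.mapsTo_maxGenEigenspace_of_comm (hT g) μ
      have e : (ρ g * T ^ k : End ℂ V).restrict (hm μ) =
          (ρ g).restrict hg' * T.restrict hf' ^ k := by
        exact (congrArg ((ρ g).restrict hg' * ·) (End.pow_restrict k hf')).symm
      rw [e, trace_mul_pow μ (LinearMap.restrict_commute (hT g).symm _ _)
        (T.isNilpotent_restrict_maxGenEigenspace_sub_algebraMap μ)]
      rfl
    rw [h1, classInner_sum_left, ← Multiset.coe_mapAddMonoidHom, map_sum, Multiset.sum_sum]
    refine Finset.sum_congr rfl fun μ _ => ?_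
    rw [classInner_smul_left, hn]
    simp [mul_comm]

theorem isIntegral_of_hasEigenvalue {T : End ℂ V} (hT : IsIntegral ℤ T) {μ : ℂ}
    (h : T.HasEigenvalue μ) : IsIntegral ℤ μ := by
  obtain ⟨p, hp, hp0⟩ := hT
  obtain ⟨v, hv⟩ := h.exists_hasEigenvector
  refine ⟨p, hp, ?_⟩
  have h2 := End.aeval_apply_of_hasEigenvector (p := p.map (algebraMap ℤ ℂ)) hv
  rw [Polynomial.aeval_map_algebraMap, Polynomial.aeval_def, hp0, LinearMap.zero_apply,
    Polynomial.eval_map] at h2
  exact (smul_eq_zero.mp h2.symm).resolve_right hv.2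

/-- The operator attached to an irreducible character (a multiple of the central idempotent). -/
noncomputable def idem (χ : G → ℂ) : End ℂ V := ∑ g, conj (χ g) • ρ g

theorem idem_comm {χ : G → ℂ} (hχ : IsClassFunction G χ) (h : G) :
    idem ρ χ * ρ h = ρ h * idem ρ χ :=
  sum_classFun_smul_comm ρ (fun g h => by simp only [hχ g h]) h

theorem comm_idem (χ : G → ℂ) {T : End ℂ V} (hT : ∀ g, Commute T (ρ g)) :
    Commute T (idem ρ χ) :=
  Commute.sum_right _ _ _ fun g _ => (hT g).smul_right _

theorem trace_idem_mul {χ : G → ℂ} (hχ : IsIrrCharacter G χ) (h : G) :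
    χ 1 * LinearMap.trace ℂ V (idem ρ χ * ρ h) =
      Nat.card G * classInner ρ.character χ * χ h := by
  classical
  have hc : IsClassFunction G (fun g => conj (χ g)) := hχ.conj.isClassFunction
  have h1 : LinearMap.trace ℂ V (idem ρ χ * ρ h) = ∑ g, conj (χ g) * ρ.character (g * h) := by
    simp [idem, Finset.sum_mul, Representation.character]
  have h2 := (isCharacter_character ρ).isClassFunction
  rw [h1]
  simp only [h2.apply_eq_sum (_ * h), Finset.mul_sum]
  rw [Finset.sum_comm, Finset.sum_eq_single ⟨χ, hχ⟩]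
  · have h3 := hχ.sum_mul_apply_mul hc h
    have h4 := card_mul_classInner χ χ
    rw [hχ.inner_self] at h4
    simp only [mul_comm (χ _) (conj _)] at h4
    rw [← h4] at h3
    rw [Finset.mul_sum] at h3
    calc _ = classInner ρ.character χ * ∑ g, χ 1 * (conj (χ g) * χ (g * h)) := by
          rw [Finset.mul_sum]
          exact Finset.sum_congr rfl fun g _ => by ring
      _ = _ := by rw [h3]; ring
  · intro ψ _ hψ
    have h3 := ψ.2.sum_mul_apply_mul hc h
    have h4 := card_mul_classInner (ψ : G → ℂ) χ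
    rw [ψ.2.inner_of_ne hχ fun h => hψ (Subtype.ext h)] at h4
    simp only [mul_comm (ψ.1 _) (conj _)] at h4
    rw [← h4, mul_zero, zero_mul, mul_eq_zero, or_iff_right ψ.2.one_ne_zero] at h3
    calc _ = χ 1 * classInner ρ.character ψ * ∑ g, conj (χ g) * ψ.1 (g * h) := by
          rw [Finset.mul_sum]
          exact Finset.sum_congr rfl fun g _ => by ring
      _ = _ := by rw [h3]; ring
  · simp

/-- If the character is multiplicity free, the centraliser algebra is spanned by the central
idempotents. -/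
theorem mem_span_idem (h : ∀ χ, IsIrrCharacter G χ →
      classInner ρ.character χ = 0 ∨ classInner ρ.character χ = 1)
    {T : End ℂ V} (hT : ∀ g, Commute T (ρ g)) :
    T ∈ Submodule.span ℂ {E | ∃ χ, IsIrrCharacter G χ ∧ classInner ρ.character χ = 1 ∧
      E = idem ρ χ} := by
  classical
  let ι := {χ : IrrCharacter G // classInner ρ.character χ = 1}
  let e : ι → ρ.IntertwiningMap ρ := fun χ =>
    ⟨idem ρ χ.1, fun g => idem_comm ρ χ.1.2.isClassFunction g⟩
  have hli : LinearIndependent ℂ e := by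
    rw [Fintype.linearIndependent_iff]
    intro c hc
    have h1 : ∑ i : ι, (c i * Nat.card G / (i.1 : G → ℂ) 1) • (i.1 : G → ℂ) = 0 := by
      ext g
      have h2 := congrArg (fun f : ρ.IntertwiningMap ρ =>
        LinearMap.trace ℂ V (f.toLinearMap * ρ g)) hc
      simp only [Representation.IntertwiningMap.toLinearMap_sum,
        Representation.IntertwiningMap.toLinearMap_smul, Finset.sum_mul, map_sum,
        Representation.IntertwiningMap.zero_toLinearMap, zero_mul, map_zero, smul_mul_assoc,
        map_smul, e] at h2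
      rw [Finset.sum_apply, Pi.zero_apply, ← h2]
      refine Finset.sum_congr rfl fun i _ => ?_
      have h3 := trace_idem_mul ρ i.1.2 g
      rw [i.2] at h3
      have h4 := i.1.2.one_ne_zero
      simp only [Pi.smul_apply, smul_eq_mul]
      field_simp
      linear_combination (-c i) * h3
    have h2 := (linearIndependent_irr (G := G)).comp (Subtype.val : ι → _) Subtype.val_injective
    intro i
    have h3 := Fintype.linearIndependent_iff.1 h2 _ h1 i
    simpa [i.1.2.one_ne_zero, card_ne_zero G] using h3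
  have hcard : Fintype.card ι = finrank ℂ (ρ.IntertwiningMap ρ) := by
    apply Nat.cast_injective (R := ℂ)
    rw [← classInner_character, inner_eq_sum_of_right _ (isCharacter_character ρ).isClassFunction,
      Fintype.card_subtype, ← Finset.sum_boole]
    refine Finset.sum_congr rfl fun χ _ => ?_
    rcases h χ χ.2 with h0 | h0 <;> simp [h0]
  have hsp := hli.span_eq_top_of_card_eq_finrank' hcard
  have h1 : (⟨T, fun g => hT g⟩ : ρ.IntertwiningMap ρ) ∈ Submodule.span ℂ (Set.range e) :=
    hsp ▸ Submodule.mem_top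
  obtain ⟨c, hc⟩ := (Submodule.mem_span_range_iff_exists_fun ℂ).1 h1
  have h2 := congrArg Representation.IntertwiningMap.toLinearMap hc
  simp only [Representation.IntertwiningMap.toLinearMap_sum,
    Representation.IntertwiningMap.toLinearMap_smul] at h2
  rw [← h2]
  exact Submodule.sum_mem _ fun i _ => Submodule.smul_mem _ _
    (Submodule.subset_span ⟨_, i.1.2, i.2, rfl⟩)

theorem commute_of_multFree (h : ∀ χ, IsIrrCharacter G χ →
      classInner ρ.character χ = 0 ∨ classInner ρ.character χ = 1)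
    {S T : End ℂ V} (hS : ∀ g, Commute S (ρ g)) (hT : ∀ g, Commute T (ρ g)) : Commute S T := by
  have := mem_span_idem ρ h hT
  clear hT
  induction this using Submodule.span_induction with
  | mem x hx =>
    obtain ⟨χ, -, -, rfl⟩ := hx
    exact comm_idem ρ χ hS
  | zero => exact Commute.zero_right S
  | add x y _ _ hx hy => exact hx.add_right hy
  | smul a x _ hx => exact hx.smul_right a

theorem multFree_of_commute (h : ∀ S T : End ℂ V, (∀ g, Commute S (ρ g)) →
      (∀ g, Commute T (ρ g)) → Commute S T) {χ : G → ℂ} (hχ : IsIrrCharacter G χ) :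
    classInner ρ.character χ = 0 ∨ classInner ρ.character χ = 1 := by
  obtain ⟨m, hm⟩ := (isCharacter_character ρ).exists_nat_inner hχ.isCharacter
  by_contra hc
  have h2 : 2 ≤ m := by
    by_contra h2
    have : m = 0 ∨ m = 1 := by omega
    rcases this with rfl | rfl <;> simp [hm] at hc
  obtain ⟨n, σ, hσ⟩ := (isCharacter_character ρ).sub_smul_irr hχ hm h2
  obtain ⟨d, τ, hτ, rfl⟩ := hχ
  obtain ⟨φ⟩ := nonempty_equiv_of_character_eq ((τ.prod τ).prod σ) ρ (by
    rw [character_prod, character_prod, hσ]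
    ext g
    simp
    ring)
  have key : ∀ A : End ℂ (((Fin d → ℂ) × (Fin d → ℂ)) × (Fin n → ℂ)),
      (∀ g, Commute A (((τ.prod τ).prod σ) g)) →
        ∀ g, Commute (φ.toLinearEquiv.conj A) (ρ g) := by
    intro A hA g
    rw [← φ.conj_apply_self g]
    exact (hA g).map φ.toLinearEquiv.conjRingEquiv
  have h3 := h _ _ (key ((LinearEquiv.prodComm ℂ _ _).toLinearMap.prodMap 0) fun g => by
      ext <;> simp) (key ((LinearMap.id.prodMap 0).prodMap 0) fun g => by ext <;> simp)
  have h4 := φ.toLinearEquiv.conjRingEquiv.injective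
    (((map_mul φ.toLinearEquiv.conjRingEquiv _ _).trans h3.eq).trans
      (map_mul φ.toLinearEquiv.conjRingEquiv _ _).symm)
  have := nontrivial_of_isIrreducible hτ
  obtain ⟨v, hv⟩ := exists_ne (0 : Fin d → ℂ)
  have h5 := LinearMap.congr_fun h4 ((v, 0), 0)
  simp at h5
  exact hv h5

end General

section Perm

open MulAction Matrix CL.PermMod

variable {G : Type*} [Group G] [Fintype G] {Ω : Type*} [Fintype Ω] [DecidableEq Ω] [MulAction G Ω]

variable (G Ω) in
/-- The permutation character. -/
noncomputable abbrev pc : G → ℂ := fun g => (Nat.card (fixedBy Ω g) : ℂ)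

theorem character_eq : (CL.Char.permRep G Ω).character = pc G Ω :=
  funext fun g => permRep_character G Ω g

theorem commute_toLin' {M : Matrix Ω Ω ℂ} (hM : InvMat G M) (g : G) :
    Commute (toLin' M) (CL.Char.permRep G Ω g) := by
  refine LinearMap.ext fun f => ?_
  exact hM.mulVec g⁻¹ f

theorem invMat_toMatrix' {T : End ℂ (Ω → ℂ)} (h : ∀ g, Commute T (CL.Char.permRep G Ω g)) :
    InvMat G (LinearMap.toMatrix' T) := by
  intro g x y
  have := congrFun (LinearMap.congr_fun (h g).eq (Pi.single y 1)) (g • x)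
  simp only [End.mul_apply, CL.Char.permRep_apply, inv_smul_smul] at this
  have e : CL.Char.permRep G Ω g (Pi.single y 1) = Pi.single (g • y) 1 := by
    ext z
    simp [CL.Char.permRep_apply, Pi.single_apply, inv_smul_eq_iff]
  simp only [LinearMap.toMatrix'_apply]
  rw [← this, e]

/-- The class function attached to an invariant matrix. -/
def φ (M : Matrix Ω Ω ℂ) (g : G) : ℂ := ∑ x, M x (g • x)

theorem trace_perm_mul (M : Matrix Ω Ω ℂ) (g : G) :
    LinearMap.trace ℂ _ (CL.Char.permRep G Ω g * toLin' M) = φ M g := by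
  rw [LinearMap.trace_eq_matrix_trace ℂ (Pi.basisFun ℂ Ω), Matrix.trace, φ,
    ← sum_smul_eq g]
  simp [CL.Char.permRep_apply]

theorem φ_one : φ (1 : Matrix Ω Ω ℂ) = pc G Ω := by
  ext g
  rw [← trace_perm_mul, ← character_eq]
  simp [Representation.character, End.mul_eq_comp]

theorem φ_add (M N : Matrix Ω Ω ℂ) : (φ (M + N) : G → ℂ) = φ M + φ N := by
  ext g
  simp [φ, Finset.sum_add_distrib]

theorem φ_smul (c : ℂ) (M : Matrix Ω Ω ℂ) : (φ (c • M) : G → ℂ) = c • φ M := by
  ext g
  simp [φ, Finset.mul_sum]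

theorem isClassFunction_φ {M : Matrix Ω Ω ℂ} (hM : InvMat G M) : IsClassFunction G (φ M) := by
  intro g h
  rw [φ, φ, ← sum_smul_eq h]
  simp [mul_smul, hM h]

theorem inner_φ_one [IsPretransitive G Ω] {M : Matrix Ω Ω ℂ} (hM : InvMat G M) (a : Ω) :
    classInner (φ M : G → ℂ) (fun _ => 1) = ∑ y, M a y := by
  have : Nonempty Ω := ⟨a⟩
  have hn : (Fintype.card Ω : ℂ) ≠ 0 := Nat.cast_ne_zero.2 Fintype.card_ne_zero
  apply mul_left_cancel₀ (card_ne_zero G)
  apply mul_left_cancel₀ hn
  rw [card_mul_classInner]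
  simp only [map_one, mul_one, φ]
  rw [Finset.sum_comm, Finset.mul_sum]
  have h1 : ∀ x : Ω, (Fintype.card Ω : ℂ) * ∑ g : G, M x (g • x) = Nat.card G * ∑ y, M a y := by
    intro x
    have h2 : ∀ y : Ω, ∑ g : G, M x (g • x) = ∑ g : G, M x (g • y) := by
      intro y
      obtain ⟨h, rfl⟩ := exists_smul_eq G y x
      exact Fintype.sum_equiv (Equiv.mulRight h) _ _ fun g => by simp [mul_smul]
    rw [← nsmul_eq_mul, ← Finset.card_univ, ← Finset.sum_const,
      Finset.sum_congr rfl fun y _ => h2 y, Finset.sum_comm]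
    simp [sum_smul_eq _ (M x), hM.row_sum x a]
  simp [h1]

theorem exists_spectrum_mat {M : Matrix Ω Ω ℂ} (hM : InvMat G M)
    (hi : ∀ x y, ∃ n : ℤ, M x y = n) {χ : G → ℂ} (hχ : IsCharacter G χ) :
    ∃ s : Multiset ℂ, (∀ μ ∈ s, IsIntegral ℤ μ) ∧
      ∀ k : ℕ, classInner (φ (M ^ k)) χ = (s.map (· ^ k)).sum := by
  obtain ⟨s, h1, h2⟩ := exists_spectrum _ _ (commute_toLin' hM) hχ
  refine ⟨s, fun μ hμ => isIntegral_of_hasEigenvalue ?_ (h1 μ hμ), fun k => ?_⟩
  · choose N hN using hi
    have h3 := (Matrix.isIntegral (of N)).map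
      ((toLinAlgEquiv' : Matrix Ω Ω ℂ ≃ₐ[ℂ] _).toRingEquiv.toRingHom.comp
        (Int.castRingHom ℂ).mapMatrix).toIntAlgHom
    convert h3 using 1
    change _ = toLin' _
    congr 1
    ext x y
    simp [hN]
  · rw [← h2 k]
    congr 1
    ext g
    rw [← trace_perm_mul, toLin'_pow]

theorem adj_int (q : orbitRel.Quotient G (Ω × Ω)) (x y : Ω) : ∃ n : ℤ, adj ℂ q x y = n := by
  rw [adj_apply]
  split_ifs
  exacts [⟨1, by simp⟩, ⟨0, by simp⟩]

theorem sum_adj (a b : Ω) :
    ∑ y, adj ℂ (cls G a b) a y = Nat.card (orbit (stabilizer G a) b) := by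
  classical
  rw [card_suborbit]
  simp [adj_apply]

theorem transpose_idem {χ : G → ℂ} (hχ : IsCharacter G χ) :
    (LinearMap.toMatrix' (idem (CL.Char.permRep G Ω) χ))ᵀ =
      LinearMap.toMatrix' (idem (CL.Char.permRep G Ω) fun g => conj (χ g)) := by
  ext x y
  simp only [idem, transpose_apply, LinearMap.toMatrix'_apply, LinearMap.sum_apply,
    LinearMap.smul_apply, Finset.sum_apply, Pi.smul_apply, CL.Char.permRep_apply]
  refine Fintype.sum_equiv (Equiv.inv G) _ _ fun g => ?_
  simp [hχ.apply_inv, Pi.single_apply, eq_inv_smul_iff, eq_comm]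

theorem inner_pc_one [IsPretransitive G Ω] [Nonempty Ω] :
    classInner (pc G Ω) (fun _ => 1) = 1 := by
  rw [classInner_perm_one, card_orbits_of_pretransitive]
  simp

/-- If `f` divides the degrees of the non-principal constituents, it divides the subdegrees. -/
theorem dvd_subdegree [IsPretransitive G Ω] (f : ℕ) (hf : ∀ χ : G → ℂ, IsIrrCharacter G χ →
      χ ≠ (fun _ => 1) → classInner (pc G Ω) χ ≠ 0 → ∃ m : ℕ, χ 1 = (f : ℂ) * m) {a b : Ω}
    (hab : b ≠ a) : f ∣ Nat.card (orbit (stabilizer G a) b) := by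
  classical
  have hA := invMat_adj ℂ (cls G a b)
  have h1 := (isClassFunction_φ hA).apply_eq_sum 1
  have h2 : φ (adj ℂ (cls G a b)) (1 : G) = 0 := by
    refine Finset.sum_eq_zero fun x _ => ?_
    rw [one_smul, adj_apply, if_neg fun h => hab (cls_eq_diag.1 h.symm).symm]
  rw [h2, ← Finset.add_sum_erase _ _ (Finset.mem_univ ⟨_, isIrrCharacter_one⟩), inner_φ_one hA a,
    sum_adj] at h1
  have h3 : ∀ χ ∈ Finset.univ.erase (⟨_, isIrrCharacter_one⟩ : IrrCharacter G),
      ∃ z : ℂ, IsIntegral ℤ z ∧
        classInner (φ (adj ℂ (cls G a b))) (χ : G → ℂ) * (χ : G → ℂ) 1 = f * z := by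
    intro χ hχ
    obtain ⟨s, hs, hk⟩ := exists_spectrum_mat hA (adj_int _) χ.2.isCharacter
    have e0 := hk 0
    have e1 := hk 1
    simp only [pow_zero, φ_one, Multiset.map_const', Multiset.sum_replicate, nsmul_eq_mul,
      mul_one, pow_one, Multiset.map_id'] at e0 e1
    by_cases h0 : classInner (pc G Ω) χ = 0
    · rw [h0, eq_comm, Nat.cast_eq_zero, Multiset.card_eq_zero] at e0
      exact ⟨0, isIntegral_zero, by simp [e1, e0]⟩
    · obtain ⟨m, hm⟩ := hf χ χ.2 (fun h => (Finset.mem_erase.1 hχ).1 (Subtype.ext h)) h0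
      refine ⟨s.sum * m, ((integralClosure ℤ ℂ).multiset_sum_mem hs).mul
        (isIntegral_natCast' m), ?_⟩
      rw [e1, hm]
      ring
  choose! z hz hz' using h3
  rw [Finset.sum_congr rfl hz', ← Finset.mul_sum] at h1
  have h4 := IsIntegral.sum _ hz
  rcases Nat.eq_zero_or_pos f with rfl | hf0
  · simpa using h1.symm
  · refine nat_dvd_of_isIntegral_div hf0.ne' ?_
    have : (f : ℂ) ≠ 0 := Nat.cast_ne_zero.2 hf0.ne'
    rw [(div_eq_iff this).2 (_ : _ = (-∑ χ ∈ Finset.univ.erase
      (⟨_, isIrrCharacter_one⟩ : IrrCharacter G), z χ) * f)]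
    · exact h4.neg
    · linear_combination -h1

theorem sum_card_suborbits (a : Ω) [Fintype (orbitRel.Quotient (stabilizer G a) Ω)] :
    ∑ q : orbitRel.Quotient (stabilizer G a) Ω, Nat.card (orbit (stabilizer G a) q.out) =
      Fintype.card Ω := by
  rw [← Nat.card_eq_fintype_card, Nat.card_congr (selfEquivSigmaOrbits (stabilizer G a) Ω),
    Nat.card_sigma]

end Perm

end CL.PermAlg
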