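import Mathlib
import Cfsg.Agent.PERM.Spec
import Cfsg.Agent.S0721
import Cfsg.Agent.FGS.TwoPrimes

/-!
Groups with the order and the element orders of an alternating group.
-/

set_option autoImplicit false
open Subgroup Cfsg

namespace CL.Spec

variable {G : Type*} [Group G] [Finite G]

theorem exists_dvd_pow_sub_one (N : Subgroup G) [N.Normal] {a b : ℕ} (ha : a.Prime) (hb : b.Prime)
    (hab : a ≠ b) (h1 : a ∣ Nat.card N) (h2 : b ∣ N.index) (h3 : ¬ ∃ x : G, orderOf x = a * b) :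
    ∃ k, 0 < k ∧ a ^ k ∣ Nat.card G ∧ b ∣ a ^ k - 1 := by
  haveI := Fact.mk ha
  haveI := Fact.mk hb
  obtain ⟨P⟩ : Nonempty (Sylow a N) := inferInstance
  rw [← relIndex_top_right, ← P.normalizer_sup_eq_top, relIndex_sup_right] at h2
  obtain ⟨x, hx⟩ := exists_prime_orderOf_dvd_card' b (h2.trans (relIndex_dvd_card _ _))
  have hP := P.isPGroup'.map N.subtype
  obtain ⟨k, hk⟩ := IsPGroup.iff_card.mp hP
  have hx' : Nat.card (zpowers (x : G)) = b := by rw [Nat.card_zpowers, orderOf_coe, hx]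
  have h4 := CL.BG.regular_norm_dvd_pred (zpowers_le.mpr x.2) (CL.BG.semiregular_of_prime_card
    (hx' ▸ hb) (eq_bot_iff.mpr fun v hv => by
      by_contra hv1
      exact h3 (exists_orderOf_mul (hv.2 x (mem_zpowers _)).symm ((Nat.coprime_primes ha hb).mpr hab)
        (dvd_orderOf hP hv.1 hv1) ((orderOf_coe x).trans hx).symm.dvd)))
  refine ⟨k, Nat.pos_of_ne_zero ?_, hk ▸ card_subgroup_dvd_card _, by rwa [hx', hk] at h4⟩
  rintro rfl
  exact P.ne_bot_of_dvd_card h1 ((map_eq_bot_iff_of_injective _ N.subtype_injective).1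
    (card_eq_one.mp hk))

theorem dvd_card_of_dvd (N : Subgroup G) [N.Normal] {a b : ℕ} (ha : a.Prime) (hb : b.Prime)
    (hab : a ≠ b) (h1 : a ∣ Nat.card N) (h2 : b ∣ Nat.card G) (h3 : ¬ ∃ x : G, orderOf x = a * b)
    (h4 : ∀ k, 0 < k → a ^ k ∣ Nat.card G → ¬ b ∣ a ^ k - 1) : b ∣ Nat.card N := by
  refine ((Nat.Prime.dvd_mul hb).mp (N.card_mul_index ▸ h2)).resolve_right fun h => ?_
  obtain ⟨k, h5, h6, h7⟩ := exists_dvd_pow_sub_one N ha hb hab h1 h h3
  exact h4 k h5 h6 h7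

theorem exists_chief_dvd {a : ℕ} (ha : a.Prime) (h : a ∣ Nat.card G) :
    ∃ (N H : Subgroup G) (_ : N.Normal), H.Normal ∧ N < H ∧ IsMinNormal (H.map (QuotientGroup.mk' N)) ∧
      a ∣ Nat.card H ∧ ¬ a ∣ Nat.card N := by
  obtain ⟨H, -, ⟨hH, h1⟩, hmin⟩ := exists_minimal_le_of_wellFoundedLT
    (fun H : Subgroup G => H.Normal ∧ a ∣ Nat.card H) ⊤ ⟨inferInstance, by simpa using h⟩
  obtain ⟨N, hN, -, h2, h3⟩ := CL.exists_chief_below (N := ⊥) (K := H) (bot_lt_iff_ne_bot.mpr (by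
    rintro rfl
    exact ha.ne_one (by simpa using h1)))
  exact ⟨N, H, hN, hH, h2, CL.isMinNormal_map_mk'_of_chief h2 h3, h1,
    fun h4 => h2.not_ge (hmin ⟨hN, h4⟩ h2.le)⟩

theorem dvd_relIndex {N H : Subgroup G} (h : N ≤ H) {a : ℕ} (ha : a.Prime) (h1 : a ∣ Nat.card H)
    (h2 : ¬ a ∣ Nat.card N) : a ∣ N.relIndex H :=
  ((Nat.Prime.dvd_mul ha).mp (CL.card_mul_relIndex_of_le h ▸ h1)).resolve_left h2

theorem not_isSolvable_of_pair {a b : ℕ} (ha : a.Prime) (hb : b.Prime) (hab : a ≠ b)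
    (h1 : a ∣ Nat.card G) (h2 : b ∣ Nat.card G) (h3 : ¬ ∃ x : G, orderOf x = a * b)
    (h4 : ∀ k, 0 < k → a ^ k ∣ Nat.card G → ¬ b ∣ a ^ k - 1)
    (h5 : ∀ k, 0 < k → b ^ k ∣ Nat.card G → ¬ a ∣ b ^ k - 1) : ¬ Group.IsSolvable G := fun h => by
  obtain ⟨N, H, hN, hH, hlt, hm, h6, h7⟩ := exists_chief_dvd ha h1
  obtain ⟨t, ht, htp⟩ := hm.exists_isPGroup_of_isSolvable inferInstance
  haveI := Fact.mk ht
  obtain ⟨k, hk⟩ := IsPGroup.iff_card.mp htp
  rw [CL.card_map_mk'_eq_relIndex] at hk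
  have h8 := dvd_relIndex hlt.le ha h6 h7
  have h9 := dvd_relIndex hlt.le hb (dvd_card_of_dvd H ha hb hab h6 h2 h3 h4) fun h =>
    h7 (dvd_card_of_dvd N hb ha hab.symm h h1 (by rwa [mul_comm]) h5)
  rw [hk] at h8 h9
  exact hab (((Nat.prime_dvd_prime_iff_eq ha ht).mp (ha.dvd_of_dvd_pow h8)).trans
    ((Nat.prime_dvd_prime_iff_eq hb ht).mp (hb.dvd_of_dvd_pow h9)).symm)

theorem add_le_of_orderOf {n a b : ℕ} (ha : a.Prime) (hb : b.Prime) (hab : a ≠ b)
    (g : Equiv.Perm (Fin n)) (hg : orderOf g = a * b) : a + b ≤ n := by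
  have h1 : ∀ p : ℕ, p.Prime → p ∣ orderOf g → ∃ c ∈ g.cycleType, p ∣ c := fun p hp h => by
    rw [← Equiv.Perm.lcm_cycleType] at h
    exact hp.prime.exists_mem_multiset_dvd
      (h.trans (Multiset.lcm_dvd.mpr fun c hc => Multiset.dvd_prod hc))
  obtain ⟨c, hc, hac⟩ := h1 a ha (hg ▸ dvd_mul_right a b)
  obtain ⟨d, hd, hbd⟩ := h1 b hb (hg ▸ dvd_mul_left b a)
  have h2 : g.cycleType.sum ≤ n := by simpa using g.sum_cycleType_le
  have hc0 := Equiv.Perm.two_le_of_mem_cycleType hc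
  have hd0 := Equiv.Perm.two_le_of_mem_cycleType hd
  by_cases hcd : c = d
  · subst hcd
    have h3 := Nat.le_of_dvd (by omega)
      (((Nat.coprime_primes ha hb).mpr hab).mul_dvd_of_dvd_of_dvd hac hbd)
    have h4 := Multiset.single_le_sum (fun _ _ => Nat.zero_le _) c hc
    have := Nat.add_le_mul ha.two_le hb.two_le
    omega
  · have h3 := Multiset.single_le_sum (fun _ _ => Nat.zero_le _) d
      ((Multiset.mem_erase_of_ne (Ne.symm hcd)).mpr hd)
    have h4 := Multiset.sum_erase hc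
    have := Nat.le_of_dvd (by omega) hac
    have := Nat.le_of_dvd (by omega) hbd
    omega

section alt
variable {n : ℕ} (hn : 5 ≤ n) (hcard : Nat.card G = Nat.card (alternatingGroup (Fin n)))
  (hspec : Set.range (orderOf : G → ℕ) = Set.range (orderOf : alternatingGroup (Fin n) → ℕ))

include hn hcard in
theorem two_mul_card : 2 * Nat.card G = n.factorial := by
  haveI : Nontrivial (Fin n) := Fin.nontrivial_iff_two_le.mpr (by omega)
  rw [hcard, two_mul_nat_card_alternatingGroup, Nat.card_perm]; simp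

include hn hcard in
theorem le_div_of_pow_dvd {a k : ℕ} (ha : a.Prime) (h1 : n < a ^ 2) (h : a ^ k ∣ Nat.card G) :
    k ≤ n / a := by
  have := (ha.pow_dvd_factorial_iff (b := 2) (Nat.log_lt_of_lt_pow (by omega) h1)).mp
    (h.trans (two_mul_card hn hcard ▸ dvd_mul_left _ 2))
  simpa using this

include hn hcard in
theorem dvd_card_alt {a : ℕ} (ha : a.Prime) (h2 : a ≠ 2) (h : a ≤ n) : a ∣ Nat.card G :=
  ((Nat.coprime_primes ha Nat.prime_two).mpr h2).dvd_of_dvd_mul_left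
    (two_mul_card hn hcard ▸ ha.dvd_factorial.mpr h)

include hspec in
theorem no_elt {a b : ℕ} (ha : a.Prime) (hb : b.Prime) (hab : a ≠ b) (h : n < a + b) :
    ¬ ∃ x : G, orderOf x = a * b := fun hx => by
  obtain ⟨g, hg⟩ : a * b ∈ Set.range (orderOf : alternatingGroup (Fin n) → ℕ) := hspec ▸ hx
  exact h.not_ge (add_le_of_orderOf ha hb hab g.1 ((orderOf_coe g).trans hg))

include hn hcard in
theorem good_of_large {a b : ℕ} (ha : a.Prime) (hb : b.Prime) (h1 : n < 2 * a) (h2 : a ≤ n)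
    (h3 : n < 2 * b) (k : ℕ) (hk : 0 < k) (h : a ^ k ∣ Nat.card G) : ¬ b ∣ a ^ k - 1 := fun h4 => by
  have h5 := le_div_of_pow_dvd hn hcard ha (by nlinarith [ha.two_le]) h
  have h6 : n / a < 2 := (Nat.div_lt_iff_lt_mul ha.pos).mpr h1
  obtain rfl : k = 1 := by omega
  have h7 : 2 ∣ a - 1 := (ha.even_sub_one (by omega)).two_dvd
  have := Nat.le_of_dvd (by omega) (((Nat.coprime_primes Nat.prime_two hb).mpr
    (by omega)).mul_dvd_of_dvd_of_dvd h7 (by simpa using h4))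
  omega

end alt

theorem exists_two_large {n : ℕ} (hn : 11 ≤ n) :
    ∃ p q : ℕ, p.Prime ∧ q.Prime ∧ n < 2 * p ∧ p < q ∧ q ≤ n := by
  by_cases h : 17 ≤ n
  · obtain ⟨p, q, hp, hq, h1, h2, h3⟩ := CL.FGS.TwoPrimes.exists_two_primes n h
    exact ⟨p, q, hp, hq, h1, by omega, h3⟩
  by_cases h2 : 13 ≤ n
  · exact ⟨11, 13, by norm_num, by norm_num, by omega, by omega, h2⟩
  · exact ⟨7, 11, by norm_num, by norm_num, by omega, by omega, hn⟩

end CL.Spec
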