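import Mathlib
import Cfsg.Agent.PERM.FCStruct
import Cfsg.Agent.FGS.FrobCS
import Cfsg.Agent.INV.DQRecog

/-!
Groups of odd order with anticommuting automorphisms have square order; Frobenius groups with
quaternion subgroups in the complement.
-/

namespace CL.FC

open Subgroup

theorem isSquare_of_module {p : ℕ} [Fact p.Prime] (hp : p ≠ 2) {V : Type*} [AddCommGroup V]
    [Finite V] [Module (ZMod p) V] (a b : V →+ V) (ha : Function.Injective a)
    (hb : Function.Injective b) (hab : ∀ x, a (b x) = - b (a x)) : IsSquare (Nat.card V) := by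
  let a' : Module.End (ZMod p) V := a.toZModLinearMap p
  let b' : Module.End (ZMod p) V := b.toZModLinearMap p
  have h1 : a' * b' = (-1 : ZMod p) • (b' * a') := by
    ext x
    simpa [a', b'] using hab x
  have hu : ∀ f : V →+ V, Function.Injective f → LinearMap.det (f.toZModLinearMap p) ≠ 0 := by
    intro f hf
    have : IsUnit (f.toZModLinearMap p) :=
      (LinearMap.isUnit_iff_ker_eq_bot _).mpr (LinearMap.ker_eq_bot.mpr hf)
    exact (LinearMap.isUnit_det _ this).ne_zero
  have h2 := congrArg LinearMap.det h1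
  rw [LinearMap.det_smul, map_mul, map_mul, mul_comm (LinearMap.det b')] at h2
  have h3 : (-1 : ZMod p) ^ Module.finrank (ZMod p) V = 1 :=
    (mul_right_cancel₀ (mul_ne_zero (hu a ha) (hu b hb)) (h2.symm.trans (one_mul _).symm))
  have h4 : Even (Module.finrank (ZMod p) V) := by
    by_contra h
    rw [(Nat.not_even_iff_odd.mp h).neg_one_pow] at h3
    haveI : Fact (2 < p) := ⟨lt_of_le_of_ne (Fact.out : p.Prime).two_le (Ne.symm hp)⟩
    exact ZMod.neg_one_ne_one h3
  obtain ⟨k, hk⟩ := h4
  rw [Module.natCard_eq_pow_finrank (K := ZMod p), hk, pow_add]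
  exact ⟨_, rfl⟩

theorem isSquare_of_prime {p : ℕ} [Fact p.Prime] (hp : p ≠ 2) {V : Type*} [AddCommGroup V]
    [Finite V] (hV : ∀ x : V, p • x = 0) (a b : V →+ V) (ha : Function.Injective a)
    (hb : Function.Injective b) (hab : ∀ x, a (b x) = - b (a x)) : IsSquare (Nat.card V) :=
  @isSquare_of_module p _ hp V _ _ (AddCommGroup.zmodModule hV) a b ha hb hab

theorem isSquare_of_anticomm (n : ℕ) : ∀ {V : Type*} [AddCommGroup V] [Finite V],
    Nat.card V = n → Odd (Nat.card V) → ∀ (a b : V →+ V), Function.Injective a →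
    Function.Injective b → (∀ x, a (b x) = - b (a x)) → IsSquare (Nat.card V) := by
  induction n using Nat.strong_induction_on with
  | _ n ih =>
  intro V _ _ hn hodd a b ha hb hab
  by_cases h1 : Nat.card V = 1
  · rw [h1]; exact ⟨1, rfl⟩
  obtain ⟨p, hp, hpV⟩ := Nat.exists_prime_and_dvd h1
  haveI := Fact.mk hp
  have hp2 : p ≠ 2 := by
    rintro rfl
    exact (Nat.not_even_iff_odd.mpr hodd) (even_iff_two_dvd.mpr hpV)
  let f : V →+ V := nsmulAddMonoidHom p
  have hf : ∀ x, f x = p • x := fun _ => rfl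
  have hcard : Nat.card V = Nat.card f.range * Nat.card f.ker := by
    rw [← Nat.card_congr (QuotientAddGroup.quotientKerEquivRange f).toEquiv]
    exact AddSubgroup.card_eq_card_quotient_mul_card_addSubgroup _
  have hk : 1 < Nat.card f.ker := by
    obtain ⟨x, hx⟩ := exists_prime_addOrderOf_dvd_card' p hpV
    haveI : Nontrivial f.ker := ⟨⟨⟨x, by
      rw [AddMonoidHom.mem_ker, hf, ← hx, addOrderOf_nsmul_eq_zero]⟩, 0, fun h => by
        have : x = 0 := congrArg Subtype.val h
        rw [this, addOrderOf_zero] at hx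
        exact hp.one_lt.ne hx⟩⟩
    exact Finite.one_lt_card
  have hres : ∀ (W : AddSubgroup V), (∀ g : V →+ V, ∀ x ∈ W, g x ∈ W) →
      ∃ a' b' : W →+ W, Function.Injective a' ∧ Function.Injective b' ∧
        ∀ x, a' (b' x) = - b' (a' x) := by
    intro W hW
    refine ⟨(a.comp W.subtype).codRestrict W (fun x => hW a x x.2),
      (b.comp W.subtype).codRestrict W (fun x => hW b x x.2), fun x y h => ?_, fun x y h => ?_,
      fun x => Subtype.ext (hab x)⟩
    · exact Subtype.ext (ha (congrArg Subtype.val h))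
    · exact Subtype.ext (hb (congrArg Subtype.val h))
  obtain ⟨a1, b1, ha1, hb1, h1⟩ := hres f.range (by
    rintro g _ ⟨y, rfl⟩
    exact ⟨g y, by rw [hf, hf, map_nsmul]⟩)
  obtain ⟨a2, b2, ha2, hb2, h2⟩ := hres f.ker (by
    intro g x hx
    rw [AddMonoidHom.mem_ker, hf] at hx ⊢
    rw [← map_nsmul, hx, map_zero])
  have hpos : 0 < Nat.card f.range := Nat.card_pos
  rw [hcard]
  refine IsSquare.mul (ih _ ?_ rfl ?_ a1 b1 ha1 hb1 h1)
    (isSquare_of_prime hp2 (fun x => Subtype.ext x.2) a2 b2 ha2 hb2 h2)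
  · rw [← hn, hcard]; nlinarith
  · rw [hcard] at hodd; exact (Nat.odd_mul.mp hodd).1

/-- A group acting fixed-point-freely on `K` with elements `a b z`, `z` an involution and
`a b = z b a`: then `K` has odd square order. -/
theorem odd_isSquare_of_fpf {G K : Type*} [Group G] [Finite G] [Group K] [Finite K]
    (φ : G →* MulAut K) (hf : ∀ g : G, g ≠ 1 → ∀ k : K, φ g k = k → k = 1) {a b z : G}
    (hz : z ≠ 1) (hz2 : z * z = 1) (hab : a * b = z * (b * a)) :
    Odd (Nat.card K) ∧ IsSquare (Nat.card K) := by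
  have hfp : MonoidHom.FixedPointFree (φ z) := hf z hz
  have hinv : Function.Involutive (φ z) := fun x => by
    rw [← MulAut.mul_apply, ← map_mul, hz2, map_one, MulAut.one_apply]
  have hodd : Odd (Nat.card K) := hfp.odd_card_of_involutive hinv
  have hneg : ∀ x, φ z x = x⁻¹ := fun x => congrFun (hfp.coe_eq_inv_of_involutive hinv) x
  letI : CommGroup K := hfp.commGroupOfInvolutive hinv
  refine ⟨hodd, ?_⟩
  have := isSquare_of_anticomm _ (V := Additive K) rfl hodd
    (MonoidHom.toAdditive (φ a).toMonoidHom) (MonoidHom.toAdditive (φ b).toMonoidHom)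
    (φ a).injective (φ b).injective (fun x => by
      change Additive.ofMul (φ a (φ b x.toMul)) = Additive.ofMul ((φ b (φ a x.toMul))⁻¹)
      rw [← MulAut.mul_apply, ← map_mul, hab, map_mul, MulAut.mul_apply, hneg, map_mul,
        MulAut.mul_apply])
  exact this

theorem quaternion_triple (n : ℕ) : ∃ a b z : QuaternionGroup (2 ^ (n + 1)),
    z ≠ 1 ∧ z * z = 1 ∧ a * b = z * (b * a) := by
  refine ⟨.a (2 ^ n : ℕ), .xa 0, .a (2 ^ (n + 1) : ℕ), fun h => ?_, ?_, ?_⟩
  · rw [QuaternionGroup.one_def, QuaternionGroup.a.injEq, ZMod.natCast_eq_zero_iff] at h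
    have := Nat.le_of_dvd (by positivity) h
    have : 0 < 2 ^ (n + 1) := by positivity
    omega
  · rw [QuaternionGroup.a_mul_a, QuaternionGroup.one_def, ← Nat.cast_add, ← two_mul,
      ZMod.natCast_self]
  · simp only [QuaternionGroup.a_mul_xa, QuaternionGroup.xa_mul_a, QuaternionGroup.xa.injEq]
    push_cast
    ring

theorem odd_isSquare_kernel {L : Type*} [Group L] [Finite L] {H : Subgroup L}
    (hF : Cfsg.IsFrobeniusComplement H) {a b z : H} (hz : z ≠ 1) (hz2 : z * z = 1)
    (hab : a * b = z * (b * a)) :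
    Odd (Nat.card (Cfsg.frobeniusKernel H)) ∧ IsSquare (Nat.card (Cfsg.frobeniusKernel H)) := by
  obtain ⟨K, hK, hn, -, -, hf⟩ := exists_kernel hF
  rw [← hK]
  refine odd_isSquare_of_fpf (K := K) (conjHom H K le_normalizer_of_normal) (fun g hg k hk => ?_)
    hz hz2 hab
  have h1 : (g : L) * k * (g : L)⁻¹ = k := congrArg Subtype.val hk
  exact Subtype.ext (hf g g.2 (fun h => hg (Subtype.ext h)) k k.2 (mul_inv_eq_iff_eq_mul.mp h1))

/-- semidirect product for a fixed-point-free action, with the order of the kernel -/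
theorem exists_frobenius_of_fpf {G K : Type} [Group G] [Finite G] [Nontrivial G] [Group K]
    [Finite K] [Nontrivial K] (φ : G →* MulAut K)
    (hf : ∀ g : G, g ≠ 1 → ∀ k : K, φ g k = k → k = 1) :
    ∃ (L : Type) (_ : Group L) (_ : Finite L) (H : Subgroup L), Cfsg.IsFrobeniusComplement H ∧
      Nonempty (H ≃* G) ∧ Nat.card (Cfsg.frobeniusKernel H) = Nat.card K := by
  let L := K ⋊[φ] G
  haveI : Finite L := Finite.of_equiv _ SemidirectProduct.equivProd.symm
  let K' : Subgroup L := (SemidirectProduct.inl : K →* L).range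
  let H' : Subgroup L := (SemidirectProduct.inr : G →* L).range
  haveI : K'.Normal := by
    rw [show K' = _ from SemidirectProduct.range_inl_eq_ker_rightHom]; infer_instance
  have hfp : ∀ h ∈ H', h ≠ 1 → K' ⊓ centralizer {h} = ⊥ := by
    rintro _ ⟨g, rfl⟩ hg
    rw [eq_bot_iff]
    rintro _ ⟨⟨k, rfl⟩, hk⟩
    have hk' := mem_centralizer_singleton_iff.mp hk
    have h2 : φ g k = k := by simpa [L] using (congrArg SemidirectProduct.left hk').symm
    rw [hf g (fun h => hg (by rw [h, map_one])) k h2, map_one]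
    exact one_mem _
  have hc : K'.IsComplement' H' := by
    refine isComplement'_of_disjoint_and_mul_eq_univ ?_ ?_
    · rw [disjoint_def]
      rintro _ ⟨k, rfl⟩ ⟨g, hg⟩
      have : k = 1 := by simpa [L] using (congrArg SemidirectProduct.left hg).symm
      rw [this, map_one]
    · rw [Set.eq_univ_iff_forall]
      intro x
      exact ⟨_, ⟨x.left, rfl⟩, _, ⟨x.right, rfl⟩, SemidirectProduct.inl_left_mul_inr_right x⟩
  obtain ⟨h1, h2⟩ := CL.CS.frobeniusKernel_eq_of_fpf hc (by
      obtain ⟨k, hk⟩ := exists_ne (1 : K)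
      exact Subgroup.ne_bot_iff_exists_ne_one.mpr ⟨⟨_, k, rfl⟩, fun h => hk
        (SemidirectProduct.inl_injective ((congrArg Subtype.val h).trans (map_one _).symm))⟩) (by
      obtain ⟨k, hk⟩ := exists_ne (1 : G)
      exact Subgroup.ne_bot_iff_exists_ne_one.mpr ⟨⟨_, k, rfl⟩, fun h => hk
        (SemidirectProduct.inr_injective ((congrArg Subtype.val h).trans (map_one _).symm))⟩) hfp
  refine ⟨L, inferInstance, inferInstance, H', h1,
    ⟨(MonoidHom.ofInjective SemidirectProduct.inr_injective).symm⟩, ?_⟩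
  rw [h2]
  exact (Nat.card_congr (MonoidHom.ofInjective
    (SemidirectProduct.inl_injective (φ := φ))).toEquiv).symm

theorem exists_ring_of_odd (n : ℕ) (hn : Odd n) : ∃ (R : Type) (_ : CommRing R) (_ : Finite R),
    Nat.card R = n ∧ (∃ a b : R, a ^ 2 + b ^ 2 = -1) ∧ ∀ x : R, x + x = 0 → x = 0 := by
  induction n using Nat.recOnMul with
  | zero => simp at hn
  | one => exact ⟨PUnit, inferInstance, inferInstance, by simp, ⟨0, 0, rfl⟩, fun _ _ => rfl⟩
  | prime p hp =>
    haveI := Fact.mk hp
    refine ⟨ZMod p, inferInstance, inferInstance, Nat.card_zmod p, ZMod.sq_add_sq p (-1),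
      fun x hx => ?_⟩
    rw [← two_mul, mul_eq_zero] at hx
    refine hx.resolve_left fun h => ?_
    have h2 : ((2 : ℕ) : ZMod p) = 0 := by exact_mod_cast h
    rw [ZMod.natCast_eq_zero_iff, Nat.prime_dvd_prime_iff_eq hp Nat.prime_two] at h2
    subst h2
    exact absurd hn (by decide)
  | mul a b iha ihb =>
    obtain ⟨R, _, _, hR, ⟨x, y, hxy⟩, h2⟩ := iha (Nat.odd_mul.mp hn).1
    obtain ⟨S, _, _, hS, ⟨x', y', hxy'⟩, h2'⟩ := ihb (Nat.odd_mul.mp hn).2
    refine ⟨R × S, inferInstance, inferInstance, by rw [Nat.card_prod, hR, hS],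
      ⟨(x, x'), (y, y'), Prod.ext hxy hxy'⟩, fun t ht => Prod.ext (h2 _ (congrArg Prod.fst ht))
        (h2' _ (congrArg Prod.snd ht))⟩

theorem exists_q8_action {R : Type} [CommRing R] {a b : R} (hab : a ^ 2 + b ^ 2 = -1)
    (h2 : ∀ x : R, x + x = 0 → x = 0) :
    ∃ φ : QuaternionGroup 2 →* MulAut (Multiplicative (R × R)),
      ∀ g, g ≠ 1 → ∀ k, φ g k = k → k = 1 := by
  let x : R × R ≃+ R × R :=
    { toFun := fun v => (v.2, -v.1)
      invFun := fun v => (-v.2, v.1)
      left_inv := fun v => by simp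
      right_inv := fun v => by simp
      map_add' := fun v w => by ext <;> simp; ring }
  let y : R × R ≃+ R × R :=
    { toFun := fun v => (a * v.1 + b * v.2, b * v.1 - a * v.2)
      invFun := fun v => (-(a * v.1 + b * v.2), -(b * v.1 - a * v.2))
      left_inv := fun v => by
        ext
        · simp only; linear_combination (-v.1) * hab
        · simp only; linear_combination (-v.2) * hab
      right_inv := fun v => by
        ext
        · simp only; linear_combination (-v.1) * hab
        · simp only; linear_combination (-v.2) * hab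
      map_add' := fun v w => by ext <;> simp <;> ring }
  let X : MulAut (Multiplicative (R × R)) := AddEquiv.toMultiplicative x
  let Y : MulAut (Multiplicative (R × R)) := AddEquiv.toMultiplicative y
  have hX : ∀ v, (X v).toAdd = (v.toAdd.2, -v.toAdd.1) := fun _ => rfl
  have hY : ∀ v, (Y v).toAdd = (a * v.toAdd.1 + b * v.toAdd.2, b * v.toAdd.1 - a * v.toAdd.2) :=
    fun _ => rfl
  have hX2 : ∀ v, ((X ^ 2) v).toAdd = -v.toAdd := fun v => by
    rw [pow_two, MulAut.mul_apply, hX, hX]; ext <;> simp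
  have h4 : X ^ (2 * 2) = 1 := by
    ext v : 1
    apply Multiplicative.toAdd.injective
    rw [pow_mul, pow_two, MulAut.mul_apply, hX2, hX2, neg_neg, MulAut.one_apply]
  have hy : Y * Y = X ^ 2 := by
    ext v : 1
    apply Multiplicative.toAdd.injective
    rw [hX2, MulAut.mul_apply, hY, hY]
    ext
    · simp only [Prod.fst_neg]; linear_combination (v.toAdd.1) * hab
    · simp only [Prod.snd_neg]; linear_combination (v.toAdd.2) * hab
  have hxy : Y * X * Y⁻¹ = X⁻¹ := by
    rw [mul_inv_eq_iff_eq_mul, eq_inv_mul_iff_mul_eq]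
    ext v : 1
    apply Multiplicative.toAdd.injective
    rw [MulAut.mul_apply, MulAut.mul_apply, hX, hY, hX, hY]
    ext <;> simp only <;> ring
  refine ⟨CL.DQ.quaternionHom X Y h4 hy hxy, fun g hg k hk => ?_⟩
  have h5 : ∀ g : QuaternionGroup 2, g ≠ 1 → g = .a (2 : ℕ) ∨ g * g = .a (2 : ℕ) := by decide
  have h6 : CL.DQ.quaternionHom X Y h4 hy hxy (.a (2 : ℕ)) k = k := by
    rcases h5 g hg with h | h
    · rw [← h, hk]
    · rw [← h, map_mul, MulAut.mul_apply, hk, hk]
  rw [CL.DQ.quaternionHom_a, CL.DQ.zpw_natCast h4] at h6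
  have h7 := hX2 k
  rw [h6, eq_neg_iff_add_eq_zero] at h7
  apply Multiplicative.toAdd.injective
  exact Prod.ext (h2 _ (congrArg Prod.fst h7)) (h2 _ (congrArg Prod.snd h7))

end CL.FC
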