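import Mathlib
import Cfsg.Agent.SIG.SFMethodEnd
import Cfsg.Agent.INV.Bender.Cons
import Cfsg.Agent.CHEV.PSSimple
import Cfsg.Agent.PLOC.PConstrained
import Cfsg.Agent.FUS.GL2InSL3
import Cfsg.Agent.CLAS.UniTwo
import Cfsg.Agent.CLAS.PGL2Solv
import Cfsg.Agent.SPOR.Ord11c
import Cfsg.Agent.INV.ABG.RankTwoSolv
import Cfsg.Agent.INV.Gold.KFactsU3
import Cfsg.Agent.FGS.CITMain

/-!
# Simple groups whose involution centralizers are solvable

The rank at most two case, the strongly embedded case and the case `O(C(t)) = 1`, and the groups in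
which, inside every involution centralizer, products of elements of odd order have odd order.
-/

set_option autoImplicit false

open Cfsg Subgroup

namespace CL.TwoNil

/-- Inside every involution centralizer products of elements of odd order have odd order. -/
def OddMul (G : Type*) [Group G] : Prop :=
  ∀ t x y : G, orderOf t = 2 → x * t = t * x → y * t = t * y → Odd (orderOf x) → Odd (orderOf y) →
    Odd (orderOf (x * y))

theorem OddMul.of_injective {G H : Type*} [Group G] [Group H] (h : OddMul G) (f : H →* G)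
    (hf : Function.Injective f) : OddMul H := fun t x y ht hx hy ox oy => by
  have := h (f t) (f x) (f y) (by rwa [orderOf_injective f hf])
    (by rw [← map_mul, hx, map_mul]) (by rw [← map_mul, hy, map_mul])
    (by rwa [orderOf_injective f hf]) (by rwa [orderOf_injective f hf])
  rwa [← map_mul, orderOf_injective f hf] at this

theorem mem_of_odd {H : Type*} [Group H] [Finite H] {P : Sylow 2 H} {N : Subgroup H} [N.Normal]
    (h : N.IsComplement' (P : Subgroup H)) {x : H} (hx : Odd (orderOf x)) : x ∈ N := by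
  obtain ⟨k, hk⟩ := P.2.exists_card_eq
  have h1 : Nat.card (H ⧸ N) = 2 ^ k := by rw [← hk, ← h.symm.index_eq_card]; rfl
  have h2 : orderOf (QuotientGroup.mk' N x) ∣ 2 ^ k := h1 ▸ orderOf_dvd_natCard _
  have h3 : orderOf (QuotientGroup.mk' N x) ∣ orderOf x := orderOf_map_dvd _ _
  have h4 : orderOf (QuotientGroup.mk' N x) = 1 :=
    Nat.eq_one_of_dvd_coprimes (Nat.Coprime.pow_left k (Nat.coprime_two_left.2 hx)) h2 h3
  exact (QuotientGroup.eq_one_iff _).1 (orderOf_eq_one_iff.1 h4)

theorem odd_card {H : Type*} [Group H] [Finite H] {P : Sylow 2 H} {N : Subgroup H}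
    (h : N.IsComplement' (P : Subgroup H)) : Odd (Nat.card N) := by
  rw [← h.index_eq_card, ← Nat.not_even_iff_odd, even_iff_two_dvd]
  exact P.not_dvd_index

theorem isSolvable_of_compl {H : Type*} [Group H] [Finite H] (h : HasNormalPComplement 2 H) :
    Group.IsSolvable H := by
  obtain ⟨P, N, hN, h⟩ := h
  have h1 : Group.IsSolvable N := Cfsg.Agent.S0205.result (odd_card h)
  obtain ⟨k, hk⟩ := P.2.exists_card_eq
  have h2 : Nat.card (H ⧸ N) = 2 ^ k := by rw [← hk, ← h.symm.index_eq_card]; rfl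
  have := (IsPGroup.of_card h2).isNilpotent
  exact Group.isSolvable_of_ker_le_range N.subtype (QuotientGroup.mk' N) (by simp)

theorem oddMul_of_compl {G : Type*} [Group G] [Finite G]
    (hI : ∀ t : G, orderOf t = 2 → HasNormalPComplement 2 ↥(centralizer ({t} : Set G))) :
    OddMul G := fun t x y ht hx hy ox oy => by
  obtain ⟨P, N, hN, h⟩ := hI t ht
  let a : centralizer ({t} : Set G) := ⟨x, mem_centralizer_singleton_iff.2 hx⟩
  let b : centralizer ({t} : Set G) := ⟨y, mem_centralizer_singleton_iff.2 hy⟩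
  have ha : a ∈ N := mem_of_odd h (by rwa [← orderOf_coe])
  have hb : b ∈ N := mem_of_odd h (by rwa [← orderOf_coe])
  have := (odd_card h).of_dvd_nat (N.orderOf_dvd_natCard (N.mul_mem ha hb))
  rwa [← orderOf_coe] at this

section SL2

variable {K : Type*} [Field K]

/-- upper unitriangular matrix -/
def up (a : K) : Matrix.SpecialLinearGroup (Fin 2) K := ⟨!![1, a; 0, 1], by simp⟩

/-- lower unitriangular matrix -/
def lo (a : K) : Matrix.SpecialLinearGroup (Fin 2) K := ⟨!![1, 0; a, 1], by simp⟩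

theorem up_zero : up (0 : K) = 1 := Subtype.ext (by simp [up, Matrix.one_fin_two])

theorem lo_zero : lo (0 : K) = 1 := Subtype.ext (by simp [lo, Matrix.one_fin_two])

theorem up_mul (a b : K) : up a * up b = up (a + b) :=
  Subtype.ext (by
    change !![1, a; 0, 1] * !![1, b; 0, 1] = !![1, a + b; 0, 1]
    simp [add_comm])

theorem lo_mul (a b : K) : lo a * lo b = lo (a + b) :=
  Subtype.ext (by
    change !![1, 0; a, 1] * !![1, 0; b, 1] = !![1, 0; a + b, 1]
    simp)

theorem up_pow (a : K) (n : ℕ) : up a ^ n = up (n * a) := by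
  induction n with
  | zero => simp [up_zero]
  | succ n ih => rw [pow_succ, ih, up_mul]; congr 1; push_cast; ring

theorem lo_pow (a : K) (n : ℕ) : lo a ^ n = lo (n * a) := by
  induction n with
  | zero => simp [lo_zero]
  | succ n ih => rw [pow_succ, ih, lo_mul]; congr 1; push_cast; ring

variable (K) in
theorem up_lo_sq : (up (1 : K) * lo (-2)) ^ 2 = -1 := by
  rw [pow_two]
  refine Subtype.ext ?_
  change (!![1, 1; 0, 1] * !![1, 0; -2, 1]) * (!![1, 1; 0, 1] * !![1, 0; -2, 1]) =
    -(1 : Matrix (Fin 2) (Fin 2) K)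
  ext i j
  fin_cases i <;> fin_cases j <;> simp [Matrix.mul_apply, Fin.sum_univ_two] <;> ring

end SL2

theorem not_oddMul_of_SL2 {G B K : Type*} [Group G] [Finite G] [Group B] [Finite B] [Field K]
    [Finite K] (hK : Odd (Nat.card K)) (f : Matrix.SpecialLinearGroup (Fin 2) K →* B)
    (hf : Function.Injective f) (hZ : ¬ 2 ∣ Nat.card (center B))
    (e : G ≃* B ⧸ center B) : ¬ OddMul G := fun h => by
  let φ : Matrix.SpecialLinearGroup (Fin 2) K →* G :=
    e.symm.toMonoidHom.comp ((QuotientGroup.mk' (center B)).comp f)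
  have hker : ∀ x, φ x = 1 ↔ f x ∈ center B := fun x => by
    simp [φ]
  have := Fintype.ofFinite K
  have hp : Odd (ringChar K) := by
    obtain ⟨n, hp, hn⟩ := FiniteField.card K (ringChar K)
    rw [Nat.card_eq_fintype_card, hn] at hK
    exact (Nat.odd_pow_iff n.ne_zero).1 hK
  have h2 : (2 : K) ≠ 0 := fun h0 => by
    have h1 : ringChar K = 2 := CharP.ringChar_of_prime_eq_zero Nat.prime_two (by exact_mod_cast h0)
    rw [h1] at hp
    exact absurd hp (by decide)
  have hz1 : (-1 : Matrix.SpecialLinearGroup (Fin 2) K) ≠ 1 := fun h0 => by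
    have h1 := congrFun (congrFun (congrArg Subtype.val h0) 0) 0
    simp at h1
    exact h2 (by linear_combination -h1)
  have hz2 : orderOf (-1 : Matrix.SpecialLinearGroup (Fin 2) K) = 2 :=
    orderOf_eq_prime (by simp) hz1
  have ht1 : φ (-1) ≠ 1 := fun h0 => by
    have h1 := Subgroup.orderOf_dvd_natCard _ ((hker _).1 h0)
    rw [orderOf_injective f hf, hz2] at h1
    exact hZ h1
  have ht2 : orderOf (φ (-1)) = 2 := orderOf_eq_prime (by rw [← map_pow]; simp) ht1
  have hodd : ∀ g : Matrix.SpecialLinearGroup (Fin 2) K, g ^ ringChar K = 1 →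
      Odd (orderOf (φ g)) := fun g hg =>
    hp.of_dvd_nat (orderOf_dvd_of_pow_eq_one (by rw [← map_pow, hg, map_one]))
  have h3 := h (φ (-1)) (φ (up 1)) (φ (lo (-2))) ht2 (by rw [← map_mul, ← map_mul]; simp)
    (by rw [← map_mul, ← map_mul]; simp)
    (hodd _ (by rw [up_pow, ringChar.Nat.cast_ringChar, zero_mul, up_zero]))
    (hodd _ (by rw [lo_pow, ringChar.Nat.cast_ringChar, zero_mul, lo_zero]))
  have h4 := up_lo_sq K
  rw [← map_mul] at h3
  have h5 := h3.of_dvd_nat (orderOf_pow_dvd 2)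
  rw [← map_pow, h4, ht2] at h5
  exact absurd h5 (by decide)

theorem not_oddMul_psl3 {G F : Type*} [Group G] [Finite G] [Field F] [Fintype F]
    (hF : Odd (Fintype.card F)) (e : G ≃* Matrix.ProjectiveSpecialLinearGroup (Fin 3) F) :
    ¬ OddMul G :=
  not_oddMul_of_SL2 (K := F) (by rwa [Nat.card_eq_fintype_card])
    (CL.Fus.gl2ToSL3.comp Matrix.SpecialLinearGroup.toGL)
    (CL.Fus.gl2ToSL3_injective.comp Matrix.SpecialLinearGroup.toGL_injective)
    (by
      rw [CL.SL.card_center_SL]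
      intro h
      have := h.trans (Nat.gcd_dvd_left _ _)
      simp at this) e

theorem not_oddMul_psu3_odd {G F : Type*} [Group G] [Finite G] [Field F] [Fintype F] {q : ℕ}
    (hF : Fintype.card F = q ^ 2) (hq : Odd q) (e : G ≃* PSU 3 F q) : ¬ OddMul G := by
  obtain ⟨i⟩ := CL.Uni.nonempty_SU_two_equiv hF (CL.SqField.card_fixedSubfield hF)
  let j : SU 2 F q →* GU 2 F q :=
    (Matrix.SpecialLinearGroup.toGL.comp (SU 2 F q).subtype).codRestrict _ fun g => g.2
  have hj : Function.Injective j := fun a b hab =>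
    Subtype.ext (Matrix.SpecialLinearGroup.toGL_injective (congrArg Subtype.val hab))
  exact not_oddMul_of_SL2 (K := CL.SqField.fixedSubfield hF)
    (by rwa [CL.SqField.card_fixedSubfield hF])
    ((CL.Fus.gu2ToSU3 hF).comp (j.comp i.symm.toMonoidHom))
    ((CL.Fus.gu2ToSU3_injective hF).comp (hj.comp i.symm.injective))
    (by
      rw [CL.Uni.card_center_SU hF (by norm_num)]
      intro h
      have := h.trans (Nat.gcd_dvd_left _ _)
      simp at this) e

theorem not_oddMul_psu3_even {G F : Type*} [Group G] [Finite G] [Field F] [Fintype F] {n : ℕ}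
    (hn : 2 ≤ n) (hF : Fintype.card F = (2 ^ n) ^ 2) (e : G ≃* PSU 3 F (2 ^ n)) : ¬ OddMul G := by
  intro h
  have : CharP F 2 := charP_of_card_eq_prime_pow (p := 2) (f := n * 2) (by rw [hF, pow_mul])
  have h2 : (2 : F) = 0 := CharTwo.two_eq_zero
  have h4 : 4 ≤ 2 ^ n := Nat.pow_le_pow_right (n := 2) (i := 2) two_pos hn
  generalize hq : 2 ^ n = q at hF e h4
  obtain ⟨P⟩ : Nonempty (Sylow 2 G) := inferInstance
  obtain ⟨B⟩ := CL.U3.nonempty_bMod_PSU hF e 2 P
  obtain ⟨g, hg⟩ := IsCyclic.exists_generator (α := Fˣ)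
  have hc : Nat.card Fˣ = (q - 1) * (q + 1) := by
    rw [Nat.card_units, Nat.card_eq_fintype_card, hF, mul_comm, ← Nat.sq_sub_sq, one_pow]
  have ho : orderOf g = (q - 1) * (q + 1) := by rw [orderOf_eq_card_of_forall_mem_zpowers hg, hc]
  set c := g ^ (q - 1) with hcdef
  have c1 : c ^ q * c = 1 := by rw [← pow_succ, hcdef, ← pow_mul, ← ho, pow_orderOf_eq_one]
  have c2 : c ^ q = c⁻¹ := eq_inv_of_mul_eq_one_left c1
  have c3 : c ^ 3 ≠ 1 := fun h0 => by
    rw [hcdef, ← pow_mul] at h0
    have h1 := orderOf_dvd_of_pow_eq_one h0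
    rw [ho] at h1
    have := Nat.le_of_dvd (by norm_num) (Nat.dvd_of_mul_dvd_mul_left (by omega) h1)
    omega
  set d := c ^ q * (c ^ q * c⁻¹) with hd
  have d1 : d = (c ^ 3)⁻¹ := by rw [hd, c2]; group
  have d2 : d ^ q * d = 1 := by
    rw [d1, ← pow_succ, inv_pow, ← pow_mul, mul_comm, pow_mul, pow_succ c q, c1, one_pow, inv_one]
  have d3 : (d : F) ^ q * d = 1 := by simpa using congrArg Units.val d2
  let z : CL.U3.S hF := CL.U3.S.z 1 (by rw [one_pow]; linear_combination h2)
  have hz : orderOf (B.φ z) = 2 := by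
    rw [orderOf_injective _ B.inj]
    refine orderOf_eq_prime ?_ fun h0 => ?_
    · ext
      · simp [z, CL.U3.S.pow_a]
      · rw [CL.U3.S.pow_b_of_a rfl]; simp [h2]
    · simpa [z] using congrArg CL.U3.S.b h0
  obtain ⟨x, hx⟩ := CL.U3.S.exists_a hF 1
  have hτ : B.τ c * B.φ z = B.φ z * B.τ c := by
    rw [← mul_inv_eq_iff_eq_mul, B.conj]
    congr 1
    ext
    · rw [CL.U3.S.tor_a, show z.a = 0 from rfl, mul_zero]
    · rw [CL.U3.S.tor_b, ← hd, d3, one_mul]
  have hxz : B.φ x * B.φ z = B.φ z * B.φ x := by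
    rw [← map_mul, ← map_mul, mem_center_iff.1 (CL.U3.S.mem_center_iff.2 (rfl : z.a = 0))]
  have hodd : Odd (orderOf (B.τ c)) := by
    refine Odd.of_dvd_nat ?_ ((orderOf_map_dvd _ _).trans (orderOf_dvd_natCard c))
    have : Even q := hq ▸ (Nat.even_pow.2 ⟨even_two, by omega⟩)
    rw [hc]
    exact (Nat.Even.sub_odd (by omega) this odd_one).mul this.add_one
  have h5 := h (B.φ z) (B.τ c) (B.φ x * (B.τ c)⁻¹ * (B.φ x)⁻¹) hz hτ
    ((((show Commute _ _ from hxz).mul_left (show Commute _ _ from hτ).inv_left).mul_left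
      (show Commute _ _ from hxz).inv_left).eq) hodd
    (by rwa [← MulAut.conj_apply, MulEquiv.orderOf_eq, orderOf_inv])
  rw [← mul_assoc, ← mul_assoc, B.conj, ← map_inv, ← map_mul, orderOf_injective _ B.inj, ← hd] at h5
  obtain ⟨k, hk⟩ := (IsPGroup.iff_orderOf.1 (CL.U3.S.isPGroup hF 2)) (CL.U3.S.tor d x * x⁻¹)
  rw [hk] at h5
  have hk0 : k = 0 := by
    by_contra h0
    exact absurd ((Nat.odd_pow_iff h0).1 h5) (by decide)
  rw [hk0, pow_zero, orderOf_eq_one_iff] at hk
  have h6 := congrArg CL.U3.S.a hk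
  simp only [CL.U3.S.mul_a, CL.U3.S.tor_a, CL.U3.S.inv_a, CL.U3.S.one_a, hx, mul_one] at h6
  have h7 : d = 1 := Units.ext (by simpa using (add_neg_eq_zero.1 h6))
  exact c3 (inv_eq_one.1 (d1 ▸ h7))

theorem not_oddMul_M11 {G : Type*} [Group G] [Finite G] [IsSimpleGroup G]
    (hG : Nat.card G = 7920) : ¬ OddMul G := fun h => by
  obtain ⟨e⟩ := CL.Ord.iso_K12 hG
  have h1 := h.of_injective e.symm.toMonoidHom e.symm.injective
  let X : CL.Ord.K12 := ⟨CL.Ord.X12, subset_closure (by simp)⟩
  let Y : CL.Ord.K12 := ⟨CL.Ord.Y12, subset_closure (by simp)⟩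
  let Z : CL.Ord.K12 := ⟨CL.Ord.Z12, subset_closure (by simp)⟩
  have : Fact (Nat.Prime 3) := ⟨by norm_num⟩
  have h3 : ∀ g : CL.Ord.K12, g ^ 3 = 1 → Odd (orderOf g) := fun g hg =>
    Odd.of_dvd_nat (by decide) (orderOf_dvd_of_pow_eq_one hg)
  have h2 := h1 (Z * Z * Y) (X * Z * Y * Z * X) (X * Y * X * Y * Z * X * Z)
    (orderOf_eq_prime (Subtype.ext (by decide +kernel)) fun h0 =>
      absurd (congrArg Subtype.val h0) (by decide +kernel))
    (Subtype.ext (by decide +kernel)) (Subtype.ext (by decide +kernel))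
    (h3 _ (Subtype.ext (by decide +kernel))) (h3 _ (Subtype.ext (by decide +kernel)))
  have h4 := h2.of_dvd_nat (orderOf_pow_dvd 2)
  rw [orderOf_eq_prime (p := 2) (Subtype.ext (by decide +kernel)) fun h0 =>
      absurd (congrArg Subtype.val h0) (by decide +kernel)] at h4
  exact absurd h4 (by decide)

/-- A simple group of `2`-rank at least three, without strongly embedded subgroup, whose involution
centralizers are `2`-constrained: `O(C(t)) = 1` for every involution `t`. -/
theorem core_eq_bot {G : Type*} [Group G] [Finite G] [IsSimpleGroup G] (hG : ¬ IsMulCommutative G)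
    (hr : ¬ PRankLE 2 2 G) (hse : ¬ ∃ M : Subgroup G, IsStronglyEmbedded M)
    (hs : ∀ t : G, orderOf t = 2 → IsPConstrained 2 (centralizer ({t} : Set G))) {t : G}
    (ht : orderOf t = 2) : pPrimeCore 2 (centralizer ({t} : Set G)) = ⊥ := by
  have hev := CL.SFM.even_card_of_not_prankLE hr
  have hL : ∀ t : G, orderOf t = 2 → pLayerOf 2 (centralizer ({t} : Set G)) = ⊥ := fun t ht => by
    rw [CL.PComp.pLayerOf_eq_bot_iff_pLayer]
    exact (Cfsg.Agent.S1327.result 2).1 (hs t ht)
  have hidx : ∀ H : Subgroup G, H.index ≠ 2 := fun H e => by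
    have h1 := Subgroup.normal_of_index_eq_two e
    rcases IsSimpleGroup.eq_bot_or_eq_top_of_normal H h1 with rfl | rfl
    · rw [Subgroup.index_bot] at e
      have := isCyclic_of_prime_card (p := 2) e
      exact hG inferInstance
    · simp at e
  have hO : oddCore G = ⊥ := by
    refine (IsSimpleGroup.eq_bot_or_eq_top_of_normal (oddCore G)
      inferInstance).resolve_right fun h => ?_
    have h1 := CL.coprime_card_pPrimeCore 2 G
    change (Nat.card (oddCore G)).Coprime 2 at h1
    rw [h, Subgroup.card_top] at h1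
    exact (Nat.not_even_iff_odd.2 (Nat.coprime_two_right.1 h1)) hev
  have := CL.SFM.core_eq_bot (CL.SFM.isEqCSF_two hL) hL
      (fun t ht => CL.SFM.good_of_index_ne_two hidx hr ht) hO
      (fun H hH => absurd ⟨H, hH⟩ hse) ht
  exact (Subgroup.map_eq_bot_iff_of_injective _ (subtype_injective _)).1 this

theorem three_lt_of_psl2 {G F : Type*} [Group G] [Finite G] [IsSimpleGroup G] [Field F] [Fintype F]
    (hG : ¬ IsMulCommutative G) (e : G ≃* Matrix.ProjectiveSpecialLinearGroup (Fin 2) F) :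
    3 < Fintype.card F := by
  classical
  by_contra h
  have h1 := CL.GL2.gcd_mul_card_PSL2 (F := F)
  have h2 : 1 < Fintype.card F := Fintype.one_lt_card
  rw [← Nat.card_congr e.toEquiv] at h1
  have h3 : Nat.card G ∣ 12 := by
    obtain h4 | h4 : Fintype.card F = 2 ∨ Fintype.card F = 3 := by omega
    · rw [h4] at h1
      norm_num at h1
      rw [h1]; norm_num
    · rw [h4] at h1
      norm_num at h1
      rw [show Nat.card G = 12 by omega]
  refine CL.PSL2E.not_solvable_of_simple hG (CL.Char.isSolvable_of_primes_subset_pair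
    Nat.prime_two Nat.prime_three fun r hr hrG => ?_)
  have h4 := hrG.trans h3
  have := Nat.le_of_dvd (by norm_num) h4
  interval_cases r <;> simp_all (config := {decide := true})

/-- **Simple groups whose involution centralizers have normal `2`-complements.** -/
theorem simple {G : Type*} [Group G] [Finite G] [IsSimpleGroup G]
    (hG : ¬ IsMulCommutative G)
    (hI : ∀ t : G, orderOf t = 2 → HasNormalPComplement 2 ↥(centralizer ({t} : Set G))) :
    (∃ (F : Type) (_ : Field F) (_ : Fintype F), 3 < Fintype.card F ∧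
        Nonempty (G ≃* Matrix.ProjectiveSpecialLinearGroup (Fin 2) F)) ∨
      Lie.IsoSuzuki G ∨ Nonempty (G ≃* ↥(alternatingGroup (Fin 7))) ∨
      (∃ (F : Type) (_ : Field F) (_ : Fintype F), Fintype.card F = 4 ∧
        Nonempty (G ≃* Matrix.ProjectiveSpecialLinearGroup (Fin 3) F)) := by
  have hO := oddMul_of_compl hI
  have hs := fun t ht => isSolvable_of_compl (hI t ht)
  by_cases hr : PRankLE 2 2 G
  · rcases CL.ABG.rank_two_of_solvable hG hr hs with ⟨F, _, _, -, h1, e⟩ | ⟨F, _, _, h1, ⟨e⟩⟩ |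
      ⟨F, _, _, q, h1, h2, ⟨e⟩⟩ | ⟨F, _, _, h1, ⟨e⟩⟩ | h1 | h1
    · exact Or.inl ⟨F, _, _, by omega, e⟩
    · exact absurd hO (not_oddMul_psl3 h1 e)
    · exact absurd hO (not_oddMul_psu3_odd h1 h2 e)
    · exact absurd hO (not_oddMul_psu3_even (n := 2) le_rfl h1 e)
    · exact Or.inr (Or.inr (Or.inl h1))
    · exact absurd hO (not_oddMul_M11 h1.2)
  by_cases hse : ∃ M : Subgroup G, IsStronglyEmbedded M
  · obtain ⟨M, hM⟩ := hse
    obtain ⟨t, Q, hS, -⟩ := CL.Bender.setup_of_simple hG hM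
    obtain ⟨n, hn, h1⟩ := CL.PS.suzuki_simple hS
    have h4 : 4 ≤ 2 ^ n := Nat.pow_le_pow_right two_pos hn
    obtain ⟨F, _, _, _, e, h1⟩ | h1 | ⟨F, _, _, e, ⟨h1⟩⟩ := h1
    · exact Or.inl ⟨F, _, _, by omega, h1⟩
    · exact Or.inr (Or.inl h1.1)
    · exact absurd hO (not_oddMul_psu3_even hn e h1)
  have hC : ∀ t : G, orderOf t = 2 → IsPGroup 2 (centralizer ({t} : Set G)) := fun t ht => by
    have h1 := core_eq_bot hG hr hse (fun t ht => CL.PC.isPConstrained_of_isSolvable (hs t ht)) ht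
    obtain ⟨P, N, hN, h⟩ := hI t ht
    have h2 : N = ⊥ := eq_bot_iff.2 (h1 ▸ CL.le_pPrimeCore (Nat.coprime_two_right.2 (odd_card h)))
    rw [h2, isComplement'_bot_left] at h
    exact (h ▸ P.2).of_equiv topEquiv
  rcases CL.CIT.simple hG hC with ⟨F, _, _, -, ⟨e⟩⟩ | h1 | h1
  · exact Or.inl ⟨F, _, _, three_lt_of_psl2 hG e, ⟨e⟩⟩
  · exact Or.inr (Or.inr (Or.inr h1))
  · exact Or.inr (Or.inl h1)

end CL.TwoNil
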