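import Mathlib
import Cfsg.Agent.PERM.Derange
import Cfsg.Agent.PERM.TwoTrans
import Cfsg.Agent.TECH.Conj
import Cfsg.Agent.S3683

/-!
Basic facts on point stabilisers of faithful primitive actions, and Manning's theorem on
extremely primitive groups.
-/

set_option autoImplicit false

namespace CL.Perm

open MulAction Subgroup CL.MSS
open scoped Pointwise

variable {G Ω : Type*} [Group G] [MulAction G Ω]

theorem cj_stabilizer (g : G) (a : Ω) : g •ᶜ stabilizer G a = stabilizer G (g • a) := by
  ext x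
  rw [mem_cj, mem_stabilizer_iff, mem_stabilizer_iff, mul_smul, mul_smul, inv_smul_eq_iff]

theorem eq_bot_of_normal_of_le_stabilizer [FaithfulSMul G Ω] [IsPretransitive G Ω] {a : Ω}
    {K : Subgroup G} (hK : K.Normal) (h : K ≤ stabilizer G a) : K = ⊥ := by
  rw [eq_bot_iff]
  intro x hx
  rw [mem_bot]
  apply FaithfulSMul.eq_of_smul_eq_smul (α := Ω)
  intro y
  obtain ⟨g, rfl⟩ := exists_smul_eq G a y
  have := mem_stabilizer_iff.mp (h (hK.conj_mem x hx g⁻¹))
  rw [inv_inv, mul_smul, mul_smul, inv_smul_eq_iff] at this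
  rw [this, one_smul]

theorem card_stabilizer_eq [IsPretransitive G Ω] (a b : Ω) :
    Nat.card (stabilizer G a) = Nat.card (stabilizer G b) := by
  obtain ⟨g, rfl⟩ := exists_smul_eq G a b
  rw [← cj_stabilizer, card_cj]

theorem isCoatom_stabilizer (hprim : IsPreprimitive G Ω) {a b : Ω} (hab : a ≠ b) (c : Ω) :
    IsCoatom (stabilizer G c) :=
  have : Nontrivial Ω := ⟨⟨a, b, hab⟩⟩
  IsPreprimitive.isCoatom_stabilizer_of_isPreprimitive G c

/-- A nontrivial subgroup normal in a point stabiliser has the stabiliser as its normaliser. -/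
theorem normalizer_eq_stabilizer [FaithfulSMul G Ω] (hprim : IsPreprimitive G Ω) {a : Ω}
    {X : Subgroup G} (hX : X ≠ ⊥) (hle : X ≤ stabilizer G a)
    (hn : stabilizer G a ≤ normalizer (X : Set G)) : normalizer (X : Set G) = stabilizer G a := by
  have := nontrivial_of_ne_bot (Ω := Ω) X hX
  have hc := IsPreprimitive.isCoatom_stabilizer_of_isPreprimitive G a
  rcases hn.eq_or_lt with h | h
  · exact h.symm
  · exact absurd (eq_bot_of_normal_of_le_stabilizer (normalizer_eq_top_iff.mp (hc.2 _ h)) hle) hX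

theorem stabilizer_ne_of_ne [Finite G] [Finite Ω] [FaithfulSMul G Ω] (hprim : IsPreprimitive G Ω)
    {a b : Ω} (hH : stabilizer G a ≠ ⊥) (hab : a ≠ b) : ¬ stabilizer G a ≤ stabilizer G b :=
  fun h => hH (Cfsg.Agent.S3683.result hprim a b hab (fun _ hg => h hg)).1

theorem stabilizer_sup_eq_top (hprim : IsPreprimitive G Ω) {a b : Ω}
    (h : ¬ stabilizer G a ≤ stabilizer G b) : stabilizer G a ⊔ stabilizer G b = ⊤ := by
  have hab : a ≠ b := by rintro rfl; exact h le_rfl
  exact (isCoatom_stabilizer hprim hab b).2 _ (right_lt_sup.mpr h)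

/-- A set invariant under two different point stabilisers is empty or everything. -/
theorem eq_univ_of_invariant_two (hprim : IsPreprimitive G Ω) {a b : Ω}
    (h : ¬ stabilizer G a ≤ stabilizer G b) {S : Set Ω} {x : Ω} (hx : x ∈ S)
    (ha : ∀ g : G, g • a = a → ∀ y ∈ S, g • y ∈ S) (hb : ∀ g : G, g • b = b → ∀ y ∈ S, g • y ∈ S) :
    S = Set.univ := by
  have key : ∀ c : Ω, (∀ g : G, g • c = c → ∀ y ∈ S, g • y ∈ S) →
      stabilizer G c ≤ stabilizer G S := by
    intro c hc g hg
    rw [mem_stabilizer_set]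
    intro y
    refine ⟨fun hy => ?_, hc g hg y⟩
    have := hc g⁻¹ ((stabilizer G c).inv_mem hg) _ hy
    rwa [inv_smul_smul] at this
  have h1 : stabilizer G S = ⊤ := by
    rw [eq_top_iff, ← stabilizer_sup_eq_top hprim h]
    exact sup_le (key a ha) (key b hb)
  rw [Set.eq_univ_iff_forall]
  intro y
  obtain ⟨g, rfl⟩ := exists_smul_eq G x y
  have : g ∈ stabilizer G S := h1 ▸ mem_top g
  exact (mem_stabilizer_set.mp this x).mpr hx

/-- In-degrees and out-degrees of an invariant relation agree. -/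
theorem ncard_out_eq_ncard_in [Finite Ω] [IsPretransitive G Ω] (R : Ω → Ω → Prop)
    (hR : ∀ (g : G) x y, R x y → R (g • x) (g • y)) (a b : Ω) :
    {y | R a y}.ncard = {x | R x b}.ncard := by
  classical
  have := Fintype.ofFinite Ω
  have hR' : ∀ (g : G) x y, R (g • x) (g • y) ↔ R x y := fun g x y =>
    ⟨fun h => by simpa using hR g⁻¹ _ _ h, hR g x y⟩
  have h1 : ∀ x, (Finset.univ.filter (R x)).card = {y | R a y}.ncard := by
    intro x
    obtain ⟨g, rfl⟩ := exists_smul_eq G a x
    rw [Set.ncard_eq_toFinset_card']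
    symm
    apply Finset.card_bij (fun y _ => g • y)
    · intro y hy; simpa [hR'] using hy
    · intro y _ z _ h; exact smul_left_cancel g h
    · intro y hy
      refine ⟨g⁻¹ • y, ?_, by simp⟩
      simp only [Finset.mem_filter, Finset.mem_univ, true_and] at hy
      simpa using hR g⁻¹ _ _ hy
  have h2 : ∀ y, (Finset.univ.filter (R · y)).card = {x | R x b}.ncard := by
    intro y
    obtain ⟨g, rfl⟩ := exists_smul_eq G b y
    rw [Set.ncard_eq_toFinset_card']
    symm
    apply Finset.card_bij (fun y _ => g • y)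
    · intro y hy; simpa [hR'] using hy
    · intro y _ z _ h; exact smul_left_cancel g h
    · intro y hy
      refine ⟨g⁻¹ • y, ?_, by simp⟩
      simp only [Finset.mem_filter, Finset.mem_univ, true_and] at hy
      simpa using hR g⁻¹ _ _ hy
  have h3 : ∑ x : Ω, (Finset.univ.filter (R x)).card =
      ∑ y : Ω, (Finset.univ.filter (R · y)).card := by
    simp only [Finset.card_filter]
    exact Finset.sum_comm
  simp only [h1, h2, Finset.sum_const, smul_eq_mul] at h3
  exact Nat.eq_of_mul_eq_mul_left (Finset.card_pos.mpr ⟨a, Finset.mem_univ a⟩) h3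

/-- A subgroup normalised by `H`, where `H` is primitive on the orbit of `x`, fixes `x` or is
transitive on that orbit. -/
theorem orbit_eq_of_primitive_orbit {H K : Subgroup G} (hK : K ≤ H)
    (hn : H ≤ normalizer (K : Set G)) {x : Ω} (hp : IsPreprimitive H (orbit H x))
    (hx : ¬ K ≤ stabilizer G x) : orbit K x = orbit H x := by
  have : (K.subgroupOf H).Normal := normal_subgroupOf_of_le_normalizer hn
  have ht : IsPretransitive (K.subgroupOf H) (orbit H x) := by
    apply IsQuasiPreprimitive.isPretransitive_of_normal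
    intro h
    apply hx
    intro k hk
    have : (⟨x, mem_orbit_self x⟩ : orbit H x) ∈ fixedPoints (K.subgroupOf H) (orbit H x) :=
      h ▸ Set.mem_univ _
    exact congrArg Subtype.val (this ⟨⟨k, hK hk⟩, hk⟩)
  apply Set.Subset.antisymm
  · rintro _ ⟨k, rfl⟩
    exact ⟨⟨k, hK k.2⟩, rfl⟩
  · intro y hy
    obtain ⟨k, hk⟩ := ht.exists_smul_eq ⟨x, mem_orbit_self x⟩ ⟨y, hy⟩
    exact ⟨⟨k, k.2⟩, congrArg Subtype.val hk⟩

theorem ncard_orbit_cj (g : G) (H : Subgroup G) (x : Ω) :
    (orbit (g •ᶜ H : Subgroup G) (g • x)).ncard = (orbit H x).ncard := by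
  rw [ncard_suborbit, ncard_suborbit, ← cj_stabilizer, relIndex_cj]

/-- Manning's theorem: in an extremely primitive group, a nontrivial normal subgroup of a point
stabiliser fixes only that point. -/
theorem manning [Finite G] [Finite Ω] [FaithfulSMul G Ω] (hprim : IsPreprimitive G Ω) {a : Ω}
    (hep : ∀ x : Ω, IsPreprimitive (stabilizer G a) (orbit (stabilizer G a) x))
    {K : Subgroup G} (hK : K ≠ ⊥) (hle : K ≤ stabilizer G a)
    (hn : stabilizer G a ≤ normalizer (K : Set G)) {b : Ω} (hb : K ≤ stabilizer G b) : b = a := by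
  by_contra hba
  have hH : ∀ c : Ω, stabilizer G c ≠ ⊥ := by
    intro c h
    have := card_stabilizer_eq (G := G) a c
    rw [h, card_bot] at this
    exact hK (eq_bot_iff.mpr (hle.trans (eq_bot_of_card_eq _ this).le))
  let R : Ω → Ω → Prop := fun x y => ∃ g : G, g • a = x ∧ K ≤ stabilizer G (g⁻¹ • y)
  have hRinv : ∀ (g : G) x y, R x y → R (g • x) (g • y) := by
    rintro g x y ⟨h, h1, h2⟩
    exact ⟨g * h, by rw [mul_smul, h1], by rwa [mul_inv_rev, mul_smul, inv_smul_smul]⟩
  have hFinv : ∀ g : G, g • a = a → ∀ y : Ω, K ≤ stabilizer G y → K ≤ stabilizer G (g • y) := by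
    intro g hg y hy
    rw [← cj_stabilizer, ← cj_eq_of_mem_normalizer (hn hg)]
    exact cj_mono g hy
  have hRa : ∀ y, R a y ↔ K ≤ stabilizer G y := by
    intro y
    refine ⟨fun ⟨g, h1, h2⟩ => ?_, fun h => ⟨1, one_smul _ _, by simpa using h⟩⟩
    simpa using hFinv g h1 _ h2
  obtain ⟨c, hc, hmax⟩ := Set.exists_max_image {y : Ω | ¬ K ≤ stabilizer G y}
    (fun y => (orbit (stabilizer G a) y).ncard) (Set.toFinite _) (by
      by_contra h
      rw [Set.not_nonempty_iff_eq_empty, Set.eq_empty_iff_forall_notMem] at h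
      apply hK
      rw [eq_bot_iff]
      intro k hk
      rw [mem_bot]
      exact FaithfulSMul.eq_of_smul_eq_smul (α := Ω) fun y => by
        rw [one_smul]; exact not_not.mp (h y) hk)
  have hca : c ≠ a := by rintro rfl; exact hc hle
  have horb := orbit_eq_of_primitive_orbit hle hn (hep c) hc
  have key : ∀ y, y ≠ a → K ≤ stabilizer G y → R y c := by
    intro y hya hy
    obtain ⟨g, rfl⟩ := exists_smul_eq G a y
    refine ⟨g, rfl, ?_⟩
    by_contra hcon
    have h1 : (orbit (stabilizer G a) (g⁻¹ • c)).ncard ≤ (orbit (stabilizer G a) c).ncard :=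
      hmax _ hcon
    rw [← ncard_orbit_cj g, cj_stabilizer, smul_inv_smul] at h1
    have h2 : orbit (stabilizer G a) c ⊆ orbit (stabilizer G (g • a)) c := by
      rw [← horb]
      rintro _ ⟨k, rfl⟩
      exact ⟨⟨k, hy k.2⟩, rfl⟩
    have h3 := Set.eq_of_subset_of_ncard_le h2 h1
    have h4 := eq_univ_of_invariant_two hprim (stabilizer_ne_of_ne hprim (hH a) hya.symm)
      (S := orbit (stabilizer G a) c) (mem_orbit_self c)
      (fun k hk y hy => mem_orbit_of_mem_orbit (⟨k, hk⟩ : stabilizer G a) hy)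
      (fun k hk y hy => by
        rw [h3] at hy ⊢
        exact mem_orbit_of_mem_orbit (⟨k, hk⟩ : stabilizer G (g • a)) hy)
    have h5 : a ∈ orbit (stabilizer G a) c := h4 ▸ Set.mem_univ a
    obtain ⟨k, hk⟩ := h5
    apply hca
    have hk' : (k : G) • c = (k : G) • a := by rw [k.2]; exact hk
    exact smul_left_cancel _ hk'
  set S : Set Ω := {y | K ≤ stabilizer G y} \ {a} with hS
  have hRcc : R c c := by
    obtain ⟨g, rfl⟩ := exists_smul_eq G a c
    exact ⟨g, rfl, by simpa using hle⟩
  have hsub : insert c S ⊆ {x | R x c} := by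
    rintro y (rfl | hy)
    · exact hRcc
    · exact key y hy.2 hy.1
  have hcS : c ∉ S := fun h => hc h.1
  have hcard : {x | R x c}.ncard ≤ (insert c S).ncard := by
    rw [← ncard_out_eq_ncard_in R hRinv a c, Set.ncard_insert_of_notMem hcS, hS,
      Set.ncard_sdiff_singleton_add_one (show a ∈ {y | K ≤ stabilizer G y} from hle)]
    simp only [hRa, le_refl]
  have heq := Set.eq_of_subset_of_ncard_le hsub hcard
  have h4 := eq_univ_of_invariant_two hprim (stabilizer_ne_of_ne hprim (hH a) hca.symm)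
    (S := S) (x := b) ⟨hb, hba⟩
    (fun g hg y hy => ⟨hFinv g hg y hy.1, fun h => hy.2 (smul_left_cancel g (h.trans hg.symm))⟩)
    (fun g hg y hy => by
      have h1 : g • y ∈ insert c S := by
        rw [heq]
        have := hRinv g y c (hsub (Set.mem_insert_of_mem _ hy))
        rwa [hg] at this
      rcases h1 with h1 | h1
      · exact absurd (smul_left_cancel g (h1.trans hg.symm) ▸ hy) hcS
      · exact h1)
  have : a ∈ S := h4 ▸ Set.mem_univ a
  exact this.2 rfl

/-- The kernel of the action of `H` on the orbit of `x`, as a subgroup of `G`. -/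
def orbitKer (H : Subgroup G) (x : Ω) : Subgroup G where
  carrier := {g | g ∈ H ∧ ∀ h ∈ H, g • h • x = h • x}
  one_mem' := ⟨H.one_mem, fun _ _ => one_smul _ _⟩
  mul_mem' := fun ha hb => ⟨H.mul_mem ha.1 hb.1, fun h hh => by
    rw [mul_smul, hb.2 h hh, ha.2 h hh]⟩
  inv_mem' := fun ha => ⟨H.inv_mem ha.1, fun h hh => by rw [inv_smul_eq_iff, ha.2 h hh]⟩

theorem mem_orbitKer {H : Subgroup G} {x : Ω} {g : G} :
    g ∈ orbitKer H x ↔ g ∈ H ∧ ∀ h ∈ H, g • h • x = h • x := Iff.rfl

theorem orbitKer_le (H : Subgroup G) (x : Ω) : orbitKer H x ≤ H := fun _ h => h.1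

theorem orbitKer_le_stabilizer (H : Subgroup G) (x : Ω) : orbitKer H x ≤ stabilizer G x :=
  fun _ h => by simpa using h.2 1 H.one_mem

theorem le_normalizer_orbitKer (H : Subgroup G) (x : Ω) :
    H ≤ normalizer (orbitKer H x : Set G) := by
  apply le_normalizer_of_cj_le
  intro h hh
  rw [cj_le_iff_forall]
  intro g hg
  refine ⟨H.mul_mem (H.mul_mem hh hg.1) (H.inv_mem hh), fun k hk => ?_⟩
  rw [mul_smul, mul_smul, ← mul_smul h⁻¹, hg.2 _ (H.mul_mem (H.inv_mem hh) hk), mul_smul,
    smul_inv_smul]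

theorem le_orbitKer {H X : Subgroup G} {x : Ω} (h1 : X ≤ H) (h2 : H ≤ normalizer (X : Set G))
    (h3 : X ≤ stabilizer G x) : X ≤ orbitKer H x := by
  intro g hg
  refine ⟨h1 hg, fun h hh => ?_⟩
  have := h3 (conj_mem_of_normalizes' h2 hh hg)
  rwa [mem_stabilizer_iff, mul_smul, mul_smul, inv_smul_eq_iff] at this

theorem manning_orbitKer [Finite G] [Finite Ω] [FaithfulSMul G Ω] (hprim : IsPreprimitive G Ω)
    {a : Ω} (hep : ∀ x : Ω, IsPreprimitive (stabilizer G a) (orbit (stabilizer G a) x))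
    {b : Ω} (hb : b ≠ a) : orbitKer (stabilizer G a) b = ⊥ := by
  by_contra h
  exact hb (manning hprim hep h (orbitKer_le _ _) (le_normalizer_orbitKer _ _)
    (orbitKer_le_stabilizer _ _))

/-- In an extremely primitive group a nontrivial normal subgroup of a point stabiliser has the
same orbits as the stabiliser. -/
theorem manning_orbit_eq [Finite G] [Finite Ω] [FaithfulSMul G Ω] (hprim : IsPreprimitive G Ω)
    {a : Ω} (hep : ∀ x : Ω, IsPreprimitive (stabilizer G a) (orbit (stabilizer G a) x))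
    {K : Subgroup G} (hK : K ≠ ⊥) (hle : K ≤ stabilizer G a)
    (hn : stabilizer G a ≤ normalizer (K : Set G)) {b : Ω} (hb : b ≠ a) :
    orbit K b = orbit (stabilizer G a) b :=
  orbit_eq_of_primitive_orbit hle hn (hep b) fun h => hb (manning hprim hep hK hle hn h)

end CL.Perm
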