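import Mathlib
import Cfsg.Agent.PERM.Prim
import Cfsg.Agent.SIG.FStar
import Cfsg.Agent.TECH.SubnP
import Cfsg.Agent.TECH.Amb

/-!
The Thompson-Wielandt theorem for two conjugate primitive subgroups.
-/

set_option autoImplicit false

namespace CL.TW

open Subgroup Cfsg CL.MSS CL.Comp
open scoped commutatorElement

variable {G : Type*} [Group G]

/-- The core of `Y` under `M`. -/
def coreIn (M Y : Subgroup G) : Subgroup G where
  carrier := {x | ∀ m ∈ M, m⁻¹ * x * m ∈ Y}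
  one_mem' := fun m _ => by simp
  mul_mem' := fun {x y} hx hy m hm => by
    simpa [mul_assoc] using Y.mul_mem (hx m hm) (hy m hm)
  inv_mem' := fun {x} hx m hm => by simpa [mul_assoc] using Y.inv_mem (hx m hm)

theorem mem_coreIn {M Y : Subgroup G} {x : G} : x ∈ coreIn M Y ↔ ∀ m ∈ M, m⁻¹ * x * m ∈ Y :=
  Iff.rfl

theorem coreIn_le (M Y : Subgroup G) : coreIn M Y ≤ Y := fun x hx => by
  simpa using hx 1 M.one_mem

theorem le_normalizer_coreIn (M Y : Subgroup G) : M ≤ normalizer (coreIn M Y : Set G) := by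
  apply le_normalizer_of_cj_le
  intro g hg
  rw [cj_le_iff_forall]
  intro x hx m hm
  simpa [mul_assoc] using hx (g⁻¹ * m) (M.mul_mem (M.inv_mem hg) hm)

theorem le_coreIn {M X Y : Subgroup G} (h : X ≤ Y) (hn : M ≤ normalizer (X : Set G)) :
    X ≤ coreIn M Y := fun _ hx _ hm => h (conj_mem_of_normalizes' hn hm hx)

theorem coreIn_subgroupOf (M Y : Subgroup G) :
    (coreIn M Y).subgroupOf M = (Y.subgroupOf M).normalCore := by
  ext x
  constructor
  · intro hx m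
    simpa [mem_subgroupOf] using hx m⁻¹ (M.inv_mem m.2)
  · intro hx m hm
    simpa [mem_subgroupOf] using hx ⟨m, hm⟩⁻¹

theorem map_normalCore {M Y : Subgroup G} (h : Y ≤ M) :
    (Y.subgroupOf M).normalCore.map M.subtype = coreIn M Y := by
  rw [← coreIn_subgroupOf, map_subgroupOf_eq_of_le ((coreIn_le M Y).trans h)]

theorem relIndex_coreIn_dvd [Finite G] (M Y : Subgroup G) :
    (coreIn M Y).relIndex M ∣ (Y.relIndex M).factorial := by
  rw [relIndex, coreIn_subgroupOf, normalCore_eq_ker, index_ker, relIndex, index, ← Nat.card_perm]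
  exact card_subgroup_dvd_card _

theorem relIndex_coreIn_dvd' [Finite G] {M Y : Subgroup G} (h : Y ≤ M) :
    (coreIn M Y).relIndex Y ∣ (Y.relIndex M - 1).factorial := by
  have h1 := relIndex_coreIn_dvd M Y
  have h2 : Y.relIndex M ≠ 0 := index_ne_zero_of_finite
  rw [← relIndex_mul_relIndex _ _ _ (coreIn_le M Y) h, ← Nat.mul_factorial_pred h2, mul_comm] at h1
  exact Nat.dvd_of_mul_dvd_mul_left (Nat.pos_of_ne_zero h2) h1

/-- The first core. -/
def K (M₁ M₂ : Subgroup G) : Subgroup G := coreIn M₁ (M₁ ⊓ M₂)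

/-- The second core. -/
def P (M₁ M₂ : Subgroup G) : Subgroup G := coreIn M₁ (K M₁ M₂ ⊓ K M₂ M₁)

variable {M₁ M₂ : Subgroup G}

theorem K_le_left : K M₁ M₂ ≤ M₁ := (coreIn_le _ _).trans inf_le_left
theorem K_le_right : K M₁ M₂ ≤ M₂ := (coreIn_le _ _).trans inf_le_right
theorem K_normal : M₁ ≤ normalizer (K M₁ M₂ : Set G) := le_normalizer_coreIn _ _
theorem le_K {X : Subgroup G} (h1 : X ≤ M₁) (h2 : X ≤ M₂) (hn : M₁ ≤ normalizer (X : Set G)) :
    X ≤ K M₁ M₂ := le_coreIn (le_inf h1 h2) hn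
theorem P_le_left : P M₁ M₂ ≤ K M₁ M₂ := (coreIn_le _ _).trans inf_le_left
theorem P_le_right : P M₁ M₂ ≤ K M₂ M₁ := (coreIn_le _ _).trans inf_le_right
theorem P_normal : M₁ ≤ normalizer (P M₁ M₂ : Set G) := le_normalizer_coreIn _ _

theorem P_subnormal : ((P M₂ M₁).subgroupOf M₁).IsSubnormal :=
  isSubnormal_subgroupOf_trans P_le_right K_le_left
    (isSubnormal_subgroupOf_of_normalizes (K_le_right.trans P_normal))
    (isSubnormal_subgroupOf_of_normalizes K_normal)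

theorem relIndex_P_dvd [Finite G] (h : Nat.card M₁ = Nat.card M₂) :
    (P M₁ M₂).relIndex M₁ ∣ (M₂.relIndex M₁).factorial *
      (M₂.relIndex M₁ - 1).factorial ^ M₂.relIndex M₁ := by
  classical
  have hd : (M₂ ⊓ M₁).relIndex M₂ = M₂.relIndex M₁ := by
    have h1 := (((M₂ ⊓ M₁).subgroupOf M₂).card_mul_index.trans h.symm).trans
      ((M₂ ⊓ M₁).subgroupOf M₁).card_mul_index.symm
    rw [Nat.card_congr (subgroupOfEquivOfLe inf_le_left).toEquiv,
      Nat.card_congr (subgroupOfEquivOfLe inf_le_right).toEquiv] at h1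
    rw [← inf_relIndex_right M₂ M₁]
    exact Nat.eq_of_mul_eq_mul_left Nat.card_pos h1
  have h1 : (K M₂ M₁).relIndex (K M₁ M₂) ∣ (M₂.relIndex M₁ - 1).factorial := by
    have h2 := relIndex_coreIn_dvd' (inf_le_left : M₂ ⊓ M₁ ≤ M₂)
    rw [hd] at h2
    refine Dvd.dvd.trans ?_ h2
    have := normal_subgroupOf_of_le_normalizer 
      ((inf_le_left : M₂ ⊓ M₁ ≤ M₂).trans (K_normal (M₂ := M₁)))
    rw [← relIndex_subgroupOf (le_inf K_le_right K_le_left : K M₁ M₂ ≤ M₂ ⊓ M₁)]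
    exact relIndex_dvd_index_of_normal _ _
  rw [← relIndex_mul_relIndex _ _ _ P_le_left K_le_left, mul_comm]
  refine mul_dvd_mul (by simpa [inf_relIndex_left, K] using relIndex_coreIn_dvd M₁ (M₁ ⊓ M₂)) ?_
  let N : M₁ ⧸ M₂.subgroupOf M₁ → Subgroup (K M₁ M₂) :=
    fun q => ((q.out : G) •ᶜ K M₂ M₁).subgroupOf (K M₁ M₂)
  have hKc : ∀ m : M₁, (m : G) •ᶜ K M₁ M₂ = K M₁ M₂ := fun m => cj_eq_of_mem_normalizer (K_normal m.2)
  have hN : ∀ q, (N q).Normal := by
    intro q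
    apply normal_subgroupOf_of_le_normalizer
    rw [← cj_normalizer, ← hKc q.out]
    exact cj_mono _ (K_le_right.trans K_normal)
  let φ : K M₁ M₂ →* ∀ q, K M₁ M₂ ⧸ N q := MonoidHom.pi fun q => QuotientGroup.mk' (N q)
  have hφ : φ.ker = (P M₁ M₂).subgroupOf (K M₁ M₂) := by
    ext x
    simp only [φ, MonoidHom.mem_ker, funext_iff, MonoidHom.pi_apply, Pi.one_apply,
      QuotientGroup.mk'_apply, QuotientGroup.eq_one_iff, N, mem_subgroupOf, mem_cj]
    refine ⟨fun hx m hm => ⟨conj_mem_of_normalizes' K_normal hm x.2, ?_⟩,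
      fun hx q => (hx _ q.out.2).2⟩
    obtain ⟨k, hk⟩ := QuotientGroup.mk_out_eq_mul (M₂.subgroupOf M₁) ⟨m, hm⟩
    have h2 := hx (⟨m, hm⟩ : M₁)
    rw [hk] at h2
    simpa [mul_assoc] using conj_mem_of_normalizes K_normal (mem_subgroupOf.mp k.2) h2
  have := Fintype.ofFinite (M₁ ⧸ M₂.subgroupOf M₁)
  rw [relIndex, ← hφ, index_ker]
  refine (card_subgroup_dvd_card _).trans ?_
  rw [Nat.card_pi, show (M₂.relIndex M₁ - 1).factorial ^ M₂.relIndex M₁ =
    ∏ _q : M₁ ⧸ M₂.subgroupOf M₁, (M₂.relIndex M₁ - 1).factorial by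
      rw [Finset.prod_const, Finset.card_univ, ← Nat.card_eq_fintype_card]; rfl]
  refine Finset.prod_dvd_prod_of_dvd _ _ fun q _ => ?_
  change ((q.out : G) •ᶜ K M₂ M₁).relIndex (K M₁ M₂) ∣ _
  rwa [← hKc q.out, relIndex_cj]

/-- Two distinct conjugate primitive subgroups. -/
structure Pair (M₁ M₂ : Subgroup G) : Prop where
  n₁ : ∀ X : Subgroup G, X ≠ ⊥ → X ≤ M₁ → M₁ ≤ normalizer (X : Set G) → normalizer (X : Set G) ≤ M₁
  n₂ : ∀ X : Subgroup G, X ≠ ⊥ → X ≤ M₂ → M₂ ≤ normalizer (X : Set G) → normalizer (X : Set G) ≤ M₂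
  ne : M₁ ≠ M₂
  conj : ∃ g : G, M₂ = g •ᶜ M₁

namespace Pair

variable (h : Pair M₁ M₂)
include h

theorem symm : Pair M₂ M₁ :=
  ⟨h.n₂, h.n₁, h.ne.symm, let ⟨g, hg⟩ := h.conj; ⟨g⁻¹, by rw [hg, inv_cj_cj]⟩⟩

theorem card_eq : Nat.card M₁ = Nat.card M₂ := by
  obtain ⟨g, rfl⟩ := h.conj
  rw [card_cj]

theorem card_oP_eq (p : ℕ) : Nat.card (pCoreOf p M₁) = Nat.card (pCoreOf p M₂) := by
  obtain ⟨g, rfl⟩ := h.conj
  rw [← oP_cj, card_cj]

theorem oP_ne_bot {p : ℕ} (h1 : pCoreOf p M₁ ≠ ⊥) : pCoreOf p M₂ ≠ ⊥ := by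
  obtain ⟨g, rfl⟩ := h.conj
  rwa [← oP_cj, Ne, cj_eq_bot_iff]

variable [Finite G]

theorem eq_bot {X : Subgroup G} (hX : X ≤ M₁) (h1 : M₁ ≤ normalizer (X : Set G))
    (h2 : M₂ ≤ normalizer (X : Set G)) : X = ⊥ := by
  by_contra hne
  exact h.ne (eq_of_le_of_card_ge (h2.trans (h.n₁ X hne hX h1)) h.card_eq.le).symm

theorem eq_bot_of_inf_le {p : ℕ} [Fact p.Prime] {S : Subgroup G} (hS : IsPGroup p S)
    (h1 : S ≤ M₁) (h2 : S ≤ M₂) (hn : M₁ ≤ normalizer (S : Set G))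
    (hle : M₁ ⊓ pCoreOf p M₂ ≤ S) : S = ⊥ := by
  by_contra hne
  have h3 : pCoreOf p M₂ ≤ S := by
    by_contra h3
    have h4 := lt_inf_normalizer_of_lt
      (isPGroup_sup_of_normalizes hS (oP_isPGroup M₂) (h2.trans (oP_normal M₂))) (left_lt_sup.mpr h3)
    refine h4.not_ge ((inf_le_inf_left _ (h.n₁ S hne h1 hn)).trans ?_)
    rw [inf_comm, inf_sup_of_normalizes h1 (h2.trans (oP_normal M₂))]
    exact sup_le le_rfl hle
  have h4 := le_oP hS h1 hn
  have h5 := eq_of_le_of_card_ge (h3.trans h4) (h.card_oP_eq p).le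
  exact hne (eq_bot_iff.mpr (h4.trans (h.eq_bot (oP_le M₁) (oP_normal M₁) (h5 ▸ oP_normal M₂)).le))

theorem isPGroup_P' {p : ℕ} [Fact p.Prime] (hp : pCoreOf p M₁ ≠ ⊥) : IsPGroup p (P M₂ M₁) := by
  by_contra hcon
  rw [← oU_eq_bot_iff] at hcon
  have hP1 : P M₂ M₁ ≤ M₁ := P_le_right.trans K_le_left
  have hX := h.n₂ _ hcon ((oU_le _).trans (P_le_left.trans K_le_left)) (le_normalizer_oU P_normal)
  have hsup := presOf_sup_of_subnormal hP1 P_subnormal (oP_isPGroup (p := p) M₁) (oP_le M₁)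
    (oP_normal M₁)
  have hK : K M₁ M₂ ⊓ pCoreOf p M₂ ≤ pCoreOf p M₁ := by
    rw [inf_comm]
    exact (oP_inf_le K_le_right).trans (oP_le_oP_of_normal K_le_left K_normal)
  refine hp (h.eq_bot_of_inf_le (oP_isPGroup M₁) (oP_le M₁) (le_trans ?_ hX) (oP_normal M₁)
    (le_trans (le_inf (fun d hd => mem_coreIn.mpr fun m hm => ?_) inf_le_right) hK))
  · rw [← hsup]
    exact le_sup_right.trans (oU_normal _)
  · have hc : m⁻¹ * d * m ∈ M₁ := mul_mem (mul_mem (inv_mem hm) hd.1) hm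
    refine ⟨hc, hX ?_⟩
    rw [← hsup]
    apply normalizer_le_normalizer_oU
    apply mem_normalizer_of_cj_le
    rw [cj_sup, cj_eq_of_mem_normalizer (oP_normal M₁ hc)]
    refine sup_le (cj_le_iff_forall.mpr fun x hx => ?_) le_sup_right
    have h1 : m * x * m⁻¹ ∈ K M₁ M₂ := conj_mem_of_normalizes K_normal hm (P_le_right hx)
    have h2 : ⁅(m * x * m⁻¹)⁻¹, d⁆ ∈ pCoreOf p M₁ := hK
      ⟨commutator_le_left_of_normalizes K_normal (commutator_mem_commutator (inv_mem h1) hd.1),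
        commutator_le_right_of_normalizes (K_le_right.trans (oP_normal M₂))
          (commutator_mem_commutator (inv_mem h1) hd.2)⟩
    have h3 := conj_mem_of_normalizes' (oP_normal M₁) hm h2
    have h4 := mul_mem_sup hx h3
    convert h4 using 1
    rw [commutatorElement_def]
    group

theorem isPGroup_P {p : ℕ} [Fact p.Prime] (hp : pCoreOf p M₁ ≠ ⊥) : IsPGroup p (P M₁ M₂) :=
  h.symm.isPGroup_P' (h.oP_ne_bot hp)

omit [Finite G] in
theorem inf_centralizer_K_le (h1 : P M₁ M₂ ≠ ⊥) :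
    M₂ ⊓ centralizer (K M₂ M₁ : Set G) ≤ K M₂ M₁ :=
  le_K inf_le_left (inf_le_right.trans ((centralizer_le P_le_right).trans
    ((centralizer_le_normalizer _).trans (h.n₁ _ h1 (P_le_left.trans K_le_left) P_normal))))
    (le_normalizer_inf le_normalizer (le_normalizer_centralizer K_normal))

omit [Finite G] in
theorem layerOf_le_layerOf (h1 : P M₁ M₂ ≠ ⊥) (h2 : P M₂ M₁ ≠ ⊥) : layerOf M₁ ≤ layerOf M₂ := by
  rw [layerOf_le_iff]
  intro L hL
  have h3 : L ≤ M₂ := hL.le_layerOf.trans ((layerOf_le_normalizer_of_subnormal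
    (P_le_right.trans K_le_left) P_subnormal).trans
    (h.n₂ _ h2 (P_le_left.trans K_le_left) P_normal))
  have h4 : L ≤ K M₂ M₁ :=
    (hL.le_or_commutator_eq_bot_of_le_normalizer K_le_right (h3.trans K_normal)).elim id fun h4 =>
      (le_inf h3 (commutator_eq_bot_iff_le_centralizer.mp h4)).trans (h.inf_centralizer_K_le h1)
  exact ((hL.mono h4 K_le_right).trans_of_le_normalizer K_le_left K_normal).le_layerOf

theorem layerOf_eq_bot (h1 : P M₁ M₂ ≠ ⊥) (h2 : P M₂ M₁ ≠ ⊥) : layerOf M₁ = ⊥ :=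
  h.eq_bot (layerOf_le M₁) (le_normalizer_layerOf M₁)
    (le_antisymm (h.symm.layerOf_le_layerOf h2 h1) (h.layerOf_le_layerOf h1 h2) ▸
      le_normalizer_layerOf M₂)

theorem isPGroup_fstarOf {p : ℕ} [hp : Fact p.Prime] (h1 : P M₁ M₂ ≠ ⊥) (h2 : P M₂ M₁ ≠ ⊥)
    (hP : IsPGroup p (P M₁ M₂)) : IsPGroup p (fstarOf M₁) := by
  rw [fstarOf_eq, h.layerOf_eq_bot h1 h2, bot_sup_eq, fittingOf_def, fittingSubgroup_eq_iSup_pCore,
    Subgroup.map_iSup]
  refine (oP_isPGroup (p := p) M₁).to_le (iSup_le fun q => ?_)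
  have := factPrime q
  by_cases hq : (q : ℕ) = p
  · rw [hq]; exact le_rfl
  · by_contra hcon
    exact h1 (disjoint_self.mp (IsPGroup.disjoint_of_ne q p hq _ _
      (h.isPGroup_P (p := q) fun h3 => hcon (h3.le.trans bot_le)) hP))

/-- The Thompson-Wielandt theorem. -/
theorem thompson_wielandt (h1 : P M₁ M₂ ≠ ⊥) (h2 : P M₂ M₁ ≠ ⊥) :
    ∃ p : ℕ, p.Prime ∧ IsPGroup p (P M₁ M₂) ∧ IsPGroup p (P M₂ M₁) ∧ IsPGroup p (fstarOf M₁) ∧
      IsPGroup p (fstarOf M₂) := by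
  obtain ⟨p, hp⟩ : ∃ p : Nat.Primes, pCoreOf p M₁ ≠ ⊥ := by
    by_contra hcon
    push Not at hcon
    apply h1
    have h3 : fstarOf M₁ = ⊥ := by
      rw [fstarOf_eq, h.layerOf_eq_bot h1 h2, bot_sup_eq, fittingOf_def,
        fittingSubgroup_eq_iSup_pCore, Subgroup.map_iSup, iSup_eq_bot]
      exact hcon
    exact eq_bot_iff.mpr ((P_le_left.trans K_le_left).trans (fstarOf_eq_bot_iff.mp h3).le)
  have := factPrime p
  exact ⟨p, p.2, h.isPGroup_P hp, h.isPGroup_P' hp, h.isPGroup_fstarOf h1 h2 (h.isPGroup_P hp),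
    h.symm.isPGroup_fstarOf h2 h1 (h.isPGroup_P' hp)⟩

theorem card_dvd_of_P_eq_bot (hP : P M₁ M₂ = ⊥ ∨ P M₂ M₁ = ⊥) :
    Nat.card M₁ ∣ (M₂.relIndex M₁).factorial *
      (M₂.relIndex M₁ - 1).factorial ^ M₂.relIndex M₁ := by
  rcases hP with hP | hP
  · simpa [hP] using relIndex_P_dvd h.card_eq
  · have hd : M₁.relIndex M₂ = M₂.relIndex M₁ := by
      have h1 := (((M₂ ⊓ M₁).subgroupOf M₂).card_mul_index.trans h.card_eq.symm).trans
        ((M₂ ⊓ M₁).subgroupOf M₁).card_mul_index.symm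
      rw [Nat.card_congr (subgroupOfEquivOfLe inf_le_left).toEquiv,
        Nat.card_congr (subgroupOfEquivOfLe inf_le_right).toEquiv] at h1
      rw [← inf_relIndex_right M₂ M₁, ← inf_relIndex_left M₂ M₁]
      exact Nat.eq_of_mul_eq_mul_left Nat.card_pos h1
    simpa [hP, hd, h.card_eq] using relIndex_P_dvd h.card_eq.symm

end Pair

open MulAction CL.Perm in
theorem pair_stabilizer {Ω : Type*} [MulAction G Ω] [FaithfulSMul G Ω]
    (hprim : IsPreprimitive G Ω) {a b : Ω} (h : stabilizer G a ≠ stabilizer G b) :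
    Pair (stabilizer G a) (stabilizer G b) :=
  ⟨fun _ h1 h2 h3 => (normalizer_eq_stabilizer hprim h1 h2 h3).le,
    fun _ h1 h2 h3 => (normalizer_eq_stabilizer hprim h1 h2 h3).le, h,
    let ⟨g, hg⟩ := exists_smul_eq G a b; ⟨g, by rw [cj_stabilizer, hg]⟩⟩

open MulAction CL.Perm in
theorem pair_stabilizer_of_card {Ω : Type*} [MulAction G Ω] [FaithfulSMul G Ω]
    (hprim : IsPreprimitive G Ω) {a b : Ω} {d : ℕ}
    (hd : Nat.card (orbit (stabilizer G a) b) = d) (h2 : 2 ≤ d) :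
    Pair (stabilizer G a) (stabilizer G b) ∧ (stabilizer G b).relIndex (stabilizer G a) = d := by
  rw [Nat.card_coe_set_eq, ncard_suborbit] at hd
  refine ⟨pair_stabilizer hprim fun h => ?_, hd⟩
  rw [h, relIndex_self] at hd
  omega

open MulAction CL.Perm in
theorem K_stabilizer {Ω : Type*} [MulAction G Ω] (a b : Ω) :
    K (stabilizer G a) (stabilizer G b) = orbitKer (stabilizer G a) b :=
  le_antisymm (le_orbitKer K_le_left K_normal K_le_right)
    (le_K (orbitKer_le _ _) (orbitKer_le_stabilizer _ _) (le_normalizer_orbitKer _ _))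

end CL.TW
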