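import Mathlib
import Cfsg.Agent.PERM.TW

/-!
Sims' theorem on primitive groups with a suborbit of length three: the Tutte system of involutions.
-/

set_option autoImplicit false

namespace CL.Sims

open Subgroup CL.MSS CL.TW
open scoped commutatorElement

variable {G : Type*} [Group G]

theorem sup_eq_of_relIndex_prime {A B C : Subgroup G} (hA : A ≤ C) (hB : B ≤ C)
    (hp : (A.relIndex C).Prime) (h : ¬ B ≤ A) : A ⊔ B = C := by
  have h1 := relIndex_mul_relIndex A (A ⊔ B) C le_sup_left (sup_le hA hB)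
  rcases hp.eq_one_or_self_of_dvd _ (Dvd.intro _ h1) with h2 | h2
  · exact absurd (le_sup_right.trans (relIndex_eq_one.mp h2)) h
  · rw [h2] at h1
    exact le_antisymm (sup_le hA hB) (relIndex_eq_one.mp
      (Nat.eq_of_mul_eq_mul_left hp.pos (h1.trans (mul_one _).symm)))

theorem mul_mem_iff_of_relIndex_two {A C : Subgroup G} (h : A.relIndex C = 2) {x y : G}
    (hx : x ∈ C) (hy : y ∈ C) : x * y ∈ A ↔ (x ∈ A ↔ y ∈ A) :=
  mul_mem_iff_of_index_two (H := A.subgroupOf C) h (a := ⟨x, hx⟩) (b := ⟨y, hy⟩)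

theorem le_normalizer_of_relIndex_two {A C : Subgroup G} (hA : A ≤ C) (h : A.relIndex C = 2) :
    C ≤ normalizer (A : Set G) :=
  have := normal_of_index_eq_two (H := A.subgroupOf C) h
  le_normalizer_of_normal_subgroupOf hA

theorem relIndex_eq_of_card [Finite G] {A C : Subgroup G} (hA : A ≤ C) {k : ℕ}
    (h : Nat.card C = k * Nat.card A) : A.relIndex C = k :=
  Nat.eq_of_mul_eq_mul_left Nat.card_pos ((card_mul_relIndex_of_le hA).trans (h.trans (mul_comm _ _)))

/-- The subgroup generated by an interval of the sequence. -/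
def I (a : ℤ → G) (i j : ℤ) : Subgroup G := closure (a '' Set.Icc i j)

theorem mem_I (a : ℤ → G) {i j l : ℤ} (h1 : i ≤ l) (h2 : l ≤ j) : a l ∈ I a i j :=
  subset_closure ⟨l, ⟨h1, h2⟩, rfl⟩

theorem I_le {a : ℤ → G} {i j : ℤ} {X : Subgroup G} (h : ∀ l, i ≤ l → l ≤ j → a l ∈ X) :
    I a i j ≤ X := by
  rw [I, closure_le]
  rintro _ ⟨l, hl, rfl⟩
  exact h l hl.1 hl.2

theorem I_mono (a : ℤ → G) {i j i' j' : ℤ} (h1 : i' ≤ i) (h2 : j ≤ j') : I a i j ≤ I a i' j' :=
  I_le fun _ h3 h4 => mem_I a (h1.trans h3) (h4.trans h2)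

theorem I_eq_bot (a : ℤ → G) {i j : ℤ} (h : j < i) : I a i j = ⊥ :=
  eq_bot_iff.mpr (I_le fun _ h1 h2 => by omega)

theorem I_self (a : ℤ → G) (i : ℤ) : I a i i = zpowers (a i) := by
  rw [I, Set.Icc_self, Set.image_singleton, zpowers_eq_closure]

theorem I_sup (a : ℤ → G) {i j : ℤ} (h : i < j) : I a i (j - 1) ⊔ I a (i + 1) j = I a i j :=
  le_antisymm (sup_le (I_mono a le_rfl (by omega)) (I_mono a (by omega) le_rfl))
    (I_le fun l h1 h2 => by
      by_cases hl : l = i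
      · exact mem_sup_left (mem_I a h1 (by omega))
      · exact mem_sup_right (mem_I a (by omega) h2))

theorem commute_of_mem_I {a : ℤ → G} {i j : ℤ} {x y : G}
    (h : ∀ l, i ≤ l → l ≤ j → Commute (a l) y) (hx : x ∈ I a i j) : Commute x y :=
  mem_centralizer_singleton_iff.mp
    (I_le (fun l h1 h2 => mem_centralizer_singleton_iff.mpr (h l h1 h2)) hx)

/-- A Tutte system for the subgroup `M`. -/
structure Sys (M : Subgroup G) (τ : G) (n : ℕ) (a : ℤ → G) : Prop where
  prim : ∀ X : Subgroup G, X ≠ ⊥ → X ≤ M → M ≤ normalizer (X : Set G) → normalizer (X : Set G) ≤ M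
  notMem : τ ∉ M
  pos : 0 < n
  shift : ∀ i, a (i + 1) = τ * a i * τ⁻¹
  card : ∀ (i : ℤ) (r : ℕ), r ≤ n → Nat.card (I a i (i + r - 1)) = 2 ^ r
  inf : ∀ i j : ℤ, i < j → j ≤ i + n → I a i (j - 1) ⊓ I a (i + 1) j = I a (i + 1) (j - 1)
  top : I a 0 n = M
  index : (I a 0 (n - 1)).relIndex M = 3
  core : coreIn M (I a 0 (n - 1)) = I a 1 (n - 1)

/-- The descending chain of stabilisers of arcs. -/
def W (T : Subgroup G) (τ : G) : ℕ → Subgroup G
  | 0 => T
  | j + 1 => W T τ j ⊓ τ⁻¹ •ᶜ W T τ j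

theorem exists_sys [Finite G] {M T : Subgroup G} {τ m : G}
    (prim : ∀ X : Subgroup G, X ≠ ⊥ → X ≤ M → M ≤ normalizer (X : Set G) →
      normalizer (X : Set G) ≤ M)
    (hτ : τ ∉ M) (hT : T ≤ M) (h3 : T.relIndex M = 3) (hm : m ∈ M) (hc : τ •ᶜ T = m •ᶜ T)
    (hne : τ •ᶜ T ≠ T) : ∃ n a, Sys M τ n a ∧ Nat.card T = 2 ^ n := by
  classical
  have hT' : τ •ᶜ T ≤ M := hc ▸ cj_le_of_mem hT hm
  have hnle : ¬ τ •ᶜ T ≤ T := fun h => hne (cj_eq_of_le h)
  have hnle' : ¬ T ≤ τ •ᶜ T := fun h => hne (cj_eq_of_ge h)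
  have hM : T ⊔ τ •ᶜ T = M := sup_eq_of_relIndex_prime hT hT' (h3 ▸ Nat.prime_three) hnle
  have hcle : coreIn M T ≤ T ⊓ τ •ᶜ T := le_inf (coreIn_le M T) (by
    rw [hc, ← cj_eq_of_mem_normalizer (le_normalizer_coreIn M T hm)]
    exact cj_mono _ (coreIn_le M T))
  have hS : (T ⊓ τ •ᶜ T).relIndex T = 2 ∧ coreIn M T = T ⊓ τ •ᶜ T := by
    have h1 := relIndex_coreIn_dvd' hT
    rw [h3, ← relIndex_mul_relIndex _ _ _ hcle inf_le_left] at h1
    have h2 : (T ⊓ τ •ᶜ T).relIndex T = 2 :=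
      (Nat.prime_two.eq_one_or_self_of_dvd _ (dvd_of_mul_left_dvd h1)).resolve_left fun h =>
        hnle' ((relIndex_eq_one.mp h).trans inf_le_right)
    rw [h2] at h1
    exact ⟨h2, le_antisymm hcle (relIndex_eq_one.mp
      (Nat.eq_one_of_dvd_one ((Nat.mul_dvd_mul_iff_right two_pos).mp h1)))⟩
  have hWle : ∀ j, W T τ (j + 1) ≤ W T τ j := fun j => inf_le_left
  have hWτ : ∀ j, τ •ᶜ W T τ (j + 1) = τ •ᶜ W T τ j ⊓ W T τ j := fun j => by
    rw [W, cj_inf, cj_inv_cj]
  have hW2 : ∀ j, (W T τ (j + 1)).relIndex (W T τ j) ≤ 2 := by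
    intro j
    induction j with
    | zero =>
      have h1 := card_mul_relIndex_of_le (hWle 0)
      have h2 := card_mul_relIndex_of_le (inf_le_left : T ⊓ τ •ᶜ T ≤ T)
      rw [← card_cj τ, hWτ, inf_comm] at h1
      rw [hS.1] at h2
      exact (Nat.eq_of_mul_eq_mul_left Nat.card_pos (h1.trans h2.symm)).le
    | succ j ih =>
      rw [W, inf_relIndex_left]
      refine (relIndex_le_of_le_right (inf_le_right : W T τ (j + 1) ≤ τ⁻¹ •ᶜ W T τ j)
        index_ne_zero_of_finite).trans ?_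
      rwa [relIndex_cj]
  have hex : ∃ j, W T τ (j + 1) = W T τ j := by
    obtain ⟨j, hj⟩ := WellFoundedLT.antitone_chain_condition (antitone_nat_of_succ_le hWle)
    exact ⟨j, (hj _ j.le_succ).symm⟩
  obtain ⟨n, hn, hlt⟩ : ∃ n, W T τ (n + 1) = W T τ n ∧ ∀ j < n, W T τ (j + 1) ≠ W T τ j :=
    ⟨Nat.find hex, Nat.find_spec hex, fun j hj => Nat.find_min hex hj⟩
  have hinv : ∀ j, W T τ (j + 1) = W T τ j ↔ τ •ᶜ W T τ j = W T τ j := by
    intro j
    rw [W, inf_eq_left, le_cj_iff, inv_inv]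
    exact ⟨cj_eq_of_le, le_of_eq⟩
  have hn0 : 0 < n := Nat.pos_of_ne_zero (by rintro rfl; exact hne ((hinv 0).mp hn))
  have hidx : ∀ j < n, (W T τ (j + 1)).relIndex (W T τ j) = 2 := by
    intro j hj
    have h1 := hW2 j
    have h2 : (W T τ (j + 1)).relIndex (W T τ j) ≠ 0 := index_ne_zero_of_finite
    have h4 : (W T τ (j + 1)).relIndex (W T τ j) ≠ 1 := fun h =>
      hlt j hj (le_antisymm (hWle j) (relIndex_eq_one.mp h))
    omega
  have hsup : ∀ j, j + 1 < n → W T τ (j + 1) ⊔ τ •ᶜ W T τ (j + 1) = W T τ j := fun j hj =>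
    sup_eq_of_relIndex_prime (hWle j) (hWτ j ▸ inf_le_right) (hidx j (by omega) ▸ Nat.prime_two)
      fun h => hlt _ hj ((hinv _).mpr (cj_eq_of_le h))
  have hbot : W T τ n = ⊥ := by
    by_contra hcon
    have h1 : τ ∈ normalizer (W T τ n : Set G) := mem_normalizer_iff_cj.mpr ((hinv n).mp hn)
    have h2 : ∀ r j, j + r + 1 = n → W T τ j ≤ normalizer (W T τ n : Set G) := by
      intro r
      induction r with
      | zero =>
        rintro j rfl
        exact le_normalizer_of_relIndex_two (hWle j) (hidx j (by omega))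
      | succ r ih =>
        intro j hj
        rw [← hsup j (by omega)]
        exact sup_le (ih _ (by omega)) (cj_le_of_mem (ih _ (by omega)) h1)
    have h4 : T ≤ normalizer (W T τ n : Set G) := h2 (n - 1) 0 (by omega)
    exact hτ (prim _ hcon ((antitone_nat_of_succ_le hWle n.zero_le).trans hT)
      (hM ▸ sup_le h4 (cj_le_of_mem h4 h1)) h1)
  have hcard : ∀ r j, j + r = n → Nat.card (W T τ j) = 2 ^ r := by
    intro r
    induction r with
    | zero => rintro j rfl; rw [show j + 0 = j from rfl] at hbot; rw [hbot, card_bot, pow_zero]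
    | succ r ih =>
      intro j hj
      rw [← card_mul_relIndex_of_le (hWle j), ih _ (by omega), hidx j (by omega), pow_succ]
  obtain ⟨x, hx⟩ : ∃ x : G, W T τ (n - 1) = zpowers x := by
    have : IsCyclic (W T τ (n - 1)) := isCyclic_of_prime_card (p := 2) (hcard 1 (n - 1) (by omega))
    obtain ⟨x, hx⟩ := (isCyclic_iff_exists_zpowers_eq_top).mp this
    refine ⟨x, ?_⟩
    have := MonoidHom.map_zpowers (W T τ (n - 1)).subtype x
    rwa [hx, ← MonoidHom.range_eq_map, range_subtype] at this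
  let a : ℤ → G := fun i => τ ^ i * x * (τ ^ i)⁻¹
  have hI : ∀ r j, j + r = n → ∀ i : ℤ, I a i (i + r - 1) = τ ^ i •ᶜ W T τ j := by
    intro r
    induction r using Nat.twoStepInduction with
    | zero =>
      rintro j rfl i
      rw [show j + 0 = j from rfl] at hbot
      rw [hbot, cj_bot, I_eq_bot a (by omega)]
    | one =>
      intro j hj i
      rw [show j = n - 1 by omega, hx, cj_zpowers, show i + (1 : ℕ) - 1 = i by omega, I_self]
    | more r _ ih =>
      intro j hj i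
      rw [← I_sup a (by omega), ← hsup j (by omega), cj_sup, ← cj_mul, ← zpow_add_one,
        ← ih _ (by omega), ← ih _ (by omega)]
      congr 2 <;> omega
  have hI0 : I a 0 (n - 1) = T := by
    have := hI n 0 (by omega) 0
    rwa [zpow_zero, cj_one, zero_add] at this
  have hI1 : I a 1 n = τ •ᶜ T := by
    have := hI n 0 (by omega) 1
    rwa [zpow_one, add_sub_cancel_left] at this
  have hinf : ∀ i j : ℤ, i < j → j ≤ i + n → I a i (j - 1) ⊓ I a (i + 1) j = I a (i + 1) (j - 1) := by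
    intro i j h1 h2
    obtain ⟨r, rfl⟩ : ∃ r : ℕ, j = i + r + 1 := ⟨(j - i - 1).toNat, by omega⟩
    have e1 := hI (r + 1) (n - r - 1) (by omega) i
    have e2 := hI (r + 1) (n - r - 1) (by omega) (i + 1)
    have e3 := hI r (n - r - 1 + 1) (by omega) (i + 1)
    rw [W, cj_inf, ← cj_mul, ← zpow_sub_one, add_sub_cancel_right, ← e1, ← e2, inf_comm] at e3
    rw [show i + r + 1 - 1 = i + (r + 1 : ℕ) - 1 by omega,
      show i + r + 1 = i + 1 + (r + 1 : ℕ) - 1 by omega, ← e3]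
    congr 1
    omega
  refine ⟨n, a, ⟨prim, hτ, hn0, fun i => ?_, fun i r hr => ?_, hinf, ?_, hI0 ▸ h3, ?_⟩,
    hcard n 0 (by omega)⟩
  · simp only [a, add_comm i, zpow_one_add]
    group
  · rw [hI r (n - r) (by omega), card_cj, hcard r _ (by omega)]
  · rw [← I_sup a (by omega), zero_add, hI0, hI1, hM]
  · have := hinf 0 n (by omega) (by omega)
    rw [zero_add, hI0, hI1] at this
    rw [hI0, hS.2, this]

end CL.Sims
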