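import Mathlib
import Cfsg.Agent.SOLV.PGroupCyclicSCN
import Cfsg.Agent.PLOC.PNormal
import Cfsg.Agent.FGS.HHClifford

/-!
`p`-groups acting faithfully on finite vector spaces: normal subgroups of type `(p, p)` and the
induced decomposition, stabilisers of vectors.
-/

namespace CL.HT

open Subgroup

variable {G : Type*} [Group G]

/-- generators of a normal subgroup of type `(p, p)` -/
structure AZ (p : ℕ) (a z : G) : Prop where
  zc : z ∈ center G
  zo : orderOf z = p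
  ao : a ^ p = 1
  anz : a ∉ zpowers z
  conj : ∀ g, a⁻¹ * (g * a * g⁻¹) ∈ zpowers z

theorem exists_az [Finite G] {p : ℕ} [hp : Fact p.Prime] (hG : IsPGroup p G) (E : Subgroup G)
    [E.Normal] (hE : Cfsg.IsElementaryAbelian p E) (hc : Nat.card E = p ^ 2) :
    ∃ a z : G, AZ p a z := by
  have hlt : p < p ^ 2 := by have := hp.out.one_lt; nlinarith
  have hE0 : E ≠ ⊥ := by
    rintro rfl
    rw [card_bot] at hc
    have := hp.out.one_lt
    omega
  obtain ⟨z, hzE, hzc, hzo⟩ := CL.PN.exists_mem_center_orderOf_eq hG E hE0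
  have hle : zpowers z ≤ E := zpowers_le.mpr hzE
  obtain ⟨a, haE, ha⟩ : ∃ a ∈ E, a ∉ zpowers z := by
    by_contra h
    push Not at h
    have := card_le_of_le (show E ≤ zpowers z from h)
    rw [hc, Nat.card_zpowers, hzo] at this
    omega
  haveI : (zpowers z).Normal := ⟨fun n hn g => by
    rwa [mem_center_iff.mp (zpowers_le.mpr hzc hn) g, mul_inv_cancel_right]⟩
  refine ⟨a, z, hzc, hzo, hE.2 a haE, ha, fun g => ?_⟩
  let π := QuotientGroup.mk' (zpowers z)
  haveI : (E.map π).Normal := Normal.map inferInstance π (QuotientGroup.mk'_surjective _)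
  have h1 : Nat.card (E.map π) = p := by
    have h2 : (zpowers z).relIndex E = Nat.card (E.map π) := by
      rw [← relIndex_ker, QuotientGroup.ker_mk']
    have h3 := (zpowers z).subgroupOf E |>.card_mul_index
    rw [Nat.card_congr (subgroupOfEquivOfLe hle).toEquiv, Nat.card_zpowers, hzo, hc, pow_two] at h3
    rw [← h2]
    exact Nat.eq_of_mul_eq_mul_left hp.out.pos h3
  have h4 := CL.PN.le_center_of_card_eq_prime (hG.to_quotient _) (E.map π) h1 (mem_map_of_mem π haE)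
  rw [← QuotientGroup.eq_one_iff]
  change π _ = 1
  rw [map_mul, map_mul, map_mul, map_inv, map_inv, mem_center_iff.mp h4 (π g)]
  group

namespace AZ

variable {p : ℕ} {a z : G}

theorem comm (h : AZ p a z) (g : G) (i : ℕ) : g * z ^ i = z ^ i * g :=
  mem_center_iff.mp (pow_mem h.zc i) g

theorem zp (h : AZ p a z) : z ^ p = 1 := h.zo ▸ pow_orderOf_eq_one z

theorem exists_conj [Finite G] (h : AZ p a z) (g : G) : ∃ c : ℕ, g * a * g⁻¹ = a * z ^ c := by
  obtain ⟨c, hc⟩ := (mem_powers_iff_mem_zpowers.mpr (h.conj g))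
  exact ⟨c, by simp only at hc; rw [hc]; group⟩

theorem conj_mul (h : AZ p a z) {g : G} {c : ℕ} (hc : g * a * g⁻¹ = a * z ^ c) (i : ℕ) :
    g * (a * z ^ i) = a * z ^ (i + c) * g := by
  rw [add_comm, pow_add, ← mul_assoc a, ← hc, mul_assoc (g * a * g⁻¹), ← h.comm g i]
  group

theorem mul_pow (h : AZ p a z) (i k : ℕ) : (a * z ^ i) ^ k = a ^ k * (z ^ i) ^ k :=
  Commute.mul_pow (h.comm a i) k

theorem shift (h : AZ p a z) (i : ℕ) : AZ p (a * z ^ i) z where
  zc := h.zc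
  zo := h.zo
  ao := by rw [h.mul_pow, h.ao, ← pow_mul, mul_comm i p, pow_mul, h.zp, one_pow, one_mul]
  anz := fun h1 => h.anz (by
    have := mul_mem h1 (inv_mem (pow_mem (mem_zpowers z) i))
    rwa [mul_inv_cancel_right] at this)
  conj := fun g => by
    have : (a * z ^ i)⁻¹ * (g * (a * z ^ i) * g⁻¹) =
        (z ^ i)⁻¹ * (a⁻¹ * (g * a * g⁻¹)) * z ^ i := by
      rw [← mul_assoc g a, mul_assoc (g * a), ← h.comm g⁻¹ i]; group
    rw [this]
    exact mul_mem (mul_mem (inv_mem (pow_mem (mem_zpowers z) i)) (h.conj g))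
      (pow_mem (mem_zpowers z) i)

theorem ne_one (h : AZ p a z) (i : ℕ) : a * z ^ i ≠ 1 := fun h1 =>
  (h.shift i).anz (h1 ▸ one_mem _)

theorem index_eq [Finite G] [hp : Fact p.Prime] (h : AZ p a z) (ha : a ∉ center G) :
    (centralizer ({a} : Set G)).index = p := by
  have hc : ∀ g x, x * (a⁻¹ * (g * a * g⁻¹)) = (a⁻¹ * (g * a * g⁻¹)) * x := fun g x =>
    mem_center_iff.mp (zpowers_le.mpr h.zc (h.conj g)) x
  let φ : G →* G := MonoidHom.mk' (fun g => a⁻¹ * (g * a * g⁻¹)) (fun g k => by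
    calc a⁻¹ * (g * k * a * (g * k)⁻¹) = a⁻¹ * g * a * ((a⁻¹ * (k * a * k⁻¹)) * g⁻¹) := by group
      _ = _ := by rw [← hc k g⁻¹]; group)
  have hk : φ.ker = centralizer {a} := by
    ext g
    rw [MonoidHom.mem_ker, mem_centralizer_singleton_iff]
    change a⁻¹ * (g * a * g⁻¹) = 1 ↔ _
    rw [inv_mul_eq_one, eq_mul_inv_iff_mul_eq, eq_comm]
  have h1 : Nat.card φ.range ∣ p := by
    rw [← h.zo, ← Nat.card_zpowers]
    exact card_dvd_of_le (by rintro _ ⟨g, rfl⟩; exact h.conj g)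
  rw [← hk, index_ker]
  refine ((Nat.dvd_prime hp.out).mp h1).resolve_left fun h2 => ha ?_
  rw [← index_ker, hk, index_eq_one] at h2
  exact mem_center_iff.mpr fun g => mem_centralizer_singleton_iff.mp (h2 ▸ mem_top g)

end AZ

variable {q : ℕ} [Fact q.Prime] {V : Type*} [AddCommGroup V] [Module (ZMod q) V]
  (ρ : G →* (V ≃ₗ[ZMod q] V))

/-- fixed space of an element -/
def fix (g : G) : Submodule (ZMod q) V := LinearMap.ker ((ρ g : V →ₗ[ZMod q] V) - LinearMap.id)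

/-- stabiliser of a vector -/
def stab (v : V) : Subgroup G where
  carrier := {g | ρ g v = v}
  one_mem' := by simp
  mul_mem' := fun {a b} ha hb => by
    simp only [Set.mem_setOf_eq] at *
    rw [map_mul, LinearEquiv.mul_apply, hb, ha]
  inv_mem' := fun {a} ha => by
    simp only [Set.mem_setOf_eq] at *
    nth_rewrite 1 [← ha]
    rw [← LinearEquiv.mul_apply, ← map_mul, inv_mul_cancel, map_one]; rfl

/-- irreducibility -/
def Irr : Prop := ∀ W : Submodule (ZMod q) V, (∀ g : G, ∀ w ∈ W, ρ g w ∈ W) → W = ⊥ ∨ W = ⊤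

variable {ρ}

theorem mem_fix {g : G} {v : V} : v ∈ fix ρ g ↔ ρ g v = v := by simp [fix, sub_eq_zero]

theorem mem_stab {g : G} {v : V} : g ∈ stab ρ v ↔ ρ g v = v := Iff.rfl

theorem rho_mul (g h : G) (v : V) : ρ (g * h) v = ρ g (ρ h v) := by
  rw [map_mul, LinearEquiv.mul_apply]

theorem rho_one (v : V) : ρ 1 v = v := by rw [map_one]; rfl

theorem rho_inv (g : G) (v : V) : ρ g⁻¹ (ρ g v) = v := by
  rw [← rho_mul, inv_mul_cancel, rho_one]

theorem rho_inv' (g : G) (v : V) : ρ g (ρ g⁻¹ v) = v := by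
  rw [← rho_mul, mul_inv_cancel, rho_one]

theorem rho_ne_zero (g : G) {v : V} (hv : v ≠ 0) : ρ g v ≠ 0 := by simpa using hv

theorem card_orbit_mul (H : Subgroup G) (v : V) :
    Nat.card {u : V | ∃ g ∈ H, ρ g v = u} * Nat.card (stab ρ v ⊓ H : Subgroup G) = Nat.card H := by
  letI : MulAction H V := MulAction.compHom V (ρ.comp H.subtype)
  have h1 : MulAction.orbit H v = {u : V | ∃ g ∈ H, ρ g v = u} := by
    ext u
    exact ⟨fun ⟨g, hg⟩ => ⟨g, g.2, hg⟩, fun ⟨g, hg, h⟩ => ⟨⟨g, hg⟩, h⟩⟩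
  have h2 : MulAction.stabilizer H v = (stab ρ v).subgroupOf H := by ext; rfl
  rw [← h1, Nat.card_congr (MulAction.orbitEquivQuotientStabilizer H v), h2,
    ← inf_subgroupOf_right,
    ← Nat.card_congr (subgroupOfEquivOfLe (inf_le_right : stab ρ v ⊓ H ≤ H)).toEquiv]
  exact (card_eq_card_quotient_mul_card_subgroup _).symm

theorem card_orbit_mul_top (v : V) :
    Nat.card {u : V | ∃ g, ρ g v = u} * Nat.card (stab ρ v) = Nat.card G := by
  have := card_orbit_mul (ρ := ρ) ⊤ v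
  simpa using this

theorem exists_fixed [Finite V] [Nontrivial V] (hG : IsPGroup q G) :
    ∃ v : V, v ≠ 0 ∧ ∀ g, ρ g v = v := by
  letI : MulAction G V := MulAction.compHom V ρ
  have hq : q ∣ Nat.card V := by
    rw [Module.natCard_eq_pow_finrank (K := ZMod q), Nat.card_zmod]
    exact dvd_pow_self q Module.finrank_pos.ne'
  obtain ⟨v, hv, h0⟩ := hG.exists_fixed_point_of_prime_dvd_card_of_fixed_point V hq
    (a := 0) (fun g => map_zero (ρ g))
  exact ⟨v, h0.symm, hv⟩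

theorem fpf_of_central (hρ : Function.Injective ρ) (hirr : Irr ρ) {z : G} (hz : z ∈ center G)
    (hz1 : z ≠ 1) (v : V) (hv : ρ z v = v) : v = 0 := by
  rcases hirr (fix ρ z) (fun g w hw => by
    rw [mem_fix] at hw ⊢
    rw [← rho_mul, ← mem_center_iff.mp hz g, rho_mul, hw]) with h | h
  · exact (Submodule.mem_bot _).mp (h ▸ mem_fix.mpr hv)
  · exact absurd (hρ (by ext w; rw [mem_fix.mp (h ▸ Submodule.mem_top : w ∈ fix ρ z), rho_one])) hz1

theorem cast_ne_zero [Finite V] [Nontrivial V] {p : ℕ} [hp : Fact p.Prime] {z : G}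
    (hz : orderOf z = p) (hf : ∀ v, ρ z v = v → v = 0) : (p : ZMod q) ≠ 0 := by
  intro h
  rw [ZMod.natCast_eq_zero_iff, Nat.prime_dvd_prime_iff_eq Fact.out hp.out] at h
  subst h
  obtain ⟨v, hv, h1⟩ := exists_fixed (ρ := ρ.comp (zpowers z).subtype)
    (IsPGroup.of_card (n := 1) (by rw [Nat.card_zpowers, hz, pow_one]))
  exact hv (hf v (h1 ⟨z, mem_zpowers z⟩))

theorem sum_eq_zero {x : G} {n : ℕ} (hx : x ^ n = 1) (hf : ∀ v, ρ x v = v → v = 0) (w : V) :
    ∑ k ∈ Finset.range n, ρ (x ^ k) w = 0 := by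
  apply hf
  rw [map_sum]
  simp only [← rho_mul, ← pow_succ']
  have h1 := Finset.sum_range_succ (fun k => ρ (x ^ k) w) n
  have h2 := Finset.sum_range_succ' (fun k => ρ (x ^ k) w) n
  rw [h1, hx, pow_zero] at h2
  exact (add_right_cancel h2).symm

/-- norm operator -/
def nm (ρ : G →* (V ≃ₗ[ZMod q] V)) (x : G) (n : ℕ) : V →ₗ[ZMod q] V :=
  ∑ k ∈ Finset.range n, (ρ (x ^ k) : V →ₗ[ZMod q] V)

theorem nm_apply (x : G) (n : ℕ) (v : V) : nm ρ x n v = ∑ k ∈ Finset.range n, ρ (x ^ k) v := by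
  simp [nm]

theorem rho_pow_of_fix {x : G} {v : V} (hv : ρ x v = v) (k : ℕ) : ρ (x ^ k) v = v :=
  pow_mem (mem_stab.mpr hv) k

theorem nm_of_fix {x : G} {v : V} (hv : v ∈ fix ρ x) (n : ℕ) : nm ρ x n v = (n : ZMod q) • v := by
  rw [nm_apply, Finset.sum_congr rfl (fun k _ => rho_pow_of_fix (mem_fix.mp hv) k)]
  simp [Nat.cast_smul_eq_nsmul]

theorem nm_mem {x : G} {n : ℕ} (hx : x ^ n = 1) (v : V) : nm ρ x n v ∈ fix ρ x := by
  rw [mem_fix, nm_apply, map_sum]
  simp only [← rho_mul, ← pow_succ']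
  have h1 := Finset.sum_range_succ (fun k => ρ (x ^ k) v) n
  have h2 := Finset.sum_range_succ' (fun k => ρ (x ^ k) v) n
  rw [h1, hx, pow_zero] at h2
  exact (add_right_cancel h2).symm

namespace AZ

variable {p : ℕ} {a z : G}

theorem map_mem (h : AZ p a z) {g : G} {c : ℕ} (hc : g * a * g⁻¹ = a * z ^ c) {i : ℕ} {v : V}
    (hv : v ∈ fix ρ (a * z ^ i)) : ρ g v ∈ fix ρ (a * z ^ (i + c)) := by
  rw [mem_fix] at hv ⊢
  rw [← rho_mul, ← h.conj_mul hc, rho_mul, hv]

theorem nm_eq_zero (h : AZ p a z) (hρ : Function.Injective ρ) (hirr : Irr ρ) {i j : ℕ}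
    (hij : z ^ i ≠ z ^ j) {v : V} (hv : v ∈ fix ρ (a * z ^ j)) : nm ρ (a * z ^ i) p v = 0 := by
  let y := z ^ i * (z ^ j)⁻¹
  have hy : y ∈ center G := mul_mem (pow_mem h.zc i) (inv_mem (pow_mem h.zc j))
  have hc : Commute (z ^ i) (z ^ j)⁻¹ := ((Commute.refl z).pow_pow i j).inv_right
  have hyp : y ^ p = 1 := by
    rw [hc.mul_pow, inv_pow, ← pow_mul, ← pow_mul, mul_comm i, mul_comm j, pow_mul, pow_mul, h.zp]
    simp
  have he : a * z ^ i = y * (a * z ^ j) := by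
    rw [← mem_center_iff.mp hy, mul_assoc a, ← mul_assoc (z ^ j), h.comm (z ^ j) i,
      mul_inv_cancel_right]
  rw [nm_apply, ← sum_eq_zero hyp (fpf_of_central hρ hirr hy (fun h1 => hij (mul_inv_eq_one.mp h1))) v]
  refine Finset.sum_congr rfl fun k _ => ?_
  rw [he, Commute.mul_pow (mem_center_iff.mp hy _).symm, rho_mul, rho_pow_of_fix (mem_fix.mp hv)]

theorem fpf [hp : Fact p.Prime] (h : AZ p a z) (hρ : Function.Injective ρ) (hirr : Irr ρ) :
    ∀ v, ρ z v = v → v = 0 :=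
  fpf_of_central hρ hirr h.zc (fun h1 => hp.out.one_lt.ne (by rw [← h.zo, h1, orderOf_one]))

theorem cast_ne [Finite V] [Nontrivial V] [Fact p.Prime] (h : AZ p a z)
    (hρ : Function.Injective ρ) (hirr : Irr ρ) : (p : ZMod q) ≠ 0 :=
  cast_ne_zero h.zo (h.fpf hρ hirr)

theorem eq_zero [Finite V] [Nontrivial V] [Fact p.Prime] (h : AZ p a z)
    (hρ : Function.Injective ρ) (hirr : Irr ρ) {i j : ℕ} (hij : z ^ i ≠ z ^ j) {v : V}
    (hi : v ∈ fix ρ (a * z ^ i)) (hj : v ∈ fix ρ (a * z ^ j)) : v = 0 := by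
  have := h.nm_eq_zero hρ hirr hij hj
  rw [nm_of_fix hi, smul_eq_zero] at this
  exact this.resolve_left (h.cast_ne hρ hirr)

theorem sum_nm [hp : Fact p.Prime] (h : AZ p a z) (hρ : Function.Injective ρ) (hirr : Irr ρ)
    (v : V) : ∑ i ∈ Finset.range p, nm ρ (a * z ^ i) p v = (p : ZMod q) • v := by
  simp only [nm_apply]
  rw [Finset.sum_comm, Finset.sum_eq_single_of_mem 0 (Finset.mem_range.mpr hp.out.pos)]
  · simp [Nat.cast_smul_eq_nsmul]
  · intro k hk hk0
    have h1 : z ^ k ≠ 1 := pow_ne_one_of_lt_orderOf hk0 (h.zo ▸ Finset.mem_range.mp hk)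
    have h2 : (z ^ k) ^ p = 1 := by rw [← pow_mul, mul_comm, pow_mul, h.zp, one_pow]
    have h3 := sum_eq_zero h2 (fpf_of_central hρ hirr (pow_mem h.zc k) h1) v
    have h4 := congrArg (ρ (a ^ k)) h3
    rw [map_sum, map_zero] at h4
    rw [← h4]
    refine Finset.sum_congr rfl fun i _ => ?_
    rw [h.mul_pow, rho_mul, ← pow_mul, ← pow_mul, mul_comm]

theorem iSup_eq_top [Finite V] [Nontrivial V] [Fact p.Prime] (h : AZ p a z)
    (hρ : Function.Injective ρ) (hirr : Irr ρ) : ⨆ i : Fin p, fix ρ (a * z ^ (i : ℕ)) = ⊤ := by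
  rw [eq_top_iff]
  intro v _
  rw [← Submodule.smul_mem_iff _ (h.cast_ne hρ hirr), ← h.sum_nm hρ hirr]
  refine Submodule.sum_mem _ fun i hi => ?_
  exact Submodule.mem_iSup_of_mem (⟨i, Finset.mem_range.mp hi⟩ : Fin p) (nm_mem (h.shift i).ao v)

theorem pow_ne (h : AZ p a z) {i j : Fin p} (hij : i ≠ j) : z ^ (i : ℕ) ≠ z ^ (j : ℕ) := fun h1 =>
  hij (Fin.ext (pow_injOn_Iio_orderOf (h.zo ▸ i.2) (h.zo ▸ j.2) h1))

theorem iSupIndep [Finite V] [Nontrivial V] [Fact p.Prime] (h : AZ p a z)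
    (hρ : Function.Injective ρ) (hirr : Irr ρ) :
    iSupIndep fun i : Fin p => fix ρ (a * z ^ (i : ℕ)) := by
  intro i
  rw [Submodule.disjoint_def]
  intro v hv hv'
  have h1 : (⨆ j, ⨆ (_ : j ≠ i), fix ρ (a * z ^ ((j : Fin p) : ℕ))) ≤
      LinearMap.ker (nm ρ (a * z ^ (i : ℕ)) p) :=
    iSup_le fun j => iSup_le fun hj w hw => h.nm_eq_zero hρ hirr (h.pow_ne hj.symm) hw
  have h2 := LinearMap.mem_ker.mp (h1 hv')
  rw [nm_of_fix hv, smul_eq_zero] at h2
  exact h2.resolve_left (h.cast_ne hρ hirr)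

theorem exists_fix [Finite V] [Nontrivial V] [Fact p.Prime] (h : AZ p a z)
    (hρ : Function.Injective ρ) (hirr : Irr ρ) : ∃ i : ℕ, ∃ v, v ≠ 0 ∧ v ∈ fix ρ (a * z ^ i) := by
  by_contra h1
  push Not at h1
  have h2 := h.iSup_eq_top hρ hirr
  rw [iSup_eq_bot.mpr (fun i => eq_bot_iff.mpr fun v hv => by
    by_contra h0; exact h1 i v h0 hv)] at h2
  exact bot_ne_top h2

theorem not_mem_center [Finite V] [Nontrivial V] [Fact p.Prime] (h : AZ p a z)
    (hρ : Function.Injective ρ) (hirr : Irr ρ) : a ∉ center G := by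
  intro ha
  obtain ⟨i, v, hv, h1⟩ := h.exists_fix hρ hirr
  exact hv (fpf_of_central hρ hirr (mul_mem ha (pow_mem h.zc i)) (h.ne_one i) v (mem_fix.mp h1))

end AZ

end CL.HT
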