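import Mathlib
import Cfsg.Agent.PERM.HalfTrans
import Cfsg.Agent.PERM.FCStruct
import Cfsg.Agent.PLOC.DQS
import Cfsg.Agent.S3381

/-!
Half-transitive linear `p`-groups (Passman).
-/

namespace CL.HT

open Subgroup

/-- `q ^ r = 2 ^ k + 1` -/
theorem pow_eq_two_pow_add_one {q r k : ℕ} (hq : q.Prime) (hq2 : q ≠ 2) (hr : 0 < r)
    (h : q ^ r = 2 ^ k + 1) : r = 1 ∨ (q = 3 ∧ r = 2) := by
  have hq3 : 3 ≤ q := by have := hq.two_le; omega
  rcases Nat.even_or_odd' r with ⟨s, rfl | rfl⟩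
  · right
    have hs : 0 < s := by omega
    have h1 : q ≤ q ^ s := Nat.le_self_pow hs.ne' q
    obtain ⟨t, ht⟩ : ∃ t, q ^ s = t + 1 := ⟨q ^ s - 1, by omega⟩
    have h2 : t * (t + 2) = 2 ^ k := by
      rw [mul_comm 2 s, pow_mul, ht] at h; nlinarith
    obtain ⟨i, -, hi⟩ := (Nat.dvd_prime_pow Nat.prime_two).mp (Dvd.intro _ h2)
    obtain ⟨j, -, hj⟩ := (Nat.dvd_prime_pow Nat.prime_two).mp (Dvd.intro_left _ h2)
    have ht2 : t = 2 := by
      rcases i with _ | _ | i
      · simp at hi; omega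
      · simpa using hi
      · rcases j with _ | _ | j
        · simp at hj
        · simp at hj; omega
        · rw [pow_add, pow_add] at hi hj; omega
    have h3 : q = 3 := by omega
    subst h3
    refine ⟨rfl, ?_⟩
    have : 3 ^ s = 3 ^ 1 := by omega
    rw [Nat.pow_right_injective (by norm_num) this]
  · left
    by_contra hs
    have hs : 0 < s := by omega
    have hodd : Odd q := hq.odd_of_ne_two hq2
    have h1 := Nat.geomSum_eq (by omega : 2 ≤ q) (2 * s + 1)
    have h2 : (∑ i ∈ Finset.range (2 * s + 1), q ^ i) * (q - 1) = 2 ^ k := by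
      rw [h1, Nat.div_mul_cancel (Nat.sub_one_dvd_pow_sub_one q _), h, Nat.add_sub_cancel]
    obtain ⟨i, -, hi⟩ := (Nat.dvd_prime_pow Nat.prime_two).mp (Dvd.intro _ h2)
    have h3 : Odd (∑ i ∈ Finset.range (2 * s + 1), q ^ i) := by
      rw [Finset.odd_sum_iff_odd_card_odd, Finset.filter_true_of_mem (fun i _ => hodd.pow),
        Finset.card_range]
      exact odd_two_mul_add_one s
    have h4 : 1 < ∑ i ∈ Finset.range (2 * s + 1), q ^ i := by
      rw [Finset.sum_range_succ', pow_zero]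
      have : 0 < ∑ i ∈ Finset.range (2 * s), q ^ (i + 1) :=
        Finset.sum_pos (fun i _ => by positivity) (by simp; omega)
      omega
    rcases i with _ | i
    · omega
    · rw [hi, pow_succ] at h3
      exact absurd h3 (by simp)

/-- `q ^ r + 1 = 2 ^ k` with `k ≥ 2` -/
theorem pow_add_one_eq_two_pow {q r k : ℕ} (hq : 1 < q) (hk : 2 ≤ k) (h : q ^ r + 1 = 2 ^ k) :
    r = 1 := by
  obtain ⟨k, rfl⟩ : ∃ j, k = j + 2 := ⟨k - 2, by omega⟩
  rcases Nat.even_or_odd' r with ⟨s, rfl | rfl⟩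
  · exfalso
    rw [mul_comm 2 s, pow_mul, pow_add] at h
    have h1 : (q ^ s) ^ 2 % 4 = 0 ∨ (q ^ s) ^ 2 % 4 = 1 := by
      rw [Nat.pow_mod]
      have : q ^ s % 4 < 4 := Nat.mod_lt _ (by norm_num)
      interval_cases (q ^ s % 4) <;> simp
    omega
  · by_contra hs
    have hs : 0 < s := by omega
    have hodd : Odd q := by
      by_contra h1
      have h2 : Even (q ^ (2 * s + 1)) := (Nat.not_odd_iff_even.mp h1).pow_of_ne_zero (by omega)
      have h3 : Even (2 ^ (k + 2)) := (even_two).pow_of_ne_zero (by omega)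
      rw [← h] at h3
      exact (Nat.even_add_one.mp h3) h2
    have h3 : (∑ i ∈ Finset.range (2 * s + 1), (-(q : ℤ)) ^ i) * (-(q : ℤ) - 1) =
        (-(q : ℤ)) ^ (2 * s + 1) - 1 := geom_sum_mul _ _
    set T := ∑ i ∈ Finset.range (2 * s + 1), (-(q : ℤ)) ^ i with hT
    have h4 : T * (q + 1) = 2 ^ (k + 2) := by
      rw [(odd_two_mul_add_one s).neg_pow] at h3
      have h5 : (q : ℤ) ^ (2 * s + 1) + 1 = 2 ^ (k + 2) := by exact_mod_cast h
      linear_combination h5 - h3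
    have h5 : Odd T := by
      have h6 : ∀ n : ℕ, Odd (∑ i ∈ Finset.range (2 * n + 1), (-(q : ℤ)) ^ i) := by
        have ho : ∀ i, Odd ((-(q : ℤ)) ^ i) := fun i => (Odd.neg (by exact_mod_cast hodd)).pow
        intro n
        induction n with
        | zero => simp
        | succ n ih =>
          rw [show 2 * (n + 1) + 1 = 2 * n + 1 + 1 + 1 by ring, Finset.sum_range_succ,
            Finset.sum_range_succ, add_assoc]
          exact ih.add_even ((ho _).add_odd (ho _))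
      exact h6 s
    have h6 : T.natAbs ∣ 2 ^ (k + 2) := by
      have := Int.natAbs_dvd_natAbs.mpr (Dvd.intro _ h4)
      simpa using this
    obtain ⟨i, -, hi⟩ := (Nat.dvd_prime_pow Nat.prime_two).mp h6
    have h7 : T.natAbs = 1 := by
      rcases i with _ | i
      · simpa using hi
      · have := Int.natAbs_odd.mpr h5
        rw [hi, pow_succ] at this
        exact absurd this (by simp)
    have h8 : q + 1 = 2 ^ (k + 2) := by
      have := congrArg Int.natAbs h4
      rw [Int.natAbs_mul, h7, one_mul] at this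
      exact_mod_cast (by simpa using this : ((q : ℤ) + 1).natAbs = 2 ^ (k + 2))
    have h9 : q ^ (2 * s + 1) = q ^ 1 := by rw [pow_one]; omega
    have := Nat.pow_right_injective hq h9
    omega

variable {G : Type*} [Group G] {q : ℕ} [Fact q.Prime] {V : Type*} [AddCommGroup V]
  [Module (ZMod q) V] {ρ : G →* (V ≃ₗ[ZMod q] V)}

/-- all stabilisers of non-zero vectors have the same order -/
def Half (ρ : G →* (V ≃ₗ[ZMod q] V)) : Prop :=
  ∀ v w : V, v ≠ 0 → w ≠ 0 → Nat.card (stab ρ v) = Nat.card (stab ρ w)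

/-- semiregular on non-zero vectors -/
def Semi (ρ : G →* (V ≃ₗ[ZMod q] V)) : Prop := ∀ v : V, v ≠ 0 → ∀ g : G, ρ g v = v → g = 1

theorem half_of [Finite G] (h : ∀ v w : V, v ≠ 0 → w ≠ 0 →
    Nat.card {u : V | ∃ g : G, ρ g v = u} = Nat.card {u : V | ∃ g : G, ρ g w = u}) : Half ρ := by
  intro v w hv hw
  have h1 := card_orbit_mul_top (ρ := ρ) v
  have h2 := card_orbit_mul_top (ρ := ρ) w
  have h3 : 0 < Nat.card G := Nat.card_pos
  rw [← h v w hv hw, ← h1] at h2
  exact (Nat.eq_of_mul_eq_mul_left (Nat.pos_of_mul_pos_right (h1 ▸ h3)) h2).symm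

theorem Half.eq_of_le [Finite G] (h : Half ρ) {v w : V} (hv : v ≠ 0) (hw : w ≠ 0)
    (hle : stab ρ v ≤ stab ρ w) : stab ρ v = stab ρ w :=
  eq_of_le_of_card_ge hle (h w v hw hv).le

theorem isFPF_of_semi [Finite G] [Finite V] [Nontrivial V] (h : Semi ρ) : CL.FC.IsFPF G := by
  let φ : G →* MulAut (Multiplicative V) :=
    { toFun := fun g => AddEquiv.toMultiplicative (ρ g).toAddEquiv
      map_one' := by ext v; simp
      map_mul' := fun a b => by ext v; simp }
  refine CL.FC.isFPF_of_fpf_aut φ fun g hg k hk => ?_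
  by_contra h0
  exact hg (h k.toAdd h0 g hk)

theorem Half.irr [Finite G] (h : Half ρ) (hρ : Function.Injective ρ)
    (hc : (Nat.card G : ZMod q) ≠ 0) (hs : ¬ Semi ρ) : Irr ρ := by
  intro W hW
  by_contra hne
  push Not at hne
  let ρ' : Representation (ZMod q) G V := LinearEquiv.automorphismGroup.toLinearMapMonoidHom.comp ρ
  obtain ⟨π, h1, h2, h3⟩ := CL.HH.exists_proj (ρ := ρ') (Q := ⊤) (U := W) (by simpa using hc)
    (fun g _ v hv => hW g v hv)
  have h1' : ∀ g v, π (ρ g v) = ρ g (π v) := fun g v => h1 g trivial v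
  have key : ∀ v w : V, v ≠ 0 → w ≠ 0 → π v = v → π w = 0 → stab ρ v = stab ρ w := by
    intro v w hv hw e1 e2
    have h0 : v + w ≠ 0 := fun h0 => hv (by
      have := congrArg π h0
      rwa [map_add, e1, e2, add_zero, map_zero] at this)
    have h4 : stab ρ (v + w) ≤ stab ρ v := fun g hg => by
      have := congrArg π (mem_stab.mp hg)
      rwa [h1', map_add π, e1, e2, add_zero] at this
    have h5 : stab ρ (v + w) ≤ stab ρ w := fun g hg => by
      have := mem_stab.mp hg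
      rwa [map_add, mem_stab.mp (h4 hg), add_right_inj] at this
    rw [← h.eq_of_le h0 hv h4, h.eq_of_le h0 hw h5]
  obtain ⟨v0, hv0W, hv0⟩ := (Submodule.ne_bot_iff W).mp hne.1
  obtain ⟨u, hu⟩ : ∃ u, u ∉ W := by
    by_contra h4
    push Not at h4
    exact hne.2 (eq_top_iff.mpr fun v _ => h4 v)
  have hππ : ∀ v, π (v - π v) = 0 := fun v => by rw [map_sub, h3 _ (h2 v), sub_self]
  have hw0 : u - π u ≠ 0 := fun h4 => hu (sub_eq_zero.mp h4 ▸ h2 u)
  have h6 : stab ρ v0 = ⊥ := by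
    rw [eq_bot_iff]
    intro g hg
    refine hρ ?_
    ext v
    rw [rho_one]
    have e1 : ρ g (π v) = π v := by
      by_cases h0 : π v = 0
      · rw [h0, map_zero]
      · rw [← mem_stab, key _ _ h0 hw0 (h3 _ (h2 v)) (hππ u), ← key _ _ hv0 hw0 (h3 _ hv0W) (hππ u)]
        exact hg
    have e2 : ρ g (v - π v) = v - π v := by
      by_cases h0 : v - π v = 0
      · rw [h0, map_zero]
      · rw [← mem_stab, ← key _ _ hv0 h0 (h3 _ hv0W) (hππ v)]
        exact hg
    rwa [map_sub, e1, sub_left_inj] at e2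
  refine hs fun v hv g hg => ?_
  have h7 := h v v0 hv hv0
  rw [h6, card_bot, card_eq_one] at h7
  exact (h7 ▸ mem_stab.mpr hg : g ∈ (⊥ : Subgroup G))

theorem Half.exists_stab [Finite G] (h : Half ρ) (hs : ¬ Semi ρ) {v : V} (hv : v ≠ 0) :
    ∃ g : G, g ≠ 1 ∧ ρ g v = v := by
  by_contra h1
  push Not at h1
  refine hs fun w hw g hg => ?_
  have h2 : stab ρ v = ⊥ := eq_bot_iff.mpr fun x hx => by by_contra h0; exact h1 x h0 hx
  have h7 := h w v hw hv
  rw [h2, card_bot, card_eq_one] at h7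
  exact (h7 ▸ mem_stab.mpr hg : g ∈ (⊥ : Subgroup G))

theorem Half.eq_two [Finite G] [Finite V] [Nontrivial V] {p : ℕ} [hp : Fact p.Prime] (h : Half ρ)
    (hρ : Function.Injective ρ) (hirr : Irr ρ) {a z : G} (haz : AZ p a z) : p = 2 := by
  obtain ⟨i, v, hv, hvi⟩ := haz.exists_fix hρ hirr
  have hb := haz.shift i
  generalize a * z ^ i = b at hvi hb
  have hbc := hb.not_mem_center hρ hirr
  have hne := hb.cast_ne hρ hirr
  obtain ⟨g, hg⟩ : ∃ g, g * b ≠ b * g := by
    by_contra h1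
    push Not at h1
    exact hbc (mem_center_iff.mpr h1)
  obtain ⟨c, hc⟩ := hb.exists_conj g
  have hzc : z ^ c ≠ z ^ 0 := fun h1 => hg (by
    rwa [h1, pow_zero, mul_one, mul_inv_eq_iff_eq_mul] at hc)
  have hv0 : v ∈ fix ρ (b * z ^ 0) := by simpa using hvi
  have hw := hb.map_mem hc hv0
  rw [zero_add] at hw
  have hw0 := rho_ne_zero (ρ := ρ) g hv
  set w := ρ g v
  have e0 : nm ρ (b * z ^ 0) p (v + w) = (p : ZMod q) • v := by
    rw [map_add, nm_of_fix hv0, hb.nm_eq_zero hρ hirr hzc.symm hw, add_zero]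
  have e1 : nm ρ (b * z ^ c) p (v + w) = (p : ZMod q) • w := by
    rw [map_add, nm_of_fix hw, hb.nm_eq_zero hρ hirr hzc hv0, zero_add]
  have hvw : v + w ≠ 0 := fun h0 => by
    rw [h0, map_zero] at e0
    exact smul_ne_zero hne hv e0.symm
  by_contra hp2
  have hle : stab ρ (v + w) ≤ stab ρ v := by
    intro x hx
    rw [mem_stab] at hx ⊢
    obtain ⟨d, hd⟩ := hb.exists_conj x
    have f1 := hb.map_mem hd hv0
    have f2 := hb.map_mem hd hw
    rw [zero_add] at f1
    by_cases hd0 : z ^ d = z ^ 0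
    · rw [hd0] at f1
      have f3 : z ^ 0 ≠ z ^ (c + d) := by rw [pow_add, hd0, pow_zero, mul_one]; simpa using hzc.symm
      rw [← hx, map_add, map_add, nm_of_fix f1, hb.nm_eq_zero hρ hirr f3 f2, add_zero] at e0
      exact smul_right_injective _ hne e0
    · exfalso
      have f3 : z ^ 0 = z ^ (c + d) := by
        by_contra f3
        rw [← hx, map_add, map_add, hb.nm_eq_zero hρ hirr (Ne.symm hd0) f1,
          hb.nm_eq_zero hρ hirr f3 f2, add_zero] at e0
        exact smul_ne_zero hne hv e0.symm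
      have f4 : z ^ c = z ^ d := by
        by_contra f4
        have f5 : z ^ c ≠ z ^ (c + d) := by rw [← f3]; exact hzc
        rw [← hx, map_add, map_add, hb.nm_eq_zero hρ hirr f4 f1,
          hb.nm_eq_zero hρ hirr f5 f2, add_zero] at e1
        exact smul_ne_zero hne hw0 e1.symm
      rw [pow_add, ← f4, pow_zero, ← pow_two] at f3
      have f6 : (z ^ c) ^ p = 1 := by rw [← pow_mul, mul_comm, pow_mul, hb.zp, one_pow]
      have f7 := Nat.dvd_gcd (orderOf_dvd_of_pow_eq_one f3.symm) (orderOf_dvd_of_pow_eq_one f6)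
      rw [(Nat.coprime_primes Nat.prime_two hp.out).mpr (Ne.symm hp2), Nat.dvd_one,
        orderOf_eq_one_iff] at f7
      exact hzc (by rw [f7, pow_zero])
  have h1 : b * z ^ 0 ∈ stab ρ (v + w) := h.eq_of_le hvw hv hle ▸ mem_fix.mp hv0
  rw [mem_stab, map_add, mem_fix.mp hv0, add_right_inj] at h1
  exact hw0 (hb.eq_zero hρ hirr hzc hw (mem_fix.mpr h1))

theorem neg_of_fpf {t : G} (ht : t * t = 1) (hf : ∀ v, ρ t v = v → v = 0) (v : V) :
    ρ t v = -v := by
  have := hf (v + ρ t v) (by rw [map_add, ← rho_mul, ht, rho_one, add_comm])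
  exact (neg_eq_of_add_eq_zero_right this).symm

theorem Half.two_case [Finite G] [Finite V] [Nontrivial V] (hG : IsPGroup 2 G) (h : Half ρ)
    (hρ : Function.Injective ρ) (hirr : Irr ρ) {a z : G} (haz : AZ 2 a z) :
    (Nat.card V = q ^ 2 ∧ (∃ m : ℕ, q = 2 ^ m + 1) ∧
      ∃ e : V ≃ₗ[ZMod q] (Fin 2 → ZMod q), ∀ f : (Fin 2 → ZMod q) ≃ₗ[ZMod q] (Fin 2 → ZMod q),
        (∃ g : G, f = e.symm.trans ((ρ g).trans e)) ↔
        ∃ a s : ZMod q, a ≠ 0 ∧ (s = 1 ∨ s = -1) ∧
          ((∀ v, f v = ![a * v 0, s * a⁻¹ * v 1]) ∨ (∀ v, f v = ![s * a⁻¹ * v 1, a * v 0]))) ∨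
    (Nat.card V = 81 ∧ q = 3) := by
  have h2 : (2 : ZMod q) ≠ 0 := by exact_mod_cast haz.cast_ne hρ hirr
  have hq2 : q ≠ 2 := by rintro rfl; exact h2 rfl
  have hhalf : ∀ v : V, v + v = 0 → v = 0 := fun v hv => by
    rw [← two_smul (ZMod q), smul_eq_zero] at hv
    exact hv.resolve_left h2
  have hzz : z * z = 1 := by rw [← pow_two, haz.zp]
  have haa : a * a = 1 := by rw [← pow_two, haz.ao]
  have ha1 : a ≠ 1 := fun h1 => haz.anz (h1 ▸ one_mem _)
  have hz := neg_of_fpf hzz (haz.fpf hρ hirr)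
  have hB : ∀ v, v ∈ fix ρ (a * z) ↔ ρ a v = -v := fun v => by
    rw [mem_fix, rho_mul, hz, map_neg, neg_eq_iff_eq_neg]
  have hAB : ∀ v, ρ a v = v → ρ a v = -v → v = 0 := fun v h1 h3 =>
    hhalf v (by nth_rewrite 1 [← h1]; rw [h3, neg_add_cancel])
  have dich : ∀ g, g ∈ centralizer ({a} : Set G) ∨ ∀ v, ρ a (ρ g v) = -ρ g (ρ a v) := fun g => by
    obtain ⟨c, hc⟩ := haz.exists_conj g
    rcases Nat.even_or_odd' c with ⟨k, rfl | rfl⟩
    · left
      rw [pow_mul, haz.zp, one_pow, mul_one, mul_inv_eq_iff_eq_mul] at hc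
      exact mem_centralizer_singleton_iff.mpr hc
    · right
      intro v
      rw [pow_succ, pow_mul, haz.zp, one_pow, one_mul, mul_inv_eq_iff_eq_mul] at hc
      rw [← rho_mul g a, hc, rho_mul, rho_mul, hz, map_neg, neg_neg]
  have hH : ∀ g ∈ centralizer ({a} : Set G), ∀ v, ρ a (ρ g v) = ρ g (ρ a v) := fun g hg v => by
    rw [← rho_mul, ← mem_centralizer_singleton_iff.mp hg, rho_mul]
  have dec : ∀ x y x' y' : V, ρ a x = x → ρ a y = -y → ρ a x' = x' → ρ a y' = -y' →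
      x + y = x' + y' → x = x' ∧ y = y' := by
    intro x y x' y' h1 h3 h4 h5 h6
    have h7 := congrArg (ρ a) h6
    rw [map_add, map_add, h1, h3, h4, h5] at h7
    have h8 : x = x' := by
      rw [← sub_eq_zero]
      apply hhalf
      calc x - x' + (x - x') = (x + y - (x' + y')) + (x + -y - (x' + -y')) := by abel
        _ = 0 := by rw [h6, h7]; simp
    exact ⟨h8, by rwa [h8, add_right_inj] at h6⟩
  have hsum0 : ∀ x y : V, x ≠ 0 → ρ a x = x → ρ a y = -y → x + y ≠ 0 := fun x y hx h1 h3 h0 =>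
    hx (dec x y 0 0 h1 h3 (by simp) (by simp) (by simpa using h0)).1
  obtain ⟨v1, hv1, hv1A⟩ : ∃ v, v ≠ 0 ∧ ρ a v = v := by
    by_contra h1
    push Not at h1
    have h3 := neg_of_fpf haa (fun v hv => by by_contra h0; exact h1 v h0 hv)
    exact haz.anz ((hρ (by ext v; rw [h3, hz]) : a = z) ▸ mem_zpowers _)
  obtain ⟨v2, hv2, hv2B⟩ : ∃ v, v ≠ 0 ∧ ρ a v = -v := by
    by_contra h1
    push Not at h1
    refine ha1 (hρ ?_)
    ext v
    rw [rho_one, eq_comm, ← sub_eq_zero]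
    by_contra h0
    exact h1 _ h0 (by rw [map_sub, ← rho_mul, haa, rho_one, neg_sub])
  have swap : ∀ x y : V, x ≠ 0 → y ≠ 0 → ρ a x = x → ρ a y = -y →
      ∃ g, ρ g x = y ∧ ρ g y = x := by
    intro x y hx hy h1 h3
    by_contra h4
    have hle : stab ρ (x + y) ≤ stab ρ x := by
      intro g hg
      rw [mem_stab, map_add] at hg
      rcases dich g with h5 | h5
      · exact (dec _ _ _ _ (by rw [hH g h5, h1]) (by rw [hH g h5, h3, map_neg]) h1 h3 hg).1
      · rw [add_comm] at hg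
        have := dec _ _ _ _ (by rw [h5, h3, map_neg, neg_neg]) (by rw [h5, h1]) h1 h3 hg
        exact absurd ⟨g, this.2, this.1⟩ h4
    have h5 : a ∈ stab ρ (x + y) := h.eq_of_le (hsum0 x y hx h1 h3) hx hle ▸ mem_stab.mpr h1
    rw [mem_stab, map_add, h1, add_right_inj] at h5
    exact hy (hAB y h5 h3)
  have memH : ∀ g x, x ≠ 0 → ρ a x = x → ρ a (ρ g x) = ρ g x → g ∈ centralizer ({a} : Set G) := by
    intro g x hx h1 h3
    refine (dich g).resolve_right fun h4 => rho_ne_zero (ρ := ρ) g hx (hAB _ h3 ?_)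
    rw [h4, h1]
  obtain ⟨g0, hg01, hg02⟩ := swap v1 v2 hv1 hv2 hv1A hv2B
  have horb : {u : V | ∃ g ∈ centralizer ({a} : Set G), ρ g v1 = u} =
      (fix ρ a : Set V) \ {0} := by
    ext u
    constructor
    · rintro ⟨g, hg, rfl⟩
      exact ⟨mem_fix.mpr (by rw [hH g hg, hv1A]), rho_ne_zero g hv1⟩
    · rintro ⟨hu, hu0⟩
      have hu := mem_fix.mp hu
      obtain ⟨g, -, hg⟩ := swap u v2 hu0 hv2 hu hv2B
      have : ρ (g * g0) v1 = u := by rw [rho_mul, hg01, hg]
      exact ⟨g * g0, memH _ _ hv1 hv1A (by rw [this, hu]), this⟩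
  obtain ⟨k, hk⟩ : ∃ k, Nat.card (fix ρ a) = 2 ^ k + 1 := by
    have h1 := card_orbit_mul (ρ := ρ) (centralizer ({a} : Set G)) v1
    obtain ⟨n, hn⟩ := IsPGroup.iff_card.mp (hG.to_subgroup (centralizer ({a} : Set G)))
    obtain ⟨k, -, hk⟩ := (Nat.dvd_prime_pow Nat.prime_two).mp (hn ▸ Dvd.intro _ h1)
    refine ⟨k, ?_⟩
    rw [← hk, horb, Nat.card_coe_set_eq,
      Set.ncard_diff_singleton_add_one (Submodule.zero_mem _) (Set.toFinite _)]
    rfl
  have hg0 : ∀ v, ρ a (ρ g0 v) = -ρ g0 (ρ a v) := (dich g0).resolve_left fun h1 =>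
    hv2 (hAB v2 (by rw [← hg01, hH g0 h1, hv1A]) hv2B)
  have hcompl : IsCompl (fix ρ a) (fix ρ (a * z)) := by
    refine ⟨Submodule.disjoint_def.mpr fun v h1 h3 => hAB v (mem_fix.mp h1) ((hB v).mp h3), ?_⟩
    rw [codisjoint_iff, eq_top_iff]
    intro v _
    rw [← Submodule.smul_mem_iff _ h2, two_smul,
      show v + v = (v + ρ a v) + (v - ρ a v) by abel]
    refine Submodule.add_mem_sup ?_ ?_
    · rw [mem_fix, map_add, ← rho_mul, haa, rho_one, add_comm]
    · rw [hB, map_sub, ← rho_mul, haa, rho_one, neg_sub]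
  have hrank : Module.finrank (ZMod q) (fix ρ (a * z)) = Module.finrank (ZMod q) (fix ρ a) := by
    have : fix ρ (a * z) = (fix ρ a).map (ρ g0 : V →ₗ[ZMod q] V) := by
      ext v
      constructor
      · intro hv
        refine ⟨ρ g0⁻¹ v, mem_fix.mpr ((ρ g0).injective ?_), rho_inv' g0 v⟩
        have := hg0 (ρ g0⁻¹ v)
        rw [rho_inv', (hB v).mp hv, neg_inj] at this
        rw [← this, rho_inv']
      · rintro ⟨w, hw, rfl⟩
        rw [hB]
        exact (hg0 w).trans (by rw [mem_fix.mp hw]; rfl)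
    rw [this, LinearEquiv.finrank_map_eq]
  have hV : Module.finrank (ZMod q) V = 2 * Module.finrank (ZMod q) (fix ρ a) := by
    rw [← Submodule.finrank_add_eq_of_isCompl hcompl, hrank, two_mul]
  have hr : 0 < Module.finrank (ZMod q) (fix ρ a) := by
    have := Module.finrank_pos (R := ZMod q) (M := V)
    omega
  rw [Module.natCard_eq_pow_finrank (K := ZMod q), Nat.card_zmod] at hk
  rw [Module.natCard_eq_pow_finrank (K := ZMod q), Nat.card_zmod, hV]
  rcases pow_eq_two_pow_add_one Fact.out hq2 hr hk with h1 | ⟨h1, h3⟩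
  swap
  · right
    rw [h3, h1]
    exact ⟨by norm_num, rfl⟩
  left
  rw [h1] at hk hV hrank
  refine ⟨by rw [h1], ⟨k, by simpa using hk⟩, ?_⟩
  have spanA : ∀ v, ρ a v = v → ∃ c : ZMod q, c • v1 = v := fun v hv => by
    obtain ⟨c, hc⟩ := (finrank_eq_one_iff_of_nonzero' (⟨v1, mem_fix.mpr hv1A⟩ : fix ρ a)
      (fun h0 => hv1 (congrArg Subtype.val h0))).mp h1 ⟨v, mem_fix.mpr hv⟩
    exact ⟨c, congrArg Subtype.val hc⟩
  have spanB : ∀ v, ρ a v = -v → ∃ c : ZMod q, c • v2 = v := fun v hv => by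
    obtain ⟨c, hc⟩ := (finrank_eq_one_iff_of_nonzero' (⟨v2, (hB _).mpr hv2B⟩ : fix ρ (a * z))
      (fun h0 => hv2 (congrArg Subtype.val h0))).mp hrank ⟨v, (hB _).mpr hv⟩
    exact ⟨c, congrArg Subtype.val hc⟩
  have hli : LinearIndependent (ZMod q) ![v1, v2] := by
    rw [LinearIndependent.pair_iff]
    intro s t hst
    have := dec (s • v1) (t • v2) 0 0 (by rw [map_smul, hv1A]) (by rw [map_smul, hv2B, smul_neg])
      (by simp) (by simp) (by simpa using hst)
    exact ⟨(smul_eq_zero.mp this.1).resolve_right hv1, (smul_eq_zero.mp this.2).resolve_right hv2⟩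
  let b := basisOfLinearIndependentOfCardEqFinrank hli (by rw [hV]; rfl)
  let e := b.equivFun
  have he : ∀ x, e.symm x = x 0 • v1 + x 1 • v2 := fun x => by
    simp [e, b, Module.Basis.equivFun_symm_apply]
  have he' : ∀ s t : ZMod q, e (s • v1 + t • v2) = ![s, t] := fun s t => by
    rw [← LinearEquiv.eq_symm_apply, he]
    simp
  have hext : ∀ g g' : G, ρ g v1 = ρ g' v1 → ρ g v2 = ρ g' v2 → g = g' := fun g g' e1 e2 => by
    refine hρ (LinearEquiv.ext fun v => ?_)
    rw [← e.symm_apply_apply v, he, map_add, map_add, map_smul, map_smul, map_smul, map_smul, e1, e2]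
  have hstab : ∀ g, ρ g v1 = v1 → g = 1 ∨ g = a := by
    intro g hg
    have h3 : (stab ρ (v1 + v2) : Set G) ⊆ {1, g0} := by
      intro x hx
      rw [SetLike.mem_coe, mem_stab, map_add] at hx
      rcases dich x with h5 | h5
      · have := dec _ _ _ _ (by rw [hH x h5, hv1A]) (by rw [hH x h5, hv2B, map_neg]) hv1A hv2B hx
        exact Or.inl (hext _ _ (by rw [this.1, rho_one]) (by rw [this.2, rho_one]))
      · rw [add_comm] at hx
        have := dec _ _ _ _ (by rw [h5, hv2B, map_neg, neg_neg]) (by rw [h5, hv1A]) hv1A hv2B hx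
        exact Or.inr (hext _ _ (by rw [this.2, hg01]) (by rw [this.1, hg02]))
    have h4 : (stab ρ v1 : Set G).ncard ≤ 2 := by
      rw [← Nat.card_coe_set_eq]
      change Nat.card (stab ρ v1) ≤ 2
      rw [h v1 (v1 + v2) hv1 (hsum0 _ _ hv1 hv1A hv2B)]
      exact (Set.ncard_le_ncard h3).trans (Set.ncard_insert_le _ _ |>.trans (by simp))
    have h5 : ({1, a} : Set G) = stab ρ v1 := Set.eq_of_subset_of_ncard_le (by
      rintro x (rfl | rfl)
      · exact one_mem _
      · exact hv1A) (by rwa [Set.ncard_pair ha1.symm])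
    exact (h5 ▸ mem_stab.mpr hg : g ∈ ({1, a} : Set G))
  have K3 : ∀ α s : ZMod q, α ≠ 0 → (s = 1 ∨ s = -1) →
      ∃ g, ρ g v1 = α • v2 ∧ ρ g v2 = (s * α⁻¹) • v1 := by
    intro α s hα hs
    obtain ⟨g, e1, e2⟩ := swap v1 (α • v2) hv1 (smul_ne_zero hα hv2) hv1A
      (by rw [map_smul, hv2B, smul_neg])
    have e3 : ρ g v2 = α⁻¹ • v1 := by rw [← e2, map_smul, smul_smul, inv_mul_cancel₀ hα, one_smul]
    rcases hs with rfl | rfl
    · exact ⟨g, e1, by rw [e3, one_mul]⟩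
    · exact ⟨g * a, by rw [rho_mul, hv1A, e1], by
        rw [rho_mul, hv2B, map_neg, e3, neg_mul, one_mul, neg_smul]⟩
  have K2 : ∀ g, ρ a (ρ g v1) = -ρ g v1 → ∃ α s : ZMod q, α ≠ 0 ∧ (s = 1 ∨ s = -1) ∧
      ρ g v1 = α • v2 ∧ ρ g v2 = (s * α⁻¹) • v1 := by
    intro g hg
    obtain ⟨α, hα⟩ := spanB _ hg
    have hα0 : α ≠ 0 := by
      rintro rfl
      exact rho_ne_zero (ρ := ρ) g hv1 (by rw [← hα, zero_smul])
    obtain ⟨k, e1, e2⟩ := K3 α 1 hα0 (Or.inl rfl)
    rcases hstab (k⁻¹ * g) (by rw [rho_mul, ← hα, ← e1, rho_inv]) with h3 | h3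
    · rw [inv_mul_eq_one] at h3
      subst h3
      exact ⟨α, 1, hα0, Or.inl rfl, e1, e2⟩
    · rw [inv_mul_eq_iff_eq_mul] at h3
      subst h3
      exact ⟨α, -1, hα0, Or.inr rfl, hα.symm, by
        rw [rho_mul, hv2B, map_neg, e2, one_mul, neg_mul, one_mul, neg_smul]⟩
  refine ⟨e, fun f => ⟨?_, ?_⟩⟩
  · rintro ⟨g, rfl⟩
    rcases dich g with h3 | h3
    · obtain ⟨α, s, hα, hs, e1, e2⟩ := K2 (g0 * g) (by rw [rho_mul, hg0, hH g h3, hv1A])
      rw [rho_mul, ← hg01, ← map_smul] at e1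
      rw [rho_mul, ← hg02, ← map_smul] at e2
      refine ⟨α, s, hα, hs, Or.inl fun v => ?_⟩
      simp only [LinearEquiv.trans_apply]
      rw [he, map_add, map_smul, map_smul, (ρ g0).injective e1, (ρ g0).injective e2, smul_smul,
        smul_smul, he', mul_comm, mul_comm (v 1)]
    · obtain ⟨α, s, hα, hs, e1, e2⟩ := K2 g (by rw [h3, hv1A])
      refine ⟨α, s, hα, hs, Or.inr fun v => ?_⟩
      simp only [LinearEquiv.trans_apply]
      rw [he, map_add, map_smul, map_smul, e1, e2, smul_smul, smul_smul, add_comm, he', mul_comm,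
        mul_comm (v 0)]
  · rintro ⟨α, s, hα, hs, hf⟩
    obtain ⟨g, e1, e2⟩ := K3 α s hα hs
    rcases hf with hf | hf
    · refine ⟨g0 * g, LinearEquiv.ext fun v => ?_⟩
      simp only [LinearEquiv.trans_apply]
      rw [hf, he, map_add, map_smul, map_smul, rho_mul, rho_mul, e1, e2, map_smul, map_smul, hg01,
        hg02, smul_smul, smul_smul, he', mul_comm, mul_comm (v 1)]
    · refine ⟨g, LinearEquiv.ext fun v => ?_⟩
      simp only [LinearEquiv.trans_apply]
      rw [hf, he, map_add, map_smul, map_smul, e1, e2, smul_smul, smul_smul, add_comm, he',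
        mul_comm, mul_comm (v 0)]

section DQS

open CL.PCyc

variable {n : ℕ} {a b : G}

theorem dqs_central [Finite G] (h : IsDQS G n a b) {g : G} (hg : g ∈ zpowers a) (h2 : g ^ 2 = 1) :
    g ∈ center G := by
  obtain ⟨i, rfl⟩ := mem_powers_iff_mem_zpowers.mpr hg
  obtain ⟨m, rfl⟩ : ∃ m, n = m + 1 := ⟨n - 1, by have := h.two_le; omega⟩
  simp only at h2 ⊢
  rw [← pow_mul, ← orderOf_dvd_iff_pow_eq_one, h.orderOf_eq, pow_succ] at h2
  obtain ⟨k, rfl⟩ := Nat.dvd_of_mul_dvd_mul_right two_pos h2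
  rw [pow_mul]
  exact pow_mem h.central_mem_center k

theorem dqs_card [Finite G] (h : IsDQS G n a b) (Y : Set G) (hY : Y ⊆ zpowers a)
    (hY' : ∀ y ∈ zpowers a, (y * b) ^ 2 = 1 ↔ y ∈ Y) :
    Nat.card {g : G // orderOf g = 2 ∧ g ∉ center G} = Nat.card Y := by
  have hc : center G ≤ zpowers a := by
    rw [h.center_eq]
    exact zpowers_le.mpr (pow_mem (mem_zpowers a) _)
  have hn : ∀ y ∈ zpowers a, y * b ∉ zpowers a := fun y hy h1 =>
    h.notMem ((mul_mem_cancel_left hy).mp h1)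
  symm
  refine Nat.card_congr (Equiv.ofBijective (fun y => ⟨y.1 * b, orderOf_eq_prime
    ((hY' _ (hY y.2)).mpr y.2) (fun h1 => hn _ (hY y.2) (h1 ▸ one_mem _)),
      fun h1 => hn _ (hY y.2) (hc h1)⟩) ⟨fun x y hxy => ?_, fun ⟨g, hg, hgc⟩ => ?_⟩)
  · exact Subtype.ext (mul_right_cancel (congrArg Subtype.val hxy))
  · have h2 : g ^ 2 = 1 := hg ▸ pow_orderOf_eq_one g
    obtain ⟨y, hy, rfl⟩ := h.exists_eq_mul (x := g) (fun h1 => hgc (dqs_central h h1 h2))
    exact ⟨⟨y, (hY' y hy).mp h2⟩, rfl⟩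

theorem Half.dqs_case [Finite G] [Finite V] [Nontrivial V] (h : Half ρ)
    (hρ : Function.Injective ρ) (hirr : Irr ρ) (hs : ¬ Semi ρ) (hd : IsDQS G n a b) :
    Nat.card V = q ^ 2 ∧ ∃ m : ℕ, q = 2 ^ m - 1 ∧ (Nonempty (G ≃* DihedralGroup (2 ^ m)) ∨
      (Cfsg.IsQuasiDihedral G ∧ Nat.card G = 2 ^ (m + 2))) := by
  have hG : IsPGroup 2 G := IsPGroup.of_card hd.card_eq
  have hst : ∀ v : V, v ≠ 0 → Nat.card (stab ρ v) = 2 := by
    intro v hv
    have h1 : zpowers a ⊓ stab ρ v = ⊥ := by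
      by_contra h1
      haveI := (nontrivial_iff_ne_bot _).mpr h1
      obtain ⟨k, hk, hk'⟩ := (hG.to_subgroup (zpowers a ⊓ stab ρ v)).nontrivial_iff_card.mp this
      obtain ⟨x, hx⟩ := exists_prime_orderOf_dvd_card' (G := ↥(zpowers a ⊓ stab ρ v)) 2
        (hk' ▸ dvd_pow_self 2 hk.ne')
      rw [← Subgroup.orderOf_coe] at hx
      exact hv (fpf_of_central hρ hirr (dqs_central hd x.2.1 (hx ▸ pow_orderOf_eq_one _))
        (fun h0 => by rw [h0, orderOf_one] at hx; omega) v x.2.2)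
    haveI := hd.normal
    have h2 := CL.card_inf_mul_relIndex (zpowers a) (stab ρ v)
    rw [h1, card_bot, one_mul] at h2
    have h3 := relIndex_dvd_index_of_normal (zpowers a) (stab ρ v)
    rw [h2, hd.index_eq] at h3
    refine ((Nat.dvd_prime Nat.prime_two).mp h3).resolve_left fun h4 => ?_
    obtain ⟨g, hg, hgv⟩ := h.exists_stab hs hv
    rw [card_eq_one] at h4
    exact hg (h4 ▸ mem_stab.mpr hgv : g ∈ (⊥ : Subgroup G))
  obtain ⟨r, hr, hcnt⟩ := Cfsg.Agent.S3381.result q ρ hρ hst _ hd.orderOf_central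
    hd.central_mem_center
  have hq : 1 < q := (Fact.out : q.Prime).one_lt
  have hsq : ∀ y, (y * b) ^ 2 = y * (b * y * b⁻¹) * b ^ 2 := fun y => by
    simp only [pow_two]; group
  have hinv : b * a * b⁻¹ = a⁻¹ → ∀ y ∈ zpowers a, y * (b * y * b⁻¹) = 1 := by
    rintro h1 _ ⟨i, rfl⟩
    simp only
    rw [← conj_zpow, h1, inv_zpow, mul_inv_cancel]
  rcases hd.rel with ⟨h1, h2⟩ | ⟨h1, h2⟩ | ⟨h0, h1, h2⟩
  · rw [dqs_card hd (zpowers a) subset_rfl (fun y hy => by
      rw [hsq, hinv h2 y hy, h1]; simpa using hy)] at hcnt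
    change Nat.card (zpowers a) = _ at hcnt
    rw [Nat.card_zpowers, hd.orderOf_eq] at hcnt
    obtain rfl := pow_add_one_eq_two_pow hq hd.two_le hcnt.symm
    exact ⟨hr, n, by rw [hcnt, pow_one]; rfl, Or.inl (CL.TwoInv.nonempty_mulEquiv_dihedral hd.orderOf_eq
      (by rw [← sq, h1]) h2 hd.notMem hd.closure_eq_top)⟩
  · rw [dqs_card hd ∅ (Set.empty_subset _) (fun y hy => by
      rw [hsq, hinv h2 y hy, h1, one_mul]
      refine iff_of_false (fun h3 => ?_) (by simp)
      have := hd.orderOf_central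
      rw [h3, orderOf_one] at this
      omega)] at hcnt
    simp at hcnt
  · obtain ⟨m, rfl⟩ : ∃ m, n = m + 1 := ⟨n - 1, by omega⟩
    rw [Nat.add_sub_cancel] at h2
    rw [dqs_card hd (zpowers (a ^ 2)) (zpowers_le.mpr (pow_mem (mem_zpowers a) 2)) (fun y hy => by
      obtain ⟨i, rfl⟩ := mem_powers_iff_mem_zpowers.mpr hy
      simp only
      rw [hsq, h1, mul_one, ← conj_pow, h2, ← pow_mul, ← pow_add, ← orderOf_dvd_iff_pow_eq_one,
        hd.orderOf_eq, show i + (2 ^ m - 1) * i = 2 ^ m * i by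
          have : 0 < 2 ^ m := by positivity
          zify [this]; ring, pow_succ, Nat.mul_dvd_mul_iff_left (by positivity)]
      constructor
      · rintro ⟨k, rfl⟩
        rw [pow_mul]
        exact pow_mem (mem_zpowers _) k
      · intro h3
        obtain ⟨k, hk⟩ := mem_powers_iff_mem_zpowers.mpr h3
        simp only at hk
        rw [← pow_mul, pow_eq_pow_iff_modEq, hd.orderOf_eq] at hk
        exact (hk.dvd_iff (Dvd.intro_left _ (pow_succ 2 m).symm)).mp (Dvd.intro _ rfl))] at hcnt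
    change Nat.card (zpowers (a ^ 2)) = _ at hcnt
    rw [hd.card_zpowers_sq, Nat.add_sub_cancel] at hcnt
    obtain rfl := pow_add_one_eq_two_pow hq (by omega) hcnt.symm
    refine ⟨hr, m, by rw [hcnt, pow_one]; rfl, Or.inr ⟨⟨m + 1, h0, hd.card_eq, a, b, hd.orderOf_eq,
      orderOf_eq_prime h1 (fun hb => hd.notMem (hb ▸ one_mem _)), h2⟩, hd.card_eq⟩⟩

end DQS

theorem semi_of_isCyclic [IsCyclic G] (hρ : Function.Injective ρ) (hirr : Irr ρ) : Semi ρ := by
  intro v hv g hg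
  by_contra h1
  exact hv (fpf_of_central hρ hirr (mem_center_iff.mpr fun x => mul_comm' x g) h1 v hg)

end CL.HT
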