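/- The Borel subgroup 3^3:S3 and the Heisenberg group of order 27 as tables (generated). -/
import Cfsg.Agent.SPOR.A10.Reg
set_option autoImplicit false
set_option maxRecDepth 100000

namespace CL.T43.B0.Euvx
open CL.CE CL.K

noncomputable def tT0 : ℕ := nat_lit 0x28733e49db4dde619334952516a46b2788f5474e2d113794cc3d611d0af8ac40a2734ff67d6be41d6ae8180bcf69e56ef16e0bb5a2312596f4b8c9ae6d25648b2c26b4cec612b651764b8f8dcafa95c4b31557af4dcaaa895a92709460c7478b27ad25e96666a2945eee90d44325416e6ad286c22b8fce82d3d51e2519f0784271b1ce586eb4783f5cc146233359d35a292fa2d49600e1a68c508bd58a465ec2849f39827219260172cedc4ea53938560af1981e20f8484e466356a0386463001b3112132086f1428a889103876aa314c3842660f2088e8352d90b08ea028620532615282003471228491362b1216306941020a073b36d48101840200188ad64a9173838c184021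
noncomputable def tJ0 : ℕ := nat_lit 0x1bacb45c45b2cb28c46926c24997628a85119264926031224124136444826504dc48a4927024924004929a051c48289248689a0924920120b009200008
noncomputable def tD0 : ℕ := nat_lit 0x34c00ccc070e00bc006c105a841291029bc0e4901888160d0179811c90369c158a045801549024801104023800cc502288088300180084100080000000
noncomputable def tT : Tr := (.leaf tT0)
noncomputable def tJ : Tr := (.leaf tJ0)
noncomputable def tD : Tr := (.leaf tD0)

def rels : List (List ℕ) := [[0,1],
  [1,0],
  [2,3],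
  [3,2],
  [4,5],
  [5,4],
  [0,0,0],
  [2,2,2],
  [4,4,4],
  [1,3,0,2],
  [1,5,0,4],
  [3,5,2,4]]
def subs : List (List ℕ) := []
def iv (a : ℕ) : ℕ := [1,0,3,2,5,4,6].getD a 0
noncomputable def RR0 : List Rule := [.bwd [1] 0 0 0,
  .bwd [3,1,2] 9 3 1,
  .bwd [0,0] 6 1 0,
  .bwd [4,1,5] 10 2 0,
  .bwd [5,1,4] 10 3 1,
  .bwd [2,1,3] 9 2 0]
noncomputable def RR1 : List Rule := [.bwd [0] 1 0 0,
  .bwd [1,1] 6 1 1,
  .bwd [3,0,2] 9 0 0,
  .bwd [5,0,4] 10 0 0,
  .bwd [4,0,5] 10 1 1,
  .bwd [2,0,3] 9 1 1]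
noncomputable def RR2 : List Rule := [.bwd [3] 2 0 0,
  .bwd [2,2] 7 1 0,
  .bwd [1,3,0] 9 3 0,
  .bwd [0,3,1] 9 2 1,
  .bwd [4,3,5] 11 2 0]
noncomputable def RR3 : List Rule := [.bwd [2] 3 0 0,
  .bwd [3,3] 7 1 1,
  .bwd [0,2,1] 9 1 0,
  .bwd [4,2,5] 11 1 1,
  .bwd [1,2,0] 9 0 1,
  .bwd [5,2,4] 11 0 0]
noncomputable def RR4 : List Rule := [.bwd [5] 4 0 0,
  .bwd [0,5,1] 10 2 1,
  .bwd [1,5,0] 10 3 0,
  .bwd [2,5,3] 11 2 1,
  .bwd [4,4] 8 1 0,
  .bwd [3,5,2] 11 3 0]
noncomputable def RR5 : List Rule := [.bwd [4] 5 0 0,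
  .bwd [0,4,1] 10 1 0,
  .bwd [1,4,0] 10 0 1,
  .bwd [2,4,3] 11 1 0,
  .bwd [5,5] 8 1 1,
  .bwd [3,4,2] 11 0 1]
noncomputable def RR : List (List Rule) := [RR0, RR1, RR2, RR3, RR4, RR5]
noncomputable def rowp (j : ℕ) : ℕ := piece tT (nat_lit 3) (nat_lit 7) (nat_lit 2496) (Nat.pred (Nat.shiftLeft 1 (nat_lit 2496))) j
noncomputable def row (u : ℕ) : ℕ := rowOf rowp (nat_lit 5) (nat_lit 31) (nat_lit 78) u
noncomputable def jrowp (j : ℕ) : ℕ := piece tJ (nat_lit 3) (nat_lit 7) (nat_lit 2304) (Nat.pred (Nat.shiftLeft 1 (nat_lit 2304))) j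
noncomputable def jrow (u : ℕ) : ℕ := rowOf jrowp (nat_lit 7) (nat_lit 127) (nat_lit 18) u
noncomputable def drowp (j : ℕ) : ℕ := piece tD (nat_lit 3) (nat_lit 7) (nat_lit 2304) (Nat.pred (Nat.shiftLeft 1 (nat_lit 2304))) j
noncomputable def drow (u : ℕ) : ℕ := rowOf drowp (nat_lit 7) (nat_lit 127) (nat_lit 18) u
noncomputable def cert : PCert := ⟨(nat_lit 6), (nat_lit 6), (nat_lit 31), (nat_lit 13), (nat_lit 8191), (nat_lit 8190), (nat_lit 27), (nat_lit 26), (nat_lit 26), (nat_lit 3), (nat_lit 7), (nat_lit 3), (nat_lit 7), (nat_lit 262143), (nat_lit 0), row, jrow, drow, RR⟩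
theorem params : cert.paramsOK = true := by decide +kernel
theorem rules : rulesOK rels subs iv cert.L cert.LL cert.RR = true := by decide +kernel
theorem blk0 : cert.alive (nat_lit 0) (nat_lit 1) (nat_lit 27) = 0 := by decide +kernel
theorem up0 : cert.Upto 0 := PCert.upto_zero _
theorem up1 : cert.Upto 27 := up0.alive params blk0 (by decide)

theorem covers {G : Type*} [Group G] {g : ℕ → G} {H : Subgroup G}
    (h : Sat g H 6 iv rels subs) : Covers g 6 H 27 :=
  PCert.covers (p := cert) params rules (by decide +kernel) up1 h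

end CL.T43.B0.Euvx

namespace CL.T43.B0.Euvxc
open CL.CE CL.K

noncomputable def tT0 : ℕ := nat_lit 0x831294ec57ad5640f94a572d58ad9474c142030404
noncomputable def tJ0 : ℕ := nat_lit 0x555545554666
noncomputable def tD0 : ℕ := nat_lit 0x906406000
noncomputable def tT : Tr := (.leaf tT0)
noncomputable def tJ : Tr := (.leaf tJ0)
noncomputable def tD : Tr := (.leaf tD0)

def rels : List (List ℕ) := [[0,1],
  [1,0],
  [2,3],
  [3,2],
  [4,5],
  [5,4],
  [6,7],
  [7,6],
  [0,0,0],
  [2,2,2],
  [4,4,4],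
  [1,3,0,2],
  [1,5,0,4],
  [3,5,2,4],
  [6,6,6],
  [6,4,7,1],
  [6,0,7,3],
  [6,2,7,5]]
def subs : List (List ℕ) := [[0],
  [1],
  [2],
  [3],
  [4],
  [5]]
def iv (a : ℕ) : ℕ := [1,0,3,2,5,4,7,6,8].getD a 0
noncomputable def RR0 : List Rule := [.bwd [7,3,6] 16 1 0,
  .sub [] [] 0 0]
noncomputable def RR1 : List Rule := [.bwd [0] 1 0 0]
noncomputable def RR2 : List Rule := [.bwd [7,5,6] 17 1 0,
  .sub [] [] 2 0]
noncomputable def RR3 : List Rule := [.bwd [2] 3 0 0]
noncomputable def RR4 : List Rule := [.bwd [7,1,6] 15 1 0,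
  .sub [] [] 4 0]
noncomputable def RR5 : List Rule := [.bwd [4] 5 0 0]
noncomputable def RR6 : List Rule := [.bwd [6,6] 14 1 0]
noncomputable def RR7 : List Rule := [.bwd [6] 7 0 0]
noncomputable def RR : List (List Rule) := [RR0, RR1, RR2, RR3, RR4, RR5, RR6, RR7]
noncomputable def rowp (j : ℕ) : ℕ := piece tT (nat_lit 3) (nat_lit 7) (nat_lit 3584) (Nat.pred (Nat.shiftLeft 1 (nat_lit 3584))) j
noncomputable def row (u : ℕ) : ℕ := rowOf rowp (nat_lit 6) (nat_lit 63) (nat_lit 56) u
noncomputable def jrowp (j : ℕ) : ℕ := piece tJ (nat_lit 3) (nat_lit 7) (nat_lit 4096) (Nat.pred (Nat.shiftLeft 1 (nat_lit 4096))) j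
noncomputable def jrow (u : ℕ) : ℕ := rowOf jrowp (nat_lit 8) (nat_lit 255) (nat_lit 16) u
noncomputable def drowp (j : ℕ) : ℕ := piece tD (nat_lit 3) (nat_lit 7) (nat_lit 3072) (Nat.pred (Nat.shiftLeft 1 (nat_lit 3072))) j
noncomputable def drow (u : ℕ) : ℕ := rowOf drowp (nat_lit 8) (nat_lit 255) (nat_lit 12) u
noncomputable def cert : PCert := ⟨(nat_lit 8), (nat_lit 8), (nat_lit 3), (nat_lit 7), (nat_lit 127), (nat_lit 126), (nat_lit 3), (nat_lit 2), (nat_lit 2), (nat_lit 2), (nat_lit 3), (nat_lit 2), (nat_lit 3), (nat_lit 4095), (nat_lit 0), row, jrow, drow, RR⟩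
theorem params : cert.paramsOK = true := by decide +kernel
theorem rules : rulesOK rels subs iv cert.L cert.LL cert.RR = true := by decide +kernel
theorem blk0 : cert.alive (nat_lit 0) (nat_lit 1) (nat_lit 3) = 0 := by decide +kernel
theorem up0 : cert.Upto 0 := PCert.upto_zero _
theorem up1 : cert.Upto 3 := up0.alive params blk0 (by decide)

theorem covers {G : Type*} [Group G] {g : ℕ → G} {H : Subgroup G}
    (h : Sat g H 8 iv rels subs) : Covers g 8 H 3 :=
  PCert.covers (p := cert) params rules (by decide +kernel) up1 h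

end CL.T43.B0.Euvxc

namespace CL.T43.B0.Ezuvxc
open CL.CE CL.K

noncomputable def tT0 : ℕ := nat_lit 0x96385f6dd65751038c288184093
noncomputable def tJ0 : ℕ := nat_lit 0x669655594
noncomputable def tD0 : ℕ := nat_lit 0x100000
noncomputable def tT : Tr := (.leaf tT0)
noncomputable def tJ : Tr := (.leaf tJ0)
noncomputable def tD : Tr := (.leaf tD0)

def rels : List (List ℕ) := [[0,0],
  [1,2],
  [2,1],
  [3,4],
  [4,3],
  [5,6],
  [6,5],
  [7,8],
  [8,7],
  [1,1,1],
  [3,3,3],
  [5,5,5],
  [2,4,1,3],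
  [2,6,1,5],
  [4,6,3,5],
  [7,7,7],
  [7,5,8,2],
  [7,1,8,4],
  [7,3,8,6],
  [0,1,0,4],
  [0,5,0,6],
  [0,7,0,7]]
def subs : List (List ℕ) := [[1],
  [2],
  [3],
  [4],
  [5],
  [6],
  [7],
  [8]]
def iv (a : ℕ) : ℕ := [0,2,1,4,3,6,5,8,7,9].getD a 0
noncomputable def RR0 : List Rule := [.bwd [0] 0 0 0]
noncomputable def RR1 : List Rule := [.sub [] [] 0 0,
  .bwd [0,4,0] 19 1 0]
noncomputable def RR2 : List Rule := [.bwd [1] 2 0 0]
noncomputable def RR3 : List Rule := [.bwd [4] 3 0 0,
  .sub [] [] 2 0]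
noncomputable def RR4 : List Rule := [.bwd [3] 4 0 0,
  .bwd [0,1,0] 19 3 0]
noncomputable def RR5 : List Rule := [.sub [] [] 4 0,
  .bwd [0,6,0] 20 1 0]
noncomputable def RR6 : List Rule := [.bwd [5] 6 0 0]
noncomputable def RR7 : List Rule := [.sub [] [] 6 0,
  .bwd [0,7,0] 21 1 0]
noncomputable def RR8 : List Rule := [.bwd [7] 8 0 0]
noncomputable def RR : List (List Rule) := [RR0, RR1, RR2, RR3, RR4, RR5, RR6, RR7, RR8]
noncomputable def rowp (j : ℕ) : ℕ := piece tT (nat_lit 3) (nat_lit 7) (nat_lit 3456) (Nat.pred (Nat.shiftLeft 1 (nat_lit 3456))) j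
noncomputable def row (u : ℕ) : ℕ := rowOf rowp (nat_lit 6) (nat_lit 63) (nat_lit 54) u
noncomputable def jrowp (j : ℕ) : ℕ := piece tJ (nat_lit 3) (nat_lit 7) (nat_lit 2304) (Nat.pred (Nat.shiftLeft 1 (nat_lit 2304))) j
noncomputable def jrow (u : ℕ) : ℕ := rowOf jrowp (nat_lit 7) (nat_lit 127) (nat_lit 18) u
noncomputable def drowp (j : ℕ) : ℕ := piece tD (nat_lit 3) (nat_lit 7) (nat_lit 2816) (Nat.pred (Nat.shiftLeft 1 (nat_lit 2816))) j
noncomputable def drow (u : ℕ) : ℕ := rowOf drowp (nat_lit 8) (nat_lit 255) (nat_lit 11) u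
noncomputable def cert : PCert := ⟨(nat_lit 9), (nat_lit 9), (nat_lit 1), (nat_lit 6), (nat_lit 63), (nat_lit 62), (nat_lit 2), (nat_lit 1), (nat_lit 1), (nat_lit 2), (nat_lit 3), (nat_lit 2), (nat_lit 3), (nat_lit 2047), (nat_lit 0), row, jrow, drow, RR⟩
theorem params : cert.paramsOK = true := by decide +kernel
theorem rules : rulesOK rels subs iv cert.L cert.LL cert.RR = true := by decide +kernel
theorem blk0 : cert.alive (nat_lit 0) (nat_lit 1) (nat_lit 2) = 0 := by decide +kernel
theorem up0 : cert.Upto 0 := PCert.upto_zero _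
theorem up1 : cert.Upto 2 := up0.alive params blk0 (by decide)

theorem covers {G : Type*} [Group G] {g : ℕ → G} {H : Subgroup G}
    (h : Sat g H 9 iv rels subs) : Covers g 9 H 2 :=
  PCert.covers (p := cert) params rules (by decide +kernel) up1 h

end CL.T43.B0.Ezuvxc

namespace CL.T43.B0
open CL.CE CL.K CL.Reg

def iv (a : ℕ) : ℕ := [0,2,1,4,3,6,5,8,7].getD a a
def Rels : List (List ℕ) := [[0,0], [1,2], [2,1], [3,4], [4,3], [5,6], [6,5], [7,8], [8,7], [1,1,1], [3,3,3], [5,5,5], [2,4,1,3], [2,6,1,5], [4,6,3,5], [7,7,7], [7,5,8,2], [7,1,8,4], [7,3,8,6], [0,1,0,4], [0,5,0,6], [0,7,0,7]]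

theorem idx_uvx {G : Type*} [Group G] {g : ℕ → G} (h : Pres g iv Rels) :
    IdxLe (gen g []) (gen g [[1], [2], [3], [4], [5], [6]]) 27 :=
  h.idxLe _ _ CL.T43.B0.Euvx.covers (by decide +kernel)

theorem le_uvx {G : Type*} [Group G] {g : ℕ → G} (h : Pres g iv Rels) :
    CardLe (gen g [[1], [2], [3], [4], [5], [6]]) 27 :=
  (idx_uvx h).cardLe (cardLe_nil g) (by norm_num)

theorem idx_uvxc {G : Type*} [Group G] {g : ℕ → G} (h : Pres g iv Rels) :
    IdxLe (gen g [[1], [2], [3], [4], [5], [6]]) (gen g [[1], [2], [3], [4], [5], [6], [7], [8]]) 3 :=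
  h.idxLe _ _ CL.T43.B0.Euvxc.covers (by decide +kernel)

theorem le_uvxc {G : Type*} [Group G] {g : ℕ → G} (h : Pres g iv Rels) :
    CardLe (gen g [[1], [2], [3], [4], [5], [6], [7], [8]]) 81 :=
  (idx_uvxc h).cardLe (le_uvx h) (by norm_num)

theorem idx_zuvxc {G : Type*} [Group G] {g : ℕ → G} (h : Pres g iv Rels) :
    IdxLe (gen g [[1], [2], [3], [4], [5], [6], [7], [8]]) (gen g [[0], [1], [2], [3], [4], [5], [6], [7], [8]]) 2 :=
  h.idxLe _ _ CL.T43.B0.Ezuvxc.covers (by decide +kernel)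

theorem le_zuvxc {G : Type*} [Group G] {g : ℕ → G} (h : Pres g iv Rels) :
    CardLe (gen g [[0], [1], [2], [3], [4], [5], [6], [7], [8]]) 162 :=
  (idx_zuvxc h).cardLe (le_uvxc h) (by norm_num)

noncomputable def H_T : ℕ := nat_lit 0xa07399819f759d799073a19c7898809e74919e72977f75a19b778e729f9a76967e74a08f9c6f957d9b7179a1886f9d78a0947c9a70899a6e937b719d779f866e9b769e927a709c87986781a19769956d8c6799946c80a096688d96667f9f6999936b8a6697926a7e9e68988b94637d9d93656d998463956c987c9c92648592627b9b65956b978262936a967a9a649483905389618f558d59a053918c5888608e54a18e52875f55918b579e528f8a56865e54909f8c4f855d8b515991984f8d5890845c8a50998a4e835b518d578f964e8b568e825a508c97884761918749854d9c4789844c609086489d86465f8f4989834b9a4687824a5e8e48889b84435d8d83454d899443854c885c8c82449582425b8b45854b879242834a865a8a448493803ba1997f3d7d41583b817c40a0987e3c597e3a9f973d817b3f563a7f7a3e9e963c80577c379d957b3941814c377d40809c947a384d7a369b93397d3f7f4a367b3e7e9a92387c4b78336d417735a19d603379a09c6c40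76346176326b3f35799f9b5e32779e9a6a3e34785f7431693da19f71355431757034683ca09e55a1a072316f33673b539f9e31736e32663a52703065399d9b3575483071347464389c9a499d9c6e3033736337479b9a306f32726236466c2d41796b2f99955c2d6d989440786a2e5d6a2c3f772f6d97935a2c6b96923e762e6c5b682b3d759997652f502b69642e3c749896519998662b632d3b734f97962b67622c3a724e642a397195932f69442a652e6838709492459594622a2d67376f4393922a632c66366e42602391895f255d297823615c2890885e24795e228f8725615b2776225f5a268e862460775c1f8d855b2129616c1f5d28608c845a206d5a1e8b83215d275f6a1e5b265e8a82205c6b581b4d29571d918d801b59908c4c28561c81561a4b271d598f8b7e1a578e8a4a261c587f54194925918f511d741955501c4824908e75919052194f1b4723738f8e19534e1a462272501845218d8b1d556818511c5444208c8a698d8c4e181b53431f678b8a184f1a52421e664c1529594b1789857c154d888428584a167d4a142757174d87837a144b86822656164c7b48132555898745177013494416245488867189884613431523536f87861347421422526e4412215185831749641245164820508482658584421215471f4f638382124314461e4e62400f796d3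f11817d280f41807c786c3e10293e0e776b11417f7b260e3f7e7a766a1040273c0d7569817f39111c0d3d38107468807e1d81803a0d370f73671b7f7e0d3b360e72661a380c71657d7b113d160c39103c70647c7a177d7c360c0f3b6f63157b7a0c370e3a6e6214340b2f1179777571240b3574702e107876257978320b736f2d0f2377760b33726e2c0e2275747372300b2b0d1971706f6e0b312a0c132e0a11356d6b6965200a2f686410346c6a216d6c2c0a67630f331f6b6a0a2d66620e321e696867662a0a0d3118656463620a2b0c30122807594d2709615d400729605c584c2608412606574b09295f5b3e06275e5a564a08283f24055549615f210934052520085448605e35616022051f075347335f5e05231e06524632200451455d5b09252e0421082450445c5a2f5d5c1e0407234f432d5b5a041f06224e422c1c031709595755513c031d5450160858563d59581a03534f15073b5756031b524e14063a55545352180313053151504f4e031912042b1602091d4d4b49453802174844081c4c4a394d4c14024743071b374b4a02154642061a3649484746120205193045444342021304182a1001352f413f3d390801113c38342e403e0941400e013b37332d073f3e010f3a36322c063d3c3b3a0c01312b0339383736010d302a023534333231300a01052f2e2d2c2b2a010b0408001d172927252110000924201c1628261129280600231f1b150f27260007221e1a140e25242322040019130b21201f1e000518120a1d1c1b1a191802000d17161514131200030c11100f0e0d0c0b0a00090807060504030201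
noncomputable def H_W : ℕ := nat_lit 0x975318753196531865319743187431964318643197521875219652186521974218742196421864210975308753096530865309743087430964308643097520875209652086520974208742096420864209751087510965108651097410874109641086410973108731096310863109531085310753106531094310843107431064310972108721096210862109521085210752106521094210842107421064210097500875009650086500974008740096400864009730087300963008630095300853007530065300943008430074300643009720087200962008620095200852007520065200942008420074200642009710087100961008610095100851007510065100941008410074100641009310083100731006310053100431009210082100721006210052100421000970008700096000860009500085000750006500094000840007400064000930008300073000630005300043000920008200072000620005200042000910008100071000610005100041000310002100009000080000700006000050000400003000020000100000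
noncomputable def H_I : ℕ := nat_lit 0x93929b9697949f98959a9d9e999ca1a08283868b8a858e8d8487888f8c899091657a717e697c75806b6477687b6a62637f6c6e6f6d7079747d76666781787273444b4857504d54595a455e514a5b4243565d46475c4960554c5f4e4f586152532f38353c393e2c2d3d4032333f2e36372a3041343a3b2b312017241d16271e1f1c29222326211415121328251a1b181911100e0f0a0b0c0d08090607040502030100
noncomputable def H_dat : Dat := ⟨nat_lit 162, nat_lit 9, nat_lit 5, [0,2,1,4,3,6,5,8,7], tb (nat_lit 9) (nat_lit 8) (nat_lit 255) H_T,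
  fld (nat_lit 20) (nat_lit 1048575) H_W, fld (nat_lit 8) (nat_lit 255) H_I⟩
theorem H_chk : H_dat.Chk Rels :=
  Dat.chk_of (a := 6) (b := 27) (by decide +kernel) rfl (by decide +kernel)
theorem H_good : H_dat.Good Rels := H_chk.good fun _ hg => le_zuvxc hg
/-- the group of the table -/
abbrev H : Type := RG H_dat H_good
theorem H_hom {G : Type*} [Group G] {g : ℕ → G} (hg : Pres g iv Rels) :
    ∃ φ : H →* G, φ.range = gen g [[0], [1], [2], [3], [4], [5], [6], [7], [8]] ∧
      ∀ w : List ℕ, ltAll 9 w = true → φ (RG.wd H_good w) = ev g w :=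
  RG.exists_hom hg fun _ hg' => le_zuvxc hg'

noncomputable def z : H := RG.mk' H_good (nat_lit 1)
noncomputable def u : H := RG.mk' H_good (nat_lit 2)
noncomputable def v : H := RG.mk' H_good (nat_lit 4)
noncomputable def x : H := RG.mk' H_good (nat_lit 6)
noncomputable def c : H := RG.mk' H_good (nat_lit 8)
theorem wd_z : RG.wd H_good [0] = z := by decide +kernel
theorem wd_u : RG.wd H_good [1] = u := by decide +kernel
theorem wd_v : RG.wd H_good [3] = v := by decide +kernel
theorem wd_x : RG.wd H_good [5] = x := by decide +kernel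
theorem wd_c : RG.wd H_good [7] = c := by decide +kernel

end CL.T43.B0

namespace CL.T43.He.Eae
open CL.CE CL.K

noncomputable def tT0 : ℕ := nat_lit 0x791f185e3664d806da2851552921c7389363d1132c5d828d05201a749494598d510450820c4080325dc7318811
noncomputable def tJ0 : ℕ := nat_lit 0x6add654a8554475404
noncomputable def tD0 : ℕ := nat_lit 0x840270036502520243003002210010000000
noncomputable def tT : Tr := (.leaf tT0)
noncomputable def tJ : Tr := (.leaf tJ0)
noncomputable def tD : Tr := (.leaf tD0)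

def rels : List (List ℕ) := [[0,1],
  [1,0],
  [2,3],
  [3,2],
  [0,0,0],
  [2,2,2],
  [0,2,1,3]]
def subs : List (List ℕ) := []
def iv (a : ℕ) : ℕ := [1,0,3,2,4].getD a 0
noncomputable def RR0 : List Rule := [.bwd [1] 0 0 0,
  .bwd [3,1,2] 6 1 1,
  .bwd [0,0] 4 1 0]
noncomputable def RR1 : List Rule := [.bwd [0] 1 0 0,
  .bwd [3,0,2] 6 2 0,
  .bwd [2,0,3] 6 3 1]
noncomputable def RR2 : List Rule := [.bwd [3] 2 0 0,
  .bwd [2,2] 5 1 0]
noncomputable def RR3 : List Rule := [.bwd [2] 3 0 0,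
  .bwd [1,2,0] 6 2 1,
  .bwd [3,3] 5 1 1]
noncomputable def RR : List (List Rule) := [RR0, RR1, RR2, RR3]
noncomputable def rowp (j : ℕ) : ℕ := piece tT (nat_lit 3) (nat_lit 7) (nat_lit 2560) (Nat.pred (Nat.shiftLeft 1 (nat_lit 2560))) j
noncomputable def row (u : ℕ) : ℕ := rowOf rowp (nat_lit 6) (nat_lit 63) (nat_lit 40) u
noncomputable def jrowp (j : ℕ) : ℕ := piece tJ (nat_lit 3) (nat_lit 7) (nat_lit 4096) (Nat.pred (Nat.shiftLeft 1 (nat_lit 4096))) j
noncomputable def jrow (u : ℕ) : ℕ := rowOf jrowp (nat_lit 9) (nat_lit 511) (nat_lit 8) u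
noncomputable def drowp (j : ℕ) : ℕ := piece tD (nat_lit 3) (nat_lit 7) (nat_lit 4096) (Nat.pred (Nat.shiftLeft 1 (nat_lit 4096))) j
noncomputable def drow (u : ℕ) : ℕ := rowOf drowp (nat_lit 8) (nat_lit 255) (nat_lit 16) u
noncomputable def cert : PCert := ⟨(nat_lit 4), (nat_lit 4), (nat_lit 15), (nat_lit 10), (nat_lit 1023), (nat_lit 1022), (nat_lit 9), (nat_lit 8), (nat_lit 8), (nat_lit 2), (nat_lit 3), (nat_lit 2), (nat_lit 3), (nat_lit 65535), (nat_lit 0), row, jrow, drow, RR⟩
theorem params : cert.paramsOK = true := by decide +kernel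
theorem rules : rulesOK rels subs iv cert.L cert.LL cert.RR = true := by decide +kernel
theorem blk0 : cert.alive (nat_lit 0) (nat_lit 1) (nat_lit 9) = 0 := by decide +kernel
theorem up0 : cert.Upto 0 := PCert.upto_zero _
theorem up1 : cert.Upto 9 := up0.alive params blk0 (by decide)

theorem covers {G : Type*} [Group G] {g : ℕ → G} {H : Subgroup G}
    (h : Sat g H 4 iv rels subs) : Covers g 4 H 9 :=
  PCert.covers (p := cert) params rules (by decide +kernel) up1 h

end CL.T43.He.Eae

namespace CL.T43.He.Eaec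
open CL.CE CL.K

noncomputable def tT0 : ℕ := nat_lit 0x18b48d29f4230b92a93a85d152030404
noncomputable def tJ0 : ℕ := nat_lit 0x5554554aa
noncomputable def tD0 : ℕ := nat_lit 0x904404000
noncomputable def tT : Tr := (.leaf tT0)
noncomputable def tJ : Tr := (.leaf tJ0)
noncomputable def tD : Tr := (.leaf tD0)

def rels : List (List ℕ) := [[0,1],
  [1,0],
  [2,3],
  [3,2],
  [4,5],
  [5,4],
  [0,0,0],
  [2,2,2],
  [4,4,4],
  [2,4,3,5,1],
  [0,2,1,3],
  [0,4,1,5]]
def subs : List (List ℕ) := [[0],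
  [1],
  [2],
  [3]]
def iv (a : ℕ) : ℕ := [1,0,3,2,5,4,6].getD a 0
noncomputable def RR0 : List Rule := [.bwd [1] 0 0 0,
  .sub [] [] 0 0]
noncomputable def RR1 : List Rule := [.bwd [5,0,4] 11 2 0,
  .bwd [0] 1 0 0]
noncomputable def RR2 : List Rule := [.bwd [3] 2 0 0,
  .sub [] [] 2 0]
noncomputable def RR3 : List Rule := [.bwd [5,1,2,4] 9 2 0,
  .bwd [2] 3 0 0]
noncomputable def RR4 : List Rule := [.bwd [4,4] 8 1 0]
noncomputable def RR5 : List Rule := [.bwd [4] 5 0 0]
noncomputable def RR : List (List Rule) := [RR0, RR1, RR2, RR3, RR4, RR5]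
noncomputable def rowp (j : ℕ) : ℕ := piece tT (nat_lit 3) (nat_lit 7) (nat_lit 2688) (Nat.pred (Nat.shiftLeft 1 (nat_lit 2688))) j
noncomputable def row (u : ℕ) : ℕ := rowOf rowp (nat_lit 6) (nat_lit 63) (nat_lit 42) u
noncomputable def jrowp (j : ℕ) : ℕ := piece tJ (nat_lit 3) (nat_lit 7) (nat_lit 3072) (Nat.pred (Nat.shiftLeft 1 (nat_lit 3072))) j
noncomputable def jrow (u : ℕ) : ℕ := rowOf jrowp (nat_lit 8) (nat_lit 255) (nat_lit 12) u
noncomputable def drowp (j : ℕ) : ℕ := piece tD (nat_lit 3) (nat_lit 7) (nat_lit 3072) (Nat.pred (Nat.shiftLeft 1 (nat_lit 3072))) j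
noncomputable def drow (u : ℕ) : ℕ := rowOf drowp (nat_lit 8) (nat_lit 255) (nat_lit 12) u
noncomputable def cert : PCert := ⟨(nat_lit 6), (nat_lit 6), (nat_lit 3), (nat_lit 7), (nat_lit 127), (nat_lit 126), (nat_lit 3), (nat_lit 2), (nat_lit 2), (nat_lit 2), (nat_lit 3), (nat_lit 2), (nat_lit 3), (nat_lit 4095), (nat_lit 0), row, jrow, drow, RR⟩
theorem params : cert.paramsOK = true := by decide +kernel
theorem rules : rulesOK rels subs iv cert.L cert.LL cert.RR = true := by decide +kernel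
theorem blk0 : cert.alive (nat_lit 0) (nat_lit 1) (nat_lit 3) = 0 := by decide +kernel
theorem up0 : cert.Upto 0 := PCert.upto_zero _
theorem up1 : cert.Upto 3 := up0.alive params blk0 (by decide)

theorem covers {G : Type*} [Group G] {g : ℕ → G} {H : Subgroup G}
    (h : Sat g H 6 iv rels subs) : Covers g 6 H 3 :=
  PCert.covers (p := cert) params rules (by decide +kernel) up1 h

end CL.T43.He.Eaec

namespace CL.T43.He
open CL.CE CL.K CL.Reg

def iv (a : ℕ) : ℕ := [1,0,3,2,5,4].getD a a
def Rels : List (List ℕ) := [[0,1], [1,0], [2,3], [3,2], [4,5], [5,4], [0,0,0], [2,2,2], [4,4,4], [2,4,3,5,1], [0,2,1,3], [0,4,1,5]]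

theorem idx_ae {G : Type*} [Group G] {g : ℕ → G} (h : Pres g iv Rels) :
    IdxLe (gen g []) (gen g [[0], [1], [2], [3]]) 9 :=
  h.idxLe _ _ CL.T43.He.Eae.covers (by decide +kernel)

theorem le_ae {G : Type*} [Group G] {g : ℕ → G} (h : Pres g iv Rels) :
    CardLe (gen g [[0], [1], [2], [3]]) 9 :=
  (idx_ae h).cardLe (cardLe_nil g) (by norm_num)

theorem idx_aec {G : Type*} [Group G] {g : ℕ → G} (h : Pres g iv Rels) :
    IdxLe (gen g [[0], [1], [2], [3]]) (gen g [[0], [1], [2], [3], [4], [5]]) 3 :=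
  h.idxLe _ _ CL.T43.He.Eaec.covers (by decide +kernel)

theorem le_aec {G : Type*} [Group G] {g : ℕ → G} (h : Pres g iv Rels) :
    CardLe (gen g [[0], [1], [2], [3], [4], [5]]) 27 :=
  (idx_aec h).cardLe (le_ae h) (by norm_num)

noncomputable def H_T : ℕ := nat_lit 0x28c82ad25d5319bd167b63499dd285708a9a5acacd6bc19a997113dcb47e624bbb5624b29a61e356ab71c1b8ccda295d4613b0f4975458904ae44c38d21d40ce0aa392b6d83848cbcc281aca0b55ca01a936a6511818883c0459dcd62c2052507008c520c41
noncomputable def H_W : ℕ := nat_lit 0x461351541631046036045035064054063053062052042032061051041031006005004003002001000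
noncomputable def H_I : ℕ := nat_lit 0x6757c3e3094eb4b2547435cb614c320440
noncomputable def H_dat : Dat := ⟨nat_lit 27, nat_lit 6, nat_lit 3, [1,0,3,2,5,4], tb (nat_lit 6) (nat_lit 5) (nat_lit 31) H_T,
  fld (nat_lit 12) (nat_lit 4095) H_W, fld (nat_lit 5) (nat_lit 31) H_I⟩
theorem H_chk : H_dat.Chk Rels :=
  Dat.chk_of (a := 3) (b := 9) (by decide +kernel) rfl (by decide +kernel)
theorem H_good : H_dat.Good Rels := H_chk.good fun _ hg => le_aec hg
/-- the group of the table -/
abbrev H : Type := RG H_dat H_good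
theorem H_hom {G : Type*} [Group G] {g : ℕ → G} (hg : Pres g iv Rels) :
    ∃ φ : H →* G, φ.range = gen g [[0], [1], [2], [3], [4], [5]] ∧
      ∀ w : List ℕ, ltAll 6 w = true → φ (RG.wd H_good w) = ev g w :=
  RG.exists_hom hg fun _ hg' => le_aec hg'

noncomputable def a : H := RG.mk' H_good (nat_lit 1)
noncomputable def e : H := RG.mk' H_good (nat_lit 3)
noncomputable def c : H := RG.mk' H_good (nat_lit 5)
theorem wd_a : RG.wd H_good [0] = a := by decide +kernel
theorem wd_e : RG.wd H_good [2] = e := by decide +kernel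
theorem wd_c : RG.wd H_good [4] = c := by decide +kernel

end CL.T43.He

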