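/- The model `Sp(6,2)` of the presentation `T42P.Q.RelsS`. -/
import Mathlib
import Cfsg.Agent.PERM.T42T
import Cfsg.Agent.PERM.T43M
import Cfsg.Agent.S0245
import Cfsg.Agent.S0246

set_option autoImplicit false
set_option maxRecDepth 100000

namespace CL.T42

open Subgroup CL.CE CL.A10 CL.T43 Cfsg Matrix

def Ln : List (symplecticGroup (Fin 3) (ZMod 2)) := [
  ⟨Matrix.fromBlocks !![0, 1, 0; 1, 0, 0; 0, 0, 1] !![0, 0, 0; 0, 0, 0; 0, 0, 0] !![0, 0, 0; 0, 0, 0; 0, 0, 0] !![0, 1, 0; 1, 0, 0; 0, 0, 1], by rw [SymplecticGroup.mem_iff]; decide +kernel⟩,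
  ⟨Matrix.fromBlocks !![0, 0, 0; 0, 0, 0; 0, 0, 1] !![1, 0, 0; 0, 1, 0; 0, 0, 0] !![1, 0, 0; 0, 1, 0; 0, 0, 0] !![0, 0, 0; 0, 0, 0; 0, 0, 1], by rw [SymplecticGroup.mem_iff]; decide +kernel⟩,
  ⟨Matrix.fromBlocks !![0, 0, 0; 0, 1, 0; 0, 0, 1] !![1, 0, 0; 0, 0, 0; 0, 0, 0] !![1, 0, 0; 0, 0, 0; 0, 0, 0] !![1, 0, 0; 0, 1, 0; 0, 0, 1], by rw [SymplecticGroup.mem_iff]; decide +kernel⟩,
  ⟨Matrix.fromBlocks !![1, 0, 0; 0, 1, 0; 0, 0, 1] !![1, 0, 0; 0, 0, 0; 0, 0, 0] !![1, 0, 0; 0, 0, 0; 0, 0, 0] !![0, 0, 0; 0, 1, 0; 0, 0, 1], by rw [SymplecticGroup.mem_iff]; decide +kernel⟩,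
  ⟨Matrix.fromBlocks !![1, 0, 0; 0, 0, 0; 0, 0, 1] !![0, 0, 0; 0, 1, 0; 0, 0, 0] !![0, 0, 0; 0, 1, 0; 0, 0, 0] !![1, 0, 0; 0, 1, 0; 0, 0, 1], by rw [SymplecticGroup.mem_iff]; decide +kernel⟩,
  ⟨Matrix.fromBlocks !![1, 0, 0; 0, 1, 0; 0, 0, 1] !![0, 0, 0; 0, 1, 0; 0, 0, 0] !![0, 0, 0; 0, 1, 0; 0, 0, 0] !![1, 0, 0; 0, 0, 0; 0, 0, 1], by rw [SymplecticGroup.mem_iff]; decide +kernel⟩,
  ⟨Matrix.fromBlocks !![1, 0, 0; 0, 1, 0; 0, 0, 0] !![0, 0, 0; 0, 0, 0; 0, 0, 1] !![0, 0, 0; 0, 0, 0; 0, 0, 1] !![1, 0, 0; 0, 1, 0; 0, 0, 1], by rw [SymplecticGroup.mem_iff]; decide +kernel⟩,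
  ⟨Matrix.fromBlocks !![1, 0, 0; 0, 1, 0; 0, 0, 1] !![0, 0, 0; 0, 0, 0; 0, 0, 1] !![0, 0, 0; 0, 0, 0; 0, 0, 1] !![1, 0, 0; 0, 1, 0; 0, 0, 0], by rw [SymplecticGroup.mem_iff]; decide +kernel⟩,
  ⟨Matrix.fromBlocks !![0, 0, 1; 1, 0, 0; 0, 1, 0] !![0, 0, 0; 0, 0, 0; 0, 0, 0] !![0, 0, 0; 0, 0, 0; 0, 0, 0] !![0, 0, 1; 1, 0, 0; 0, 1, 0], by rw [SymplecticGroup.mem_iff]; decide +kernel⟩,
  ⟨Matrix.fromBlocks !![0, 1, 0; 0, 0, 1; 1, 0, 0] !![0, 0, 0; 0, 0, 0; 0, 0, 0] !![0, 0, 0; 0, 0, 0; 0, 0, 0] !![0, 1, 0; 0, 0, 1; 1, 0, 0], by rw [SymplecticGroup.mem_iff]; decide +kernel⟩,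
  ⟨Matrix.fromBlocks !![1, 0, 1; 0, 1, 1; 1, 1, 1] !![1, 1, 0; 1, 1, 0; 0, 0, 0] !![1, 1, 0; 1, 1, 0; 0, 0, 0] !![0, 1, 1; 1, 0, 1; 1, 1, 1], by rw [SymplecticGroup.mem_iff]; decide +kernel⟩,
  ⟨Matrix.fromBlocks !![0, 1, 1; 1, 0, 1; 1, 1, 1] !![1, 1, 0; 1, 1, 0; 0, 0, 0] !![1, 1, 0; 1, 1, 0; 0, 0, 0] !![1, 0, 1; 0, 1, 1; 1, 1, 1], by rw [SymplecticGroup.mem_iff]; decide +kernel⟩,
  ⟨Matrix.fromBlocks !![0, 0, 0; 0, 0, 0; 0, 0, 0] !![1, 0, 0; 0, 1, 0; 0, 0, 1] !![1, 0, 0; 0, 1, 0; 0, 0, 1] !![0, 0, 0; 0, 0, 0; 0, 0, 0], by rw [SymplecticGroup.mem_iff]; decide +kernel⟩,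
  ⟨Matrix.fromBlocks !![0, 1, 0; 1, 0, 0; 0, 0, 1] !![1, 1, 0; 1, 1, 0; 0, 0, 0] !![1, 1, 0; 1, 1, 0; 0, 0, 0] !![0, 1, 0; 1, 0, 0; 0, 0, 1], by rw [SymplecticGroup.mem_iff]; decide +kernel⟩]

def tabn : List (List ℕ) := [[], [13, 3, 13, 2, 13], [13, 5, 13, 4, 13], [4, 2, 13, 3, 5], [9, 13, 3, 13, 2, 13, 8], [11, 3, 13, 2, 10], [10, 3, 13, 2, 11], [10, 9, 13, 3, 13, 2, 13, 8, 11], [13, 2, 13, 3, 13], [2, 13, 2, 13, 3, 13, 3], [4, 3, 13, 2, 5], [4, 13, 5], [9, 5, 2, 13, 3, 4, 8], [9, 2, 13, 3, 8], [4, 13, 11, 3, 13, 2, 10, 13, 5], [13, 7, 11, 2, 13, 3, 10, 6, 13], [13, 4, 13, 5, 13], [5, 2, 13, 3, 4], [4, 13, 4, 13, 5, 13, 5], [2, 13, 3], [7, 11, 2, 13, 3, 10, 6], [2, 13, 10, 3, 13, 2, 11, 13, 3], [8, 4, 13, 5, 9], [13, 9, 5, 2, 13, 3, 4, 8, 13], [5, 3, 13, 2, 4], [5, 13, 4], [3, 13, 2], [13], [3, 13, 10, 3, 13, 2, 11, 13, 2], [13,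 10, 3, 13, 2, 11, 13], [13, 11, 3, 13, 2, 10, 13], [8, 13, 8, 3, 13, 2, 9, 13, 9], [9, 13, 2, 13, 3, 13, 8], [10, 8, 2, 13, 3, 9, 11], [8, 5, 2, 13, 3, 4, 9], [4, 13, 10, 2, 13, 3, 11, 13, 5], [9, 2, 13, 2, 13, 3, 13, 3, 8], [9, 4, 13, 5, 8], [8, 2, 13, 3, 9], [2, 13, 8, 3, 13, 2, 9, 13, 3], [10, 2, 13, 3, 11], [9, 3, 13, 2, 8], [3, 13, 11, 2, 13, 3, 10, 13, 2], [13, 11, 2, 13, 3, 10, 13], [9, 5, 13, 4, 8], [9, 13, 8], [8, 13, 10, 2, 13, 3, 11, 13, 9], [13, 8, 3, 13, 2, 9, 13], [11, 2, 13, 3, 10], [5, 13, 10, 2, 13, 3, 11, 13, 4], [8, 5, 13, 4, 9], [13, 10, 2, 13, 3, 11, 13], [8, 3, 13, 2, 9], [2, 13, 8, 2, 13, 3, 9, 13, 3], [8, 13, 9], [13, 9, 5, 13, 4, 8, 13], [10, 9, 13, 2, 13, 3, 13, 8, 11], [13, 8, 5, 2, 13, 3, 4, 9, 13], [13, 10, 8, 2, 13, 3, 9, 11, 13], [8, 13, 8, 2, 13, 3, 9, 13, 9], [3, 13, 8, 2, 13, 3, 9, 13, 2], [13, 8,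 2, 13, 3, 9, 13], [13, 9, 4, 13, 5, 8, 13], [4, 13, 8, 2, 13, 3, 9, 13, 5]]

def twn (v : Fin 3 ⊕ Fin 3 → ZMod 2) : List ℕ :=
  tabn.getD ((v (.inl 0)).val + 2 * (v (.inl 1)).val + 4 * (v (.inl 2)).val + 8 * (v (.inr 0)).val +
    16 * (v (.inr 1)).val + 32 * (v (.inr 2)).val) []

theorem reln : ∀ r ∈ Q.RelsS, (ev (lets Ln) r).1 = 1 := by
  decide +kernel

theorem twn_eq : ∀ v, (ev (lets Ln) (twn v)).1 = sympTransvection 3 v 1 := by decide +kernel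

theorem pres_l {G : Type*} [Group G] (l : List G) {Rels : List (List ℕ)}
    (h : ∀ r ∈ Rels, ev (lets l) r = 1) {n : ℕ} (hl : l.length = n) (hn : 12 ≤ n)
    (hc : ∀ a < n, [a, P.iv a] ∈ Rels) : Pres (lets l) P.iv Rels := by
  refine ⟨fun a => ?_, h⟩
  by_cases ha : a < n
  · have := h _ (hc a ha)
    rw [ev_cons, ev_singleton] at this
    exact eq_inv_of_mul_eq_one_right this
  · rw [P.iv, List.getD_eq_default _ _ (by simp; omega), lets, List.getD_eq_default _ _ (by omega), inv_one]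

theorem le_H {G : Type*} [Group G] {g : ℕ → G} (h : Pres g P.iv Q.RelsH) :
    CardLe (gen g (wsn 12)) 25920 := (show P.ws = wsn 12 by decide) ▸ Q.le_H h

theorem le_L {G : Type*} [Group G] {g : ℕ → G} (h : Pres g P.iv Q.RelsL) :
    CardLe (gen g (wsn 13)) 51840 := (show Q.wsL = wsn 13 by decide) ▸ Q.le_L h

theorem le_S {G : Type*} [Group G] {g : ℕ → G} (h : Pres g P.iv Q.RelsS) :
    CardLe (gen g (wsn 14)) 1451520 := (show Q.wsS = wsn 14 by decide) ▸ Q.le_S h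

theorem exists_sp {F : Type*} [Field F] [Fintype F] (hF : Fintype.card F = 2) :
    ∃ m : ℕ → symplecticGroup (Fin 3) F, Pres m P.iv Q.RelsS ∧ gen m (wsn 14) = ⊤ ∧
      IsSimpleGroup (symplecticGroup (Fin 3) F) ∧ Nat.card (symplecticGroup (Fin 3) F) = 1451520 := by
  classical
  have ι : ZMod 2 ≃+* F := ZMod.ringEquivOfPrime F (by norm_num) hF
  let Φ := CL.Sp.spMap 3 ι.toRingHom
  have hs : Function.Surjective Φ := fun y =>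
    ⟨CL.Sp.spMap 3 ι.symm.toRingHom y, by ext u v; simp [Φ, CL.Sp.spMap_coe]⟩
  have he : ∀ w, ev (lets (Ln.map Φ)) w = Φ (ev (lets Ln) w) := fun w => by
    rw [map_ev]; exact ev_congr fun a _ => lets_map Φ Ln a
  refine ⟨lets (Ln.map Φ), pres_l _ (fun r hr => by
    rw [he, show ev (lets Ln) r = 1 from Subtype.ext (reln r hr), map_one]) (n := 14) rfl
    (by norm_num) (by decide +kernel), ?_, ?_, by rw [Cfsg.Agent.S0245.result hF 3]; decide⟩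
  · rw [← map_top_of_surjective Φ hs, ← CL.Sp.eq_top_of_sympTransvection_mem
      (N := (gen (lets (Ln.map Φ)) (wsn 14)).comap Φ) fun v c => ?_, map_comap_eq_self_of_surjective hs]
    rcases (by decide : ∀ c : ZMod 2, c = 0 ∨ c = 1) c with rfl | rfl
    · exact (show (⟨_, CL.Sp.sympTransvection_mem v 0⟩ : symplecticGroup (Fin 3) (ZMod 2)) = 1 from
        Subtype.ext (by simp [sympTransvection])) ▸ one_mem _
    · rw [mem_comap, show (⟨_, CL.Sp.sympTransvection_mem v 1⟩ : symplecticGroup (Fin 3) (ZMod 2)) =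
        ev (lets Ln) (twn v) from Subtype.ext (twn_eq v).symm, ← he]
      exact ev_mem_wsn _ ((by decide +kernel : ∀ v, ∀ a ∈ twn v, a < 14) v)
  · have h1 := Cfsg.Agent.S0270.result (F := F) 3 (by norm_num) (by norm_num)
    have h2 : center (symplecticGroup (Fin 3) F) = ⊥ :=
      card_eq_one.1 (Cfsg.Agent.S0246.result hF 3 (by norm_num))
    have e : symplecticGroup (Fin 3) F ≃* PSp 3 F := MulEquiv.ofBijective (QuotientGroup.mk' _)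
      ⟨(MonoidHom.ker_eq_bot_iff _).1 ((QuotientGroup.ker_mk' _).trans h2), QuotientGroup.mk'_surjective _⟩
    exact e.isSimpleGroup

theorem Same.symm {G G' : Type*} [Group G] [Group G'] {n : ℕ} {g : ℕ → G} {g' : ℕ → G'}
    (h : Same n g g') : Same n g' g := fun v w hv hw => (h v w hv hw).symm

theorem Same.trans {G G' G'' : Type*} [Group G] [Group G'] [Group G''] {n : ℕ} {g : ℕ → G}
    {g' : ℕ → G'} {g'' : ℕ → G''} (h : Same n g g') (h' : Same n g' g'') : Same n g g'' :=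
  fun v w hv hw => (h v w hv hw).trans (h' v w hv hw)

theorem sp_iso {G : Type*} [Group G] {g : ℕ → G} (h : Pres g P.iv Q.RelsS) (h0 : g 0 ≠ 1)
    {F : Type*} [Field F] [Fintype F] (hF : Fintype.card F = 2) :
    Same 14 g (PM.σ PB_ok) ∧ Nat.card (gen g (wsn 14)) = 1451520 ∧
      Nonempty (gen g (wsn 14) ≃* symplecticGroup (Fin 3) F) := by
  obtain ⟨m, hm, hg, hs, hc⟩ := exists_sp hF
  have e := (MulEquiv.subgroupCongr hg).trans topEquiv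
  have hc' := (Nat.card_congr e.toEquiv).trans hc
  obtain ⟨h1, ⟨e1⟩⟩ := same_of_simple (le_S (hm.prod h)) hc'.ge e.isSimpleGroup (by norm_num) h0
  obtain ⟨h2, -⟩ := same_of_simple (le_S (hm.prod PB_pres)) hc'.ge e.isSimpleGroup (by norm_num)
    fun h => by
      have := PM.sup_eq PB_ok (w := [0]) (by decide)
      rw [ev_singleton, h] at this
      exact absurd this (by simp only [Equiv.Perm.support_one, Finset.card_empty]; decide +kernel)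
  exact ⟨h1.symm.trans h2, (Nat.card_congr e1.toEquiv).symm.trans hc', ⟨e1.symm.trans e⟩⟩

end CL.T42
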