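import Mathlib
import Cfsg.Agent.PERM.CEGlue
import Cfsg.Agent.SPOR.F4

/-!
Matrices over the field with four elements as matrices over `ZMod 2`.
-/

set_option autoImplicit false

namespace CL.CG

open CL.PM Matrix

/-- the regular representation of the field with four elements -/
def e4 : F4 →+* Matrix (Fin 2) (Fin 2) (ZMod 2) where
  toFun x := match x with
    | .o => !![0, 0; 0, 0] | .l => !![1, 0; 0, 1] | .w => !![0, 1; 1, 1] | .v => !![1, 1; 1, 0]
  map_one' := by decide
  map_zero' := by decide
  map_mul' := by decide
  map_add' := by decide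

theorem charP_F4 : CharP F4 2 :=
  (CharP.charP_iff_prime_eq_zero Nat.prime_two).2 (by decide)

/-- a representation over `F4`, written over `ZMod 2` -/
def rep4 {G : Type*} [Group G] {n : ℕ} (ρ : G →* Matrix (Fin n) (Fin n) F4) :
    G →* Matrix (Fin (n * 2)) (Fin (n * 2)) (ZMod 2) := (blk e4 n).toMonoidHom.comp ρ

theorem rep4_injective {G : Type*} [Group G] {n : ℕ} {ρ : G →* Matrix (Fin n) (Fin n) F4}
    (h : Function.Injective ρ) : Function.Injective (rep4 ρ) := (blk_injective e4 n).comp h

end CL.CG
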