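import Mathlib
import Cfsg.Agent.PERM.S8One

/-!
Finite facts about `S₅` and `S₆`.
-/

set_option autoImplicit false
set_option maxRecDepth 100000

namespace CL.Odd.A8

open Equiv

abbrev a5 : S5 := s5 * w5
def b5 : S5 := swap 0 3 * swap 1 2
def e6 (i : Fin 6) : S5 := c5 ^ (i.val % 3) * a5 ^ (i.val / 3)

theorem e6_mem {K : Subgroup S5} (h1 : c5 ∈ K) (h2 : a5 ∈ K) (i : Fin 6) : e6 i ∈ K :=
  K.mul_mem (K.pow_mem h1 _) (K.pow_mem h2 _)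

theorem word3 : ∀ ρ : S5, ρ = 1 ∨ ρ = s5 ∨ ∃ i j,
    O3 (ρ * (e6 i * ρ * (e6 i)⁻¹) * ρ * (e6 j * ρ * (e6 j)⁻¹)) := by decide +kernel

theorem sub3 {K : Subgroup S5} (h1 : c5 ∈ Subgroup.normalizer (K : Set S5))
    (h2 : a5 ∈ Subgroup.normalizer (K : Set S5)) (h3 : ∀ ρ ∈ K, ρ ^ 3 = 1 → ρ = 1) {ρ : S5}
    (h : ρ ∈ K) : ρ = 1 ∨ ρ = s5 := by
  rcases word3 ρ with e | e | ⟨i, j, e⟩
  exacts [Or.inl e, Or.inr e, (e.1 (h3 _ (K.mul_mem (K.mul_mem (K.mul_mem h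
    ((Subgroup.mem_normalizer_iff.mp (e6_mem h1 h2 i) ρ).mp h)) h)
    ((Subgroup.mem_normalizer_iff.mp (e6_mem h1 h2 j) ρ).mp h)) e.2)).elim]

theorem dcoset : ∀ ρ : S5, Perm.sign ρ = 1 → (ρ * s5 = s5 * ρ ∧ ∃ i, ρ = e6 i) ∨
    ∃ i j, ρ = e6 i * α1 * e6 j ∨ ρ = e6 i * b5 * e6 j := by decide +kernel

theorem genA5 {K : Subgroup S5} (h1 : c5 ∈ K) (h2 : a5 ∈ K) {π : S5} (h3 : π ∈ K)
    (h4 : Perm.sign π = 1) (h5 : π * s5 ≠ s5 * π) {ρ : S5} (h : Perm.sign ρ = 1) : ρ ∈ K := by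
  have m := e6_mem h1 h2
  have k : α1 ∈ K ∧ b5 ∈ K := by
    obtain ⟨i, j, e | e⟩ := (dcoset π h4).resolve_left fun e => h5 e.1 <;>
      rw [e, K.mul_mem_cancel_right (m j), K.mul_mem_cancel_left (m i)] at h3
    · exact ⟨h3, (show e6 1 * α1 * e6 5 * α1 * e6 2 = b5 by decide) ▸
        mul_mem (mul_mem (mul_mem (mul_mem (m 1) h3) (m 5)) h3) (m 2)⟩
    · exact ⟨(show e6 0 * b5 * e6 2 * b5 * e6 3 = α1 by decide) ▸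
        mul_mem (mul_mem (mul_mem (mul_mem (m 0) h3) (m 2)) h3) (m 3), h3⟩
  rcases dcoset ρ h with ⟨-, i, e⟩ | ⟨i, j, e | e⟩ <;> rw [e]
  exacts [m i, mul_mem (mul_mem (m i) k.1) (m j), mul_mem (mul_mem (m i) k.2) (m j)]

theorem cent_c5 : ∀ ρ : S5, Perm.sign ρ = 1 → ρ * c5 = c5 * ρ → ρ = 1 ∨ ρ = c5 ∨ ρ = c5⁻¹ := by
  decide +kernel

theorem cent_sa : ∀ ρ : S5, ρ * a5 = a5 * ρ → (ρ * s5 = s5 * ρ → ρ = 1 ∨ ρ = s5 ∨ ρ = w5 ∨ ρ = a5) ∧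
    (Perm.sign ρ = 1 → ρ = 1 ∨ ρ = a5 ∨ ρ = b5 ∨ ρ = b5 * a5) := by decide +kernel

theorem conj_ev : ∀ ρ : S5, (ρ * ρ = 1 → ρ = 1 ∨ ∃ π : S5, Perm.sign π = 1 ∧
    (π * a5 * π⁻¹ = ρ ∨ π * s5 * π⁻¹ = ρ)) ∧
    (ρ ^ 3 = 1 → ρ = 1 ∨ ∃ π : S5, Perm.sign π = 1 ∧ π * c5 * π⁻¹ = ρ) := by decide +kernel

theorem ord_ev : ∀ ρ : S5, (Perm.sign ρ = 1 → ρ ^ 2 = 1 ∨ ρ ^ 3 = 1 ∨ ρ ^ 5 = 1) ∧
    (ρ ^ 5 = 1 → ρ = 1 ∨ Perm.sign ρ = 1 ∧ ρ * s5 ≠ s5 * ρ) ∧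
    (ρ ^ 3 = 1 → ρ * s5 = s5 * ρ → ρ * c5 = c5 * ρ) := by decide +kernel

set_option synthInstance.maxSize 2048 in
theorem s6_aux' : ∀ u ∈ ([swap 0 1, swap 0 1 * swap 2 3, swap 0 1 * swap 2 3 * swap 4 5] :
    List (Perm (Fin 6))), ∀ a, a * u = u * a → a ^ 3 = 1 → a ≠ 1 → ∃ p, p * u = u * p ∧ p ^ 3 = 1 ∧
      (a * p) ^ 2 = 1 ∧ (a * p⁻¹) ^ 4 ≠ 1 ∧ p * a ≠ a * p ∧ ∀ q, q * u = u * q → q ^ 3 = 1 →
        q * a = a * q ∨ ∃ i : Fin 3, a ^ i.val * p * (a ^ i.val)⁻¹ = q ∨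
          a ^ i.val * p⁻¹ * (a ^ i.val)⁻¹ = q := by decide +kernel

theorem s6_five {u a : Perm (Fin 6)} (u2 : u * u = 1) (u1 : u ≠ 1) (ha : a * u = u * a)
    (a3 : a ^ 3 = 1) (a1 : a ≠ 1) : ∃ p, p * u = u * p ∧ p ^ 3 = 1 ∧
      (a * p) ^ 2 = 1 ∧ (a * p⁻¹) ^ 4 ≠ 1 ∧ p * a ≠ a * p ∧ ∀ q, q * u = u * q → q ^ 3 = 1 →
        q * a = a * q ∨ ∃ i : Fin 3, a ^ i.val * p * (a ^ i.val)⁻¹ = q ∨
          a ^ i.val * p⁻¹ * (a ^ i.val)⁻¹ = q := by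
  obtain ⟨v, hv, hc⟩ : ∃ v ∈ ([swap 0 1, swap 0 1 * swap 2 3, swap 0 1 * swap 2 3 * swap 4 5] :
      List (Perm (Fin 6))), IsConj v u := by
    obtain ⟨h1, h2, h3⟩ := card_support_two u2 u1
    obtain h | h | h : u.support.card = 2 ∨ u.support.card = 4 ∨ u.support.card = 6 := by omega
    · exact ⟨swap 0 1, by simp, (isConj_of_support u2 (by decide) (h.trans (by decide))).symm⟩
    · exact ⟨swap 0 1 * swap 2 3, by simp,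
        (isConj_of_support u2 (by decide) (h.trans (by decide))).symm⟩
    · exact ⟨swap 0 1 * swap 2 3 * swap 4 5, by simp,
        (isConj_of_support u2 (by decide) (h.trans (by decide))).symm⟩
  obtain ⟨g, rfl⟩ := isConj_iff.mp hc
  obtain ⟨a, rfl⟩ := (MulAut.conj g).surjective a
  simp only [MulAut.conj_apply, conj_mul, conj_pow, mul_left_inj, mul_right_inj, ne_eq,
    conj_eq_one_iff] at ha a3 a1 ⊢
  obtain ⟨p, h1, h2, h3, h4, h5, h6⟩ := s6_aux' _ hv a ha a3 a1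
  refine ⟨g * p * g⁻¹, ?_, ?_, ?_, ?_, ?_, fun q => ?_⟩
  rotate_right
  · obtain ⟨q, rfl⟩ := (MulAut.conj g).surjective q
    simpa only [MulAut.conj_apply, conj_mul, conj_pow, conj_inv, mul_left_inj, mul_right_inj,
      conj_eq_one_iff] using h6 q
  all_goals simpa only [conj_mul, conj_pow, conj_inv, mul_left_inj, mul_right_inj, conj_eq_one_iff]

end CL.Odd.A8
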