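import Mathlib
import Cfsg.Agent.PERM.S8Fin
import Cfsg.Agent.SOLV.Core

/-!
The three-local data of `S₈`, exceptional case: centralizers of four-groups.
-/

set_option autoImplicit false
set_option maxRecDepth 100000
set_option linter.unusedSectionVars false

namespace CL.Odd.A8

open Equiv Cfsg

variable {G : Type*} [Group G]

theorem exists_norm_sylow [Finite G] {D C : Subgroup G} (hD : D ≤ Subgroup.normalizer (C : Set G))
    (p : ℕ) [Fact p.Prime] :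
    (¬ Nat.card D ∣ Nat.card (Sylow p C) → ∃ P : Sylow p C, ∃ d ∈ D, d ≠ 1 ∧
      ∀ a ∈ (P : Subgroup C).map C.subtype, d * a * d⁻¹ ∈ (P : Subgroup C).map C.subtype) ∧
    (IsPGroup 3 D → ¬ 3 ∣ Nat.card (Sylow p C) → ∃ P : Sylow p C, ∀ d ∈ D,
      ∀ a ∈ (P : Subgroup C).map C.subtype, d * a * d⁻¹ ∈ (P : Subgroup C).map C.subtype) := by
  let _ := MulDistribMulAction.compHom C (C.normalizerMonoidHom.comp (Subgroup.inclusion hD))
  have k : ∀ (d : D) (P : Sylow p C), d • P = P → ∀ a ∈ (P : Subgroup C).map C.subtype,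
      d * a * (d : G)⁻¹ ∈ (P : Subgroup C).map C.subtype := by
    rintro d P e _ ⟨a, ha, rfl⟩
    exact ⟨d • a, by rw [← e]; exact Subgroup.smul_mem_pointwise_smul a d _ ha, rfl⟩
  refine ⟨fun h => ?_, fun hp h => ?_⟩
  · by_contra! hc
    refine h ?_
    rw [Nat.card_congr (MulAction.selfEquivOrbitsQuotientProd (G := D) (X := Sylow p C)
      fun P => eq_bot_iff.mpr fun d hd => Subtype.ext (by
        by_contra e
        obtain ⟨a, ha, e⟩ := hc P d d.2 e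
        exact e (k d P hd a ha))), Nat.card_prod]
    exact Dvd.intro_left _ rfl
  · obtain ⟨P, hP⟩ := hp.nonempty_fixed_point_of_prime_not_dvd_card (Sylow p C) h
    exact ⟨P, fun d hd => k ⟨d, hd⟩ P (hP _)⟩

theorem eq_one_of_cube [Finite G] {R : Subgroup G} (h3 : ¬ 3 ∣ Nat.card R) {a : G} (ha : a ∈ R)
    (h : a ^ 3 = 1) : a = 1 := by_contra fun e => not_mem_of_not_three_dvd h3 e h ha

/-- modulo a central subgroup of exponent two the element `y` is self-centralizing -/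
theorem sc3_quot' [Finite G] {A : Subgroup G} [A.Normal] (hc : ∀ a ∈ A, ∀ g, g * a = a * g)
    (h2 : ∀ a ∈ A, a * a = 1) {y : G} (hy1 : y ≠ 1) (hy : y ^ 3 = 1)
    (hK : ∀ g, g * y = y * g → g ∈ A ∨ y⁻¹ * g ∈ A ∨ y * g ∈ A) :
    SC3 (G ⧸ A) ∧ (y : G ⧸ A) ≠ 1 ∧ (y : G ⧸ A) ^ 3 = 1 := by
  have t3 : ∀ a ∈ A, a ^ 3 = 1 → a = 1 := fun a h ha => by
    rwa [pow_succ, pow_two, h2 a h, one_mul] at ha
  have h1 : (y : G ⧸ A) ≠ 1 := fun e => hy1 (t3 y ((QuotientGroup.eq_one_iff y).mp e) hy)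
  have h3 : (y : G ⧸ A) ^ 3 = 1 := by rw [← QuotientGroup.mk_pow, hy]; rfl
  refine ⟨SC3.of_centralizer (X := Subgroup.zpowers (y : G ⧸ A))
    (card_zpowers_three h1 h3) (le_antisymm (fun g hg => ?_) fun a ha b hb => ?_), h1, h3⟩
  · obtain ⟨g, rfl⟩ := QuotientGroup.mk_surjective g
    have e := hg _ (Subgroup.mem_zpowers _)
    have e' : y⁻¹ * (g * y * g⁻¹) ∈ A := by
      rw [← QuotientGroup.eq]
      simp only [QuotientGroup.mk_mul, QuotientGroup.mk_inv]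
      rw [← e]; group
    have e2 := (show Commute y _ from hc _ e' y).mul_pow 3
    rw [mul_inv_cancel_left, conj_pow, hy] at e2
    rw [mem_zpowers_three h3, QuotientGroup.eq_one_iff, eq_comm, QuotientGroup.eq, eq_comm,
      ← QuotientGroup.mk_inv, QuotientGroup.eq, inv_inv]
    exact hK g (mul_inv_eq_iff_eq_mul.mp (inv_mul_eq_one.mp (t3 _ e' (by simpa using e2.symm))).symm)
  · obtain ⟨i, rfl⟩ := ha
    obtain ⟨j, rfl⟩ := hb
    exact (Commute.zpow_zpow_self _ j i).eq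

theorem card_A5 : Nat.card (alternatingGroup (Fin 5)) = 60 := by
  have := two_mul_nat_card_alternatingGroup (α := Fin 5)
  rw [Nat.card_perm, Nat.card_fin, show Nat.factorial 5 = 120 from rfl] at this
  omega

theorem card_L27 : Nat.card (Matrix.ProjectiveSpecialLinearGroup (Fin 2) (ZMod 7)) = 168 := by
  have : Fact (Nat.Prime 7) := ⟨by norm_num⟩
  have := CL.GL2.gcd_mul_card_PSL2 (F := ZMod 7)
  rw [ZMod.card, show Nat.gcd 2 (7 - 1) = 2 from rfl] at this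
  exact Nat.eq_of_mul_eq_mul_left two_pos this

theorem fake_aux {a v s s' r x q : G} (s2 : s * s = 1) (s'2 : s' * s' = 1)
    (c2 : s * a = a * s) (c3 : s' * a = a * s') (v1 : v * a * v⁻¹ = s * s' * a)
    (v2 : v * s * v⁻¹ = s) (v3 : v * s' * v⁻¹ = s') (r1 : r * a * r⁻¹ = a * s')
    (r2 : r * s * r⁻¹ = s) (r3 : r * s' * r⁻¹ = s') (x1 : x * s' * x⁻¹ = a)
    (x2 : x * a * x⁻¹ = a * s') (x3 : x * s * x⁻¹ = s) (hq : q = x * (v * r) * x⁻¹) :
    q * s' * q⁻¹ = s * s' ∧ q * r * q⁻¹ * v ∈ cz s' ⊓ cz a ⊓ cz s := by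
  have k : ∀ b, q * (x * b * x⁻¹) * q⁻¹ = x * (v * (r * b * r⁻¹) * v⁻¹) * x⁻¹ := fun b => by
    rw [hq]; group
  have k' : ∀ b c, q * c * q⁻¹ = v * b * v⁻¹ → r * c * r⁻¹ = c ∨ q * (r * c * r⁻¹) * q⁻¹ = b →
      q * r * q⁻¹ * v * b * (q * r * q⁻¹ * v)⁻¹ = q * (r * c * r⁻¹) * q⁻¹ := fun b c e _ => by
    calc _ = q * r * q⁻¹ * (v * b * v⁻¹) * (q * r * q⁻¹)⁻¹ := by group
      _ = _ := by rw [← e]; group
  have e : s' * a * s' = a := by rw [c3, mul_assoc, s'2, mul_one]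
  have qa : q * a * q⁻¹ = a := by rw [← x1, k, r3, v3]
  have qs : q * s * q⁻¹ = s := by rw [← x3, k, r2, v2]
  have qs' : q * s' * q⁻¹ = s * s' := by
    have := k a
    rw [x2, r1, ← conj_mul (b := v), v1, v3, mul_assoc s, mul_assoc s, e, ← conj_mul (b := x), x2, x3,
      ← conj_mul, qa, ← mul_assoc s, c2, mul_assoc a, mul_right_inj] at this
    exact this
  have qss : q * (s * s') * q⁻¹ = s' := by rw [← conj_mul, qs, qs', ← mul_assoc, s2, one_mul]
  have rss : r * (s * s') * r⁻¹ = s * s' := by rw [← conj_mul, r2, r3]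
  refine ⟨qs', ⟨mem_cz.mpr ?_, mem_cz.mpr ?_⟩, mem_cz.mpr ?_⟩
  · rw [k' _ _ (qss.trans v3.symm) (Or.inl rss), rss, qss]
  · have : q * (r * (s' * a) * r⁻¹) * q⁻¹ = a := by
      rw [← conj_mul (b := r), r3, r1, ← mul_assoc s', e, qa]
    rw [k' _ _ (by rw [← conj_mul, qs', qa, v1]) (Or.inr this), this]
  · rw [k' _ _ (qs.trans v2.symm) (Or.inl r2), r2, qs]

namespace H6

variable [Finite G] {D : Subgroup G} {z σ t : G} {f : S5 →* G} (h : H6 D z σ t f)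
include h

/-- `D`-invariant `3'`-subgroups -/
theorem sig {R K : Subgroup G} (h3 : ¬ 3 ∣ Nat.card R) (hD : D ≤ Subgroup.normalizer (R : Set G))
    (h1 : ∀ ρ, f ρ ∈ R → f ρ ∈ K) (h2 : ∀ ρ, t * f ρ * t⁻¹ ∈ R → t * f ρ * t⁻¹ ∈ K) : R ≤ K := by
  have := h.comm
  have o : ∀ {g}, g ∈ R → ¬ 3 ∣ orderOf g := fun hg e =>
    h3 (e.trans (Subgroup.orderOf_dvd_natCard _ hg))
  have k : ∀ {g}, g ∈ R → g ∈ cz z → g ∈ K := fun {g} hg hz => by
    obtain ⟨ρ, rfl⟩ := h.Z.cent' (mem_cz'.mp hz) (o hg) (pow_orderOf_eq_one g)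
    exact h1 ρ hg
  refine CL.coprime_le_of_forall_centralizer_le D R K (fun hc => ?_) hD (by
    rw [h.card]; exact Nat.Coprime.pow_left 2 ((Nat.Prime.coprime_iff_not_dvd Nat.prime_three).mpr h3))
    fun d hd d1 g ⟨hg, hc⟩ => ?_
  · obtain ⟨g, hg⟩ := IsCyclic.exists_ofOrder_eq_natCard (α := D)
    have := Nat.le_of_dvd (by norm_num) (orderOf_dvd_of_pow_eq_one (n := 3) (Subtype.ext (h.exp g g.2) : g ^ 3 = 1))
    rw [hg, h.card] at this; omega
  · rcases h.cases d hd d1 with e | e | e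
    · rcases e with rfl | rfl
      exacts [k hg hc, k hg (cz_inv z ▸ hc)]
    · obtain ⟨ρ, rfl⟩ := h.sym.Z.cent' (g := g) (mem_cz'.mp (by
        rcases e with rfl | rfl
        exacts [hc, cz_inv (f c5) ▸ hc])) (o hg) (pow_orderOf_eq_one g)
      exact h2 ρ hg
    · refine k hg (mem_cz.mpr (mul_inv_eq_one.mp (eq_one_of_cube h3 ?_ (h.exp _ (D.mul_mem
        ((Subgroup.mem_normalizer_iff.mp (e.1 hc) z).mp h.zD) (D.inv_mem h.zD))))))
      rw [mul_assoc, mul_assoc, ← mul_assoc z]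
      exact R.mul_mem hg ((Subgroup.mem_normalizer_iff.mp (hD h.zD) _).mp (R.inv_mem hg))

theorem disj {a ρ : S5} (h1 : Perm.sign ρ = 1) (e : f a = t * f ρ * t⁻¹) : a = 1 ∧ ρ = 1 := by
  have Z' := h.sym.Z
  have k : ρ = 1 := by
    rcases cent_c5 ρ h1 (Z'.inj (by
      rw [map_mul, map_mul]
      show t * f ρ * t⁻¹ * (t * f c5 * t⁻¹) = t * f c5 * t⁻¹ * (t * f ρ * t⁻¹)
      rw [← e, h.tz', h.Z.fz])) with e' | e' | e'
    · exact e'
    · exact (h.Z.nm ⟨a, by rw [e, e', h.tz']⟩).elim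
    · exact (h.Z.nm ⟨a⁻¹, by rw [map_inv, e, e', map_inv, ← conj_inv, inv_inv, h.tz']⟩).elim
  exact ⟨h.Z.inj (by rw [e, k]; simp), k⟩

theorem rot : Rot (f c5) (f α1) (f α2) :=
  ⟨h.Z.map_ne (by decide), by rw [← map_mul]; exact (congrArg f (by decide)).trans (map_one f),
    by rw [← map_inv, ← map_mul, ← map_mul]; exact congrArg f (by decide),
    by rw [← map_inv, ← map_mul, ← map_mul, ← map_mul]; exact congrArg f (by decide)⟩

theorem mem_four {ρ : S5} (e : f ρ ∈ cz (f α1) ⊓ cz (f α2)) : f ρ ∈ h.rot.four := by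
  rw [h.rot.mem_four, ← map_mul]
  rcases (cent_α ρ (h.Z.inj (by simpa using mem_cz'.mp e.1))
    (h.Z.inj (by simpa using mem_cz'.mp e.2))).2 with rfl | rfl | rfl | rfl <;> simp

variable (hσ : t * σ * t⁻¹ = f a5)
include hσ

theorem tσ : t * f a5 * t⁻¹ = σ := by rw [← hσ, h.tt]

theorem card_cA : Nat.card (cz (f α1) ⊓ cz (f α2) : Subgroup G) ≤ 24 ∨
    Nat.card (cz (f α1) ⊓ cz (f α2) : Subgroup G) = 240 ∨
    Nat.card (cz (f α1) ⊓ cz (f α2) : Subgroup G) = 672 := by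
  set C := cz (f α1) ⊓ cz (f α2)
  have m : ∀ {g}, (∀ ρ, f ρ * g = g * f ρ) → g ∈ C := fun hg =>
    ⟨mem_cz'.mpr (hg _).symm, mem_cz'.mpr (hg _).symm⟩
  have hA : h.rot.four ≤ C :=
    h.rot.four_le ⟨mem_cz'.mpr rfl, mem_cz'.mpr h.rot.comm.symm⟩ ⟨h.rot.s_mem, mem_cz'.mpr rfl⟩
  have hc : ∀ a ∈ h.rot.four.subgroupOf C, ∀ g : C, g * a = a * g := fun a ha g => Subtype.ext
    (mem_cz'.mp (h.rot.four_le (mem_cz_comm.mp g.2.1) (mem_cz_comm.mp g.2.2) ha)).symm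
  have : (h.rot.four.subgroupOf C).Normal := ⟨fun a ha g => by rwa [hc a ha, mul_inv_cancel_right]⟩
  obtain ⟨hS, y1, y3⟩ := sc3_quot' hc (fun a ha => Subtype.ext (h.rot.four_sq _ ha))
    (y := ⟨z, m h.Z.fz⟩) (fun e => h.Z.z1 (congrArg Subtype.val e)) (Subtype.ext h.Z.z3)
    fun g hg => by
      have k : ∀ {b : C} {ρ}, f ρ = b * g → b * g ∈ h.rot.four.subgroupOf C := fun {b ρ} e =>
        show (b : G) * g ∈ h.rot.four from e ▸ h.mem_four (e ▸ (b * g).2)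
      rcases h.Z.all g (congrArg Subtype.val hg) with ⟨ρ, e⟩ | ⟨ρ, e⟩ | ⟨ρ, e⟩
      exacts [Or.inl (by simpa using k (b := 1) (by simpa using e)), Or.inr (Or.inr (k e)),
        Or.inr (Or.inl (k e))]
  have cA : Nat.card (h.rot.four.subgroupOf C) = 4 := by
    rw [Nat.card_congr (Subgroup.subgroupOfEquivOfLe hA).toEquiv, h.rot.card_four]
  obtain ⟨N, hN, hN3, -, hcase⟩ := hS.classification y1 y3
  have hn := normalizer_le_normalizer_map_pPrimeCore (p := 3) C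
  have h3 : ¬ 3 ∣ Nat.card ((pPrimeCore 3 C).map C.subtype) := by
    rw [Subgroup.card_map_of_injective C.subtype_injective]; exact not_dvd_card_pPrimeCore 3 C
  have Z' := h.sym.Z
  have hR := h.sig (K := h.rot.four) h3
    (h.gen _ (hn (Subgroup.le_normalizer (m h.Z.fz))) (hn h.rot.mem_normalizer))
    (fun ρ e => h.mem_four (Subgroup.map_subtype_le _ e)) fun ρ e => by
      have n : ∀ {π : S5}, t * f π * t⁻¹ ∈ C → π ∈ Subgroup.normalizer
          (((pPrimeCore 3 C).map C.subtype).comap ((MulAut.conj t).toMonoidHom.comp f) : Set S5) :=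
        fun hπ => Subgroup.le_normalizer_comap _ (hn (Subgroup.le_normalizer hπ))
      rcases sub3 (n (h.tz'.symm ▸ m h.Z.fz)) (n ((h.tσ hσ).symm ▸ m h.Z.fσ))
        (fun π hπ e => Z'.inj ((eq_one_of_cube h3 hπ (by rw [← map_pow, e, map_one])).trans
          (map_one _).symm)) e with rfl | rfl
      · simp
      · have := mem_cz'.mp (Subgroup.map_subtype_le _ e).1
        rw [h.tr, ← map_mul, ← map_mul] at this
        exact absurd (h.Z.inj this) (by decide)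
  obtain rfl : N = ⊥ := eq_bot_iff.mpr fun n hn => by
    obtain ⟨g, rfl⟩ := QuotientGroup.mk_surjective n
    refine (QuotientGroup.eq_one_iff g).mpr (hR ⟨g, ?_, rfl⟩)
    rw [← comap_mk'_pPrimeCore (h.rot.four.subgroupOf C) (by rw [cA]; norm_num)]
    exact le_pPrimeCore ((Nat.Prime.coprime_iff_not_dvd Nat.prime_three).mpr hN3).symm hn
  have c1 := Subgroup.card_eq_card_quotient_mul_card_subgroup (h.rot.four.subgroupOf C)
  have c2 := Nat.card_congr (QuotientGroup.quotientBot (G := C ⧸ h.rot.four.subgroupOf C)).toEquiv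
  rw [cA] at c1
  rcases hcase with e | ⟨⟨e⟩⟩ | ⟨-, -, ⟨e⟩⟩ | ⟨⟨e⟩⟩
  · omega
  · rw [Nat.card_congr e.toEquiv, Nat.card_perm, Nat.card_fin, show Nat.factorial 3 = 6 from rfl] at c2
    omega
  · rw [Nat.card_congr e.toEquiv, card_A5] at c2; omega
  · rw [Nat.card_congr e.toEquiv, card_L27] at c1; omega

/-- the centralizer of a four-group of `f(A₅)` -/
theorem cA {g : G} (hg : g ∈ cz (f α1) ⊓ cz (f α2)) : ∃ ρ, Perm.sign ρ = 1 ∧
    (∀ π, Perm.sign π = 1 → f π * (t * f ρ * t⁻¹) = t * f ρ * t⁻¹ * f π) ∧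
    (t * f ρ * t⁻¹)⁻¹ * g ∈ h.rot.four := by
  set C := cz (f α1) ⊓ cz (f α2)
  set f' := (MulAut.conj t).toMonoidHom.comp f
  have Z' := h.sym.Z
  have e1 : f' c5 = z := h.tz'
  have e2 : f' a5 = σ := h.tσ hσ
  let K := alternatingGroup (Fin 5) ⊓
    (Subgroup.centralizer ((alternatingGroup (Fin 5)).map f : Set G)).comap f'
  have mK : ∀ {ρ}, ρ ∈ K ↔ Perm.sign ρ = 1 ∧ ∀ π, Perm.sign π = 1 → f π * f' ρ = f' ρ * f π :=
    ⟨fun e => ⟨e.1, fun π hπ => e.2 _ ⟨π, hπ, rfl⟩⟩,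
      fun e => ⟨e.1, by rintro _ ⟨π, hπ, rfl⟩; exact e.2 π hπ⟩⟩
  have k : ∀ {π}, Perm.sign π = 1 → K.map f' ≤ cz (f π) := fun hπ => by
    rintro _ ⟨ρ, hρ, rfl⟩; exact mem_cz'.mpr ((mK.mp hρ).2 _ hπ).symm
  have nm : ∀ {π}, π ≠ 1 → f π ∉ K.map f' := fun h1 ⟨ρ, hρ, e⟩ => h1 (h.disj hρ.1 e.symm).1
  have a2 : ext2 _ h.rot.t2 (k (by decide)) ≤ cz (f α2) :=
    ext2_le (k (by decide)) (mem_cz'.mpr h.rot.comm.symm)
  have m : ∀ {g}, (∀ ρ, f ρ * g = g * f ρ) → g ∈ C := fun hg =>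
    ⟨mem_cz'.mpr (hg _).symm, mem_cz'.mpr (hg _).symm⟩
  have hD : D ≤ Subgroup.normalizer (C : Set G) :=
    h.gen _ (Subgroup.le_normalizer (m h.Z.fz)) h.rot.mem_normalizer
  have key : Nat.card C ≤ 4 * Nat.card K := by
    have hc : Nat.card C ≤ 24 ∨ Nat.card C = 240 ∨ Nat.card C = 672 := h.card_cA hσ
    rcases hc with hc | hc | hc
    · have d2 := Subgroup.orderOf_dvd_natCard K (mK.mpr ⟨by decide, fun π _ => e2 ▸ h.Z.fσ π⟩)
      have d3 := Subgroup.orderOf_dvd_natCard K (mK.mpr ⟨by decide, fun π _ => e1 ▸ h.Z.fz π⟩)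
      rw [orderOf_eq_prime (p := 2) (by decide) (by decide)] at d2
      rw [orderOf_eq_prime (p := 3) (by decide) (by decide)] at d3
      have := Nat.card_pos (α := K)
      omega
    · have : Fact (Nat.Prime 5) := ⟨by norm_num⟩
      obtain ⟨P, d, hd, d1, hP⟩ := (exists_norm_sylow hD 5).1 fun e => by
        have := e.trans ((Sylow.card_dvd_index (Classical.arbitrary (Sylow 5 C))).trans
          (Subgroup.index_dvd_card _))
        rw [h.card, hc] at this; omega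
      have c5' : Nat.card ((P : Subgroup C).map C.subtype) = 5 := by
        rw [Subgroup.card_map_of_injective C.subtype_injective]
        obtain ⟨n, hn⟩ := P.isPGroup'.exists_card_eq
        have a := P.pow_dvd_card_of_pow_dvd_card (n := 1) (by rw [hc]; norm_num)
        have b := Subgroup.card_subgroup_dvd_card (P : Subgroup C)
        rw [hn, Nat.pow_dvd_pow_iff_le_right (by norm_num)] at a
        rw [hn, hc] at b
        rw [hn, show n = 1 from by_contra fun e =>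
          absurd ((pow_dvd_pow 5 (by omega : 2 ≤ n)).trans b) (by norm_num)]
        rfl
      obtain ⟨⟨q, hq, hqd⟩, q1⟩ := (Subgroup.ne_bot_iff_exists_ne_one
          (H := (P : Subgroup C).map C.subtype ⊓ cz d)).mp fun e => by
        have := CL.A10.card_modEq_conj (h.exp d hd) hP
        rw [c5', e, Subgroup.card_bot] at this
        exact absurd this (by decide)
      replace q1 : q ≠ 1 := fun e => q1 (Subtype.ext e)
      have q5 : q ^ 5 = 1 := orderOf_dvd_iff_pow_eq_one.mp (c5' ▸ Subgroup.orderOf_dvd_natCard _ hq)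
      have qC : q ∈ C := Subgroup.map_subtype_le _ hq
      rcases h.cases d hd d1 with e | e | e
      · obtain ⟨ρ, rfl⟩ := h.Z.cent' (g := q) (mem_cz'.mp (by
          rcases e with rfl | rfl
          exacts [hqd, cz_inv z ▸ hqd])) (by decide) q5
        have := pow_gcd_eq_one.mpr ⟨q5, (pow_two _).trans (h.rot.four_sq _ (h.mem_four qC))⟩
        exact absurd (by simpa using this) q1
      · obtain ⟨ρ, rfl⟩ := Z'.cent' (g := q) (mem_cz'.mp (by
          rcases e with rfl | rfl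
          exacts [hqd, cz_inv (f c5) ▸ hqd])) (by decide) q5
        obtain ⟨a, b⟩ := ((ord_ev ρ).2.1 (Z'.inj (by rw [map_pow, q5, map_one]))).resolve_left
          fun e => q1 (by rw [e, map_one])
        rw [hc, show K = alternatingGroup _ from inf_eq_left.mpr fun π hπ => (mK.mpr ⟨hπ, fun κ hκ =>
          mem_cz'.mp (genA5 (K := (cz (f' π)).comap f) (mem_cz'.mpr (Z'.fz π).symm)
            (mem_cz'.mpr (hσ ▸ (Z'.fσ π).symm)) (π := α1) (mem_cz_comm.mp (genA5 (K := C.comap f')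
              (show f' c5 ∈ C from e1 ▸ m h.Z.fz) (show f' a5 ∈ C from e2 ▸ m h.Z.fσ) qC a b hπ).1)
            (by decide) (by decide) hκ)⟩).2, card_A5]
      · have := Subgroup.orderOf_dvd_natCard _ hqd
        rw [orderOf_eq_prime q5 q1, e.2] at this
        omega
    · have : Fact (Nat.Prime 7) := ⟨by norm_num⟩
      obtain ⟨P, hP⟩ := (exists_norm_sylow hD 7).2 (IsPGroup.of_card (n := 2) h.card) (by
        have a := (Sylow.card_dvd_index (Classical.arbitrary (Sylow 7 C))).trans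
          (Subgroup.index_dvd_card _)
        rw [hc] at a
        exact (by decide +kernel : ∀ n ∈ Nat.divisors 672, n % 7 = 1 % 7 → ¬ 3 ∣ n) _
          (Nat.mem_divisors.mpr ⟨a, by norm_num⟩) (card_sylow_modEq_one 7 C))
      have hp : IsPGroup 7 ((P : Subgroup C).map C.subtype) := P.isPGroup'.map _
      have k : ∀ {φ : S5 →* G} (ρ), φ ρ ∈ (P : Subgroup C).map C.subtype → φ ρ ∈ (⊥ : Subgroup G) :=
        fun {φ} ρ e => by
          obtain ⟨n, hn⟩ := hp ⟨_, e⟩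
          have a : φ ρ ^ 120 = 1 := by
            rw [← map_pow, show 120 = Fintype.card S5 by simp [Fintype.card_perm, Nat.factorial],
              pow_card_eq_one, map_one]
          have := pow_gcd_eq_one.mpr ⟨a, (congrArg Subtype.val hn : φ ρ ^ 7 ^ n = 1)⟩
          rwa [Nat.Coprime.pow_right n (by norm_num : Nat.Coprime 120 7), pow_one] at this
      obtain ⟨n, hn⟩ := hp.exists_card_eq
      have := h.sig (by
        rw [hn]; exact fun e => absurd (Nat.prime_three.dvd_of_dvd_pow e) (by norm_num))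
        (fun d hd => Subgroup.mem_normalizer_fintype (hP d hd)) k (k (φ := f'))
      have a := P.not_dvd_index
      rw [(Subgroup.map_eq_bot_iff_of_injective _ C.subtype_injective).mp (eq_bot_iff.mpr this),
        Subgroup.index_bot, hc] at a
      omega
  have := (Subgroup.eq_of_le_of_card_ge (K := C) (ext2_le (hu := h.rot.s2) (hc := a2)
    (ext2_le (le_inf (k (by decide)) (k (by decide)))
      ⟨mem_cz'.mpr rfl, mem_cz'.mpr h.rot.comm.symm⟩) ⟨h.rot.s_mem, mem_cz'.mpr rfl⟩) (by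
    rw [card_ext2, card_ext2 (nm (by decide)), Subgroup.card_map_of_injective Z'.inj]
    · rw [← mul_assoc]; exact key
    · exact fun e => e.elim (nm (by decide)) fun e =>
        nm (π := α2 * α1) (by decide) (by rwa [map_mul]))).ge hg
  have m1 : f α1 ∈ h.rot.four := h.rot.mem_four.mpr (by simp)
  have m2 : f α2 ∈ h.rot.four := h.rot.mem_four.mpr (by simp)
  refine ext2_ind (p := fun g => ∃ ρ, Perm.sign ρ = 1 ∧ (∀ π, Perm.sign π = 1 →
    f π * f' ρ = f' ρ * f π) ∧ (f' ρ)⁻¹ * g ∈ h.rot.four) (ext2_ind ?_ ?_) (ext2_ind ?_ ?_) g this <;> rintro _ ⟨ρ, hρ, rfl⟩ <;> refine ⟨ρ, hρ.1, (mK.mp hρ).2, ?_⟩ <;>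
    simp only [mul_assoc (f' ρ), inv_mul_cancel_left, inv_mul_cancel]
  exacts [one_mem _, m1, m2, mul_mem m1 m2]

theorem cV {g : G} (hg : g ∈ cz (f a5) ⊓ cz (f b5)) : ∃ ρ, Perm.sign ρ = 1 ∧
    (∀ π, Perm.sign π = 1 → f π * (t * f ρ * t⁻¹) = t * f ρ * t⁻¹ * f π) ∧
    ∃ a, (a = 1 ∨ a = a5 ∨ a = b5 ∨ a = b5 * a5) ∧ g = t * f ρ * t⁻¹ * f a := by
  have k : ∀ {a b}, β1⁻¹ * a * β1⁻¹⁻¹ = b → g ∈ cz (f a) → f β1⁻¹ * g * (f β1⁻¹)⁻¹ ∈ cz (f b) :=
    fun e h => by rw [← e, map_mul, map_mul, map_inv f β1⁻¹]; exact conj_mem_cz _ h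
  obtain ⟨ρ, h1, h2, h3⟩ := h.cA hσ ⟨k (by decide) hg.1, k (by decide) hg.2⟩
  refine ⟨ρ, h1, h2, ?_⟩
  have k2 : ∀ a, (t * f ρ * t⁻¹)⁻¹ * (f β1⁻¹ * g * (f β1⁻¹)⁻¹) = f a →
      g = t * f ρ * t⁻¹ * f (β1 * a * β1⁻¹) := fun a e => by
    rw [map_mul, map_mul, ← e, ← mul_assoc, ← mul_assoc, ← h2 _ (by decide), map_inv]; group
  rcases h.rot.mem_four.mp h3 with e | e | e | e
  · exact ⟨_, Or.inl (by simp), k2 1 (e.trans (map_one f).symm)⟩
  · exact ⟨_, by decide, k2 _ e⟩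
  · exact ⟨_, by decide, k2 _ e⟩
  · exact ⟨_, by decide, k2 _ (e.trans (map_mul f _ _).symm)⟩

theorem cV3 {g : G} (hg : g ∈ cz (f a5) ⊓ cz (f b5)) (g3 : g ^ 3 = 1) :
    ∃ ρ, ρ ^ 3 = 1 ∧ g = t * f ρ * t⁻¹ := by
  obtain ⟨ρ, h1, h2, b, hb, e⟩ := h.cV hσ hg
  have b1 : Perm.sign b = 1 ∧ b ^ 3 = b := by rcases hb with rfl | rfl | rfl | rfl <;> decide
  rw [e, (show Commute _ _ from (h2 b b1.1).symm).mul_pow, conj_pow, ← map_pow, ← map_pow, b1.2,
    mul_eq_one_iff_inv_eq, conj_inv, ← map_inv] at g3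
  obtain ⟨rfl, h3⟩ := h.disj (by simp [h1]) g3.symm
  exact ⟨ρ, inv_eq_one.mp h3, by rwa [map_one, mul_one] at e⟩

theorem cz_r : cz (f s5) ≤ Subgroup.normalizer (D : Set G) := by
  refine (h.cent_r hσ).resolve_right fun ⟨e, he, hk⟩ => ?_
  have uq : ∀ {a b : cz (f s5)}, (a : G) ^ 3 = 1 → (b : G) ^ 3 = 1 → e a = e b → (b : G) = a :=
    fun {a b} ha hb h' => conj_eq_of_mod h.r2 (mem_cz'.mp a.2) ha hb
      ((hk (a⁻¹ * b)).mp (by rw [map_mul, map_inv, h', inv_mul_cancel]))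
  have uq' : ∀ (g : cz (f s5)) {a : cz (f s5)}, (a : G) ^ 3 = 1 → e a * e g = e g * e a → (a : G) ∈ cz (g : G) :=
    fun g {a} ha h' => mem_cz_comm.mp (mem_cz.mpr (uq (b := g * a * g⁻¹) ha
      (by show ((g : G) * a * (g : G)⁻¹) ^ 3 = 1; rw [conj_pow, ha]; simp)
      (by rw [map_mul, map_mul, map_inv, ← h']; simp)))
  have cm : ∀ {a b c d : S5}, a * b = c * d → f a * f b = f c * f d := fun e => by
    rw [← map_mul, ← map_mul, e]
  let u : cz (f s5) := ⟨f a5, mem_cz'.mpr (cm (by decide))⟩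
  let a : cz (f s5) := ⟨z, h.le_cz h.zD⟩
  have r3 : f s5 ^ 3 ≠ 1 := by rw [pow_succ, pow_two, h.r2, one_mul]; exact h.r1
  obtain ⟨p, p1, p2, p3, p4, p5, p6⟩ := s6_five (u := e u) (a := e a)
    (by rw [← map_mul, hk]; exact Or.inl ((cm (c := 1) (d := 1) (by decide)).trans (by simp)))
    (fun e' => ((hk u).mp e').elim (h.Z.map_ne (by decide)) fun e => absurd (h.Z.inj e) (by decide))
    (by rw [← map_mul, ← map_mul, show a * u = u * a from Subtype.ext (h.Z.fz _).symm])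
    (by rw [← map_pow, show a ^ 3 = 1 from Subtype.ext h.Z.z3, map_one])
    (fun e' => ((hk a).mp e').elim h.Z.z1 fun e => r3 (e ▸ h.Z.z3))
  obtain ⟨x, x3, rfl⟩ : ∃ x : cz (f s5), (x : G) ^ 3 = 1 ∧ e x = p := by
    obtain ⟨x, rfl⟩ := he p
    refine ⟨x ^ 4, ?_, by rw [map_pow, pow_succ, p2, one_mul]⟩
    rw [Subgroup.coe_pow, ← pow_mul, mul_comm, pow_mul, show 4 = 2 * 2 from rfl, pow_mul]
    rcases (hk (x ^ 3)).mp (by rw [map_pow, p2]) with e | e <;> rw [show (x : G) ^ 3 = _ from e]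
    · simp
    · rw [pow_two (f s5), h.r2, one_pow]
  have xu : (x : G) ∈ cz (f a5) := uq' u x3 p1
  obtain ⟨v, hv⟩ : ∃ v, f b5 = v := ⟨_, rfl⟩
  have vv : ∀ g, v * (v * g * v⁻¹) * v⁻¹ = g := fun g => by
    rw [show v * (v * g * v⁻¹) * v⁻¹ = v * v * g * (v * v)⁻¹ by group, ← hv,
      cm (c := 1) (d := 1) (by decide)]; simp
  have cj : ∀ {a b : S5}, b5 * a * b5⁻¹ = b → v * f a * v⁻¹ = f b := fun e => by
    rw [← e, map_mul, map_mul, map_inv, hv]
  have vz : v * z * v⁻¹ = z := by rw [← hv, h.Z.fz]; simp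
  let x' : cz (f s5) := ⟨v * x * v⁻¹, by
    have := conj_mem_cz v (mem_cz_comm.mp (mul_mem (mem_cz_comm.mp x.2) (mem_cz_comm.mp xu)))
    rwa [← map_mul, cj (b := s5) (by decide)] at this⟩
  have x'3 : (x' : G) ^ 3 = 1 := by show (v * x * v⁻¹) ^ 3 = 1; rw [conj_pow, x3]; simp
  have k : ∀ (i : ℕ) {y : G}, y = x ∨ y = (x : G)⁻¹ → v * x * v⁻¹ = z ^ i * y * (z ^ i)⁻¹ →
      v * x * v⁻¹ = y := fun i y hy e => by
    have c : z ^ i * z ^ i * x * (z ^ i * z ^ i)⁻¹ = x := by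
      conv_rhs => rw [← vv x, e, ← conj_mul (b := v), ← conj_mul (b := v), ← conj_inv (b := v),
        ← conj_pow, vz]
      rcases hy with rfl | rfl
      · rw [e]; group
      · rw [← conj_inv (b := v), e]; group
    have : z ^ i ∈ cz (x : G) := by
      have := mul_mem (mem_cz.mpr c) (mem_cz.mpr c)
      rwa [show z ^ i * z ^ i * (z ^ i * z ^ i) = (z ^ 3) ^ i * z ^ i by group, h.Z.z3, one_pow,
        one_mul] at this
    rw [e]
    rcases hy with rfl | rfl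
    exacts [mem_cz.mp this, mem_cz.mp (cz_inv (x : G) ▸ this)]
  have c3 : ∀ (i : ℕ) {y : G}, y ^ 3 = 1 → (z ^ i * y * (z ^ i)⁻¹) ^ 3 = 1 := fun i y e => by
    rw [conj_pow, e]; simp
  rcases p6 (e x') (by
      rw [← map_mul, ← map_mul, show x' * u = u * x' from Subtype.ext
        (mem_cz'.mp (show v * x * v⁻¹ ∈ cz (f a5) from
          cj (a := a5) (b := a5) (by decide) ▸ conj_mem_cz v xu))])
    (by rw [← map_pow, show x' ^ 3 = 1 from Subtype.ext x'3, map_one]) with e' | ⟨i, e' | e'⟩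
  · have := conj_mem_cz v (uq' a x'3 e')
    rw [vv, vz] at this
    exact p5 (by rw [← map_mul, ← map_mul, show x * a = a * x from Subtype.ext (mem_cz'.mp this)])
  · rw [← map_pow, ← map_inv, ← map_mul, ← map_mul] at e'
    obtain ⟨ρ, h3, e''⟩ := h.cV3 hσ ⟨xu, hv ▸ mem_cz_comm.mp (mem_cz.mpr
      (k i (Or.inl rfl) (uq (c3 i x3) x'3 e')))⟩ x3
    have := mem_cz'.mp x.2
    rw [e'', ← h.tr, conj_mul, conj_mul, mul_left_inj, mul_right_inj, ← map_mul, ← map_mul] at this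
    refine p5 ?_
    rw [← map_mul, ← map_mul, show x * a = a * x from Subtype.ext (by
      show (x : G) * z = z * x
      rw [e'', ← h.tz', conj_mul, conj_mul, cm ((ord_ev ρ).2.2 h3 (h.Z.inj this))])]
  · rw [← map_pow, ← map_inv, ← map_inv, ← map_mul, ← map_mul] at e'
    have := k i (Or.inr rfl) (uq (c3 i (y := (x : G)⁻¹) (by rw [inv_pow, x3, inv_one])) x'3 e')
    refine p4 ?_
    rw [← map_inv, ← map_mul, ← map_pow, hk]
    left
    show (z * (x : G)⁻¹) ^ 4 = 1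
    rw [← this, ← vz, conj_mul, conj_pow, show 4 = 2 * 2 from rfl, pow_mul]
    rw [← map_mul, ← map_pow, hk] at p3
    rcases p3 with e | e <;> rw [show (z * (x : G)) ^ 2 = _ from e]
    · simp
    · rw [pow_two, h.r2]; simp

omit hσ in
theorem not_conj {ρ : S5} (h1 : Perm.sign ρ = 1) (h2 : ρ * ρ = 1) : ¬ IsConj (f s5) (f ρ) :=
  fun hc => by
    rcases (conj_ev ρ).1 h2 with rfl | ⟨π, h3, rfl | rfl⟩
    · exact h.r1 (by simpa using hc)
    · exact h.not_nine (ρ := a5) (by decide +kernel)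
        (h.nine_of_conj (hc.trans (f.map_isConj (isConj_iff.mpr ⟨π, rfl⟩)).symm))
    · simp [s5] at h1

/-- the two alternating groups commute -/
theorem real {ρ π : S5} (h1 : Perm.sign ρ = 1) (h2 : Perm.sign π = 1) :
    f π * (t * f ρ * t⁻¹) = t * f ρ * t⁻¹ * f π := by
  have Z' := h.sym.Z
  have e2 := h.tσ hσ
  have cm : ∀ {a b c d : S5}, a * b = c * d → f a * f b = f c * f d := fun e => by
    rw [← map_mul, ← map_mul, e]
  have sq : ∀ {a : S5}, a * a = 1 → f a * f a = 1 := fun e => by rw [← map_mul, e, map_one]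
  have cj : ∀ {a b c : S5}, a * b * a⁻¹ = c → f a * f b * (f a)⁻¹ = f c := fun e => by
    rw [← e, map_mul, map_mul, map_inv]
  obtain ⟨a, ha⟩ : ∃ a, f b5 = a := ⟨_, rfl⟩
  obtain ⟨v, hv⟩ : ∃ v, t * a * t⁻¹ = v := ⟨_, rfl⟩
  have a2 : a * a = 1 := ha ▸ sq (by decide)
  have v2 : v * v = 1 := by rw [← hv, conj_mul, a2]; simp
  have ai := inv_eq_of_mul_eq_one_right a2
  have vi := inv_eq_of_mul_eq_one_right v2
  have aσ : a ∈ cz σ := mem_cz'.mpr (ha ▸ h.Z.fσ _)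
  have aσ' : a ∈ cz (f a5) := mem_cz'.mpr (ha ▸ cm (by decide))
  have vσ : v ∈ cz σ := hv ▸ e2 ▸ conj_mem_cz t aσ'
  have vσ' : v ∈ cz (f a5) := hv ▸ hσ ▸ conj_mem_cz t aσ
  have ar : a * f s5 * a⁻¹ = f s5 * f a5 := by rw [← ha, cj (c := s5 * a5) (by decide), map_mul]
  have vr : v * f s5 * v⁻¹ = f s5 * σ := by
    rw [← hv, ← h.tr, conj_mul, conj_inv, conj_mul, ar, ← conj_mul, e2]
  by_cases hc : a * v = v * a
  · obtain ⟨ρ', h3, h4, b, -, e⟩ := h.cV hσ ⟨vσ', mem_cz'.mpr (ha ▸ hc.symm)⟩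
    rw [← hv, ← ha, ← inv_mul_eq_iff_eq_mul, conj_inv, conj_mul, ← map_inv, ← map_mul] at e
    obtain rfl := inv_mul_eq_one.mp (h.disj (by simp [h3, b5]) e.symm).2
    exact (mem_cz'.mp (genA5 (K := (cz (f π)).comap ((MulAut.conj t).toMonoidHom.comp f))
      (mem_cz'.mpr (show t * _ * _ * _ = _ * (t * _ * _) from h.tz'.symm ▸ (h.Z.fz π).symm))
      (mem_cz'.mpr (show t * _ * _ * _ = _ * (t * _ * _) from e2.symm ▸ (h.Z.fσ π).symm))
      (mem_cz'.mpr (h4 π h2).symm) h3 (by decide) h1)).symm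
  exfalso
  obtain ⟨c, hc'⟩ : ∃ c, a * v * a * v = c := ⟨_, rfl⟩
  have cσ : c ∈ cz σ := hc' ▸ mul_mem (mul_mem (mul_mem aσ vσ) aσ) vσ
  have cσ' : c ∈ cz (f a5) := hc' ▸ mul_mem (mul_mem (mul_mem aσ' vσ') aσ') vσ'
  have cr : c ∈ cz (f s5) := mem_cz.mpr (by
    have e : v * (a * (f s5 * σ) * a⁻¹) * v⁻¹ = f s5 * f a5 := by
      rw [← conj_mul (b := a), ar, mem_cz.mp aσ, ← conj_mul (b := v), ← conj_mul (b := v), vr,
        mem_cz.mp vσ, mem_cz.mp vσ', mul_assoc (f s5), ← h.Z.fσ, mul_assoc, mul_assoc, h.Z.σ2,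
        mul_one]
    calc _ = a * (v * (a * (v * f s5 * v⁻¹) * a⁻¹) * v⁻¹) * a⁻¹ := by rw [← hc']; group
      _ = _ := by rw [vr, e, ← conj_mul, ar, mem_cz.mp aσ', mul_assoc, sq (by decide), mul_one])
  have k : ∀ {g}, g ∈ cz σ → g ∈ cz (f a5) → g ∈ cz (f s5) → g * z * g⁻¹ = z → g * g = 1 ∧
      (g ∈ cz a → g = 1 ∨ g = f a5) := fun {g} g1 g2 g3 g4 => by
    obtain ⟨ρ, rfl⟩ : ∃ ρ, g = f ρ := by
      obtain ⟨ρ, e | e | e⟩ := h.Z.cent (mul_inv_eq_iff_eq_mul.mp g4)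
      · exact ⟨ρ, e⟩
      all_goals
        rw [e, Subgroup.mul_mem_cancel_right _ (mem_cz'.mpr (h.Z.fσ ρ))] at g1
        exact absurd (mem_cz_comm.mp (by simpa using g1)) h.Z.σ_notMem
    have i : ∀ {b}, f ρ ∈ cz (f b) → ρ * b = b * ρ := fun e => h.Z.inj (by simpa using mem_cz'.mp e)
    rcases (cent_sa ρ (i g2)).1 (i g3) with rfl | rfl | rfl | rfl
    · simp
    · exact ⟨h.r2, fun e => absurd (i (ha ▸ e)) (by decide)⟩
    · exact ⟨sq (by decide), fun e => absurd (i (ha ▸ e)) (by decide)⟩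
    · exact ⟨sq (by decide), fun _ => Or.inr rfl⟩
  have ac : c * c = 1 → c ∈ cz a := fun e => mem_cz_comm.mp (mem_cz.mpr (by
    conv_rhs => rw [← inv_eq_of_mul_eq_one_right e]
    rw [← hc']
    simp only [mul_inv_rev, ai, vi, ← mul_assoc, a2, one_mul]))
  have tc : c * c = 1 → t * c * t⁻¹ = c := fun e => by
    conv_rhs => rw [← inv_eq_of_mul_eq_one_right e]
    rw [← hc', ← conj_mul, ← conj_mul, ← conj_mul, hv, ← hv, h.tt, hv]
    simp only [mul_inv_rev, ai, vi, ← mul_assoc]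
  have ne : σ ≠ f a5 := fun e => h.Z.σ_notMem (e ▸ mem_cz'.mpr (h.Z.fz _))
  have c1 : c ≠ 1 := fun e => hc (by
    rw [← hc', mul_assoc (a * v), mul_eq_one_iff_eq_inv, mul_inv_rev, ai, vi] at e; exact e)
  have cc : c = σ * f a5 := by
    have cN := (Subgroup.mem_normalizer_iff.mp (h.cz_r hσ cr) z).mp h.zD
    have i : σ * (c * z * c⁻¹) * σ⁻¹ = (c * z * c⁻¹)⁻¹ := by
      rw [conj_inv, ← h.Z.σz, ← conj_mul (b := c), ← conj_mul (b := c), ← conj_inv (b := c),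
        mem_cz.mp cσ]
    rcases h.cases _ cN (by simpa using h.Z.z1) with (e | e) | e | e
    · obtain ⟨k1, k2⟩ := k cσ cσ' cr e
      exact absurd (e2.symm.trans (((k2 (ac k1)).resolve_left c1) ▸ tc k1)) ne
    · obtain ⟨k1, k2⟩ := k (g := σ * c) (mul_mem (mem_cz'.mpr rfl) cσ)
        (mul_mem (mem_cz'.mpr (h.Z.fσ _).symm) cσ') (mul_mem (mem_cz'.mpr (h.Z.fσ _).symm) cr) (by
          calc _ = σ * (c * z * c⁻¹) * σ⁻¹ := by group
            _ = z := by rw [i, e, inv_inv])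
      rw [mul_assoc, ← mul_assoc c, mem_cz'.mp cσ, ← mul_assoc, ← mul_assoc, h.Z.σ2, one_mul] at k1
      rcases k2 (mul_mem (mem_cz_comm.mp aσ) (ac k1)) with e | e
      · rw [eq_inv_of_mul_eq_one_right e, inv_eq_of_mul_eq_one_right h.Z.σ2] at tc k1
        exact absurd ((tc k1).symm.trans hσ) ne
      · rw [← e, ← mul_assoc, h.Z.σ2, one_mul]
    · have σz' : σ * f c5 * σ⁻¹ = f c5 := by rw [← h.Z.fσ]; simp
      rcases e with e | e <;> rw [e] at i
      · exact absurd (σz'.symm.trans i).symm Z'.ne_inv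
      · rw [← conj_inv, σz', inv_inv] at i; exact absurd i Z'.ne_inv
    · have := h.Z.five_dvd
      rw [← card_cz_of_isConj (isConj_iff.mpr ⟨c, rfl⟩), e.2] at this; omega
  obtain ⟨q1, q2⟩ := fake_aux (a := a) (v := v) (r := f s5) (x := f (β1 * c5 * β1⁻¹)) h.Z.σ2
    (sq (a := a5) (by decide)) (mem_cz'.mp aσ).symm (mem_cz'.mp aσ').symm
    (by
      rw [← cc, ← inv_eq_of_mul_eq_one_right (show c * c = 1 by
        rw [cc, mul_assoc, ← mul_assoc (f a5), h.Z.fσ, ← mul_assoc, ← mul_assoc, h.Z.σ2, one_mul,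
          sq (by decide)]), ← hc']
      simp only [mul_inv_rev, ai, vi, mul_assoc, a2, mul_one])
    (mem_cz.mp vσ) (mem_cz.mp vσ') (by rw [← ha, ← map_mul f b5]; exact cj (by decide))
    (mul_inv_eq_iff_eq_mul.mpr (h.Z.fσ _)) (cj (by decide)) (by rw [← ha]; exact cj (by decide))
    (by rw [← ha, ← map_mul f b5]; exact cj (by decide)) (mul_inv_eq_iff_eq_mul.mpr (h.Z.fσ _)) rfl
  generalize f (β1 * c5 * β1⁻¹) * (v * f s5) * (f (β1 * c5 * β1⁻¹))⁻¹ = q at q1 q2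
  obtain ⟨ρ', h3, h4, b, hb, e⟩ := h.cV hσ (ha ▸ q2.1)
  have hρ : ρ' = 1 ∨ ρ' = a5 := by
    have := (Subgroup.mem_inf.mp q2).2
    rw [e, Subgroup.mul_mem_cancel_right _ (mem_cz'.mpr (h.Z.fσ b)), ← e2, mem_cz', conj_mul,
      conj_mul, mul_left_inj, mul_right_inj, ← map_mul, ← map_mul] at this
    have h5 := mem_cz'.mpr (h4 b5 (by decide)).symm
    rcases (cent_sa ρ' (h.Z.inj this)).2 h3 with rfl | rfl | rfl | rfl
    · simp
    · simp
    · exact absurd (mem_cz'.mp (hv ▸ ha ▸ h5)).symm hc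
    · rw [map_mul, ← conj_mul, e2, ha, hv,
        Subgroup.mul_mem_cancel_right _ (mem_cz_comm.mp aσ)] at h5
      exact absurd (mem_cz'.mp h5).symm hc
  have b1 : Perm.sign (ρ' * b5) = 1 ∧ ρ' * b5 * (ρ' * b5) = 1 ∧ ∃ π : S5, π * (ρ' * b5) * π⁻¹ = a5 ∧
      b5 * ρ' = ρ' * b5 := by
    rcases hρ with rfl | rfl <;> decide +kernel
  obtain ⟨b1, b2, π', b3, b4⟩ := b1
  have vρ : t * f ρ' * t⁻¹ ∈ cz v := by
    rw [← hv, ← ha]; exact conj_mem_cz t (mem_cz'.mpr (cm b4.symm))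
  have e' : q * f s5 * q⁻¹ = t * f ρ' * t⁻¹ * f b * v := by rw [← e, mul_assoc _ v, v2, mul_one]
  have bv : f b ∈ cz v := by
    have : q * f s5 * q⁻¹ ∈ cz v := mem_cz'.mpr (by
      have b3 : Perm.sign b = 1 ∧ b * b = 1 ∧ ρ' * ρ' = 1 := by
        rcases hb with rfl | rfl | rfl | rfl <;> rcases hρ with rfl | rfl <;> decide
      have : q * f s5 * q⁻¹ * v * (q * f s5 * q⁻¹ * v) = 1 := by
        rw [e, ← pow_two, (show Commute _ _ from (h4 b b3.1).symm).mul_pow, pow_two, pow_two,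
          conj_mul, sq b3.2.1, sq b3.2.2]; simp
      rw [← inv_eq_of_mul_eq_one_right this, mul_inv_rev, vi, conj_inv,
        inv_eq_of_mul_eq_one_right h.r2])
    rwa [e', Subgroup.mul_mem_cancel_right _ (mem_cz'.mpr rfl), Subgroup.mul_mem_cancel_left _ vρ]
      at this
  rcases hb with rfl | rfl | rfl | rfl
  · rw [map_one, mul_one, ← hv, ← ha, conj_mul, ← map_mul] at e'
    exact h.not_conj b1 b2 ((isConj_iff.mpr ⟨q, e'⟩).trans (isConj_iff.mpr ⟨t, rfl⟩).symm)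
  · refine h.not_conj (ρ := a5) (by decide) (by decide) ((isConj_iff.mpr ⟨q, e'⟩).trans
      ((isConj_iff.mpr ⟨t * f π' * t⁻¹, ?_⟩).trans (isConj_iff.mpr ⟨q, q1⟩).symm))
    have k1 : t * f π' * t⁻¹ * f a5 * (t * f π' * t⁻¹)⁻¹ = f a5 :=
      hσ ▸ mul_inv_eq_iff_eq_mul.mpr (Z'.fσ π')
    rw [mul_assoc _ (f a5), ← mem_cz'.mp vσ', ← mul_assoc (t * f ρ' * t⁻¹), ← hv, ← ha, conj_mul,
      ← map_mul, ← conj_mul (a := t * f (ρ' * b5) * t⁻¹), k1, conj_mul, conj_inv, conj_mul, cj b3, e2]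
  · exact hc (mem_cz'.mp (ha ▸ bv))
  · rw [map_mul, Subgroup.mul_mem_cancel_right _ (mem_cz_comm.mp vσ')] at bv
    exact hc (mem_cz'.mp (ha ▸ bv))

end H6

end CL.Odd.A8
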