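import Mathlib
import Cfsg.Agent.PERM.S8Two

/-! The centralizer of a four-group normalized by an elementary abelian group of order nine. -/

set_option autoImplicit false
set_option maxRecDepth 100000
open Cfsg

namespace CL.Odd

open A8

variable {G : Type*} [Group G] [Finite G]

theorem cent_four {D : Subgroup G} {z y t v w : G} (R : Rot y v w) (z1 : z ≠ 1)
    (zD : z ∈ D) (cD : Nat.card D = 9) (D3 : ∀ d ∈ D, d ^ 3 = 1) [IsMulCommutative D]
    (hD : D ≤ Subgroup.normalizer ((cz v ⊓ cz w : Subgroup G) : Set G)) (zC : z ∈ cz v ⊓ cz w)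
    (tC : t ∈ cz v ⊓ cz w) (t2 : t * t = 1) (tz : t * z * t⁻¹ = z⁻¹)
    (hz : ∀ g ∈ cz v ⊓ cz w, g * z = z * g → g ∈ R.four ∨ z⁻¹ * g ∈ R.four ∨ z * g ∈ R.four)
    (hd : ∀ d ∈ D, d ≠ 1 → ∀ g ∈ cz v ⊓ cz w, g ∈ cz d → ¬ 3 ∣ orderOf g →
      g ∈ R.four ∨ (g * g = 1 ∧ g * z * g⁻¹ = z⁻¹)) {g : G} (hg : g ∈ cz v ⊓ cz w)
    (gt : g ∈ cz t) : g ∈ R.four ∨ g * t ∈ R.four := by
  set C := cz v ⊓ cz w
  have z3 := D3 z zD
  have sig : ∀ {K : Subgroup G}, K ≤ C → ¬ 3 ∣ Nat.card K →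
      D ≤ Subgroup.normalizer (K : Set G) → K ≤ R.four := fun {K} hK h3 hn => by
    refine CL.coprime_le_of_forall_centralizer_le D K _ (fun hc => ?_) hn (by
      rw [cD]; exact Nat.Coprime.pow_left 2 ((Nat.Prime.coprime_iff_not_dvd Nat.prime_three).mpr h3))
      fun d m d1 g ⟨hg, hc⟩ => (hd d m d1 g (hK hg) hc fun e =>
        h3 (e.trans (Subgroup.orderOf_dvd_natCard _ hg))).elim id fun e => ?_
    · obtain ⟨g, hg⟩ := IsCyclic.exists_ofOrder_eq_natCard (α := D)
      have := orderOf_dvd_of_pow_eq_one (n := 3) (Subtype.ext (D3 g g.2) : g ^ 3 = 1)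
      rw [hg, cD] at this; omega
    · have := K.mul_mem hg ((Subgroup.mem_normalizer_iff.mp (hn zD) _).mp (K.inv_mem hg))
      rw [← mul_assoc, ← mul_assoc, e.2, ← inv_eq_sq_of_cube (by rw [inv_pow, z3, inv_one]),
        inv_inv] at this
      exact (not_mem_of_not_three_dvd h3 z1 z3 this).elim
  have hA : R.four ≤ C :=
    R.four_le ⟨mem_cz'.mpr rfl, mem_cz'.mpr R.comm.symm⟩ ⟨R.s_mem, mem_cz'.mpr rfl⟩
  have hc : ∀ a ∈ R.four.subgroupOf C, ∀ g : C, g * a = a * g := fun a ha g => Subtype.ext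
    (mem_cz'.mp (R.four_le (mem_cz_comm.mp g.2.1) (mem_cz_comm.mp g.2.2) ha)).symm
  have : (R.four.subgroupOf C).Normal := ⟨fun a ha g => by rwa [hc a ha, mul_inv_cancel_right]⟩
  obtain ⟨hS, y1, y3⟩ := sc3_quot' hc (fun a ha => Subtype.ext (R.four_sq _ ha))
    (y := ⟨z, zC⟩) (fun e => z1 (congrArg Subtype.val e)) (Subtype.ext z3)
    fun g hg => hz g g.2 (congrArg Subtype.val hg)
  have cA : Nat.card (R.four.subgroupOf C) = 4 := by
    rw [Nat.card_congr (Subgroup.subgroupOfEquivOfLe hA).toEquiv, R.card_four]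
  obtain ⟨N, hN, hN3, -, hcase⟩ := hS.classification y1 y3
  have hR := sig (Subgroup.map_subtype_le (pPrimeCore 3 C)) (by
    rw [Subgroup.card_map_of_injective C.subtype_injective]; exact not_dvd_card_pPrimeCore 3 C)
    (hD.trans (normalizer_le_normalizer_map_pPrimeCore C))
  obtain rfl : N = ⊥ := eq_bot_iff.mpr fun n hn => by
    obtain ⟨g, rfl⟩ := QuotientGroup.mk_surjective n
    refine (QuotientGroup.eq_one_iff g).mpr (hR ⟨g, ?_, rfl⟩)
    rw [← comap_mk'_pPrimeCore (R.four.subgroupOf C) (by rw [cA]; norm_num)]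
    exact le_pPrimeCore ((Nat.Prime.coprime_iff_not_dvd Nat.prime_three).mpr hN3).symm hn
  have c1 := Subgroup.card_eq_card_quotient_mul_card_subgroup (R.four.subgroupOf C)
  have c2 := Nat.card_congr (QuotientGroup.quotientBot (G := C ⧸ R.four.subgroupOf C)).toEquiv
  rw [cA] at c1
  have fin : Nat.card (C ⧸ R.four.subgroupOf C) ∣ 6 → g ∈ R.four ∨ g * t ∈ R.four := fun e => by
    have t2' : ((⟨t, tC⟩ : C) : C ⧸ R.four.subgroupOf C) * (⟨t, tC⟩ : C) = 1 :=
      congrArg QuotientGroup.mk (Subtype.ext t2)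
    have t1 : ((⟨t, tC⟩ : C) : C ⧸ R.four.subgroupOf C) ≠ 1 := fun a => by
      have := congrArg Subtype.val (hc _ ((QuotientGroup.eq_one_iff _).mp a) ⟨z, zC⟩)
      rw [Subgroup.coe_mul, Subgroup.coe_mul, eq_comm, ← mul_inv_eq_iff_eq_mul, tz,
        inv_eq_iff_mul_eq_one] at this
      exact z1 (by rwa [pow_succ, pow_two, this, one_mul] at z3)
    have a := hS.not_dvd_card_centralizer t1 t2'
    have b := (Subgroup.card_subgroup_dvd_card (cz ((⟨t, tC⟩ : C) : C ⧸ R.four.subgroupOf C))).trans e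
    have := (Subgroup.eq_of_le_of_card_ge (Subgroup.zpowers_le.mpr (mem_cz'.mpr rfl)) (by
      rw [card_zpowers_two t1 t2']
      exact Nat.le_of_dvd two_pos ((Nat.Coprime.dvd_mul_left
        ((Nat.Prime.coprime_iff_not_dvd Nat.prime_three).mpr a).symm).mp b))).ge
      ((mem_cz' (g := ((⟨g, hg⟩ : C) : C ⧸ R.four.subgroupOf C))).mpr
        (congrArg QuotientGroup.mk (Subtype.ext (mem_cz'.mp gt) :
        (⟨g, hg⟩ * ⟨t, tC⟩ : C) = ⟨t, tC⟩ * ⟨g, hg⟩)))
    rw [mem_zpowers_two t2', ← inv_eq_of_mul_eq_one_right t2', eq_inv_iff_mul_eq_one] at this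
    exact this.imp (QuotientGroup.eq_one_iff (⟨g, hg⟩ : C)).mp
      (QuotientGroup.eq_one_iff (⟨g, hg⟩ * ⟨t, tC⟩ : C)).mp
  rcases hcase with e | ⟨⟨e⟩⟩ | ⟨-, -, ⟨e⟩⟩ | ⟨⟨e⟩⟩
  · exact fin (by rw [← c2, e]; norm_num)
  · exact fin (by rw [← c2, Nat.card_congr e.toEquiv, Nat.card_perm, Nat.card_fin]; rfl)
  · rw [Nat.card_congr e.toEquiv, card_A5] at c2
    have hc : Nat.card C = 240 := by omega
    have : Fact (Nat.Prime 5) := ⟨by norm_num⟩
    obtain ⟨P, d, md, d1, hP⟩ := (exists_norm_sylow hD 5).1 fun e => by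
      have := e.trans ((Sylow.card_dvd_index (Classical.arbitrary (Sylow 5 C))).trans
        (Subgroup.index_dvd_card _))
      rw [cD, hc] at this; omega
    have c5' : Nat.card ((P : Subgroup C).map C.subtype) = 5 := by
      rw [Subgroup.card_map_of_injective C.subtype_injective]
      obtain ⟨n, hn⟩ := P.isPGroup'.exists_card_eq
      have a := P.pow_dvd_card_of_pow_dvd_card (n := 1) (by rw [hc]; norm_num)
      have b := Subgroup.card_subgroup_dvd_card (P : Subgroup C)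
      rw [hn, Nat.pow_dvd_pow_iff_le_right (by norm_num)] at a
      rw [hn, hc] at b
      rw [hn, show n = 1 from by_contra fun e =>
        absurd ((pow_dvd_pow 5 (by omega : 2 ≤ n)).trans b) (by norm_num)]
      rfl
    obtain ⟨⟨q, hq, hqd⟩, q1⟩ := (Subgroup.ne_bot_iff_exists_ne_one
        (H := (P : Subgroup C).map C.subtype ⊓ cz d)).mp fun e => by
      have := CL.A10.card_modEq_conj (D3 d md) hP
      rw [c5', e, Subgroup.card_bot] at this
      exact absurd this (by decide)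
    replace q1 : q ≠ 1 := fun e => q1 (Subtype.ext e)
    have q5 : q ^ 5 = 1 := orderOf_dvd_iff_pow_eq_one.mp (c5' ▸ Subgroup.orderOf_dvd_natCard _ hq)
    have := pow_gcd_eq_one.mpr ⟨q5, (pow_two _).trans ((hd d md d1 q (Subgroup.map_subtype_le _ hq)
      hqd (by rw [orderOf_eq_prime q5 q1]; norm_num)).elim (R.four_sq _) And.left)⟩
    exact absurd (by simpa using this) q1
  · rw [Nat.card_congr e.toEquiv, card_L27] at c1
    have : Fact (Nat.Prime 7) := ⟨by norm_num⟩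
    obtain ⟨P, hP⟩ := (exists_norm_sylow hD 7).2 (IsPGroup.of_card (n := 2) cD) (by
      have a := (Sylow.card_dvd_index (Classical.arbitrary (Sylow 7 C))).trans
        (Subgroup.index_dvd_card _)
      rw [c1] at a
      exact (by decide +kernel : ∀ n ∈ Nat.divisors 672, n % 7 = 1 % 7 → ¬ 3 ∣ n) _
        (Nat.mem_divisors.mpr ⟨a, by norm_num⟩) (card_sylow_modEq_one 7 C))
    obtain ⟨n, hn⟩ := (P.isPGroup'.map C.subtype).exists_card_eq
    have a := Subgroup.card_dvd_of_le (sig (Subgroup.map_subtype_le _) (by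
      rw [hn]; exact fun e => absurd (Nat.prime_three.dvd_of_dvd_pow e) (by norm_num))
      fun d hd => Subgroup.mem_normalizer_fintype (hP d hd))
    have b := P.pow_dvd_card_of_pow_dvd_card (n := 1) (by rw [c1]; norm_num)
    rw [← Subgroup.card_map_of_injective C.subtype_injective] at b
    exact absurd (R.card_four ▸ b.trans a) (by norm_num)

omit [Finite G] in
theorem isConj_of_cube {a b : G} (a2 : a * a = 1) (b2 : b * b = 1) (h : (b * a) ^ 3 = 1) :
    IsConj a b := by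
  refine isConj_iff.mpr ⟨a * b, ?_⟩
  rw [mul_inv_rev, inv_eq_of_mul_eq_one_right a2, inv_eq_of_mul_eq_one_right b2,
    ← mul_right_inj b, b2, ← h]
  simp only [pow_succ, pow_zero, one_mul, mul_assoc]

end CL.Odd
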