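import Mathlib
import Cfsg.Agent.PERM.S8One
import Cfsg.Agent.PERM.FT3Count

/-! Finite facts about `Sym(6)`. -/

set_option autoImplicit false
set_option maxRecDepth 100000
set_option synthInstance.maxSize 2000

namespace CL.Odd

open Equiv A8

/-- the symmetric group of degree six -/
abbrev S6 := Perm (Fin 6)

/-- the normal four-groups of the centralizers of the two odd involutions -/
def four6 : List S6 := [swap 2 3 * swap 4 5, swap 2 4 * swap 3 5, swap 2 5 * swap 3 4,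
  swap 0 1 * swap 2 3, swap 0 1 * swap 4 5]

theorem s6_cent : ∀ v ∈ four6, ∀ w ∈ four6, v * w = w * v → v ≠ w → w * v ∈ four6 → ∀ g : S6,
    g * v = v * g → g * w = w * g → Perm.sign g = 1 → g = 1 ∨ g = v ∨ g = w ∨ g = w * v := by
  decide +kernel

theorem s6_ex : ∀ t ∈ ([swap 0 1, swap 0 1 * swap 2 3 * swap 4 5] : List S6), ∀ b : S6,
    b * t = t * b → b ^ 3 = 1 → b ≠ 1 → ∀ f : S6, f * t * f⁻¹ = f * f * t →
    f * f * b * (f * f)⁻¹ = b⁻¹ → f * f * (f * f) = 1 → Perm.sign f = 1 → ∃ v ∈ four6,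
      f * v * f⁻¹ = f * f * v ∧ v * t = t * v ∧ b * v * b⁻¹ ∈ four6 ∧ b * v * b⁻¹ * v ∈ four6 ∧
      b * (b * v * b⁻¹) * b⁻¹ = b * v * b⁻¹ * v ∧ (v * t).support.card ≠ t.support.card ∧
      v ≠ 1 ∧ v * v = 1 ∧ Perm.sign v = 1 ∧ f * f * v = v * (f * f) := by
  decide +kernel

theorem s6_odd {u : S6} (u2 : u * u = 1) (h : Perm.sign u ≠ 1) :
    u.support.card = 2 ∨ u.support.card = 6 := by
  obtain ⟨h1, h2, h3⟩ := card_support_two u2 (fun e => h (by simp [e]))
  have : u.support.card ≠ 4 := fun e => h (by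
    obtain ⟨g, rfl⟩ := isConj_iff.mp (isConj_of_support (z := swap 0 1 * swap 2 3) (by decide) u2
      (e.trans (by decide)).symm)
    simp)
  omega

theorem s6_even {u : S6} (u2 : u * u = 1) (u1 : u ≠ 1) (h : Perm.sign u = 1) :
    u.support.card = 4 := by
  obtain ⟨h1, h2, h3⟩ := card_support_two u2 u1
  have k : ∀ w : S6, w * w = 1 → Perm.sign w ≠ 1 → u.support.card ≠ w.support.card :=
    fun w a b e => by
      obtain ⟨g, rfl⟩ := isConj_iff.mp (isConj_of_support u2 a e)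
      simp [h] at b
  have a := k (swap 0 1) (by decide) (by decide)
  have b := k (swap 0 1 * swap 2 3 * swap 4 5) (by decide) (by decide)
  rw [show (swap 0 1 : S6).support.card = 2 by decide] at a
  rw [show (swap 0 1 * swap 2 3 * swap 4 5 : S6).support.card = 6 by decide] at b
  omega

theorem s6_four' {t b f : S6} (t2 : t * t = 1) (ts : Perm.sign t ≠ 1) (bt : b * t = t * b)
    (b3 : b ^ 3 = 1) (b1 : b ≠ 1) (ft : f * t * f⁻¹ = f * f * t)
    (fb : f * f * b * (f * f)⁻¹ = b⁻¹) (f4 : f * f * (f * f) = 1) (fs : Perm.sign f = 1) :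
    ∃ v, Rot b v (b * v * b⁻¹) ∧ f * v * f⁻¹ = f * f * v ∧ v * t = t * v ∧
      (v * t).support.card ≠ t.support.card ∧ Perm.sign v = 1 ∧ f * f * v = v * (f * f) ∧
      ∀ g : S6, g * v = v * g → g * (b * v * b⁻¹) = b * v * b⁻¹ * g → Perm.sign g = 1 →
        g = 1 ∨ g = v ∨ g = b * v * b⁻¹ ∨ g = b * v * b⁻¹ * v := by
  obtain ⟨t', ht', hc⟩ : ∃ t' ∈ ([swap 0 1, swap 0 1 * swap 2 3 * swap 4 5] : List S6),
      IsConj t t' := (s6_odd t2 ts).elim
    (fun h => ⟨_, by simp, isConj_of_support t2 (w := swap 0 1) (by decide) (h.trans (by decide))⟩)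
    fun h => ⟨_, by simp, isConj_of_support t2 (w := swap 0 1 * swap 2 3 * swap 4 5) (by decide)
      (h.trans (by decide))⟩
  obtain ⟨c, rfl⟩ := isConj_iff.mp hc
  let φ := MulAut.conj c
  have e : ∀ a, c * a * c⁻¹ = φ a := fun _ => rfl
  have s : ∀ a, Perm.sign (φ a) = Perm.sign a := fun a => by
    rw [← e, map_mul, map_mul, map_inv, mul_inv_cancel_comm]
  obtain ⟨v, hv, a1, a2, a3, a4, a5, a6, a7, a8, a9, a10⟩ := s6_ex _ ht' (φ b)
    (by rw [e, ← map_mul, bt, map_mul]) (by rw [← map_pow, b3, map_one])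
    (by simpa using b1) (φ f) (by simp only [e, ← map_mul, ← map_inv, ft])
    (by simp only [← map_mul, ← map_inv, fb]) (by simp only [← map_mul, f4, map_one]) (by rw [s, fs])
  obtain ⟨v, rfl⟩ := φ.surjective v
  have R : Rot (φ b) (φ v) _ := ⟨a7, a8, rfl, a5⟩
  have k := s6_cent _ hv _ a3 R.comm.symm R.ne.symm a4
  rw [e, ← map_mul, ← e, ← e, Perm.card_support_conj, Perm.card_support_conj] at a6
  rw [← map_one φ] at a7 a8
  simp only [e, ← map_mul, ← map_inv, φ.injective.eq_iff, ne_eq, s] at a1 a2 a5 a7 a8 a9 a10 k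
  refine ⟨v, ⟨a7, a8, rfl, a5⟩, a1, a2, a6, a9, a10, fun g b1 b2 b3 => ?_⟩
  simpa only [φ.injective.eq_iff, map_eq_one_iff _ φ.injective] using k (φ g)
    (by rw [← map_mul, b1, map_mul]) (by rw [← map_mul, b2, map_mul]) (by rw [s, b3])

end CL.Odd
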