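import Mathlib
import Cfsg.Agent.PERM.S8Two
import Cfsg.Agent.SPOR.ES2
import Cfsg.Agent.FGS.CITStruct
import Cfsg.Agent.INV.IndexTwo
import Cfsg.Agent.S3779
import Cfsg.Agent.S3344

/-!
An involution centralizer with a self-centralizing element of order three modulo the involution
and a four-group whose centralizer has order eight.
-/

set_option autoImplicit false
set_option maxRecDepth 100000
open Cfsg
open scoped commutatorElement

namespace CL.Odd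

universe u

variable {G : Type u} [Group G]

theorem conj_inv_mem {N : Subgroup G} {y : G} (y3 : y ^ 3 = 1) (hy : ∀ a ∈ N, y * a * y⁻¹ ∈ N) :
    ∀ a ∈ N, y⁻¹ * a * y⁻¹⁻¹ ∈ N := fun b hb => by
  have := hy _ (hy b hb)
  rwa [← mul_assoc, ← mul_assoc, ← inv_eq_sq_of_cube y3, mul_assoc, ← mul_inv_rev,
    ← inv_eq_sq_of_cube y3] at this

theorem unconj_inv {g a b : G}
    (e : g * a * g⁻¹ * (g * b * g⁻¹) * (g * a * g⁻¹)⁻¹ = (g * b * g⁻¹)⁻¹) : a * b * a⁻¹ = b⁻¹ := by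
  calc _ = g⁻¹ * (g * a * g⁻¹ * (g * b * g⁻¹) * (g * a * g⁻¹)⁻¹) * g := by group
    _ = _ := by rw [e]; group

theorem SC3.cube_inv (h : SC3 G) {N : Subgroup G} (h3 : ¬ 3 ∣ Nat.card N) {y : G} (y1 : y ≠ 1)
    (y3 : y ^ 3 = 1) (hy : ∀ a ∈ N, y * a * y⁻¹ ∈ N) {a : G} (ha : a ∈ N) :
    (a * y) ^ 3 = 1 ∧ (a * y⁻¹) ^ 3 = 1 := by
  have k : ∀ {x : G}, x ≠ 1 → x ^ 3 = 1 → (∀ a ∈ N, x * a * x⁻¹ ∈ N) → (a * x) ^ 3 = 1 :=
    fun {x} x1 x3 hx => h.cube h3 (fun e => not_mem_of_not_three_dvd h3 x1 x3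
      ((N.mul_mem_cancel_left ha).mp e)) (by
      rw [show (a * x) ^ 3 = a * (x * a * x⁻¹) * (x * (x * a * x⁻¹) * x⁻¹) * x ^ 3 by
        simp only [pow_succ, pow_zero]; group, x3, mul_one]
      exact N.mul_mem (N.mul_mem ha (hx a ha)) (hx _ (hx a ha)))
  exact ⟨k y1 y3 hy, k (by simpa using y1) (by rw [inv_pow, y3, inv_one]) (conj_inv_mem y3 hy)⟩

theorem SC3.class_two [Finite G] (h : SC3 G) {N : Subgroup G} (h3 : ¬ 3 ∣ Nat.card N) {y : G}
    (y1 : y ≠ 1) (y3 : y ^ 3 = 1) (hy : ∀ a ∈ N, y * a * y⁻¹ ∈ N) {a b : G} (ha : a ∈ N)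
    (hb : b ∈ N) : (∀ c ∈ N, c * ⁅a, b⁆ = ⁅a, b⁆ * c) ∧ ⁅a, y * b * y⁻¹⁆ = ⁅y * a * y⁻¹, b⁆ := by
  let α := N.normalizerMonoidHom ⟨y, Subgroup.mem_normalizer_fintype hy⟩
  have hα : ∀ g : N, α g = g → g = 1 := fun g e =>
    Subtype.ext (h.fpf h3 y1 y3 g g.2 (mul_inv_eq_iff_eq_mul.mp (congrArg Subtype.val e)).symm)
  have h2 : ∀ a ∈ N, ∀ b ∈ N, ∀ c ∈ N, c * ⁅a, b⁆ = ⁅a, b⁆ * c := fun a ha b hb c hc => by
    by_cases e : α = 1
    · rw [show c = 1 from congrArg Subtype.val (hα ⟨c, hc⟩ (by rw [e]; rfl))]; simp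
    have := (Cfsg.Agent.S3779.result Nat.prime_three α (orderOf_eq_prime (by
      rw [← map_pow]
      exact (congrArg _ (Subtype.ext y3)).trans (map_one _)) e) hα).2.1 rfl
    have m : ⁅⁅(⟨a, ha⟩ : N), (⟨b, hb⟩ : N)⁆, (⟨c, hc⟩ : N)⁆ ∈ (⊤ : Subgroup N).lowerCentralSeries 2 :=
      Subgroup.commutator_mem_commutator (Subgroup.commutator_mem_commutator trivial trivial) trivial
    rw [this, Subgroup.mem_bot, commutatorElement_eq_one_iff_mul_comm] at m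
    exact (congrArg Subtype.val m).symm
  refine ⟨h2 a ha b hb, ?_⟩
  have k : ∀ a ∈ N, ⁅a, y * a * y⁻¹⁆ = 1 := fun a ha =>
    comm_conj_of_cube y3 (h.cube_inv h3 y1 y3 hy ha).1 (h.cube_inv h3 y1 y3 hy ha).2
  have e := k _ (N.mul_mem ha hb)
  have ea := commutatorElement_eq_one_iff_mul_comm.mp (k a ha)
  have eb := commutatorElement_eq_one_iff_mul_comm.mp (k b hb)
  rw [← conj_mul] at e
  have ha' := hy a ha
  have hb' := hy b hb
  generalize y * a * y⁻¹ = a' at *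
  generalize y * b * y⁻¹ = b' at *
  have c1 := h2 b hb a' ha' a ha
  have c2 := h2 a ha b' hb' a' ha'
  rw [← commutatorElement_inv b, eq_inv_iff_mul_eq_one, ← e]
  have c3 := h2 a ha b' hb' _ (N.mul_mem (N.mul_mem (N.mul_mem hb ha') (N.inv_mem hb))
    (N.inv_mem ha'))
  rw [← commutatorElement_def] at c3
  rw [← c3]
  calc _ = a * ⁅b, a'⁆ * a⁻¹ * (a * a' * a⁻¹ * a'⁻¹) * (a' * ⁅a, b'⁆ * a'⁻¹) := by
        rw [c1, ea, c2]; group
    _ = a * b * a' * (b⁻¹ * (b' * b) * b⁻¹) * a⁻¹ * b'⁻¹ * a'⁻¹ := by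
        simp only [commutatorElement_def]; group
    _ = _ := by simp only [commutatorElement_def]; rw [← eb]; group

/-- an involution with a conjugate product of order three is conjugate to every involution
inverting an element of order three -/
theorem SC3.isConj_of_inverts [Finite G] (h : SC3 G) {u x e y : G} (x1 : x ≠ 1) (x3 : x ^ 3 = 1)
    (hu : u * x * u⁻¹ = x⁻¹) (y1 : y ≠ 1) (y3 : y ^ 3 = 1) (he : e * y * e⁻¹ = y⁻¹) :
    IsConj u e := by
  have key : ∀ {u}, u * y * u⁻¹ = y⁻¹ → IsConj u e := fun {u} hu => by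
    have k : ∀ i : ℤ, y ^ i * u * (y ^ i)⁻¹ = y ^ (2 * i) * u := fun i => by
      calc _ = y ^ i * (u * y * u⁻¹) ^ (-i) * u := by rw [conj_zpow]; group
        _ = _ := by rw [hu]; group
    have y3' : y ^ (3 : ℤ) = 1 := by exact_mod_cast y3
    rcases h y (e * u⁻¹) y1 y3 (by
      calc e * u⁻¹ * y = e * u⁻¹ * (u * y * u⁻¹)⁻¹ := by rw [hu, inv_inv]
        _ = (e * y * e⁻¹)⁻¹ * (e * u⁻¹) := by group
        _ = _ := by rw [he, inv_inv]) with a | a | a <;> rw [mul_inv_eq_iff_eq_mul] at a <;>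
      rw [a, isConj_iff]
    · exact ⟨1, by simp⟩
    · exact ⟨y ^ (2 : ℤ), by rw [k, show (2 : ℤ) * 2 = 3 + 1 from rfl, zpow_add, y3']; simp⟩
    · exact ⟨y ^ (-2 : ℤ), by
        rw [k, show (2 : ℤ) * -2 = -1 + -3 from rfl, zpow_add, zpow_neg y 3, y3']; simp⟩
  rcases h.isConj_or x1 x3 y1 y3 with c | c <;> obtain ⟨g, rfl⟩ := isConj_iff.mp c <;>
    refine (isConj_iff.mpr ⟨g, rfl⟩).trans (key ?_)
  · calc _ = g * (u * x * u⁻¹) * g⁻¹ := by group
      _ = _ := by rw [hu]; group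
  · calc _ = g * (u * x * u⁻¹)⁻¹ * g⁻¹ := by group
      _ = _ := by rw [hu]; group

set_option synthInstance.maxSize 2000 in
theorem dec_s3 : (∀ u : Equiv.Perm (Fin 3), u * u = 1 → u ≠ 1 →
    ∃ x, u * (x * u * x⁻¹) ≠ 1 ∧ (u * (x * u * x⁻¹)) ^ 3 = 1) ∧
    ∀ r y : Equiv.Perm (Fin 3), y ^ 3 = 1 → (r * y) ^ 3 = 1 → r ^ 3 = 1 := by decide +kernel

set_option synthInstance.maxSize 2000 in
theorem dec_a5 : (∀ u : Equiv.Perm (Fin 5), u * u = 1 → u ≠ 1 → u.sign = 1 →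
    ∃ x : Equiv.Perm (Fin 5), x.sign = 1 ∧ u * (x * u * x⁻¹) ≠ 1 ∧ (u * (x * u * x⁻¹)) ^ 3 = 1) ∧
    ∀ y : Equiv.Perm (Fin 5), y ^ 3 = 1 → y ≠ 1 → ∃ a : Equiv.Perm (Fin 5),
      (a.sign = 1 ∧ a ≠ 1 ∧ a * a = 1 ∧ y * (y * a * y⁻¹) * y⁻¹ = y * a * y⁻¹ * a) ∧
      ∃ b : Equiv.Perm (Fin 5),
      (b.sign = 1 ∧ b ≠ 1 ∧ b * b = 1 ∧ y * (y * b * y⁻¹) * y⁻¹ = y * b * y⁻¹ * b) ∧
      a * b ≠ 1 ∧ (a * b) ^ 3 = 1 := by decide +kernel

/-- the local hypothesis -/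
structure TwoL (t y v w : G) : Prop where
  c : ∀ g, g * t = t * g
  t1 : t ≠ 1
  t2 : t * t = 1
  y3 : y ^ 3 = 1
  cy : ∀ g, g * y = y * g → g ∈ Subgroup.zpowers (y * t)
  R : Rot y v w
  cV : ∀ g ∈ cz v ⊓ cz w, g ∈ R.four ∨ g * t ∈ R.four

namespace TwoL
variable [Finite G] {t y v w : G} (h : TwoL t y v w)
include h

omit [Finite G] in
theorem nor : (Subgroup.zpowers t).Normal := normal_zpowers_of_central h.c

theorem exists_quot : ∃ (X : Type u) (_ : Group X) (_ : Finite X) (π : G →* X),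
    Function.Surjective π ∧ SC3 X ∧ π y ≠ 1 ∧ ∀ a b, π a = π b ↔ a = b ∨ a = b * t := by
  have := h.nor
  obtain ⟨a, b⟩ := sc3_quot h.c h.t2 h.R.z1 h.y3 h.cy
  refine ⟨_, _, inferInstance, QuotientGroup.mk' (Subgroup.zpowers t),
    QuotientGroup.mk'_surjective _, a, b, fun a b => ?_⟩
  rw [eq_comm, QuotientGroup.mk'_apply, QuotientGroup.mk'_apply, QuotientGroup.eq,
    mem_zpowers_two h.t2, inv_mul_eq_iff_eq_mul, inv_mul_eq_iff_eq_mul, mul_one]

omit [Finite G] in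
theorem sq {g : G} (hg : g ∈ cz v ⊓ cz w) : g * g = 1 :=
  ext2_sq (hu := h.t2) (hc := fun _ _ => mem_cz'.mpr (h.c _)) h.R.four_sq g (h.cV g hg)

omit [Finite G] in
theorem next : TwoL t y w (w * v) :=
  ⟨h.c, h.t1, h.t2, h.y3, h.cy, h.R.next, fun g hg => by
    have e : ∀ a ∈ h.R.four, a ∈ h.R.next.four := h.R.four_le
      (h.R.next.mem_four.mpr (by rw [h.R.comm, mul_assoc, h.R.s2]; simp))
      (h.R.next.mem_four.mpr (by simp))
    rw [h.R.comm, cz_inf_mul, inf_comm] at hg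
    exact (h.cV g hg).imp (e _) (e _)⟩

omit [Finite G] in
theorem t_ne : t ≠ v := fun e => h.R.not_mem (e ▸ mem_cz'.mpr (h.c _))

theorem eq_of_comm {x d : G} (x1 : x ≠ 1) (x3 : x ^ 3 = 1) (d2 : d * d = 1) (e : d * x = x * d) :
    d = 1 ∨ d = t := by
  obtain ⟨X, _, _, π, -, hS, -, hπ⟩ := h.exists_quot
  have := hS.cube_of_comm (y := π x) (g := π d) (fun a => by
    rcases (hπ x 1).mp (a.trans (map_one π).symm) with a | a
    · exact x1 a
    · rw [a, one_mul, pow_succ, pow_two, h.t2, one_mul] at x3; exact h.t1 x3)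
    (by rw [← map_pow, x3, map_one]) (by rw [← map_mul, e, map_mul])
  rw [pow_succ, pow_two, ← map_mul, d2, map_one, one_mul, ← map_one π, hπ, one_mul] at this
  exact this

variable {Q : Subgroup G} (hQ : IsPGroup 2 Q) (hy : ∀ q ∈ Q, y * q * y⁻¹ ∈ Q) (hv : v ∈ Q)
include hQ hy hv

theorem conj_v {q : G} (hq : q ∈ Q) : q * v * q⁻¹ = v ∨ q * v * q⁻¹ = v * t := by
  obtain ⟨X, _, _, π, -, hS, y1, hπ⟩ := h.exists_quot
  have h3 : ¬ 3 ∣ Nat.card (Q.map π) := by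
    obtain ⟨n, hn⟩ := (hQ.map π).exists_card_eq
    rw [hn]; exact fun e => absurd (Nat.prime_three.dvd_of_dvd_pow e) (by norm_num)
  have y3 : π y ^ 3 = 1 := by rw [← map_pow, h.y3, map_one]
  have hy' : ∀ a ∈ Q.map π, π y * a * (π y)⁻¹ ∈ Q.map π := by
    rintro _ ⟨a, ha, rfl⟩; exact ⟨_, hy a ha, by simp⟩
  have hw : w ∈ Q := h.R.zt ▸ hy v hv
  have k : ∀ {a}, a ∈ Q → π (y * ⁅a, q⁆ * y⁻¹) = π ⁅y * (y * a * y⁻¹) * y⁻¹, q⁆ := fun ha => by
    simp only [map_mul, map_inv, map_commutatorElement, conjugate_commutatorElement]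
    exact (hS.class_two h3 y1 y3 hy' (hy' _ ⟨_, ha, rfl⟩) ⟨q, hq, rfl⟩).2
  have inv : ∀ {u c : G}, u * u = 1 → π c = π ⁅u, q⁆ → u * c * u⁻¹ = c⁻¹ := fun {u c} hu e => by
    have a : u * ⁅u, q⁆ * u⁻¹ = ⁅u, q⁆⁻¹ := by
      rw [commutatorElement_def, ← mul_assoc, ← mul_assoc, ← mul_assoc, hu,
        inv_eq_of_mul_eq_one_right hu]
      simp [mul_assoc, inv_eq_of_mul_eq_one_right hu]
    rcases (hπ _ _).mp e with rfl | rfl
    · exact a
    · rw [← mul_assoc, mul_assoc _ t, ← h.c, ← mul_assoc, a, mul_inv_rev,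
        inv_eq_of_mul_eq_one_right h.t2, h.c]
  set c := ⁅v, q⁆ with hc
  have i0 := inv h.R.t2 (congrArg π hc)
  have k1 := k hv
  rw [h.R.zt, h.R.zs] at k1
  have i1 : w * c * w⁻¹ = c⁻¹ := unconj_inv (h.R.zs ▸ inv h.R.st2 k1)
  have i2 : w * v * c * (w * v)⁻¹ = c⁻¹ := by
    have k2 := k (Q.mul_mem hw hv)
    rw [h.R.zst, h.R.zt] at k2
    refine unconj_inv (g := y) (unconj_inv (g := y) ?_)
    rw [h.R.zst, h.R.zt]
    exact inv h.R.s2 (by rw [← k2, map_mul, map_mul π y, k1, ← map_mul, ← map_mul])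
  have c2 : c⁻¹ = c := by
    rw [← i2]
    calc _ = w * (v * c * v⁻¹) * w⁻¹ := by group
      _ = (w * c * w⁻¹)⁻¹ := by rw [i0]; group
      _ = _ := by rw [i1, inv_inv]
  have hcen : ∀ a ∈ Q.map π, a * π c = π c * a :=
    by simpa [hc] using (hS.class_two h3 y1 y3 hy' ⟨v, hv, rfl⟩ ⟨q, hq, rfl⟩).1
  have hcen' : ∀ {b}, (∀ a ∈ Q.map π, a * b = b * a) →
      ∀ a ∈ Q.map π, a * (π y * b * (π y)⁻¹) = π y * b * (π y)⁻¹ * a := fun {b} hb a ha => by
    calc _ = π y * ((π y)⁻¹ * a * (π y)⁻¹⁻¹ * b) * (π y)⁻¹ := by group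
      _ = _ := by rw [hb _ (conj_inv_mem y3 hy' a ha)]; group
  have hc1 : π c = 1 := by
    have m : ∃ u ∈ h.R.four, π c = π u := by
      rcases h.cV c ⟨mem_cz_comm.mp (mem_cz.mpr (i0.trans c2)),
        mem_cz_comm.mp (mem_cz.mpr (i1.trans c2))⟩ with e | e
      exacts [⟨c, e, rfl⟩, ⟨_, e, ((hπ _ _).mpr (Or.inr rfl)).symm⟩]
    obtain ⟨u, hu, e⟩ := m
    have fin : (∀ a ∈ Q.map π, a * π v = π v * a) → π c = 1 := fun e => by
      rw [hc, map_commutatorElement, commutatorElement_eq_one_iff_mul_comm, e _ ⟨q, hq, rfl⟩]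
    rw [e] at hcen
    rcases h.R.mem_four.mp hu with rfl | rfl | rfl | rfl
    · rw [e, map_one]
    · exact fin hcen
    · have := hcen' (hcen' hcen)
      simp only [← map_mul, ← map_inv, h.R.zs, h.R.zst] at this
      exact fin this
    · have := hcen' hcen
      simp only [← map_mul, ← map_inv, h.R.zst] at this
      exact fin this
  have e : q * v * q⁻¹ = v * c := by
    rw [hc, commutatorElement_def, ← mul_assoc, ← mul_assoc, ← mul_assoc, h.R.t2,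
      inv_eq_of_mul_eq_one_right h.R.t2, one_mul]
  rw [e]
  rcases (hπ c 1).mp (hc1.trans (map_one π).symm) with e | e <;> simp [e]

theorem conj_w {q : G} (hq : q ∈ Q) : q * w * q⁻¹ = w ∨ q * w * q⁻¹ = w * t :=
  h.next.conj_v hQ hy (h.R.zt ▸ hy v hv) hq

theorem exists_conj_v {q : G} (hq : q ∈ Q) (hn : q ∉ cz v ⊓ cz w) :
    ∃ a ∈ Q, a * v * a⁻¹ = v * t := by
  rcases h.conj_v hQ hy hv hq with e | e
  · refine ⟨_, hy q hq, ?_⟩
    have e' := (h.conj_w hQ hy hv hq).resolve_left fun e' => hn ⟨mem_cz.mpr e, mem_cz.mpr e'⟩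
    calc _ = y * q * y⁻¹ * (y * (w * v) * y⁻¹) * (y * q * y⁻¹)⁻¹ := by rw [h.R.zst]
      _ = y * (q * w * q⁻¹ * (q * v * q⁻¹)) * y⁻¹ := by group
      _ = y * (w * v) * y⁻¹ * t := by rw [e, e', mul_assoc _ y⁻¹ t, h.c y⁻¹, mul_assoc w t v, ← h.c v]; group
      _ = _ := by rw [h.R.zst]
  · exact ⟨q, hq, e⟩

theorem es (ht : t ∈ Q) {q : G} (hq : q ∈ Q) (hn : q ∉ cz v ⊓ cz w) :
    LX.ES Q t ∧ Nat.card Q = 32 := by
  obtain ⟨X, _, _, π, -, hS, y1, hπ⟩ := h.exists_quot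
  have h3 : ¬ 3 ∣ Nat.card (Q.map π) := by
    obtain ⟨n, hn⟩ := (hQ.map π).exists_card_eq
    rw [hn]; exact fun e => absurd (Nat.prime_three.dvd_of_dvd_pow e) (by norm_num)
  have y3 : π y ^ 3 = 1 := by rw [← map_pow, h.y3, map_one]
  have hy' : ∀ a ∈ Q.map π, π y * a * (π y)⁻¹ ∈ Q.map π := by
    rintro _ ⟨a, ha, rfl⟩; exact ⟨_, hy a ha, by simp⟩
  have hw : w ∈ Q := h.R.zt ▸ hy v hv
  let T : ZMod 2 → G := fun i => if i = 0 then 1 else t
  have Tc : ∀ i g, g * T i = T i * g := fun i g => by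
    simp only [T]; split_ifs; exacts [by simp, h.c g]
  have Ta : ∀ i j, T (i + j) = T j * T i := fun i j => by
    fin_cases i <;> fin_cases j
    exacts [(one_mul 1).symm, (mul_one t).symm, (one_mul t).symm, h.t2.symm]
  let P : G → ZMod 2 × ZMod 2 → Prop := fun a i =>
    a * v * a⁻¹ = v * T i.1 ∧ a * w * a⁻¹ = w * T i.2
  have ex : ∀ a ∈ Q, ∃ i, P a i := fun a ha => by
    rcases h.conj_v hQ hy hv ha with e | e <;> rcases h.conj_w hQ hy hv ha with e' | e'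
    exacts [⟨(0, 0), by simpa [T] using e, by simpa [T] using e'⟩,
      ⟨(0, 1), by simpa [T] using e, e'⟩, ⟨(1, 0), e, by simpa [T] using e'⟩, ⟨(1, 1), e, e'⟩]
  have Py : ∀ {a i}, P a i → P (y * a * y⁻¹) (i.1 + i.2, i.1) := fun {a i} e => ⟨by
    calc _ = y * a * y⁻¹ * (y * (w * v) * y⁻¹) * (y * a * y⁻¹)⁻¹ := by rw [h.R.zst]
      _ = y * (a * w * a⁻¹ * (a * v * a⁻¹)) * y⁻¹ := by group
      _ = y * (w * v) * (T i.2 * T i.1 * y⁻¹) := by
        rw [e.1, e.2, mul_assoc w, ← mul_assoc (T _), ← Tc]; group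
      _ = _ := by rw [← Ta, ← Tc, ← mul_assoc, h.R.zst], by
    calc _ = y * a * y⁻¹ * (y * v * y⁻¹) * (y * a * y⁻¹)⁻¹ := by rw [h.R.zt]
      _ = y * (a * v * a⁻¹) * y⁻¹ := by group
      _ = _ := by rw [e.1, ← mul_assoc, mul_assoc _ (T _), ← Tc, ← mul_assoc, h.R.zt]⟩
  have Pd : ∀ {a b i}, P a i → P b i → a⁻¹ * b ∈ cz v ⊓ cz w := fun {a b i} e e' =>
    ⟨mem_cz.mpr (by
      calc _ = a⁻¹ * (b * v * b⁻¹) * a := by group
        _ = _ := by rw [e'.1, ← e.1]; group), mem_cz.mpr (by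
      calc _ = a⁻¹ * (b * w * b⁻¹) * a := by group
        _ = _ := by rw [e'.2, ← e.2]; group)⟩
  have P0 : ∀ {a}, P a 0 → a ∈ cz v ⊓ cz w := fun e => by
    simpa using Pd (a := 1) (by simp [P, T]) e
  have πt : π t = 1 := ((hπ _ 1).mpr (Or.inr (one_mul t).symm)).trans (map_one π)
  have cen : ∀ c ∈ cz v ⊓ cz w, ∀ b ∈ Q, π c ∈ cz (π b) := fun c hc b hb => by
    have k : ∀ {u}, b * u * b⁻¹ = u ∨ b * u * b⁻¹ = u * t → u ∈ (cz (π b)).comap π := fun e =>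
      mem_cz_comm.mp (mem_cz.mpr (by rw [← map_inv, ← map_mul, ← map_mul]; exact (hπ _ _).mpr e))
    have := h.R.four_le (k (h.conj_v hQ hy hv hb)) (k (h.conj_w hQ hy hv hb))
    rcases h.cV c hc with e | e
    · exact this e
    · simpa [πt] using this e
  have cy : ∀ a ∈ Q, π (y * a * y⁻¹) ∈ cz (π a) := fun a ha => by
    have := hS.cube_inv h3 y1 y3 hy' ⟨a, ha, rfl⟩
    simpa [mem_cz'] using (commutatorElement_eq_one_iff_mul_comm.mp
      (comm_conj_of_cube y3 this.1 this.2)).symm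
  have comm : ∀ a ∈ Q, ∀ b ∈ Q, a * b = b * a ∨ a * b = b * a * t := fun a ha b hb => by
    rw [← hπ, map_mul, map_mul, eq_comm, ← mem_cz']
    obtain ⟨i, hi⟩ := ex a ha
    obtain ⟨j, hj⟩ := ex b hb
    have k : ∀ {a'}, π a' ∈ cz (π a) → P a' j → π b ∈ cz (π a) := fun e e' => by
      simpa using mul_mem e (cen _ (Pd e' hj) a ha)
    rcases (by decide : ∀ i j : ZMod 2 × ZMod 2, i = 0 ∨ j = 0 ∨ j = i ∨ j = (i.1 + i.2, i.1) ∨
      j = (i.1 + i.2 + i.1, i.1 + i.2)) i j with rfl | rfl | rfl | rfl | rfl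
    · exact mem_cz_comm.mp (cen a (P0 hi) b hb)
    · exact cen b (P0 hj) a ha
    · exact k (mem_cz'.mpr rfl) hi
    · exact k (cy a ha) (Py hi)
    · refine k (mem_cz_comm.mp ?_) (Py (Py hi))
      convert cy _ (hy _ (hy a ha)) using 2
      calc a = y ^ 3 * a * (y ^ 3)⁻¹ := by rw [h.y3]; group
        _ = _ := by simp only [pow_succ, pow_zero]; group
  have nc : ∀ c ∈ cz v ⊓ cz w, (∀ b ∈ Q, c * b = b * c) → c = 1 ∨ c = t := fun c hc e => by
    have k : ∀ u ∈ h.R.four, (∀ b ∈ Q, b ∈ cz u) → u = 1 := fun u hu e => by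
      have k : ∀ {u}, (∀ b ∈ Q, b ∈ cz u) → ∀ b ∈ Q, b ∈ cz (y * u * y⁻¹) := fun e b hb => by
        simpa [mul_assoc] using conj_mem_cz y (e _ (conj_inv_mem h.y3 hy b hb))
      have k' : ¬ ∀ b ∈ Q, b ∈ cz v := fun e => hn ⟨e q hq, h.R.zt ▸ k e q hq⟩
      rcases h.R.mem_four.mp hu with rfl | rfl | rfl | rfl
      · rfl
      · exact (k' e).elim
      · exact (k' (h.R.zst ▸ h.R.zs ▸ k (k e))).elim
      · exact (k' (h.R.zst ▸ k e)).elim
    refine (h.cV c hc).imp (fun m => k c m fun b hb => mem_cz'.mpr (e b hb).symm) fun m => ?_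
    have := k _ m fun b hb => mem_cz'.mpr (by rw [← mul_assoc, ← e b hb, mul_assoc, h.c, mul_assoc])
    rwa [mul_eq_one_iff_eq_inv, inv_eq_of_mul_eq_one_right h.t2] at this
  have cc : ∀ a ∈ Q, ∀ b ∈ Q, a * a * b = b * (a * a) := fun a ha b hb => by
    rcases comm a ha b hb with e | e
    · rw [mul_assoc, e, ← mul_assoc, e, mul_assoc]
    · rw [mul_assoc, e, ← mul_assoc, ← mul_assoc, e, mul_assoc _ t, ← h.c, mul_assoc, mul_assoc,
        mul_assoc, h.t2, mul_one]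
  have hE : LX.ES Q t := ⟨ht, h.t1, h.t2, fun x _ => h.c x, fun x _ e =>
    nc x ⟨mem_cz'.mpr (e v hv), mem_cz'.mpr (e w hw)⟩ e, comm, fun x hx =>
    nc _ ⟨mem_cz'.mpr (cc x hx v hv), mem_cz'.mpr (cc x hx w hw)⟩ (cc x hx), by
      by_contra! e
      exact hn ⟨mem_cz'.mpr (e q hq v hv), mem_cz'.mpr (e q hq w hw)⟩⟩
  let A := ext2 h.R.four h.t2 fun _ _ => mem_cz'.mpr (h.c _)
  have cA : Nat.card A = 8 := by
    rw [card_ext2, h.R.card_four]
    rw [h.R.mem_four]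
    rintro (e | e | e | e)
    exacts [h.t1 e, h.t_ne e, h.next.t_ne e, h.next.next.t_ne e]
  have hA : A ≤ Q := ext2_le (h.R.four_le hv hw) ht
  have := hE.card_centralizer hA self_mem_ext2
  rw [show Q ⊓ Subgroup.centralizer (A : Set G) = A from le_antisymm (fun g hg => h.cV g
    ⟨mem_cz'.mpr (hg.2 v (le_ext2 (h.R.mem_four.mpr (by simp)))).symm,
      mem_cz'.mpr (hg.2 w (le_ext2 (h.R.mem_four.mpr (by simp)))).symm⟩) fun g hg => ⟨hA hg,
    fun a ha => by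
      have k : ∀ a ∈ A, a * a = 1 := ext2_sq h.R.four_sq
      rw [← inv_eq_of_mul_eq_one_right (k _ (A.mul_mem ha hg)), mul_inv_rev,
        inv_eq_of_mul_eq_one_right (k _ ha), inv_eq_of_mul_eq_one_right (k _ hg)]⟩, cA] at this
  exact ⟨hE, by omega⟩

omit hQ hy hv in
theorem exists_perm {s : G} (sy : s * y * s⁻¹ = y⁻¹)
    (hn : ∀ g, g * v * g⁻¹ ≠ s ∧ g * v * g⁻¹ ≠ s * t) :
    ∃ φ : G →* Equiv.Perm (Fin 3), Function.Surjective φ ∧ φ.ker = pCore 2 G ∧ φ v = 1 := by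
  obtain ⟨X, _, _, π, πs, hS, y1, hπ⟩ := h.exists_quot
  have y3 : π y ^ 3 = 1 := by rw [← map_pow, h.y3, map_one]
  have sy' : π s * π y * (π s)⁻¹ = (π y)⁻¹ := by rw [← map_inv, ← map_mul, ← map_mul, sy, map_inv]
  have v2 : π v * π v = 1 := by rw [← map_mul, h.R.t2, map_one]
  have v1 : π v ≠ 1 := fun e => ((hπ v 1).mp (e.trans (map_one π).symm)).elim h.R.t1
    fun e => h.t_ne (by rw [e, one_mul])
  have nc : ¬ IsConj (π v) (π s) := fun e => by
    obtain ⟨g, e⟩ := isConj_iff.mp e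
    obtain ⟨g, rfl⟩ := πs g
    rw [← map_inv, ← map_mul, ← map_mul, hπ] at e
    exact e.elim (hn g).1 (hn g).2
  obtain ⟨N, hN, hN3, hnil, hcase⟩ := hS.classification y1 y3
  have yN : (π y : X ⧸ N) ≠ 1 := fun e =>
    not_mem_of_not_three_dvd hN3 y1 y3 ((QuotientGroup.eq_one_iff _).mp e)
  have c3 : ∀ x : X, (x : X ⧸ N) ≠ 1 → (x : X ⧸ N) ^ 3 = 1 → x ^ 3 = 1 := fun x a b => by
    simpa using hS.cube_mul hN3 a b 1 N.one_mem
  have key : ∀ x : X ⧸ N, (π v : X ⧸ N) * (x * π v * x⁻¹) ≠ 1 →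
      ((π v : X ⧸ N) * (x * π v * x⁻¹)) ^ 3 ≠ 1 := fun x a b => by
    obtain ⟨x, rfl⟩ := QuotientGroup.mk_surjective x
    refine nc (hS.isConj_of_inverts (x := π v * (x * π v * x⁻¹)) (fun e => a ?_) (c3 _ a b) ?_
      y1 y3 sy')
    · exact congrArg QuotientGroup.mk e
    · rw [← mul_assoc (π v) (π v), v2, mul_inv_rev, conj_inv, inv_eq_of_mul_eq_one_right v2, one_mul]
  have two : (π v : X ⧸ N) = 1 → IsPGroup 2 (N.comap π) := fun e => by
    have m : v ∈ N.comap π := (QuotientGroup.eq_one_iff (π v)).mp e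
    have : Group.IsNilpotent (N.comap π) := by
      refine Subgroup.isNilpotent_of_ker_le_center
        ((π.comp (N.comap π).subtype).codRestrict N fun m => m.2) fun m hm => ?_
      refine Subgroup.mem_center_iff.mpr fun g => Subtype.ext ?_
      rcases (hπ m 1).mp ((congrArg Subtype.val hm).trans (map_one π).symm) with a | a <;>
        simp [a, h.c]
    rw [IsPGroup.iff_card]
    refine ⟨_, Nat.eq_prime_pow_of_unique_prime_dvd Nat.card_pos.ne' fun {p} hp hd => ?_⟩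
    by_contra p2
    have := Fact.mk hp
    obtain ⟨k, hk⟩ := exists_prime_orderOf_dvd_card' p hd
    have c : ∀ {u} (hu : u ∈ N.comap π), u * u = 1 → (k : G) ∈ cz u := fun hu e =>
      mem_cz'.mpr (congrArg Subtype.val (commute_of_coprime_of_isNilpotent (x := k) (y := ⟨_, hu⟩)
        (hk ▸ Nat.Coprime.coprime_dvd_right (orderOf_dvd_of_pow_eq_one (n := 2)
          (Subtype.ext ((pow_two _).trans e))) ((Nat.coprime_primes hp Nat.prime_two).mpr p2))).eq)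
    have := orderOf_dvd_of_pow_eq_one (x := k) (n := 2) (Subtype.ext ((pow_two _).trans (h.sq
      ⟨c m h.R.t2, c (h.R.zt ▸ (hN.comap π).conj_mem v m y) h.R.s2⟩)))
    exact p2 ((Nat.prime_dvd_prime_iff_eq hp Nat.prime_two).mp (hk ▸ this))
  let ψ := (QuotientGroup.mk' N).comp π
  have ψs : Function.Surjective ψ := (QuotientGroup.mk'_surjective N).comp πs
  have ψk : ψ.ker = N.comap π := by rw [← MonoidHom.comap_ker, QuotientGroup.ker_mk']
  have v2' : (π v : X ⧸ N) * π v = 1 := congrArg QuotientGroup.mk v2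
  have y3' : (π y : X ⧸ N) ^ 3 = 1 := congrArg QuotientGroup.mk y3
  rcases hcase with e | ⟨⟨e⟩⟩ | ⟨-, -, ⟨e⟩⟩ | ⟨⟨e⟩⟩
  · have : Fact (Nat.Prime 3) := ⟨Nat.prime_three⟩
    have := (isCyclic_of_prime_card e).isMulCommutative
    have a : ψ s * ψ y * (ψ s)⁻¹ = (ψ y)⁻¹ := congrArg QuotientGroup.mk sy'
    rw [mul_comm' (ψ s), mul_inv_cancel_right, eq_inv_iff_mul_eq_one] at a
    rw [pow_succ, pow_two] at y3'
    exact (yN (by rwa [show (π y : X ⧸ N) * π y = 1 from a, one_mul] at y3')).elim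
  · have hv : (π v : X ⧸ N) = 1 := by
      by_contra a
      obtain ⟨x, b, c⟩ := dec_s3.1 (e (π v)) (by rw [← map_mul, v2', map_one]) (by simpa using a)
      obtain ⟨x, rfl⟩ := e.surjective x
      exact key x (by simpa only [← map_inv, ← map_mul, map_ne_one_iff _ e.injective] using b)
        (by simpa only [← map_inv, ← map_mul, ← map_pow, map_eq_one_iff _ e.injective] using c)
    have k : (e.toMonoidHom.comp ψ).ker = N.comap π := by
      rw [← MonoidHom.comap_ker, (MonoidHom.ker_eq_bot_iff _).mpr e.injective, ← ψk]; rfl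
    refine ⟨e.toMonoidHom.comp ψ, e.surjective.comp ψs, le_antisymm (le_pCore (k ▸ two hv))
      fun q hq => ?_, (congrArg e hv).trans (map_one e)⟩
    have hp := isPGroup_pCore 2 G
    obtain ⟨n, hn⟩ := (hp.map π).exists_card_eq
    obtain ⟨m, hm⟩ := hp ⟨q, hq⟩
    have a := (hS.cube_inv (N := (pCore 2 G).map π) (by
      rw [hn]; exact fun e => absurd (Nat.prime_three.dvd_of_dvd_pow e) (by norm_num)) y1 y3
      (fun a ha => ((pCore_normal 2 G).map π πs).conj_mem a ha _) ⟨q, hq, rfl⟩).1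
    have b := dec_s3.2 (e (ψ q)) (e (ψ y)) (by rw [← map_pow, ← map_pow, h.y3]; simp) (by
      rw [← map_mul, ← map_pow]
      exact (congrArg e (congrArg QuotientGroup.mk a)).trans (map_one e))
    have := pow_gcd_eq_one.mpr ⟨b, show e (ψ q) ^ 2 ^ m = 1 by
      rw [← map_pow, ← map_pow, show q ^ 2 ^ m = 1 from congrArg Subtype.val hm]; simp⟩
    rwa [Nat.Coprime.pow_right m (by norm_num : Nat.Coprime 3 2), pow_one] at this
  · exfalso
    let ε := (alternatingGroup (Fin 5)).subtype.comp e.toMonoidHom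
    have εi : Function.Injective ε := Subtype.val_injective.comp e.injective
    have εs : ∀ {a : Equiv.Perm (Fin 5)}, a.sign = 1 → ∃ g, ε (ψ g) = a := fun {a} ha => by
      obtain ⟨g, hg⟩ := (e.surjective.comp ψs) ⟨a, ha⟩
      exact ⟨g, congrArg Subtype.val hg⟩
    have hv : (π v : X ⧸ N) = 1 := by
      by_contra a
      obtain ⟨x, d, b, c⟩ := dec_a5.1 (ε (π v)) (by rw [← map_mul, v2', map_one])
        ((map_ne_one_iff _ εi).mpr a) (e _).2
      obtain ⟨x, rfl⟩ := εs d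
      exact key (ψ x) (by simpa only [← map_inv ε, ← map_mul ε, map_ne_one_iff _ εi] using b)
        (by simpa only [← map_inv ε, ← map_mul ε, ← map_pow, map_eq_one_iff _ εi] using c)
    obtain ⟨a, ha, b, hb, ab1, ab3⟩ := dec_a5.2 (ε (π y)) (by rw [← map_pow, y3', map_one])
      ((map_ne_one_iff _ εi).mpr yN)
    have k : ∀ {g}, ε (ψ g) ≠ 1 ∧ ε (ψ g) * ε (ψ g) = 1 ∧ ε (π y) * (ε (π y) * ε (ψ g) *
        (ε (π y))⁻¹) * (ε (π y))⁻¹ = ε (π y) * ε (ψ g) * (ε (π y))⁻¹ * ε (ψ g) →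
        π g ∈ cz (π v) := fun {g} hg => by
      have R : Rot (ε (π y)) (ε (ψ g)) _ := ⟨hg.1, hg.2.1, rfl, hg.2.2⟩
      have := h.conj_v (Q := R.four.comap (ε.comp ψ)) (IsPGroup.comap_of_ker_isPGroup
        (IsPGroup.of_card (n := 2) R.card_four) _ (by
          rw [← MonoidHom.comap_ker, (MonoidHom.ker_eq_bot_iff _).mpr εi]
          exact (ψk ▸ two hv : IsPGroup 2 ψ.ker)))
        (fun q hq => by
          simp only [Subgroup.mem_comap, map_mul, map_inv]; exact R.four_conj _ hq)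
        (show ε (π v) ∈ R.four by rw [hv, map_one]; exact one_mem _) (q := g)
        (R.mem_four.mpr (Or.inr (Or.inl rfl)))
      rw [mem_cz, ← map_inv, ← map_mul, ← map_mul]; exact (hπ _ _).mpr this
    obtain ⟨a, rfl⟩ := εs ha.1
    obtain ⟨b, rfl⟩ := εs hb.1
    rw [← map_mul, map_ne_one_iff _ εi] at ab1
    rw [← map_mul, ← map_pow, map_eq_one_iff _ εi] at ab3
    have := hS.cube_of_comm (y := π a * π b) (fun e => ab1 (congrArg QuotientGroup.mk e))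
      (c3 _ ab1 ab3) (mem_cz'.mp (mul_mem (k ha.2) (k hb.2))).symm
    exact v1 (by rwa [pow_succ, pow_two, v2, one_mul] at this)
  · have : Fact (Nat.Prime 7) := ⟨by norm_num⟩
    have o : ∀ {a : X}, a ≠ 1 → a * a = 1 → orderOf (e a) = 2 := fun a b => by
      rw [e.orderOf_eq, orderOf_eq_prime ((pow_two _).trans b) a]
    have s1 : π s ≠ 1 := fun a => by
      rw [a, one_mul, inv_one, mul_one, eq_inv_iff_mul_eq_one] at sy'
      exact y1 (by rwa [pow_succ, pow_two, sy', one_mul] at y3)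
    refine (nc ?_).elim
    simpa using e.symm.toMonoidHom.map_isConj (CL.CITC.isConj_psl2_two (F := ZMod 7) _ _
      (o v1 v2) (o s1 (hS.sq_of_inverts y1 y3 sy')))

end TwoL

/-- the global hypothesis -/
structure TwoG (M : Subgroup G) (t y v w e f : G) : Prop where
  t1 : t ≠ 1
  t2 : t * t = 1
  ty : y ∈ cz t
  tv : v ∈ cz t
  y3 : y ^ 3 = 1
  cy : ∀ g ∈ cz t, g * y = y * g → g ∈ Subgroup.zpowers (y * t)
  R : Rot y v w
  cV : ∀ g ∈ cz t, g ∈ cz v ⊓ cz w → g ∈ R.four ∨ g * t ∈ R.four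
  ff : f * f = e
  e2 : e * e = 1
  ey : e * y * e⁻¹ = y⁻¹
  ev : e ∈ cz v
  ft : f * t * f⁻¹ = e * t
  fv : f * v * f⁻¹ = e * v
  eM : e ∈ M
  vM : v ∈ M
  wM : w ∈ M
  hM : ∀ g, g * t * g⁻¹ ∉ M
  cv : IsConj e v
  cvt : IsConj e (v * t)

theorem dec_s3' : ∀ s y p : Equiv.Perm (Fin 3), y ≠ 1 → y ^ 3 = 1 → s * y * s⁻¹ = y⁻¹ →
    s ≠ 1 ∧ s * s = 1 ∧ (p * s = s * p → p = 1 ∨ s * p = 1) := by decide +kernel

namespace TwoG
variable {M : Subgroup G} {t y v w e f : G} (h : TwoG M t y v w e f)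
include h

theorem fs : f * (e * t) * f⁻¹ = t := by
  rw [← conj_mul, h.ft, ← h.ff, ← mul_assoc f, mul_inv_cancel_right, ← mul_assoc, h.ff, h.e2,
    one_mul]

theorem te : e ∈ cz t := mem_cz.mpr (by
  calc _ = f * (f * t * f⁻¹) * f⁻¹ := by rw [← h.ff]; group
    _ = _ := by rw [h.ft, h.fs])

theorem tw : w ∈ cz t := h.R.zt ▸ mul_mem (mul_mem h.ty h.tv) (inv_mem h.ty)

theorem nc {a : G} (ha : a ∈ M) : ¬ IsConj t a := fun c => by
  obtain ⟨g, rfl⟩ := isConj_iff.mp c; exact h.hM g ha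

theorem twoL : TwoL (⟨t, mem_cz'.mpr rfl⟩ : cz t) ⟨y, h.ty⟩ ⟨v, h.tv⟩ ⟨w, h.tw⟩ := by
  have R : Rot (⟨y, h.ty⟩ : cz t) ⟨v, h.tv⟩ ⟨w, h.tw⟩ := ⟨fun e => h.R.t1 (congrArg Subtype.val e),
    Subtype.ext h.R.t2, Subtype.ext h.R.zt, Subtype.ext h.R.zs⟩
  refine ⟨fun g => Subtype.ext (mem_cz'.mp g.2), fun e => h.t1 (congrArg Subtype.val e),
    Subtype.ext h.t2, Subtype.ext h.y3, fun g e => ?_, R, fun g hg => ?_⟩
  · obtain ⟨k, hk⟩ := h.cy g g.2 (congrArg Subtype.val e)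
    exact ⟨k, Subtype.ext hk⟩
  · simpa only [Rot.mem_four, Subtype.ext_iff, Subgroup.coe_mul, Subgroup.coe_one] using h.cV g g.2
      ⟨mem_cz'.mpr (congrArg Subtype.val (mem_cz'.mp hg.1)),
        mem_cz'.mpr (congrArg Subtype.val (mem_cz'.mp hg.2))⟩

theorem eq_of_isConj {p : G} (c : IsConj t p) (h1 : p ∈ cz t) (h2 : p ∈ cz v ⊓ cz w) : p = t := by
  have k : ∀ {a}, y * a * y⁻¹ * t = y * (a * t) * y⁻¹ := by
    intro a; rw [← conj_mul, mem_cz.mp h.ty]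
  have k' : ∀ {a}, IsConj e (a * t) → IsConj e (y * a * y⁻¹ * t) := fun c =>
    c.trans (isConj_iff.mpr ⟨y, k.symm⟩)
  have n : ∀ {a}, IsConj e (a * t) → p * t ≠ a := fun c' a => h.nc h.eM (c.trans (by
    rwa [← a, mul_assoc, h.t2, mul_one, isConj_comm] at c'))
  rcases h.cV p h1 h2 with m | m
  · exact (h.nc (h.R.four_le h.vM h.wM m) c).elim
  rcases h.R.mem_four.mp m with m | m | m | m
  · rwa [mul_eq_one_iff_eq_inv, inv_eq_of_mul_eq_one_right h.t2] at m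
  · exact (n h.cvt m).elim
  · exact (n (h.R.zt ▸ k' h.cvt) m).elim
  · exact (n (h.R.zs ▸ h.R.zt ▸ k' (k' h.cvt)) m).elim

theorem sy : e * t * y * (e * t)⁻¹ = y⁻¹ := by
  rw [← h.ey]; nth_rewrite 2 [← mem_cz.mp (mem_cz_comm.mp h.ty)]; group

theorem sw : e * t * w * (e * t)⁻¹ = w * v := by
  calc _ = e * t * y * (e * t)⁻¹ * (e * (t * v * t⁻¹) * e⁻¹) * (e * t * y * (e * t)⁻¹)⁻¹ := by
        rw [← h.R.zt]; group
    _ = _ := by rw [h.sy, mem_cz.mp (mem_cz_comm.mp h.tv), mem_cz.mp h.ev, h.R.symm.zt]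

theorem s2 : e * t * (e * t) = 1 := by rw [← h.ft, conj_mul, h.t2]; simp

variable [Finite G]

theorem exists_perm : ∃ φ : cz t →* Equiv.Perm (Fin 3), Function.Surjective φ ∧
    φ.ker = pCore 2 (cz t) ∧ φ ⟨v, h.tv⟩ = 1 ∧ φ ⟨t, mem_cz'.mpr rfl⟩ = 1 ∧
    ∀ s : cz t, s = e * t → φ s ≠ 1 ∧ φ s * φ s = 1 ∧
      ∀ p, φ p * φ s = φ s * φ p → φ p = 1 ∨ φ (s * p) = 1 := by
  have c : IsConj t (e * t) := isConj_iff.mpr ⟨f, h.ft⟩
  obtain ⟨φ, a, b, d⟩ := h.twoL.exists_perm (s := ⟨e * t, mul_mem h.te (mem_cz'.mpr rfl)⟩)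
    (Subtype.ext h.sy) fun g => ⟨fun a => h.nc h.vM (c.trans (IsConj.symm (isConj_iff.mpr
      ⟨g, congrArg Subtype.val a⟩))), fun a => h.nc h.eM (c.trans (IsConj.symm (h.cvt.trans
        (isConj_iff.mpr ⟨g, by
          have : (g : G) * v * (g : G)⁻¹ = e * t * t := congrArg Subtype.val a
          rw [← conj_mul, this, mem_cz.mp g.2, mul_assoc, h.t2, mul_one]⟩))))⟩
  have := h.twoL.nor
  refine ⟨φ, a, b, d, ?_, fun s hs => ?_⟩
  · rw [← MonoidHom.mem_ker, b]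
    exact le_pCore (IsPGroup.of_card (n := 1) (card_zpowers_two h.twoL.t1 h.twoL.t2))
      (Subgroup.mem_zpowers _)
  have k := fun p => dec_s3' (φ s) (φ ⟨y, h.ty⟩) p (fun a => by
    rw [← MonoidHom.mem_ker, b] at a
    obtain ⟨n, hn⟩ := (isPGroup_pCore 2 (cz t)).exists_card_eq
    exact not_mem_of_not_three_dvd (by
      rw [hn]; exact fun e => absurd (Nat.prime_three.dvd_of_dvd_pow e) (by norm_num))
      h.twoL.R.z1 h.twoL.y3 a) (by rw [← map_pow, h.twoL.y3, map_one]) (by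
      rw [← map_inv, ← map_mul, ← map_mul, ← map_inv]; exact congrArg φ (Subtype.ext (by simpa [hs] using h.sy)))
  exact ⟨(k 1).1, (k 1).2.1, fun p e => map_mul φ s p ▸ (k _).2.2 e⟩

theorem exists_not_mem : ∃ q ∈ pCore 2 (cz t), q ∉ cz ⟨v, h.tv⟩ ⊓ cz ⟨w, h.tw⟩ := by
  by_contra! hq
  obtain ⟨φ, φs, φk, φv, φt, hφ⟩ := h.exists_perm
  let s : cz t := ⟨e * t, mul_mem h.te (mem_cz'.mpr rfl)⟩
  obtain ⟨s1, s2, -⟩ := hφ s rfl
  let T := ((Subgroup.zpowers (φ s)).comap φ).map (cz t).subtype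
  have hp : IsPGroup 2 T := (IsPGroup.comap_of_ker_isPGroup (IsPGroup.of_card (n := 1)
    (card_zpowers_two s1 s2)) φ (φk ▸ isPGroup_pCore 2 _)).map _
  have m : ∀ {a : cz t}, φ a = 1 → (a : G) ∈ T := fun a => ⟨_, by simp [a], rfl⟩
  have φw : φ ⟨w, h.tw⟩ = 1 := by rw [← h.twoL.R.zt, map_mul, map_mul, φv]; simp
  obtain ⟨n, hn⟩ := hp.exists_card_eq
  have hi := not_dvd_index_of_normalizer_le' (M := cz t) hn (fun g hg => by
    have k : ∀ a ∈ T, g * t * g⁻¹ ∈ cz a := fun a ha => by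
      simpa [mul_assoc] using conj_mem_cz g (mem_cz_comm.mp (Subgroup.map_subtype_le _
        ((Subgroup.mem_normalizer_iff.mp (inv_mem hg) a).mp ha)))
    exact mem_cz.mpr (h.eq_of_isConj (isConj_iff.mpr ⟨g, rfl⟩) (k _ (m φt))
      ⟨k _ (m φv), k _ (m φw)⟩)) (by
    have a := ((Subgroup.zpowers (φ s)).comap φ).card_mul_index
    have b := (Subgroup.zpowers (φ s)).card_mul_index
    rw [card_zpowers_two s1 s2, Nat.card_perm, Nat.card_fin, show Nat.factorial 3 = 6 from rfl] at b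
    rw [Subgroup.index_comap_of_surjective _ φs, show (Subgroup.zpowers (φ s)).index = 3 by omega,
      ← Subgroup.card_map_of_injective (cz t).subtype_injective, hn] at a
    rw [← a, pow_succ, Nat.mul_dvd_mul_iff_left (by positivity)]; decide)
  obtain ⟨K, hK, tK⟩ := CL.Iso.thompson_transfer_inv (H := T) (M := M)
    (Nat.not_even_iff_odd.mp fun a => hi a.two_dvd) (Subgroup.index_eq_two_iff.mpr
      ⟨⟨t, m φt⟩, fun ⟨_, b, hb, rfl⟩ => by
        have k : ∀ a : cz t, φ a = 1 → (a : G) ∈ M ∨ a * t ∈ M := fun a ha => by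
          have := hq a (φk ▸ ha)
          exact (h.cV a a.2 ⟨mem_cz'.mpr (congrArg Subtype.val (mem_cz'.mp this.1)), mem_cz'.mpr
            (congrArg Subtype.val (mem_cz'.mp this.2))⟩).imp (h.R.four_le h.vM h.wM ·)
            (h.R.four_le h.vM h.wM ·)
        have k' : (b : G) ∈ M ∨ b * t ∈ M := by
          rcases (mem_zpowers_two s2).mp hb with a | a
          · exact k b a
          · have := k (s * b) (by rw [map_mul, a, s2])
            rw [Subgroup.coe_mul, mul_assoc, mul_assoc, mul_assoc, M.mul_mem_cancel_left h.eM,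
              M.mul_mem_cancel_left h.eM, ← mem_cz'.mp b.2, ← mul_assoc, ← mem_cz'.mp b.2,
              mul_assoc, h.t2, mul_one] at this
            exact this.symm
        have n : (b : G) ∈ M → b * t ∉ M := fun a c =>
          h.nc ((M.mul_mem_cancel_left a).mp c) (IsConj.refl _)
        exact k'.elim (fun a => Or.inr ⟨a, n a⟩) fun a => Or.inl ⟨a, fun c => n c a⟩⟩)
    (m φt) (orderOf_eq_prime ((pow_two _).trans h.t2) h.t1) h.hM
  have := Subgroup.normal_of_index_eq_two hK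
  have k : ∀ {a}, IsConj e a → a ∈ K := fun c => by
    obtain ⟨g, rfl⟩ := isConj_iff.mp c
    exact this.conj_mem _ (h.ff ▸ Subgroup.mul_self_mem_of_index_two hK f) g
  exact tK ((K.mul_mem_cancel_left (k h.cv)).mp (k h.cvt))

theorem exists_conj_mem (hE : LX.ES ((pCore 2 (cz t)).map (cz t).subtype) t)
    (hv : ∃ q ∈ (pCore 2 (cz t)).map (cz t).subtype, q * v * q⁻¹ = v * t) :
    ∃ g, g * t * g⁻¹ ∈ (pCore 2 (cz t)).map (cz t).subtype ∧ g * t * g⁻¹ ≠ t := by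
  by_contra! hw
  obtain ⟨φ, -, φk, φv, -, hφ⟩ := h.exists_perm
  set Q := (pCore 2 (cz t)).map (cz t).subtype
  have m : ∀ {a : cz t}, φ a = 1 → (a : G) ∈ Q := fun a => ⟨_, φk ▸ a, rfl⟩
  have QL : Q ≤ cz t := Subgroup.map_subtype_le _
  have nQ : ∀ g ∈ cz t, ∀ a ∈ Q, g * a * g⁻¹ ∈ Q := by
    rintro g hg _ ⟨a, ha, rfl⟩; exact ⟨_, (pCore_normal 2 _).conj_mem a ha ⟨g, hg⟩, rfl⟩
  have vQ : v ∈ Q := m φv
  have wQ : w ∈ Q := h.R.zt ▸ nQ y h.ty v vQ
  have sL : e * t ∈ cz t := mul_mem h.te (mem_cz'.mpr rfl)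
  have ct : IsConj t (e * t) := isConj_iff.mpr ⟨f, h.ft⟩
  have sv : e * t ∈ cz v := mul_mem h.ev (mem_cz_comm.mp h.tv)
  have v1 : ∀ {a}, a * v ≠ a := by simpa using h.R.t1
  have ws : w * (e * t) * w⁻¹ = e * t * v := by
    have := h.sw
    rw [mul_inv_eq_iff_eq_mul, h.R.comm, mul_assoc v] at this
    rw [mem_cz'.mp sv, mul_inv_eq_iff_eq_mul, mul_assoc v, this, ← mul_assoc v, h.R.t2,
      one_mul]
  have Rv : ∀ r ∈ Q, r ∈ cz (e * t) → r ∈ cz v := fun r hr c => by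
    have k : r * w * r⁻¹ * (r * v * r⁻¹) = e * t * (r * w * r⁻¹) * (e * t)⁻¹ := by
      calc _ = r * (e * t) * r⁻¹ * (r * w * r⁻¹) * (r * (e * t) * r⁻¹)⁻¹ := by
            rw [conj_mul, ← h.sw]; group
        _ = _ := by rw [mem_cz.mp c]
    rcases hE.conj_cases wQ hr with a | a <;> rw [a] at k
    · rw [h.sw] at k; exact mem_cz.mpr (mul_left_cancel k)
    · rw [← conj_mul (a := w), h.sw, mem_cz.mp sL, mul_assoc w v, mem_cz'.mp h.tv, ← mul_assoc w t v] at k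
      exact mem_cz.mpr (mul_left_cancel k)
  have P : ∀ p ∈ cz t, p ∈ cz (e * t) → IsConj t p → p ≠ t → p ≠ e * t → p ≠ e * t * v →
      p ∈ cz v ∧ w * p * w⁻¹ = p * (v * t) := fun p pL ps c n1 n2 n3 => by
    have hr : e * t * p ∈ Q := by
      rcases (hφ ⟨_, sL⟩ rfl).2.2 ⟨p, pL⟩ (by
        rw [← map_mul, ← map_mul]; exact congrArg φ (Subtype.ext (mem_cz'.mp ps))) with a | a
      · obtain ⟨g, rfl⟩ := isConj_iff.mp c
        exact (n1 (hw g (m a))).elim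
      · exact m a
    obtain ⟨r, rfl⟩ : ∃ r, p = e * t * r := ⟨e * t * p, by rw [← mul_assoc, h.s2, one_mul]⟩
    rw [← mul_assoc, h.s2, one_mul] at hr
    rw [Subgroup.mul_mem_cancel_left _ (mem_cz'.mpr rfl)] at ps
    have rv := Rv r hr ps
    refine ⟨mul_mem sv rv, ?_⟩
    rw [← conj_mul, ws, hE.conj_eq_of_not_comm hr wQ fun a => ?_, mul_assoc, ← mul_assoc v,
      ← mem_cz'.mp rv]
    · group
    rcases h.cV r (QL hr) ⟨rv, mem_cz'.mpr a⟩ with a | a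
    · have k : w ∉ cz (e * t) := fun a => v1 (h.sw.symm.trans (mem_cz.mp (mem_cz_comm.mp a)))
      rcases h.R.mem_four.mp a with rfl | rfl | rfl | rfl
      exacts [n2 (mul_one _), n3 rfl, k ps, k ((Subgroup.mul_mem_cancel_right _
        (mem_cz_comm.mp sv)).mp ps)]
    · refine h.nc (M.mul_mem h.eM (h.R.four_le h.vM h.wM a)) ?_
      rwa [mem_cz'.mp (QL hr), ← mul_assoc]
  obtain ⟨q, hq, qv⟩ := hv
  have nq : q ∉ cz v := fun a => h.t1 (by simpa using qv.symm.trans (mem_cz.mp a))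
  set p := q * (e * t) * q⁻¹ with hp
  have cp : IsConj t p := ct.trans (isConj_iff.mpr ⟨q, rfl⟩)
  have pL : p ∈ cz t := mul_mem (mul_mem (QL hq) sL) (inv_mem (QL hq))
  have p2 : p * p = 1 := by rw [hp, conj_mul, h.s2]; simp
  have pi := inv_eq_of_mul_eq_one_right p2
  have si := inv_eq_of_mul_eq_one_right h.s2
  have ps : p ∈ cz (e * t) := by
    rcases hE.sq (p * (e * t)) (by
      have := Q.mul_mem hq (nQ _ sL _ (Q.inv_mem hq))
      rwa [si, ← mul_assoc q, ← mul_assoc q] at this) with a | a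
    · rw [mem_cz', ← inv_eq_of_mul_eq_one_right a, mul_inv_rev, pi, si]
    · refine (h.nc h.eM (ct.trans (isConj_iff.mpr ⟨p, ?_⟩))).elim
      rw [pi, eq_mul_inv_of_mul_eq ((mul_assoc _ _ _).trans a), si, ← mul_assoc,
        mem_cz'.mp (mem_cz_comm.mp h.te), mul_assoc, h.t2, mul_one]
  have n1 : p ≠ t := fun a => by
    have : e * t = t := by
      calc _ = q⁻¹ * p * q⁻¹⁻¹ := by rw [hp]; group
        _ = _ := by rw [a, mem_cz.mp (inv_mem (QL hq))]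
    exact h.R.t1 (by simpa [mul_eq_right.mp this] using h.cv.symm)
  have n2 : p ≠ e * t := fun a => nq (Rv q hq (mem_cz.mpr a))
  have n3 : p ≠ e * t * v := fun a => nq ((Subgroup.mul_mem_cancel_left _
    (inv_mem h.R.s_mem)).mp (Rv _ (mul_mem (inv_mem wQ) hq) (mem_cz.mpr (by
      calc _ = w⁻¹ * p * w := by rw [hp]; group
        _ = _ := by rw [a, ← ws]; group))))
  have fsv : f * (e * t * v) * f⁻¹ = e * t * v := by
    rw [← conj_mul, h.fs, h.fv, ← mul_assoc, mem_cz'.mp h.te]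
  have fd : f * (v * t) * f⁻¹ = v * t := by
    rw [← conj_mul, h.ft, h.fv, mem_cz'.mp h.ev, mul_assoc, ← mul_assoc e, h.e2, one_mul]
  have d2 : v * t * (v * t) = 1 := by
    rw [mul_assoc, ← mul_assoc t, ← mem_cz'.mp h.tv, mul_assoc, h.t2, mul_one, h.R.t2]
  have wd : w * (v * t) * w⁻¹ = v * t := by rw [← conj_mul, mem_cz.mp h.R.s_mem, mem_cz.mp h.tw]
  have wi := inv_eq_of_mul_eq_one_right h.R.s2
  have k : ∀ {a b}, f * a * f⁻¹ = b → (p ∈ cz b → f⁻¹ * p * f ∈ cz a) ∧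
      (p ≠ b → f⁻¹ * p * f ≠ a) := fun e => ⟨fun c => by
        simpa [← e, mul_assoc] using conj_mem_cz f⁻¹ c, fun c a => c (by rw [← e, ← a]; group)⟩
  obtain ⟨pv, P1⟩ := P p pL ps cp n1 n2 n3
  have P2 := (P _ ((k h.ft).1 ps) ((k h.fs).1 pL) (cp.trans (isConj_iff.mpr ⟨f⁻¹, by simp⟩))
    ((k h.ft).2 n2) ((k h.fs).2 n1) ((k fsv).2 n3)).2
  set g := w * (f * w * f⁻¹) with hg
  have cg : ∀ {a b c}, f * a * f⁻¹ = b → w * a * w⁻¹ = c →
      g * b * g⁻¹ = w * (f * c * f⁻¹) * w⁻¹ := fun e e' => by rw [← e, ← e', hg]; group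
  have g1 : g ∈ cz p := mem_cz.mpr (by
    rw [cg (by group) P2, ← conj_mul (b := f), fd, show f * (f⁻¹ * p * f) * f⁻¹ = p by group,
      ← conj_mul, P1, wd, mul_assoc p, d2, mul_one])
  have g2 : g ∈ cz (v * t) := mem_cz.mpr (by rw [cg fd wd, fd, wd])
  have wsv : w * (e * t * v) * w⁻¹ = e * t := by
    rw [← conj_mul, ws, mem_cz.mp h.R.s_mem, mul_assoc, h.R.t2, mul_one]
  have g3 : g * t * g⁻¹ = e * t := by rw [cg h.fs ws, fsv, wsv]
  have g4 : g ^ 3 ∈ cz t := mem_cz.mpr (by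
    calc _ = g * (g * (g * t * g⁻¹) * g⁻¹) * g⁻¹ := by simp only [pow_succ, pow_zero]; group
      _ = _ := by rw [g3, cg h.ft (mem_cz.mp h.tw), h.ft, ws, cg fsv wsv, h.fs, mem_cz.mp h.tw])
  have h3 : 3 ∣ orderOf g := by
    by_contra a
    have := Subgroup.zpowers_le.mpr g4 (mem_zpowers_pow_iff.mpr
      ((Nat.Prime.coprime_iff_not_dvd Nat.prime_three).mpr a))
    exact h.R.t1 (by simpa [mul_eq_right.mp (g3.symm.trans (mem_cz.mp this))] using h.cv.symm)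
  have o := orderOf_pow_orderOf_div (orderOf_pos g).ne' h3
  obtain ⟨c, hc⟩ := isConj_iff.mp cp.symm
  have mc : ∀ {a}, a ∈ cz p → c * a * c⁻¹ ∈ cz t := fun a => hc ▸ conj_mem_cz c a
  rcases h.twoL.eq_of_comm (x := ⟨_, mc (pow_mem g1 (orderOf g / 3))⟩)
    (d := ⟨_, mc (mul_mem (mem_cz_comm.mp pv) (mem_cz_comm.mp pL))⟩) (fun a => by
      have := congrArg Subtype.val a
      rw [Subgroup.coe_one, conj_eq_one_iff, ← orderOf_eq_one_iff, o] at this; omega)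
    (Subtype.ext (by
      show (c * _ * c⁻¹) ^ 3 = 1
      rw [conj_pow, orderOf_dvd_iff_pow_eq_one.mp o.dvd]; simp))
    (Subtype.ext (by show c * _ * c⁻¹ * (c * _ * c⁻¹) = 1; rw [conj_mul, d2]; simp))
    (Subtype.ext (by
      show c * _ * c⁻¹ * (c * _ * c⁻¹) = c * _ * c⁻¹ * (c * _ * c⁻¹)
      rw [conj_mul, conj_mul, mem_cz'.mp (pow_mem g2 _)])) with a | a
  · have : v * t = 1 := conj_eq_one_iff.mp (congrArg Subtype.val a)
    exact h.nc h.vM (by rw [eq_inv_of_mul_eq_one_left this, inv_eq_of_mul_eq_one_right h.t2])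
  · exact h.nc h.eM (h.cvt.trans (isConj_iff.mpr ⟨c, congrArg Subtype.val a⟩)).symm

theorem main : (∃ (N : Subgroup G) (_ : N.Normal), IsMulCommutative N ∧ (∀ n ∈ N, n ^ 2 = 1) ∧
    Nat.card N = 8 ∧ Nonempty (G ⧸ N ≃* Matrix.ProjectiveSpecialLinearGroup (Fin 3) (ZMod 2))) ∨
    Nonempty (G ≃* alternatingGroup (Fin 8)) ∨ Nonempty (G ≃* alternatingGroup (Fin 9)) ∨
    Cfsg.Spor.IsoM12 G := by
  obtain ⟨q, hq, hn⟩ := h.exists_not_mem
  obtain ⟨φ, φs, φk, φv, φt, -⟩ := h.exists_perm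
  have hp := isPGroup_pCore 2 (cz t)
  have hy := fun q hq => (pCore_normal 2 (cz t)).conj_mem q hq ⟨y, h.ty⟩
  obtain ⟨hE, c⟩ := h.twoL.es hp hy (φk ▸ φv) (φk ▸ φt) hq hn
  obtain ⟨a, ha, av⟩ := h.twoL.exists_conj_v hp hy (φk ▸ φv) hq hn
  replace hE := hE.map (cz t).subtype fun x _ e => Subtype.ext e
  let ε := (QuotientGroup.quotientMulEquivOfEq φk.symm).trans
    (QuotientGroup.quotientKerEquivOfSurjective φ φs)
  have cX := card_zpowers_three h.twoL.R.z1 h.twoL.y3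
  refine Cfsg.Agent.S3344.result t hE.orderOf_z _ rfl _ rfl hE.isExtraspecial
    (by rw [Subgroup.card_map_of_injective (cz t).subtype_injective, c]) ε
    ((IsPGroup.of_card (n := 1) cX).toSylow (by
      have a := Subgroup.card_eq_card_quotient_mul_card_subgroup (pCore 2 (cz t))
      have b := (Subgroup.zpowers (⟨y, h.ty⟩ : cz t)).card_mul_index
      rw [Nat.card_congr ε.toEquiv, Nat.card_perm, Nat.card_fin, c,
        show Nat.factorial 3 = 6 from rfl] at a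
      rw [cX, a] at b
      omega)) (le_antisymm (fun b hb => ?_) (Subgroup.zpowers_le.mpr ⟨hE.z_mem, ?_⟩))
    (h.exists_conj_mem hE ⟨a, ⟨a, ha, rfl⟩, congrArg Subtype.val av⟩)
  · obtain ⟨k, rfl⟩ := h.cy b (Subgroup.map_subtype_le _ hb.1)
      (hb.2 y ⟨⟨y, h.ty⟩, Subgroup.mem_zpowers _, rfl⟩).symm
    have c : Commute y t := mem_cz'.mp h.ty
    have a := hE.pow_four hb.1
    have t2 : (t ^ k) ^ 2 = 1 := by
      rw [← zpow_natCast, ← zpow_mul, mul_comm, zpow_mul, zpow_natCast, pow_two, h.t2, one_zpow]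
    have y3 : (y ^ k) ^ 3 = 1 := by
      rw [← zpow_natCast, ← zpow_mul, mul_comm, zpow_mul, zpow_natCast, h.y3, one_zpow]
    simp only [c.mul_zpow] at a ⊢
    rw [(c.zpow_zpow k k).mul_pow, pow_succ, y3, show 4 = 2 * 2 from rfl, pow_mul, t2] at a
    rw [show y ^ k = 1 by simpa using a, one_mul]
    exact ⟨k, rfl⟩
  · rintro _ ⟨b, -, rfl⟩
    exact mem_cz'.mp b.2

end TwoG

end CL.Odd
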