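import Mathlib
import Cfsg.Agent.PERM.A9Loc
import Cfsg.Agent.PERM.A9Two
import Cfsg.Agent.PERM.A9Four
import Cfsg.Agent.PERM.A9Six
import Cfsg.Agent.KSG.MathieuMdl
import Cfsg.Agent.CLAS.L3Max4

/-! A three-local characterization of `Alt(9)`. -/

set_option autoImplicit false
set_option maxRecDepth 100000
open Cfsg

namespace CL.Odd

open M648 Equiv

variable {G : Type*} [Group G] [Finite G] {ι : M648 →* G}

theorem M648.g_nine : ∀ i q, q * mk (sig24 i (1, 1, 1)) 0 = mk (sig24 i (1, 1, 1)) 0 * q →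
    q ^ 9 = 1 := by decide +kernel

theorem A9Loc.twoG (h : A9Loc ι) {z : G} (hz : z = ι zz) {N : Subgroup G}
    (hN : N = Subgroup.normalizer (Subgroup.zpowers z : Set G)) (π : N →* S6)
    (πs : Function.Surjective π) (πk : ∀ n, π n = 1 ↔ (n : G) ∈ Subgroup.zpowers z) :
    ∃ v w, TwoG (cz z) (ι T0) (ι B0) v w (ι E0) (ι F0) := by
  obtain ⟨t2, tb, tz, ff, ft, eb, -, fz, de, -, -, t1, tf2⟩ := g_T
  have z3 : z ^ 3 = 1 := by rw [hz, ← map_pow, zz, mk_cube, map_one]
  have z1 : z ≠ 1 := hz ▸ (map_ne_one_iff _ h.inj).mpr (by decide)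
  have up : ∀ {a b : M648}, a = b → ι a = ι b := congrArg ι
  have tz' : ι T0 * z * (ι T0)⁻¹ = z⁻¹ := by simpa [hz] using up tz
  have zi : z⁻¹ ≠ z := fun e => z1 (by
    rwa [pow_succ, pow_two, inv_eq_iff_mul_eq_one.mp e, one_mul] at z3)
  have mN : ∀ {g}, g * z * g⁻¹ = z ∨ g * z * g⁻¹ = z⁻¹ → g ∈ N := fun e =>
    hN ▸ Subgroup.mem_normalizer_fintype (by
      rintro _ ⟨k, rfl⟩
      rw [← conj_zpow]
      exact zpow_mem ((mem_zpowers_three z3).mpr (Or.inr e)) k)
  have cN : cz z ≤ N := fun g hg => mN (Or.inl (mem_cz.mp hg))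
  have Zc : ∀ {a}, a ∈ Subgroup.zpowers z → a ^ 3 = 1 ∧ ∀ g ∈ cz z, g * a = a * g := by
    rintro _ ⟨k, rfl⟩
    exact ⟨by rw [← zpow_natCast, ← zpow_mul, mul_comm, zpow_mul, zpow_natCast, z3, one_zpow],
      fun g hg => ((show Commute g z from mem_cz'.mp hg).zpow_right k).eq⟩
  let t : N := ⟨ι T0, mN (Or.inr tz')⟩
  have yz : ι B0 ∈ cz z := hz ▸ (mem_cz_map h.inj).mpr (mk_comm _ _)
  have fz' : ι F0 ∈ cz z := hz ▸ (mem_cz_map h.inj).mpr fz
  let y : N := ⟨ι B0, cN yz⟩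
  let f : N := ⟨ι F0, cN fz'⟩
  have tn : ι T0 ∉ cz z := fun e => zi (tz'.symm.trans (mem_cz.mp e))
  have sgn : ∀ n : N, Perm.sign (π n) = 1 ↔ (n : G) ∈ cz z := fun n => by
    have k : π.ker ≤ (cz z).subgroupOf N := fun a ha =>
      mem_cz'.mpr ((Zc ((πk a).mp ha)).2 z (mem_cz'.mpr rfl)).symm
    rw [← Perm.mem_alternatingGroup, ← Perm.eq_alternatingGroup_of_index_eq_two
      (G := ((cz z).subgroupOf N).map π) (by
        rw [Subgroup.index_map_eq _ πs k]
        refine Subgroup.index_eq_two_iff.mpr ⟨t, fun b => ?_⟩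
        have n : (b : G) ∈ cz z → b * ι T0 ∉ cz z := fun a c =>
          tn ((Subgroup.mul_mem_cancel_left _ a).mp c)
        rcases (mem_zpowers_three z3).mp ((Subgroup.mem_normalizer_iff.mp (hN.le b.2) z).mp
          (Subgroup.mem_zpowers z)) with a | a | a
        · exact (z1 (by simpa using a)).elim
        · exact Or.inr ⟨mem_cz.mpr a, n (mem_cz.mpr a)⟩
        · have : b * ι T0 ∈ cz z := mem_cz.mpr (by
            calc _ = b * (ι T0 * z * (ι T0)⁻¹) * (b : G)⁻¹ := by group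
              _ = _ := by rw [tz', ← conj_inv, a, inv_inv])
          exact Or.inl ⟨this, fun c => n c this⟩),
      ← Subgroup.mem_comap, Subgroup.comap_map_eq_self k]
    rfl
  have zk : ∀ {a b : N}, b * b = 1 → π a = π b → (b : G) * a ∈ Subgroup.zpowers z := fun {a b} c e =>
    (πk (b * a)).mp (by rw [map_mul, e, ← map_mul, c, map_one])
  have lc : ∀ {a b : N}, a * a = 1 → b * b = 1 → (π a).support.card = (π b).support.card →
      IsConj (a : G) b := fun {a b} a2 b2 e => by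
    obtain ⟨c, hc⟩ := isConj_iff.mp (A8.isConj_of_support (by rw [← map_mul, a2, map_one])
      (by rw [← map_mul, b2, map_one]) e)
    obtain ⟨c, rfl⟩ := πs c
    rw [← map_inv, ← map_mul, ← map_mul] at hc
    exact (isConj_iff.mpr ⟨(c : G), rfl⟩).trans (isConj_of_cube (a := (c : G) * a * (c : G)⁻¹) (by
      rw [conj_mul, ← Subgroup.coe_mul, a2]; simp) (congrArg Subtype.val b2) (Zc (zk b2 hc)).1)
  have uq : ∀ {a b : N}, (a : G) ∈ cz z → a * a = 1 → b * b = 1 → π a = π b → (b : G) = a :=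
    fun {a b} c a2 b2 e => by
      obtain ⟨k1, k2⟩ := Zc (zk b2 e)
      have a2' : (a : G) * a = 1 := congrArg Subtype.val a2
      have b2' : (b : G) * b = 1 := congrArg Subtype.val b2
      have := k2 a c
      rw [mul_assoc, a2', mul_one] at this
      rwa [pow_succ, pow_two, mul_assoc (b : G), ← mul_assoc (a : G), mul_assoc (a : G), this, b2',
        one_mul, mul_eq_one_iff_eq_inv, inv_eq_of_mul_eq_one_right a2'] at k1
  have e2 : f * f * (f * f) = 1 := Subtype.ext (by simpa [← ff] using up f_WE.2.2.1)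
  have fe : ((f * f : N) : G) = ι E0 := by simpa using up ff
  have ev : ∀ {u : N}, (u : G) ∈ cz z → u * u = 1 → u ≠ 1 → (π u).support.card = 4 :=
    fun {u} c u2 u1 => s6_even (by rw [← map_mul, u2, map_one]) (fun e => u1 (Subtype.ext
      (uq (a := 1) (one_mem _) (one_mul 1) u2 ((map_one π).trans e.symm)))) ((sgn u).mpr c)
  have cls : ∀ u ∈ cz z, u * u = 1 → u ≠ 1 → IsConj (ι E0) u := fun u c u2 u1 =>
    fe ▸ lc (b := ⟨u, cN c⟩) e2 (Subtype.ext u2) ((ev (mul_mem fz' fz') e2 fun e =>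
      (map_ne_one_iff _ h.inj).mpr (show E0 ≠ 1 by decide) (fe ▸ congrArg Subtype.val e)).trans
      (ev c (Subtype.ext u2) fun e => u1 (congrArg Subtype.val e)).symm)
  have t2' : t * t = 1 := Subtype.ext (by simpa using up t2)
  have πm : ∀ {a b : N}, (a : G) = b → π a = π b := fun e => congrArg π (Subtype.ext e)
  have y3 : ι B0 ^ 3 = 1 := by rw [← map_pow, B0, mk_cube, map_one]
  obtain ⟨v', R', a1, a2, a3, a4, a5, a6⟩ := s6_four' (t := π t) (b := π y) (f := π f)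
    (by rw [← map_mul, t2', map_one]) (fun e => tn ((sgn t).mp e))
    (by rw [← map_mul, ← map_mul]; exact πm (by simpa using (up tb).symm))
    (by rw [← map_pow, ← map_one π]; exact πm y3)
    (fun e => by simpa [← map_inv, h.inj.eq_iff, show B0 ≠ 1 ∧ B0 ≠ zz ∧ B0 ≠ zz⁻¹ by decide, hz, y,
      map_eq_one_iff _ h.inj] using (mem_zpowers_three z3).mp ((πk y).mp e))
    (by simp only [← map_mul, ← map_inv]; exact πm (by simpa [← ff] using up ft))
    (by simp only [← map_mul, ← map_inv]; exact πm (by simpa [← ff] using up eb))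
    (by simp only [← map_mul, e2, map_one]) ((sgn f).mpr fz')
  obtain ⟨v, rfl, v2⟩ : ∃ v, π v = v' ∧ v * v = 1 := by
    obtain ⟨v, rfl⟩ := πs v'
    refine ⟨v ^ 3, by rw [map_pow, pow_succ, pow_two, R'.t2, one_mul], Subtype.ext ?_⟩
    rw [← pow_add, show 3 + 3 = 2 * 3 from rfl, pow_mul, pow_two]
    exact (Zc ((πk _).mp ((map_mul π v v).trans R'.t2))).1
  have vz := (sgn v).mp a4
  have cm : ∀ {g : N}, π g * π v = π v * π g → (g : G) ∈ cz (v : G) := fun {g} e =>
    mem_cz.mpr (uq (b := g * v * g⁻¹) vz v2 (by rw [conj_mul, v2]; simp)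
      (by rw [map_mul, map_mul, e]; simp))
  have v2' : (v : G) * v = 1 := congrArg Subtype.val v2
  have wz : ι B0 * v * (ι B0)⁻¹ ∈ cz z := mul_mem (mul_mem yz vz) (inv_mem yz)
  have w2 : y * v * y⁻¹ * (y * v * y⁻¹) = 1 := by rw [conj_mul, v2]; simp
  have R : Rot (ι B0) v (ι B0 * v * (ι B0)⁻¹) := ⟨fun e => R'.t1 ((πm e).trans (map_one π)), v2',
    rfl, uq (a := y * v * y⁻¹ * v) (b := y * (y * v * y⁻¹) * y⁻¹) (mul_mem wz vz) (by
      have : y * v * y⁻¹ * v = v * (y * v * y⁻¹) :=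
        Subtype.ext (mem_cz'.mp (cm (g := y * v * y⁻¹) (by simpa using R'.comm)))
      rw [mul_assoc, ← mul_assoc v, ← this, mul_assoc _ v v, v2, mul_one, w2])
      (by rw [conj_mul, w2]; simp)
      (by simpa using R'.zs.symm)⟩
  have tv : ι T0 ∈ cz (v : G) := cm (g := t) a2.symm
  have ev' : ι E0 ∈ cz (v : G) := fe ▸ cm (g := f * f) (by simpa using a5)
  have ty : ι B0 ∈ cz (ι T0) := (mem_cz_map h.inj).mpr tb.symm
  have hz' : ∀ g ∈ cz (v : G) ⊓ cz (ι B0 * v * (ι B0)⁻¹), g * z = z * g →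
      g ∈ R.four ∨ z⁻¹ * g ∈ R.four ∨ z * g ∈ R.four := fun g hg e => by
    have gz := mem_cz'.mpr e
    have k : ∀ a : N, (a : G) ∈ R.four → π ⟨g, cN gz⟩ = π a →
        g ∈ R.four ∨ z⁻¹ * g ∈ R.four ∨ z * g ∈ R.four := fun a ha e' => by
      have := (πk (⟨g, cN gz⟩ * a⁻¹)).mp (by rw [map_mul, e']; simp)
      rcases (mem_zpowers_three z3).mp this with b | b | b <;>
        rw [show g = _ from mul_inv_eq_iff_eq_mul.mp b] <;> simp [ha]
    rcases a6 (π ⟨g, cN gz⟩) (by rw [← map_mul, ← map_mul]; exact πm (mem_cz'.mp hg.1))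
      (by simp only [← map_mul, ← map_inv]; exact πm (mem_cz'.mp hg.2)) ((sgn _).mpr gz) with
      b | b | b | b
    exacts [k 1 (one_mem _) (b.trans (map_one π).symm), k v (R.mem_four.mpr (by simp)) b,
      k (y * v * y⁻¹) (R.mem_four.mpr (by simp [y])) (by simpa using b),
      k (y * v * y⁻¹ * v) (R.mem_four.mpr (by simp [y])) (by simpa using b)]
  have zC : z ∈ cz (v : G) ⊓ cz (ι B0 * v * (ι B0)⁻¹) := ⟨mem_cz_comm.mp vz, mem_cz_comm.mp wz⟩
  have : IsMulCommutative ((Jsub 1 1 0).map ι) := ⟨⟨by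
    rintro ⟨_, p, hp, rfl⟩ ⟨_, q, hq, rfl⟩
    exact Subtype.ext (mem_cz'.mp ((mem_cz_map h.inj).mpr
      (J0_comm (Jsub_le _ _ _ hp) (Jsub_le _ _ _ hq))))⟩⟩
  have t2'' : ι T0 * ι T0 = 1 := congrArg Subtype.val t2'
  have e2' : ι E0 * ι E0 = 1 := fe ▸ congrArg Subtype.val e2
  refine ⟨v, _, (map_ne_one_iff _ h.inj).mpr t1, t2'', ty, mem_cz_comm.mp tv, y3,
    fun g => h.cy, R, fun g gt hg => cent_four (D := (Jsub 1 1 0).map ι) R z1
      ⟨zz, show zz ∈ Jsub 1 1 0 by decide, hz.symm⟩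
      (by rw [Subgroup.card_map_of_injective h.inj, card_D]) ?_ ?_ zC
      ⟨tv, mem_cz_comm.mp (mul_mem (mul_mem ty (mem_cz_comm.mp tv)) (inv_mem ty))⟩ t2'' tz' hz' ?_
      hg gt, fe, e2', by simpa using up eb, ev', by simpa using up ft,
    fe ▸ uq (a := f * f * v) (b := f * v * f⁻¹) (mul_mem (mul_mem fz' fz') vz) (Subtype.ext (by
      rw [Subgroup.coe_mul, Subgroup.coe_mul, fe, mul_assoc, ← mul_assoc (v : G), ← mem_cz'.mp ev',
        mul_assoc, v2', mul_one, e2']; rfl)) (by rw [conj_mul, v2]; simp) (by simpa using a1.symm),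
    fe ▸ mul_mem fz' fz', vz, wz, fun g c => h.not_conj ((cls _ c (by rw [conj_mul, t2'']; simp)
      (by simpa using (map_ne_one_iff _ h.inj).mpr t1)).trans (isConj_iff.mpr ⟨g, rfl⟩).symm),
    cls v vz v2' R.t1, ?_⟩
  · rintro _ ⟨p, hp, rfl⟩; rw [← map_pow, J0_cube (Jsub_le _ _ _ hp), map_one]
  · rintro _ ⟨p, hp, rfl⟩
    obtain ⟨i, j, rfl⟩ := (g_D p hp).1
    rw [map_mul, map_pow, map_pow]
    exact mul_mem (pow_mem R.mem_normalizer _) (pow_mem (Subgroup.le_normalizer (hz ▸ zC)) _)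
  · rintro _ ⟨p, hp, rfl⟩ p1 g hg gp o
    have k3 : ∀ k, g ^ 3 ^ k = 1 → g ∈ R.four := fun k e => by
      rw [orderOf_eq_one_iff.mp ((Nat.Coprime.pow_right k
        ((Nat.Prime.coprime_iff_not_dvd Nat.prime_three).mpr o).symm).eq_one_of_dvd
        (orderOf_dvd_of_pow_eq_one e))]
      exact one_mem _
    have kz : g ∈ cz z → g ∈ R.four := fun c => by
      have k : ∀ {a}, a ∈ Subgroup.zpowers z → a ≠ 1 → a * g ∉ R.four := fun {a} ha a1 m => o (by
        have := R.four_sq _ m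
        rw [mul_assoc, ← mul_assoc g, (Zc ha).2 g c, mul_assoc, ← mul_assoc,
          ← inv_eq_sq_of_cube (Zc ha).1, inv_mul_eq_one, ← pow_two] at this
        rw [← orderOf_eq_prime (Zc ha).1 a1, this]; exact orderOf_pow_dvd 2)
      exact (hz' g hg (mem_cz'.mp c)).elim id fun e => (e.elim
        (k (inv_mem (Subgroup.mem_zpowers z)) (by simpa using z1)) (k (Subgroup.mem_zpowers z) z1)).elim
    have kb : g ∈ cz (ι B0) → g ∈ R.four ∨ (g * g = 1 ∧ g * z * g⁻¹ = z⁻¹) := fun c => by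
      obtain ⟨q, rfl⟩ := h.hB c
      refine (g_cB q ((mem_cz_map h.inj).mp c)).2.2.2.imp
        (fun e => k3 1 (by rw [← map_pow, pow_one, e, map_one])) fun e => ?_
      have : ι q * ι q = 1 := by
        rw [← pow_two, ← orderOf_dvd_iff_pow_eq_one]
        exact (Nat.Coprime.dvd_mul_right ((Nat.Prime.coprime_iff_not_dvd Nat.prime_three).mpr
          o).symm).mp (orderOf_dvd_of_pow_eq_one (n := 6) (by rw [← map_pow, e.1, map_one]))
      exact ⟨this, by simpa [pow_succ, this, hz, ← mul_inv_rev, -mul_inv_rev] using up e.2⟩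
    rcases (g_D p hp).2 with rfl | rfl | rfl | rfl | rfl | ⟨i, e⟩
    · exact (p1 (map_one ι)).elim
    · exact Or.inl (kz (hz ▸ gp))
    · exact Or.inl (kz (by rwa [map_inv, A8.cz_inv, ← hz] at gp))
    · exact kb gp
    · exact kb (by rwa [map_inv, A8.cz_inv] at gp)
    · rw [eq_mk_of hp.1, ← e] at gp
      obtain ⟨q, rfl⟩ := A9Loc.cz_conj rfl h.hZ gp
      exact Or.inl (k3 2 (by rw [← map_pow, show 3 ^ 2 = 9 from rfl,
        g_nine i q ((mem_cz_map h.inj).mp gp), map_one]))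
  · have c : IsConj (ι E0) (f * t : N) := isConj_iff.mpr ⟨ι D0, by simpa using up de⟩
    have ft2 : f * t * (f * t) = 1 := Subtype.ext (by simpa using up tf2)
    have vt2 : v * t * (v * t) = 1 := Subtype.ext (by
      show (v : G) * ι T0 * (v * ι T0) = 1
      rw [mul_assoc, ← mul_assoc (ι T0), mem_cz'.mp tv, mul_assoc, t2'', mul_one, v2'])
    have k : ∀ {a : N}, (a : G) ∈ cz z → a * t * (a * t) = 1 →
        (π (a * t)).support.card = 2 ∨ (π (a * t)).support.card = 6 := fun c e =>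
      s6_odd (by rw [← map_mul, e, map_one]) fun s =>
        tn ((Subgroup.mul_mem_cancel_left _ c).mp ((sgn _).mp s))
    have k1 := k fz' ft2
    have k2 := k vz vt2
    have k3 := k (a := 1) (one_mem _) (by simpa using t2')
    have k4 : (π (f * t)).support.card ≠ (π t).support.card := fun e =>
      h.not_conj (c.trans (lc ft2 t2' e))
    rw [one_mul] at k3
    rw [← map_mul] at a3
    exact c.trans (lc ft2 vt2 (by omega))

theorem A9Loc.main (h : A9Loc ι) : ι.range = ⊤ ∨ Nonempty (G ≃* alternatingGroup (Fin 9)) := by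
  refine h.six.imp h.range_eq_top fun ⟨π, a, b⟩ => ?_
  obtain ⟨v, w, h2⟩ := h.twoG rfl rfl π a b
  have c : 81 ∣ Nat.card G := by
    have := Subgroup.card_dvd_of_injective ι h.inj
    rw [card] at this; omega
  rcases h2.main with ⟨N, _, -, -, e, ⟨ε⟩⟩ | ⟨⟨ε⟩⟩ | e | ⟨⟨ε⟩⟩
  · rw [Subgroup.card_eq_card_quotient_mul_card_subgroup N, Nat.card_congr ε.toEquiv,
      CL.L3.card_L32, e] at c
    omega
  · have := two_mul_nat_card_alternatingGroup (α := Fin 8)
    rw [Nat.card_perm, Nat.card_fin, show Nat.factorial 8 = 40320 from rfl,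
      ← Nat.card_congr ε.toEquiv] at this
    omega
  · exact e
  · rw [Nat.card_congr ε.toEquiv, CL.MathMdl.card_M12] at c
    omega

theorem A9Base.main (h : A9Base ι) (hO : ∀ x ≠ 0, pPrimeCore 3 (cz (ι (mk x 0))) = ⊥) :
    ι.range = ⊤ ∨ Nonempty (G ≃* alternatingGroup (Fin 9)) :=
  have hZ := h.cent_Z (hO _ (by decide))
  A9Loc.main ⟨h, h.cent_B hZ (hO _ (by decide)), hZ⟩

end CL.Odd
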