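import Mathlib
import Cfsg.Agent.PERM.CEGlue

/-!
Coded groups and presentations, continued: words as new letters.
-/

set_option autoImplicit false

namespace CL.CG

open CL.K

variable {G : Type*} [Group G] {φ : G → ℕ} {mul : ℕ → ℕ → ℕ} {one : ℕ}

theorem IsCode.gl_words (C : IsCode φ mul one) {L : List ℕ} (hL : ∀ c ∈ L, Mem φ ⊤ c)
    {W : List (ℕ × List ℕ)} (h : wordsB mul one L W = true) :
    gl φ (W.map Prod.fst) = CE.subst (gl φ L) (W.map Prod.snd) := by
  funext a
  rw [gl, CE.subst]
  split_ifs with ha
  · have ha' : a < W.length := by simpa using ha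
    have := lall_iff.1 h _ (List.getElem_mem ha')
    rw [Bool.and_eq_true, lall_iff, llen_eq] at this
    have h2 := C.word_eq hL (fun i hi => lt_of_blt (this.1 i hi)) 1
    rw [C.map_one, eq_of_beq this.2, one_mul] at h2
    rw [lget_eq ha, List.getElem_map, h2, C.elt_code, List.getD_eq_getElem _ _ (by simpa using ha'),
      List.getElem_map]
  · rw [List.getD_eq_default _ _ (by simpa using ha), CE.ev_nil]

/-- A central extension read off from a projective representation. -/
theorem center_eq_ker {Q : Type*} [Group Q] (π : G →* Q) (hk : π.ker ≤ Subgroup.center G)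
    (hs : Function.Surjective π) (hQ : Subgroup.center Q = ⊥) : Subgroup.center G = π.ker := by
  refine le_antisymm (fun x hx => ?_) hk
  rw [MonoidHom.mem_ker, ← Subgroup.mem_bot, ← hQ, Subgroup.mem_center_iff]
  intro y
  obtain ⟨y, rfl⟩ := hs y
  rw [← _root_.map_mul, ← _root_.map_mul, Subgroup.mem_center_iff.1 hx]

end CL.CG
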