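import Mathlib
import Cfsg.Agent.PERM.CFix1
import Cfsg.Agent.PERM.CCZass
import Cfsg.Agent.PERM.ZassSimple
import Cfsg.Agent.S1230

/-!
Doubly transitive groups with an involution whose centraliser has constant fixity: the
classification.
-/

set_option autoImplicit false

namespace CL.CFix

open MulAction CL.Zass CL.TIInv CL.R3F Subgroup

variable {G Ω : Type*} [Group G] [MulAction G Ω]

theorem exists_two_more [Finite Ω] {S : Set Ω} (h : 3 ≤ S.ncard) (a : Ω) :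
    ∃ b ∈ S, ∃ c ∈ S, b ≠ a ∧ c ≠ a ∧ b ≠ c := by
  have h1 : 1 < (S \ {a}).ncard := by
    have := Set.ncard_le_ncard_diff_add_ncard S {a}
    rw [Set.ncard_singleton] at this
    omega
  obtain ⟨b, hb, c, hc, e⟩ := (Set.one_lt_ncard (Set.toFinite _)).mp h1
  exact ⟨b, hb.1, c, hc.1, hb.2, hc.2, e⟩

theorem three_le_ncard [Finite Ω] {S : Set Ω} {a b c : Ω} (ha : a ∈ S) (hb : b ∈ S) (hc : c ∈ S)
    (hab : a ≠ b) (hac : a ≠ c) (hbc : b ≠ c) : 3 ≤ S.ncard :=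
  (Set.two_lt_ncard_iff (Set.toFinite _)).mpr ⟨a, b, c, ha, hb, hc, hab, hac, hbc⟩

/-- A Zassenhaus group whose kernel is a non-abelian `2`-group is a Suzuki group. -/
theorem isoSuzuki_of_zassenhaus [Finite G] [Finite Ω] (hZ : Cfsg.IsZassenhausGroup G Ω)
    {a b : Ω} (hab : a ≠ b) {F : Subgroup G} (hK : Ker a F) (h2 : IsPGroup 2 F)
    (hna : ∃ u v : F, u * v ≠ v * u) : Cfsg.Lie.IsoSuzuki G := by
  have hZ' := Z2.of_isZassenhaus hZ
  obtain ⟨u, v, huv⟩ := hna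
  have hna : ∃ u ∈ F, ∃ v ∈ F, u * v ≠ v * u := ⟨u, u.2, v, v.2, fun e => huv (Subtype.ext e)⟩
  have hodd : Odd (Nat.card Ω) := by
    obtain ⟨n, hn⟩ := h2.exists_card_eq
    have h3 := hK.card hZ'
    have h4 := hZ'.three
    rcases n with _ | n
    · omega
    · rw [← h3, hn, pow_succ]
      exact ⟨2 ^ n, by ring⟩
  have := isSimpleGroup_of_odd hZ hodd
  have := hZ.1
  obtain ⟨-, ⟨t, ht, e⟩, h⟩ := CL.PS.setup_of_zassenhaus hZ hK.le_stabilizer hK.norm
    (fun y w hy hw => by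
      obtain ⟨u, hu, e⟩ := hK.trans y w hy hw
      exact ⟨⟨u, hu⟩, e, fun v hv => Subtype.ext (hK.eq_of_smul_eq v.2 hu hy (hv.trans e.symm))⟩)
    h2 hab.symm
  obtain ⟨hS, hV, h3⟩ := h t ht e
  obtain ⟨n, hn, ⟨C⟩⟩ := CL.PS.exists_FC hS h3 (CL.PS.isSolvable_D_of_V_eq_bot hS hV)
  let _ := C.act hS
  have H := C.hig hS h2
  have hc := ((H.card_eq ⟨u, v, huv⟩).resolve_right
    fun h => CL.PS.card_ne_cube hS C hV h2 hna h.1).1
  obtain ⟨K, _, _, m, h4, h5, ⟨e'⟩⟩ := CL.PS.recog_Sz hS C h2 hna hc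
  have h6 : CL.PS.Lg t F = ⊤ := (CL.PS.Lg_normal hS).eq_bot_or_eq_top.resolve_left fun h =>
    hK.ne_bot hZ' (eq_bot_iff.mpr fun x hx => h ▸ mem_sup_left hx)
  exact ⟨K, _, _, m, h4, h5, ⟨(topEquiv.symm.trans (MulEquiv.subgroupCongr h6.symm)).trans e'⟩⟩

namespace CF

variable {i : ℕ} (h : CF G Ω i) [Finite G] [Finite Ω]
include h

section big

variable (hi : 3 ≤ i)
include hi

theorem eq_one_of_odd {u g : G} (hu : Invo u) (hc : g * u = u * g) (ho : Odd (orderOf g)) :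
    g = 1 := by
  by_contra hg
  have h1 := h.fix_odd hu hc hg ho
  have h3 := (h.fix_invo hu).symm ▸ hi
  obtain ⟨a, ha⟩ : (Fx Ω u).Nonempty := (Set.ncard_pos (Set.toFinite _)).mp (by omega)
  obtain ⟨b, hb, c, hc', hba, hca, hbc⟩ := exists_two_more h3 a
  obtain ⟨s, s1, s2⟩ := h.exists_swap hba.symm
  obtain ⟨r, r1, r2⟩ := h.exists_swap hca.symm
  have e1 := comm_of_inverts (h.inverts hba.symm s1 s2 ha hb) (h.inverts hca.symm r1 r2 ha hc')
  have e2 := comm_of_inverts (h.inverts hba.symm s1 s2 (h1.ge ha) (h1.ge hb))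
    (h.inverts hca.symm r1 r2 (h1.ge ha) (h1.ge hc'))
  have e3 : c ∉ Fx Ω (s * r) := fun e => hbc (by rw [← s1, ← r2, ← mul_smul, e])
  apply e3
  rcases Nat.even_or_odd (orderOf (s * r)) with ev | od
  · obtain ⟨k, hk⟩ := exists_invo_pow ev
    rw [h.fix_pow hk (Commute.self_pow _ k).eq hk.1,
      ← h.fix_odd hk (Commute.pow_right e2.symm k).eq hg ho, h1]
    exact hc'
  · rw [h.fix_odd hu e1 (fun e => e3 (by rw [e]; exact one_smul G c)) od]
    exact hc'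

theorem isPGroup {u : G} (hu : Invo u) : IsPGroup 2 (centralizer ({u} : Set G)) := by
  intro g
  obtain ⟨k, m, hm, e⟩ := Nat.exists_eq_two_pow_mul_odd (orderOf_pos (g : G)).ne'
  refine ⟨k, Subtype.ext (h.eq_one_of_odd hi hu
    (mem_centralizer_singleton_iff.mp (g ^ 2 ^ k).2) (hm.of_dvd_nat ?_))⟩
  rw [orderOf_dvd_iff_pow_eq_one, coe_pow, ← pow_mul, ← e, pow_orderOf_eq_one]

theorem two_dvd : 2 ∣ Nat.card Ω := by
  obtain ⟨u, hu⟩ := h.ex
  have := (h.isPGroup hi hu).card_modEq_card_fixedPoints Ω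
  have h0 : IsEmpty (fixedPoints (centralizer ({u} : Set G)) Ω) := ⟨fun ⟨a, ha⟩ => by
    have h1 : u • a = a := ha ⟨u, mem_centralizer_singleton_iff.mpr rfl⟩
    obtain ⟨b, hb, -, -, hba, -⟩ := exists_two_more ((h.fix_invo hu).symm ▸ hi) a
    obtain ⟨s, s1, s2⟩ := h.exists_swap hba.symm
    exact hba (s1.symm.trans (ha ⟨s, mem_centralizer_singleton_iff.mpr
      (comm_of_inverts_invo hu (h.inverts hba.symm s1 s2 h1 hb))⟩))⟩
  rw [@Nat.card_of_isEmpty _ h0] at this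
  exact (Nat.modEq_zero_iff_dvd).mp this

theorem fix_of_fix {u g : G} (hu : Invo u) (hc : g * u = u * g) {a b : Ω} (ha : u • a = a)
    (hb : u • b = b) (hg : g • a = a) : g • b = b := by
  by_cases hab : a = b
  · exact hab ▸ hg
  let Q := centralizer ({u} : Set G) ⊓ stabilizer G a
  have hQ : IsPGroup 2 Q := (h.isPGroup hi hu).to_inf_left
  obtain ⟨d, hd, hda⟩ := hQ.exists_fixed_point_of_prime_dvd_card_of_fixed_point Ω (h.two_dvd hi)
    (a := a) fun q => q.2.2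
  have h1 : St G a b ≤ Q := fun x hx =>
    ⟨mem_centralizer_singleton_iff.mpr (h.comm hab hx ⟨ha, hb⟩), hx.1⟩
  have h2 : Q ≤ St G a d := fun x hx => ⟨hx.2, hd ⟨x, hx⟩⟩
  have h3 := eq_of_le_of_card_ge (h1.trans h2) (h.card_St hda hab).le
  exact (h3.ge (h2 ⟨mem_centralizer_singleton_iff.mpr hc, hg⟩)).2

theorem swap_of_move {u g : G} (hu : Invo u) (hc : g * u = u * g) {a : Ω} (ha : u • a = a)
    (hg : g • a ≠ a) : g • g • a = a := by
  have hb := smul_mem_Fx hc ha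
  obtain ⟨s, s1, s2⟩ := h.exists_swap hg.symm
  have e := comm_of_inverts_invo hu (h.inverts hg.symm s1 s2 ha hb)
  have := h.fix_of_fix hi hu (g := s⁻¹ * g)
    (((show Commute s u from e).inv_left.mul_left hc).eq) ha hb
    (by rw [mul_smul, inv_smul_eq_iff, s1])
  rwa [mul_smul, inv_smul_eq_iff, s2] at this

theorem sq_eq_one {u g : G} (hu : Invo u) (hc : g * u = u * g) : g * g = 1 := by
  have h3 := (h.fix_invo hu).symm ▸ hi
  obtain ⟨a, ha⟩ : (Fx Ω u).Nonempty := (Set.ncard_pos (Set.toFinite _)).mp (by omega)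
  by_cases hg : g • a = a
  swap
  · exact (h.swap (Ne.symm hg) rfl (h.swap_of_move hi hu hc ha hg)).2
  obtain ⟨b, hb, c, hc', hba, hca, hbc⟩ := exists_two_more h3 a
  obtain ⟨s, s1, s2⟩ := h.exists_swap hba.symm
  obtain ⟨r, r1, r2⟩ := h.exists_swap hca.symm
  have hf := fun {x : Ω} (hx : u • x = x) => h.fix_of_fix hi hu hc ha hx hg
  have e1 := comm_of_inverts (h.inverts hba.symm s1 s2 ha hb) (h.inverts hca.symm r1 r2 ha hc')
  have e2 := comm_of_inverts (h.inverts hba.symm s1 s2 hg (hf hb))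
    (h.inverts hca.symm r1 r2 hg (hf hc'))
  have e3 : (s * r) • a ≠ a := fun e =>
    hbc (by rw [← h.fix_of_fix hi hu e1 ha hc' e, mul_smul, r2, s1])
  have e4 := h.inverts e3.symm rfl (h.swap_of_move hi hu e1 ha e3) hg (hf (smul_mem_Fx e1 ha))
  rw [e2, mul_inv_cancel_right] at e4
  exact mul_eq_one_iff_eq_inv.mpr e4

theorem comm_cent {u x y : G} (hu : Invo u) (hx : x * u = u * x) (hy : y * u = u * y) :
    x * y = y * x := by
  have e := h.sq_eq_one hi hu ((show Commute x u from hx).mul_left hy).eq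
  rw [← inv_eq_of_mul_eq_one_right e, mul_inv_rev,
    inv_eq_of_mul_eq_one_right (h.sq_eq_one hi hu hx),
    inv_eq_of_mul_eq_one_right (h.sq_eq_one hi hu hy)]

theorem psl_of_three_le : ∃ (F : Type) (_ : Field F) (_ : Fintype F),
    Nonempty (G ≃* Matrix.ProjectiveSpecialLinearGroup (Fin 2) F) := by
  obtain ⟨u, hu⟩ := h.ex
  obtain ⟨T, hT⟩ := (h.isPGroup hi hu).exists_le_sylow
  have h3 := (h.fix_invo hu).symm ▸ hi
  obtain ⟨a, ha⟩ : (Fx Ω u).Nonempty := (Set.ncard_pos (Set.toFinite _)).mp (by omega)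
  obtain ⟨b, hb, -, -, hba, -⟩ := exists_two_more h3 a
  obtain ⟨s, s1, s2⟩ := h.exists_swap hba.symm
  have e := comm_of_inverts_invo hu (h.inverts hba.symm s1 s2 ha hb)
  have huT : u ∈ T := hT (mem_centralizer_singleton_iff.mpr rfl)
  have hsT : s ∈ T := hT (mem_centralizer_singleton_iff.mpr e)
  have : Nontrivial T := ⟨⟨u, huT⟩, 1, fun e => hu.1 (congrArg Subtype.val e)⟩
  have := T.2.center_nontrivial
  obtain ⟨z, hz⟩ := _root_.exists_ne (1 : center T)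
  have hzc : ∀ x ∈ T, x * (z : T) = (z : T) * x := fun x hx =>
    congrArg Subtype.val (mem_center_iff.mp z.2 ⟨x, hx⟩)
  have hzi : Invo ((z : T) : G) := ⟨fun e => hz (Subtype.ext (Subtype.ext e)),
    h.sq_eq_one hi hu (hzc u huT).symm⟩
  obtain ⟨F, i1, i2, -, e⟩ := Cfsg.Agent.S1230.result T (fun hc => by
      obtain ⟨x, hx⟩ := hc.exists_generator
      have h1 : ∀ y : T, y ≠ 1 → y = x := fun y hy => by
        obtain ⟨k, rfl⟩ := (mem_powers_iff_mem_zpowers).mpr (hx y)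
        have h2 : x ^ 2 = 1 := Subtype.ext (by
          rw [sq]; exact h.sq_eq_one hi hzi (hzc x x.2))
        rcases Nat.even_or_odd' k with ⟨j, rfl | rfl⟩
        · exact absurd (by simp [pow_mul, h2]) hy
        · simp [pow_succ, pow_mul, h2]
      have h2 := (h1 ⟨s, hsT⟩ fun e => (h.swap hba.symm s1 s2).1 (congrArg Subtype.val e)).trans
        (h1 ⟨u, huT⟩ fun e => hu.1 (congrArg Subtype.val e)).symm
      exact hba (by rw [← s1, show s = u from congrArg Subtype.val h2, ha]))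
    (fun hn => by
      obtain ⟨x, hx⟩ := h.exists_moved hu.1
      obtain ⟨g, g1, g2⟩ := h.trans hba.symm (c := a) (d := x) fun e => hx (e ▸ ha)
      have h1 := smul_mem_Fx (h.comm_cent hi hzi (hzc _ (hn.conj_mem s hsT g)) (hzc u huT)) ha
      have h2 : (g * s * g⁻¹) • a = x := by rw [← g2, ← conj_smul_iff.mpr s1, g1]
      exact hx (h2 ▸ h1))
    (fun t ht => ⟨⟨⟨fun x y => Subtype.ext (h.comm_cent hi (invo_iff.mpr ht)
      (mem_centralizer_singleton_iff.mp x.2) (mem_centralizer_singleton_iff.mp y.2))⟩⟩,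
      fun c hc => by
        rw [sq]
        exact h.sq_eq_one hi (invo_iff.mpr ht) (mem_centralizer_singleton_iff.mp hc)⟩)
  exact ⟨F, i1, i2, e⟩

end big

omit [Finite G] in
theorem two_le {u : G} (hu : Invo u) {a b : Ω} (hab : a ≠ b) (ha : u • a = a) (hb : u • b = b) :
    2 ≤ i := by
  rw [← h.fix_invo hu]
  exact (Set.one_lt_ncard (Set.toFinite _)).mpr ⟨a, ha, b, hb, hab⟩

theorem ncard_move (b : Ω) (S : Set Ω) (hS : b ∉ S) {c d : Ω} (hcd : c ≠ d) :
    {s : G | Invo s ∧ s • b ∈ S}.ncard = S.ncard * Nat.card (St G c d) := by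
  rw [← ncard_mul_eq {s : G | Invo s ∧ s • b ∈ S} S (fun s p => s • b = p) (m := 1)
    (fun s hs => Set.ncard_eq_one.mpr ⟨s • b, Set.eq_singleton_iff_unique_mem.mpr
      ⟨⟨hs.2, rfl⟩, fun p hp => hp.2.symm⟩⟩) (fun p hp => ?_), mul_one]
  have hbp : b ≠ p := fun e => hS (e ▸ hp)
  obtain ⟨s, s1, s2⟩ := h.exists_swap hbp
  rw [← h.card_St hbp.symm hcd, ← ncard_transporter s1 s2]
  congr 1
  ext g
  exact ⟨fun e => ⟨e.2, e.1.1.smul_eq e.2⟩, fun e => ⟨⟨h.swap hbp e.1 e.2, e.1 ▸ hp⟩, e.1⟩⟩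

theorem ncard_fixing (hi : i = 1) (S : Set Ω) (c : Ω) :
    {s : G | Invo s ∧ ∃ p ∈ S, s • p = p}.ncard = S.ncard * (I G c c).ncard := by
  rw [← ncard_mul_eq {s : G | Invo s ∧ ∃ p ∈ S, s • p = p} S (fun s p => s • p = p) (m := 1)
    (fun s hs => ?_) (fun p hp => ?_), mul_one]
  · obtain ⟨h1, p, h2, h3⟩ := hs
    refine Set.ncard_eq_one.mpr ⟨p, Set.eq_singleton_iff_unique_mem.mpr ⟨⟨h2, h3⟩, fun q hq => ?_⟩⟩
    by_contra e
    have := h.two_le h1 e hq.2 h3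
    omega
  · obtain ⟨g, rfl⟩ := h.trans1 p c
    rw [← Nat.card_coe_set_eq, ← Nat.card_coe_set_eq]
    refine Nat.card_congr (Equiv.subtypeEquiv (MulAut.conj g).toEquiv fun s => ?_)
    exact ⟨fun e => ⟨e.1.1.conj g, conj_smul_iff.mpr e.2⟩, fun e =>
      ⟨⟨by simpa [mul_assoc] using e.1.conj g⁻¹, p, hp, conj_smul_iff.mp e.2⟩,
        conj_smul_iff.mp e.2⟩⟩

theorem ncard_I (hi : i = 1) {a b : Ω} (hab : a ≠ b) : (I G a a).ncard = Nat.card (St G a b) := by
  have h1 := h.ncard_move a {a}ᶜ (by simp) hab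
  have h2 := h.ncard_fixing hi {a}ᶜ a
  have h3 : {s : G | Invo s ∧ s • a ∈ ({a}ᶜ : Set Ω)} =
      {s : G | Invo s ∧ ∃ p ∈ ({a}ᶜ : Set Ω), s • p = p} := by
    ext s
    refine and_congr_right fun hs => ⟨fun e => ?_, fun ⟨p, e1, e2⟩ e => ?_⟩
    · obtain ⟨p, hp⟩ : (Fx Ω s).Nonempty :=
        (Set.ncard_pos (Set.toFinite _)).mp (by rw [h.fix_invo hs, hi]; omega)
      exact ⟨p, fun e1 => e (Set.mem_singleton_iff.mp e1 ▸ hp), hp⟩
    · have := h.two_le hs e1 e2 e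
      omega
  rw [h3, h2] at h1
  exact Nat.eq_of_mul_eq_mul_left ((Set.ncard_pos (Set.toFinite _)).mpr ⟨b, hab.symm⟩) h1

theorem regular_of_three (hi : i ≤ 1) {x : G} (hx : x ≠ 1) {a b c : Ω} (hab : a ≠ b)
    (hac : a ≠ c) (hbc : b ≠ c) (ha : x • a = a) (hb : x • b = b) (hc : x • c = c) :
    ∃ R : Subgroup G, R.Normal ∧ (∀ x y : Ω, ∃ r ∈ R, r • x = y) ∧
      ∀ x : Ω, ∀ r ∈ R, r • x = x → r = 1 := by
  have h3 : 3 ≤ (Fx Ω x).ncard := three_le_ncard ha hb hc hab hac hbc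
  have hnc : ∀ v : G, Invo v → x * v ≠ v * x := fun v hv e => by
    have := h.fix hv e hx
    omega
  have hx2 : x ≠ x⁻¹ := fun e => hnc x ⟨hx, mul_eq_one_iff_eq_inv.mpr e⟩ rfl
  obtain ⟨s, s1, s2⟩ := h.exists_swap hab
  obtain ⟨r, r1, r2⟩ := h.exists_swap hac
  obtain ⟨q, q1, q2⟩ := h.exists_swap hbc
  have e1 := comm_of_inverts (h.inverts hab s1 s2 ha hb) (h.inverts hac r1 r2 ha hc)
  have e2 : q * (s * r) * x * (q * (s * r))⁻¹ = x⁻¹ := by
    rw [mul_assoc q, e1, ← h.inverts hbc q1 q2 hb hc]; group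
  have e3 : (q * (s * r)) • c = c := by rw [mul_smul, mul_smul, r2, s1, q1]
  generalize q * (s * r) = w at e2 e3
  have e4 : ∀ j : ℕ, w ^ (2 * j + 1) * x * (w ^ (2 * j + 1))⁻¹ = x⁻¹ := fun j => by
    have : Commute (w ^ (2 * j)) x := by
      rw [pow_mul, sq]
      exact Commute.pow_left (comm_of_inverts e2 e2) j
    rw [pow_succ', mul_assoc w, this.eq, ← e2]; group
  obtain ⟨k, hk⟩ := exists_invo_pow (g := w) (by
    by_contra ho
    obtain ⟨j, hj⟩ := Nat.not_even_iff_odd.mp ho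
    have := e4 j
    rw [← hj, pow_orderOf_eq_one] at this
    exact hx2 (by simpa using this))
  have hkc : (w ^ k) • c = c := Fx_subset_pow w k e3
  have hkx : w ^ k * x * (w ^ k)⁻¹ = x⁻¹ := by
    rcases Nat.even_or_odd' k with ⟨j, rfl | rfl⟩
    · refine absurd (Commute.eq ?_) (hnc _ hk)
      rw [pow_mul, sq]
      exact Commute.pow_right (comm_of_inverts e2 e2).symm j
    · exact e4 j
  have hi1 : i = 1 := by
    have := (Set.ncard_pos (Set.toFinite (Fx Ω (w ^ k)))).mpr ⟨c, hkc⟩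
    rw [h.fix_invo hk] at this
    omega
  have hodd : (Fx Ω x).ncard % 2 = 1 := by
    have := CL.InvT.ncard_modEq_two hk.2 (Fx Ω x) fun p hp => smul_mem_Fx' hkx hp
    rw [show Fx Ω x ∩ {p | w ^ k • p = p} = {c} from Set.eq_singleton_iff_unique_mem.mpr
      ⟨⟨hc, hkc⟩, fun p hp => by
        by_contra e
        have := h.two_le hk e hp.2 hkc
        omega⟩, Set.ncard_singleton] at this
    exact this
  have hW : {s : G | Invo s ∧ s • b ∈ Fx Ω x \ {b}} =
      {s : G | Invo s ∧ ∃ p ∈ Fx Ω x \ {b}, s • p = p} := by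
    refine Set.eq_of_subset_of_ncard_le (fun s hs => ⟨hs.1, ?_⟩) ?_
    · have e := h.inverts (Ne.symm hs.2.2) rfl (hs.1.smul_smul b) hb hs.2.1
      have := CL.InvT.ncard_modEq_two hs.1.2 (Fx Ω x) fun p hp => smul_mem_Fx' e hp
      obtain ⟨p, hp⟩ : (Fx Ω x ∩ {p | s • p = p}).Nonempty := by
        rw [← Set.ncard_pos (Set.toFinite _)]
        unfold Nat.ModEq at this
        omega
      exact ⟨p, ⟨hp.1, fun e1 => hs.2.2 (Set.mem_singleton_iff.mp e1 ▸ hp.2)⟩, hp.2⟩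
    · rw [h.ncard_move b _ (by simp) hab, h.ncard_fixing hi1 _ a, h.ncard_I hi1 hab]
  have hall : ∀ v : G, Invo v → v • a = a → v * x * v⁻¹ = x⁻¹ := fun v hv e => by
    have := hW.ge ⟨hv, a, ⟨ha, hab⟩, e⟩
    exact h.inverts (Ne.symm this.2.2) rfl (hv.smul_smul b) hb this.2.1
  rcases CL.InvT.central_or_abelian (G := G) (fun y z y2 z2 y1 z1 e => by
      by_contra hyz
      have hy : Invo y := ⟨y1, y2⟩
      have hz : Invo z := ⟨z1, z2⟩
      have hyz' : Invo (y * z) := ⟨fun e1 => hyz (by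
        rw [eq_inv_of_mul_eq_one_left e1, hz.inv_eq]), by
        rw [mul_assoc, ← mul_assoc z, ← e, mul_assoc, z2, mul_one, y2]⟩
      obtain ⟨p, hp⟩ : (Fx Ω y).Nonempty :=
        (Set.ncard_pos (Set.toFinite _)).mp (by rw [h.fix_invo hy, hi1]; omega)
      have hp' : z • p = p := by
        by_contra e1
        have := h.two_le hy e1 (smul_mem_Fx e.symm hp) hp
        omega
      obtain ⟨g, hg⟩ := h.trans1 p a
      have f1 := hall _ (hy.conj g) (hg ▸ conj_smul_iff.mpr hp)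
      have f2 := hall _ (hz.conj g) (hg ▸ conj_smul_iff.mpr hp')
      refine hnc _ (hyz'.conj g) ?_
      rw [← conj_mul, comm_of_inverts f1 f2]) hk.2 hk.1 with h1 | ⟨M, h1, h2, -, h4⟩
  · exact absurd (h1 x).symm (hnc _ hk)
  · exact ⟨M, h1, h.regular_of_comm h2 h4⟩

theorem two_mul_le {a b : Ω} (hab : a ≠ b) (hev : Even (Nat.card (St G a b))) :
    2 * Nat.card (St G a b) ≤ Nat.card Ω - 2 := by
  obtain ⟨u, hu, hu'⟩ := exists_invo_of_even hev
  have h1 := h.le hu'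
  have h2 := h.two_le hu' hab hu.1 hu.2
  obtain ⟨s, s1, s2⟩ := h.exists_swap hab
  have h3 : St G a b ≤ centralizer ({u} : Set G) := fun x hx =>
    mem_centralizer_singleton_iff.mpr (h.comm hab hx hu)
  obtain ⟨k, hk⟩ := card_dvd_of_le h3
  have h4 : 0 < Nat.card (centralizer ({u} : Set G)) := Nat.card_pos
  rcases k with _ | _ | k
  · omega
  · have := eq_of_le_of_card_ge h3 (by omega)
    exact absurd (s1.symm.trans (this.ge (mem_centralizer_singleton_iff.mpr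
      (comm_of_inverts_invo hu' (h.inverts hab s1 s2 hu.1 hu.2)))).1) hab.symm
  · have : Nat.card (St G a b) * (k + 1 + 1) = Nat.card (St G a b) * k + 2 * Nat.card (St G a b) := by
      ring
    omega

theorem main : (∃ (F : Type) (_ : Field F) (_ : Fintype F),
      Nonempty (G ≃* Matrix.ProjectiveSpecialLinearGroup (Fin 2) F)) ∨
    Cfsg.Lie.IsoSuzuki G ∨
    ∃ R : Subgroup G, R.Normal ∧ (∀ x y : Ω, ∃ r ∈ R, r • x = y) ∧
      ∀ x : Ω, ∀ r ∈ R, r • x = x → r = 1 := by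
  by_cases hi : 3 ≤ i
  · exact Or.inl (h.psl_of_three_le hi)
  by_cases hR : ∃ R : Subgroup G, R.Normal ∧ (∀ x y : Ω, ∃ r ∈ R, r • x = y) ∧
      ∀ x : Ω, ∀ r ∈ R, r • x = x → r = 1
  · exact Or.inr (Or.inr hR)
  have hZ : Cfsg.IsZassenhausGroup G Ω := by
    refine ⟨h.faithful, is_two_pretransitive_iff.mpr h.trans, fun g a b c hab hbc hac ha hb hc => ?_,
      ?_, fun N hN ht => ?_⟩
    · by_contra hg
      by_cases h1 : i ≤ 1
      · exact hR (h.regular_of_three h1 hg hab hac hbc ha hb hc)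
      obtain ⟨t, ht⟩ := h.ex
      obtain ⟨p, hp, q, hq, hpq⟩ := (Set.one_lt_ncard (Set.toFinite (Fx Ω t))).mp
        (by rw [h.fix_invo ht]; omega)
      obtain ⟨k, rfl, rfl⟩ := h.trans hpq hab
      have h2 := h.fix (ht.conj k) (h.comm hab ⟨ha, hb⟩
        ⟨conj_smul_iff.mpr hp, conj_smul_iff.mpr hq⟩) hg
      have h3 : 3 ≤ (Fx Ω g).ncard := three_le_ncard ha hb hc hab hac hbc
      omega
    · by_contra h1
      push Not at h1
      obtain ⟨a, -⟩ := h.exists_pair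
      obtain ⟨N, h2, h3⟩ := exists_frobenius_kernel (⊤ : Subgroup G) (Set.univ : Set Ω)
        (Set.mem_univ a) (fun _ _ _ _ => trivial)
        (fun y _ => (h.trans1 a y).imp fun _ e => ⟨trivial, e⟩)
        (fun g _ y _ z _ e e1 e2 => by_contra fun hg => h1 g hg y z e e1 e2)
      refine hR ⟨N, ⟨fun n hn g => (h2 _).mpr ⟨trivial, ?_⟩⟩, fun x y => h3 x trivial y trivial,
        fun x r hr e => ((h2 r).mp hr).2.resolve_right fun h4 => h4 x trivial e⟩
      refine ((h2 n).mp hn).2.imp (fun e => by simp [e]) fun h4 y _ e => h4 (g⁻¹ • y) trivial ?_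
      rw [eq_inv_smul_iff, ← mul_smul, ← mul_smul, e]
    · by_contra h1
      push Not at h1
      refine hR ⟨N, hN, fun x y => ?_, fun x r hr e => ?_⟩
      · obtain ⟨r, hr⟩ := ht.exists_smul_eq x y
        exact ⟨r, r.2, hr⟩
      · have h2 : (⟨r, hr⟩ : N) ∈ stabilizer N x := e
        rw [h1 x, mem_bot] at h2
        exact congrArg Subtype.val h2
  have hZ' := Z2.of_isZassenhaus hZ
  obtain ⟨a, b, hab⟩ := h.exists_pair
  obtain ⟨F, hK⟩ := hZ'.exists_ker a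
  obtain ⟨s, s1, s2⟩ := h.exists_swap hab
  have hinv : ∀ x ∈ St G a b, s * x * s⁻¹ = x⁻¹ := fun x hx => h.inverts hab s1 s2 hx.1 hx.2
  rcases feit hZ hab hK with h1 | ⟨h1, h2⟩
  swap
  · exact Or.inr (Or.inl (isoSuzuki_of_zassenhaus hZ hab hK h1 h2))
  left
  by_cases h2 : 2 * Nat.card (St G a b) ≤ Nat.card Ω - 2
  · obtain ⟨K, i1, i2, -, -, e⟩ := hZ'.psl_of_inverted hab (le_antisymm h2 h1)
      (h.swap hab s1 s2).2 s1 s2 hinv
    exact ⟨K, i1, i2, e⟩
  have h3 := (hZ'.card_eq_or_two_mul_le hab).resolve_right h2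
  obtain ⟨K, i1, i2, h4, ⟨e⟩⟩ := hZ'.pgl_of_inverted hab h3 s1 s2 hinv
  have h5 : Even (Fintype.card K) := by
    have h6 := mt (h.two_mul_le hab) h2
    have := hZ'.three
    rw [Nat.even_iff] at h6 ⊢
    omega
  have h6 : (2 : K) = 0 := by
    have := FiniteField.even_card_iff_char_two.mpr (Nat.even_iff.mp h5)
    have h7 := ringChar.Nat.cast_ringChar (R := K)
    rwa [this] at h7
  exact ⟨K, i1, i2, ⟨e.trans (nonempty_pgl_equiv_of_char_two h6).1.some⟩⟩

end CF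

end CL.CFix
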