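import Mathlib

/-!
Direct powers `ι → T` of a non-abelian simple group: normal subgroups, automorphisms, and
subdirect subgroups (Scott's lemma).
-/

set_option autoImplicit false

namespace CL.SPow

open Subgroup

variable {T : Type*} [Group T] {ι : Type*}

theorem eq_one_of_forall_comm [IsSimpleGroup T] (hT : ¬ IsMulCommutative T) {t : T}
    (h : ∀ s, s * t = t * s) : t = 1 := by
  rcases (normal_of_characteristic (center T)).eq_bot_or_eq_top with h1 | h1
  · have : t ∈ center T := mem_center_iff.mpr h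
    rwa [h1, mem_bot] at this
  · exact absurd ⟨⟨fun a b => mem_center_iff.mp (h1 ▸ mem_top b) a⟩⟩ hT

theorem commutator_eq_top [IsSimpleGroup T] (hT : ¬ IsMulCommutative T) :
    ⁅(⊤ : Subgroup T), (⊤ : Subgroup T)⁆ = ⊤ := by
  rcases (inferInstance : (⁅(⊤ : Subgroup T), (⊤ : Subgroup T)⁆).Normal).eq_bot_or_eq_top with h | h
  · exfalso
    apply hT
    rw [commutator_eq_bot_iff_le_centralizer] at h
    exact ⟨⟨fun a b => (mem_centralizer_iff.mp (h (mem_top a)) b (mem_top b)).symm⟩⟩
  · exact h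

theorem mulSingle_mem_of_normal [DecidableEq ι] [IsSimpleGroup T] (hT : ¬ IsMulCommutative T)
    (M : Subgroup (ι → T)) (hM : M.Normal) {x : ι → T} (hx : x ∈ M) {i : ι} (hi : x i ≠ 1) (t : T) :
    Pi.mulSingle i t ∈ M := by
  let S : Subgroup T := M.comap (MonoidHom.mulSingle (fun _ : ι => T) i)
  have hS : S.Normal := hM.comap _
  rcases hS.eq_bot_or_eq_top with h | h
  · exfalso
    apply hi
    apply eq_one_of_forall_comm hT
    intro s
    have h1 : Pi.mulSingle i s * x * (Pi.mulSingle i s)⁻¹ * x⁻¹ ∈ M :=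
      M.mul_mem (hM.conj_mem x hx _) (M.inv_mem hx)
    have h2 : Pi.mulSingle i s * x * (Pi.mulSingle i s)⁻¹ * x⁻¹ =
        Pi.mulSingle (M := fun _ : ι => T) i (s * x i * s⁻¹ * (x i)⁻¹) := by
      ext j
      by_cases hj : j = i
      · subst hj; simp
      · simp [hj]
    rw [h2] at h1
    have h3 : s * x i * s⁻¹ * (x i)⁻¹ ∈ S := h1
    rw [h, mem_bot] at h3
    rw [mul_inv_eq_one, mul_inv_eq_iff_eq_mul] at h3
    exact h3
  · have : t ∈ S := h ▸ mem_top t
    exact this

theorem mem_of_forall_mulSingle [DecidableEq ι] [Finite ι] (M : Subgroup (ι → T)) (x : ι → T)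
    (h : ∀ i, Pi.mulSingle i (x i) ∈ M) : x ∈ M := by
  have := Fintype.ofFinite ι
  rw [← Finset.noncommProd_mulSingle x]
  exact M.noncommProd_mem _ fun i _ => h i

theorem exists_index_of_surjective [Finite ι] [IsSimpleGroup T] (hT : ¬ IsMulCommutative T)
    {S : Type*} [Group S] [IsSimpleGroup S] (φ : (ι → T) →* S) (hφ : Function.Surjective φ) :
    ∃ j, ∀ y, φ y = 1 ↔ y j = 1 := by
  classical
  obtain ⟨j, t, hj⟩ : ∃ j t, Pi.mulSingle (M := fun _ : ι => T) j t ∉ φ.ker := by
    by_contra h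
    push Not at h
    obtain ⟨s, hs⟩ := exists_ne (1 : S)
    obtain ⟨y, rfl⟩ := hφ s
    exact hs (mem_of_forall_mulSingle φ.ker y fun i => h i _)
  have h1 : ∀ y, φ y = 1 → y j = 1 := by
    intro y hy
    by_contra h
    exact hj (mulSingle_mem_of_normal hT φ.ker inferInstance hy h t)
  refine ⟨j, fun y => ⟨h1 y, fun hy => ?_⟩⟩
  have hn : ((Pi.evalMonoidHom (fun _ : ι => T) j).ker.map φ).Normal :=
    Normal.map inferInstance φ hφ
  rcases hn.eq_bot_or_eq_top with h | h
  · have : φ y ∈ (Pi.evalMonoidHom (fun _ : ι => T) j).ker.map φ := mem_map_of_mem φ hy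
    rwa [h, mem_bot] at this
  · exfalso
    obtain ⟨s, hs⟩ := exists_ne (1 : T)
    obtain ⟨z, hz, hz'⟩ : φ (Pi.mulSingle j s) ∈ (Pi.evalMonoidHom (fun _ : ι => T) j).ker.map φ :=
      h ▸ mem_top _
    have h2 := h1 (z⁻¹ * Pi.mulSingle j s) (by rw [map_mul, map_inv, hz', inv_mul_cancel])
    have hz1 : z j = 1 := hz
    simp [hz1] at h2
    exact hs h2

/-- Automorphisms of a power of a non-abelian simple group permute the factors. -/
theorem exists_perm_of_aut [Finite ι] [IsSimpleGroup T] (hT : ¬ IsMulCommutative T)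
    (α : (ι → T) ≃* (ι → T)) :
    ∃ (σ : Equiv.Perm ι) (φ : ι → T ≃* T), ∀ x i, α x (σ i) = φ i (x i) := by
  classical
  have key : ∀ i, ∃ j, ∀ x, α x j = 1 ↔ x i = 1 := by
    intro i
    obtain ⟨j, hj⟩ := exists_index_of_surjective hT
      ((Pi.evalMonoidHom (fun _ : ι => T) i).comp α.symm.toMonoidHom)
      (fun t => ⟨α (Pi.mulSingle i t), by simp⟩)
    exact ⟨j, fun x => by simpa using (hj (α x)).symm⟩
  choose s hs using key
  have hinj : Function.Injective s := by
    intro i i' h
    by_contra hne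
    obtain ⟨t, ht⟩ := exists_ne (1 : T)
    have h1 := (hs i' (Pi.mulSingle i t)).mpr (by simp [Ne.symm hne])
    rw [← h, hs] at h1
    simp at h1
    exact ht h1
  let ψ : ι → T →* T := fun i => ((Pi.evalMonoidHom (fun _ : ι => T) (s i)).comp
    α.toMonoidHom).comp (MonoidHom.mulSingle (fun _ : ι => T) i)
  have hψ : ∀ x i, α x (s i) = ψ i (x i) := by
    intro x i
    have h1 := (hs i ((Pi.mulSingle i (x i))⁻¹ * x)).mpr (by simp)
    rw [map_mul, map_inv, Pi.mul_apply, Pi.inv_apply, inv_mul_eq_one] at h1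
    exact h1.symm
  have hbij : ∀ i, Function.Bijective (ψ i) := by
    intro i
    constructor
    · rw [injective_iff_map_eq_one]
      intro t ht
      have := (hs i (Pi.mulSingle i t)).mp ht
      simpa using this
    · intro t
      refine ⟨α.symm (Pi.mulSingle (s i) t) i, ?_⟩
      rw [← hψ]; simp
  exact ⟨Equiv.ofBijective s (Finite.injective_iff_bijective.mp hinj),
    fun i => MulEquiv.ofBijective (ψ i) (hbij i), hψ⟩

/-- The product of the orders of the coordinates is invariant under automorphisms. -/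
theorem prod_orderOf_aut [Fintype ι] [IsSimpleGroup T] (hT : ¬ IsMulCommutative T)
    (α : (ι → T) ≃* (ι → T)) (x : ι → T) : ∏ i, orderOf (α x i) = ∏ i, orderOf (x i) := by
  obtain ⟨σ, φ, h⟩ := exists_perm_of_aut hT α
  rw [← Equiv.prod_comp σ]
  simp [h]

theorem aut_mulSingle [DecidableEq ι] {α : (ι → T) ≃* (ι → T)} {σ : Equiv.Perm ι} {φ : ι → T ≃* T}
    (h : ∀ x i, α x (σ i) = φ i (x i)) (i : ι) (t : T) :
    α (Pi.mulSingle i t) = Pi.mulSingle (σ i) (φ i t) := by
  ext j
  obtain ⟨k, rfl⟩ := σ.surjective j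
  rw [h]
  by_cases hk : k = i
  · subst hk; simp
  · simp [hk]

theorem map_inf_eq_top {R : Type*} [Group R] [IsSimpleGroup T] (hT : ¬ IsMulCommutative T)
    (ψ : R →* T) {A B : Subgroup R} [A.Normal] [B.Normal] (hA : A.map ψ = ⊤) (hB : B.map ψ = ⊤) :
    (A ⊓ B).map ψ = ⊤ := by
  rw [eq_top_iff, ← commutator_eq_top hT]
  conv_lhs => rw [← hA]
  nth_rewrite 2 [hA]
  rw [← hB, ← map_commutator]
  exact map_mono (commutator_le_inf A B)

theorem map_biInf_eq_top {R : Type*} [Group R] [IsSimpleGroup T] (hT : ¬ IsMulCommutative T)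
    (ψ : R →* T) (hψ : Function.Surjective ψ) {κ : Type*} (A : κ → Subgroup R)
    (hn : ∀ k, (A k).Normal) (s : Finset κ) (hA : ∀ k ∈ s, (A k).map ψ = ⊤) :
    (⨅ k ∈ s, A k).map ψ = ⊤ := by
  classical
  induction s using Finset.induction_on with
  | empty => simpa using map_top_of_surjective ψ hψ
  | insert k s hk ih =>
    rw [Finset.iInf_insert]
    have := hn k
    have : (⨅ k ∈ s, A k).Normal := normal_iInf_normal fun k => normal_iInf_normal fun _ => hn k
    exact map_inf_eq_top hT ψ (hA k (Finset.mem_insert_self _ _))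
      (ih fun k hk => hA k (Finset.mem_insert_of_mem hk))

/-- Scott's lemma: a subdirect subgroup of a power of a non-abelian simple group is a product of
diagonals. -/
theorem scott [Finite ι] [IsSimpleGroup T] (hT : ¬ IsMulCommutative T) (R : Subgroup (ι → T))
    (hR : ∀ i t, ∃ r ∈ R, r i = t) :
    ∃ (c : ι → ι) (φ : ι → T ≃* T), (∀ i, c (c i) = c i) ∧
      (∀ i j, c i = c j ↔ ∀ r ∈ R, r i = 1 ↔ r j = 1) ∧
      ∀ x, x ∈ R ↔ ∀ i j, c i = c j → φ i (x i) = φ j (x j) := by
  classical
  have := Fintype.ofFinite ι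
  let π : ι → R →* T := fun i => (Pi.evalMonoidHom (fun _ : ι => T) i).comp R.subtype
  have hπ : ∀ i, Function.Surjective (π i) := fun i t =>
    let ⟨r, hr, h⟩ := hR i t; ⟨⟨r, hr⟩, h⟩
  obtain ⟨c, hc, hcc⟩ : ∃ c : ι → ι, (∀ i, (π (c i)).ker = (π i).ker) ∧
      ∀ i j, c i = c j ↔ (π i).ker = (π j).ker := by
    rcases isEmpty_or_nonempty ι with h | h
    · exact ⟨id, fun i => rfl, fun i => isEmptyElim i⟩
    have hc : ∀ i, (π (Function.invFun (fun j => (π j).ker) (π i).ker)).ker = (π i).ker :=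
      fun i => Function.invFun_eq (f := fun j => (π j).ker) ⟨i, rfl⟩
    exact ⟨fun i => Function.invFun (fun j => (π j).ker) (π i).ker, hc,
      fun i j => ⟨fun h => by rw [← hc i, ← hc j]; exact congrArg (fun k => (π k).ker) h,
        fun h => by simp only [h]⟩⟩
  have hφ : ∀ i, ∃ φ : T ≃* T, ∀ r : R, φ (π i r) = π (c i) r := by
    intro i
    refine ⟨(QuotientGroup.quotientKerEquivOfSurjective _ (hπ i)).symm.trans
      ((QuotientGroup.quotientMulEquivOfEq (hc i).symm).trans
        (QuotientGroup.quotientKerEquivOfSurjective _ (hπ (c i)))), fun r => ?_⟩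
    have : (QuotientGroup.quotientKerEquivOfSurjective _ (hπ i)).symm (π i r) =
        QuotientGroup.mk r := by
      rw [MulEquiv.symm_apply_eq]; rfl
    rw [MulEquiv.trans_apply, this]
    rfl
  choose φ hφ using hφ
  have hcc' : ∀ i, c (c i) = c i := fun i => (hcc _ _).mpr (hc i)
  refine ⟨c, φ, hcc', fun i j => ?_, fun x => ⟨fun hx i j hij => ?_, fun hx => ?_⟩⟩
  · rw [hcc]
    constructor
    · intro h r hr
      change (⟨r, hr⟩ : R) ∈ (π i).ker ↔ (⟨r, hr⟩ : R) ∈ (π j).ker
      rw [h]
    · intro h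
      ext r
      exact h r r.2
  · have h1 := hφ i ⟨x, hx⟩
    have h2 := hφ j ⟨x, hx⟩
    rw [hij] at h1
    exact h1.trans h2.symm
  · have crt : ∀ i t, ∃ r : R, π i r = t ∧ ∀ j, c j ≠ c i → π j r = 1 := by
      intro i t
      have h1 := map_biInf_eq_top hT (π i) (hπ i) (fun j => (π j).ker) (fun _ => inferInstance)
        (Finset.univ.filter fun j => c j ≠ c i) (fun j hj => by
          have hj' := (Finset.mem_filter.mp hj).2
          have hn : ((π j).ker.map (π i)).Normal := Normal.map inferInstance _ (hπ i)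
          refine hn.eq_bot_or_eq_top.resolve_left fun h => hj' ((hcc _ _).mpr ?_)
          rw [Subgroup.map_eq_bot_iff] at h
          have hn2 : ((π i).ker.map (π j)).Normal := Normal.map inferInstance _ (hπ j)
          rcases hn2.eq_bot_or_eq_top with h2 | h2
          · exact le_antisymm h ((Subgroup.map_eq_bot_iff _).mp h2)
          · exfalso
            obtain ⟨s, hs⟩ := exists_ne (1 : T)
            obtain ⟨r, rfl⟩ := hπ i s
            obtain ⟨z, hz, hz'⟩ : π j r ∈ (π i).ker.map (π j) := h2 ▸ mem_top _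
            have h3 : π i (z⁻¹ * r) = 1 :=
              h (show π j (z⁻¹ * r) = 1 by rw [map_mul, map_inv, hz', inv_mul_cancel])
            rw [map_mul, map_inv, show π i z = 1 from hz] at h3
            exact hs (by simpa using h3))
      obtain ⟨r, hr, hr'⟩ : t ∈ _ := h1 ▸ mem_top t
      refine ⟨r, hr', fun j hj => ?_⟩
      exact (mem_iInf.mp (mem_iInf.mp hr j)) (Finset.mem_filter.mpr ⟨Finset.mem_univ _, hj⟩)
    have key : ∀ s : Finset ι, ∃ r ∈ R, ∀ i, c i ∈ s → r i = x i := by
      intro s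
      induction s using Finset.induction_on with
      | empty => exact ⟨1, R.one_mem, by simp⟩
      | insert k s hk ih =>
        obtain ⟨r, hr, h⟩ := ih
        by_cases hck : c k = k
        · obtain ⟨u, hu, hu'⟩ := crt k ((r k)⁻¹ * x k)
          refine ⟨r * u, R.mul_mem hr u.2, fun i hi => ?_⟩
          by_cases hik : c i = k
          · apply (φ i).injective
            have h1 := hφ i ⟨r * u, R.mul_mem hr u.2⟩
            have h2 := hφ k ⟨r * u, R.mul_mem hr u.2⟩
            have h3 : (r * (u : ι → T)) k = x k := by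
              have : (u : ι → T) k = (r k)⁻¹ * x k := hu
              rw [Pi.mul_apply, this, mul_inv_cancel_left]
            rw [hik] at h1
            rw [hck] at h2
            rw [hx i k (hik.trans hck.symm), ← h3]
            exact h1.trans h2.symm
          · have h1 : (u : ι → T) i = 1 := hu' i (hck.symm ▸ hik)
            rw [Pi.mul_apply, h1, mul_one]
            exact h i ((Finset.mem_insert.mp hi).resolve_left hik)
        · refine ⟨r, hr, fun i hi => h i ((Finset.mem_insert.mp hi).resolve_left fun h => ?_)⟩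
          exact hck (by rw [← h]; exact hcc' i)
    obtain ⟨r, hr, h⟩ := key Finset.univ
    have : r = x := funext fun i => h i (Finset.mem_univ _)
    exact this ▸ hr

end CL.SPow
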