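import Mathlib
import Cfsg.Agent.PERM.Prim
import Cfsg.Agent.PERM.SimplePow
import Cfsg.Agent.PERM.MinNormal

/-!
The core of the O'Nan-Scott theorem: the intersection of a point stabiliser with a non-abelian
minimal normal subgroup of a primitive group.
-/

set_option autoImplicit false

namespace CL.ONS

open MulAction Subgroup CL.MSS CL.Perm CL.SPow

/-- An embedding of `A` onto a normal subgroup of `G`, with the conjugation action of `G`. -/
structure Emb (A G : Type*) [Group A] [Group G] where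
  /-- the embedding -/
  f : A →* G
  inj : Function.Injective f
  /-- the conjugation action -/
  ρ : G →* MulAut A
  hρ : ∀ g x, f (ρ g x) = g * f x * g⁻¹

variable {G Ω A B : Type*} [Group G] [MulAction G Ω] [Group A] [Group B]

theorem exists_emb (N : Subgroup G) [N.Normal] (e : N ≃* A) :
    ∃ E : Emb A G, E.f.range = N ∧ ∀ n : N, E.f (e n) = n := by
  refine ⟨⟨N.subtype.comp e.symm.toMonoidHom, N.subtype_injective.comp e.symm.injective,
    (MulAut.congr e).toMonoidHom.comp (MulAut.conjNormal (H := N)), fun g x => ?_⟩, ?_, ?_⟩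
  · simp [MulAut.congr]
  · ext x
    constructor
    · rintro ⟨y, rfl⟩; exact (e.symm y).2
    · intro hx; exact ⟨e ⟨x, hx⟩, by simp⟩
  · intro n; simp

namespace Emb

variable (E : Emb A G)

/-- Change of coordinates. -/
def congr (u : B ≃* A) : Emb B G where
  f := E.f.comp u.toMonoidHom
  inj := E.inj.comp u.injective
  ρ := (MulAut.congr u.symm).toMonoidHom.comp E.ρ
  hρ g x := by simp [MulAut.congr, E.hρ]

theorem congr_range (u : B ≃* A) : (E.congr u).f.range = E.f.range := by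
  ext x
  constructor
  · rintro ⟨y, rfl⟩; exact ⟨u y, rfl⟩
  · rintro ⟨y, rfl⟩; exact ⟨u.symm y, by simp [congr]⟩

theorem normal : E.f.range.Normal :=
  ⟨by rintro _ ⟨x, rfl⟩ g; exact ⟨E.ρ g x, E.hρ g x⟩⟩

theorem ρ_f (y x : A) : E.ρ (E.f y) x = y * x * y⁻¹ := E.inj (by simp [E.hρ])

theorem ρ_mul (g h : G) (x : A) : E.ρ (g * h) x = E.ρ g (E.ρ h x) := by simp

theorem ρ_inv_ρ (g : G) (x : A) : E.ρ g⁻¹ (E.ρ g x) = x := by simp

theorem ρ_ρ_inv (g : G) (x : A) : E.ρ g (E.ρ g⁻¹ x) = x := by simp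

theorem normal_map (X : Subgroup A) (h : ∀ g, ∀ x ∈ X, E.ρ g x ∈ X) : (X.map E.f).Normal :=
  ⟨by rintro _ ⟨x, hx, rfl⟩ g; exact ⟨E.ρ g x, h g x hx, E.hρ g x⟩⟩

theorem le_normalizer_map (X : Subgroup A) (H : Subgroup G) (h : ∀ g ∈ H, ∀ x ∈ X, E.ρ g x ∈ X) :
    H ≤ normalizer (X.map E.f : Set G) := by
  apply le_normalizer_of_cj_le
  intro g hg
  rw [cj_le_iff_forall]
  rintro _ ⟨x, hx, rfl⟩
  exact ⟨E.ρ g x, h g hg x hx, E.hρ g x⟩

theorem smul_f (g : G) (x : A) (a : Ω) : g • E.f x • a = E.f (E.ρ g x) • g • a := by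
  rw [E.hρ, mul_smul, mul_smul, inv_smul_smul]

/-- The point stabiliser in `A`. -/
def R (a : Ω) : Subgroup A := (stabilizer G a).comap E.f

theorem mem_R {a : Ω} {x : A} : x ∈ E.R a ↔ E.f x • a = a := Iff.rfl

theorem ρ_mem_R {a : Ω} {h : G} (hh : h • a = a) {x : A} (hx : x ∈ E.R a) : E.ρ h x ∈ E.R a := by
  have := E.smul_f h x a
  rw [E.mem_R.mp hx, hh] at this
  exact this.symm

theorem f_smul_eq_iff {a : Ω} {x y : A} : E.f x • a = E.f y • a ↔ y⁻¹ * x ∈ E.R a := by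
  rw [mem_R, map_mul, map_inv, mul_smul, inv_smul_eq_iff]

theorem range_ne_bot [Nontrivial A] : E.f.range ≠ ⊥ := by
  intro h
  obtain ⟨x, hx⟩ := exists_ne (1 : A)
  have : E.f x ∈ E.f.range := ⟨x, rfl⟩
  rw [h, mem_bot] at this
  exact hx (E.inj (by simpa using this))

theorem exists_smul_eq [FaithfulSMul G Ω] [Nontrivial A] (hprim : IsPreprimitive G Ω) (a b : Ω) :
    ∃ x, E.f x • a = b := by
  have := E.normal
  obtain ⟨⟨_, x, rfl⟩, h⟩ :=
    (isPretransitive_of_normal_of_ne_bot hprim _ E.range_ne_bot).exists_smul_eq a b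
  exact ⟨x, h⟩

theorem R_ne_top [FaithfulSMul G Ω] [Nontrivial A] (hprim : IsPreprimitive G Ω) (a : Ω) :
    E.R a ≠ ⊤ := by
  intro h
  apply E.range_ne_bot
  apply eq_bot_of_normal_of_le_stabilizer (a := a) E.normal
  rintro _ ⟨x, rfl⟩
  exact (h ▸ mem_top x : x ∈ E.R a)

theorem R_max [FaithfulSMul G Ω] [Nontrivial A] (hprim : IsPreprimitive G Ω) (a : Ω)
    (X : Subgroup A) (hle : E.R a ≤ X) (hX : ∀ h : G, h • a = a → ∀ x ∈ X, E.ρ h x ∈ X) :
    X = E.R a ∨ X = ⊤ := by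
  have := nontrivial_of_ne_bot (Ω := Ω) _ E.range_ne_bot
  have hc := IsPreprimitive.isCoatom_stabilizer_of_isPreprimitive G a
  rcases (le_sup_left : stabilizer G a ≤ stabilizer G a ⊔ X.map E.f).eq_or_lt with h | h
  · left
    refine le_antisymm (fun x hx => ?_) hle
    change E.f x ∈ stabilizer G a
    rw [h]
    exact mem_sup_right (mem_map_of_mem _ hx)
  · right
    rw [eq_top_iff]
    intro y _
    have h1 : E.f y ∈ stabilizer G a ⊔ X.map E.f := hc.2 _ h ▸ mem_top _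
    obtain ⟨g, hg, _, ⟨x, hx, rfl⟩, h2⟩ :=
      (mem_sup_of_normalizes_right (E.le_normalizer_map X _ hX)).mp h1
    have h3 : y * x⁻¹ ∈ E.R a := by
      change E.f (y * x⁻¹) ∈ stabilizer G a
      rw [map_mul, map_inv, ← h2, mul_inv_cancel_right]
      exact hg
    simpa using X.mul_mem (hle h3) hx

theorem forall_smul_ne [FaithfulSMul G Ω] [Nontrivial A] (hprim : IsPreprimitive G Ω) (a : Ω)
    {x : A} (h : ∀ y, y⁻¹ * x * y ∉ E.R a) (b : Ω) : E.f x • b ≠ b := by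
  obtain ⟨y, rfl⟩ := E.exists_smul_eq hprim a b
  intro hb
  rw [← mul_smul, ← map_mul, f_smul_eq_iff, ← mul_assoc] at hb
  exact h y hb

end Emb

section Pow

variable {T ι : Type*} [Group T] [IsSimpleGroup T] [Finite ι] (E : Emb (ι → T) G)

theorem Emb.exists_stabilizer_move [FaithfulSMul G Ω] (hT : ¬ IsMulCommutative T)
    (hprim : IsPreprimitive G Ω) (a : Ω)
    (hmin : ∀ M : Subgroup G, M.Normal → M ≤ E.f.range → M = ⊥ ∨ M = E.f.range) (i j : ι) :
    ∃ h : G, h • a = a ∧ ∃ (σ : Equiv.Perm ι) (φ : ι → T ≃* T),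
      (∀ x k, E.ρ h x (σ k) = φ k (x k)) ∧ σ i = j := by
  classical
  have : Nonempty ι := ⟨i⟩
  obtain ⟨t, ht⟩ := exists_ne (1 : T)
  obtain ⟨g, hg⟩ : ∃ g : G, ∀ x, E.ρ g x j = 1 ↔ x i = 1 := by
    let M : Subgroup (ι → T) := ⨅ k ∈ {k | ∃ g : G, ∀ x, E.ρ g x k = 1 ↔ x i = 1},
      (Pi.evalMonoidHom (fun _ : ι => T) k).ker
    have hM : ∀ x, x ∈ M ↔ ∀ k, (∃ g : G, ∀ x, E.ρ g x k = 1 ↔ x i = 1) → x k = 1 := by
      intro x
      simp [M, mem_iInf]
    have hn : (M.map E.f).Normal := by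
      apply E.normal_map
      intro g x hx
      rw [hM] at hx ⊢
      rintro k ⟨g₀, hg₀⟩
      obtain ⟨σ, φ, h⟩ := exists_perm_of_aut hT (E.ρ g)
      obtain ⟨k, rfl⟩ := σ.surjective k
      rw [h, hx k ⟨g⁻¹ * g₀, fun y => ?_⟩, map_one]
      rw [← hg₀, ← E.ρ_ρ_inv g (E.ρ g₀ y), h, E.ρ_mul, map_eq_one_iff _ (φ k).injective]
    rcases hmin _ hn (map_le_range _ _) with h | h
    · by_contra hcon
      have h1 : Pi.mulSingle j t ∈ M := by
        rw [hM]
        intro k hk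
        have : k ≠ j := by rintro rfl; exact hcon hk
        simp [this]
      have h2 := mem_map_of_mem E.f h1
      rw [h, mem_bot, map_eq_one_iff _ E.inj] at h2
      exact ht (by simpa using congrFun h2 j)
    · exfalso
      obtain ⟨y, hy, hy'⟩ : E.f (Pi.mulSingle i t) ∈ M.map E.f := h ▸ ⟨_, rfl⟩
      rw [E.inj hy'] at hy
      exact ht (by simpa using (hM _).mp hy i ⟨1, fun x => by simp⟩)
  obtain ⟨y, hy⟩ := E.exists_smul_eq hprim a (g • a)
  obtain ⟨σ, φ, h⟩ := exists_perm_of_aut hT (E.ρ ((E.f y)⁻¹ * g))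
  refine ⟨(E.f y)⁻¹ * g, by rw [mul_smul, ← hy, inv_smul_smul], σ, φ, h, ?_⟩
  by_contra hne
  have h1 := aut_mulSingle h i t
  have h2 : E.ρ ((E.f y)⁻¹ * g) (Pi.mulSingle i t) j = 1 := by
    rw [h1]; simp [Ne.symm hne]
  rw [E.ρ_mul, ← map_inv, E.ρ_f] at h2
  simp only [Pi.mul_apply, Pi.inv_apply, inv_inv] at h2
  have h3 : E.ρ g (Pi.mulSingle i t) j = 1 := by
    have := congrArg (fun z => y j * z * (y j)⁻¹) h2
    simpa [mul_assoc] using this
  exact ht (by simpa using (hg _).mp h3)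

/-- The point stabiliser in a non-abelian minimal normal subgroup is of product type or of
diagonal type. -/
theorem Emb.dichotomy [FaithfulSMul G Ω] [Nonempty ι] (hT : ¬ IsMulCommutative T)
    (hprim : IsPreprimitive G Ω) (a : Ω)
    (hmin : ∀ M : Subgroup G, M.Normal → M ≤ E.f.range → M = ⊥ ∨ M = E.f.range) :
    (∃ K : ι → Subgroup T, (∀ i, K i ≠ ⊤) ∧ ∀ x, x ∈ E.R a ↔ ∀ i, x i ∈ K i) ∨
    (∃ (φ : ι → T ≃* T) (k : ℕ) (c : ι → ι), 2 ≤ k ∧ (∀ i, c (c i) = c i) ∧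
      (∀ i, Nat.card {j // c j = c i} = k) ∧
      ∀ x, x ∈ E.R a ↔ ∀ i j, c i = c j → φ i (x i) = φ j (x j)) := by
  classical
  let K : ι → Subgroup T := fun i => (E.R a).map (Pi.evalMonoidHom (fun _ : ι => T) i)
  have hK : ∀ h : G, h • a = a → ∀ (σ : Equiv.Perm ι) (φ : ι → T ≃* T),
      (∀ x k, E.ρ h x (σ k) = φ k (x k)) → ∀ k, ∀ t ∈ K k, φ k t ∈ K (σ k) := by
    rintro h hh σ φ hσ k _ ⟨r, hr, rfl⟩
    exact ⟨E.ρ h r, E.ρ_mem_R hh hr, hσ r k⟩
  by_cases hex : ∃ i, K i ≠ ⊤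
  · left
    obtain ⟨i, hi⟩ := hex
    have hall : ∀ j, K j ≠ ⊤ := by
      intro j hj
      obtain ⟨h, hh, σ, φ, hσ, rfl⟩ := E.exists_stabilizer_move hT hprim a hmin j i
      apply hi
      rw [eq_top_iff]
      intro t _
      simpa using hK h hh σ φ hσ j ((φ j).symm t) (hj ▸ mem_top _)
    refine ⟨K, hall, fun x => ?_⟩
    rcases E.R_max hprim a (Subgroup.pi Set.univ K) (fun r hr k _ => ⟨r, hr, rfl⟩) (by
      intro h hh x hx k _
      obtain ⟨σ, φ, hσ⟩ := exists_perm_of_aut hT (E.ρ h)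
      obtain ⟨k, rfl⟩ := σ.surjective k
      rw [hσ]
      exact hK h hh σ φ hσ k _ (hx k trivial)) with h | h
    · rw [← h]; simp [mem_pi]
    · exfalso
      apply hi
      rw [eq_top_iff]
      intro t _
      have : Pi.mulSingle i t ∈ Subgroup.pi Set.univ K := h ▸ mem_top _
      simpa using this i trivial
  · right
    push Not at hex
    obtain ⟨c, φ, h1, h2, h3⟩ := scott hT (E.R a) (fun i t => (hex i ▸ mem_top t : t ∈ K i))
    obtain ⟨i₀⟩ := ‹Nonempty ι›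
    have hcard : ∀ i, Nat.card {j // c j = c i} = Nat.card {j // c j = c i₀} := by
      intro i
      obtain ⟨h, hh, σ, ψ, hσ, rfl⟩ := E.exists_stabilizer_move hT hprim a hmin i₀ i
      refine Nat.card_congr (σ.subtypeEquiv fun j => ?_).symm
      rw [h2, h2]
      constructor
      · intro h4 r hr
        have := h4 (E.ρ h⁻¹ r) (E.ρ_mem_R (inv_smul_eq_iff.mpr hh.symm) hr)
        have e1 := hσ (E.ρ h⁻¹ r) j
        have e2 := hσ (E.ρ h⁻¹ r) i₀
        rw [E.ρ_ρ_inv] at e1 e2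
        rwa [e1, e2, map_eq_one_iff _ (ψ j).injective, map_eq_one_iff _ (ψ i₀).injective]
      · intro h4 r hr
        have := h4 (E.ρ h r) (E.ρ_mem_R hh hr)
        rwa [hσ, hσ, map_eq_one_iff _ (ψ j).injective, map_eq_one_iff _ (ψ i₀).injective] at this
    refine ⟨φ, _, c, ?_, h1, hcard, h3⟩
    by_contra hlt
    apply E.R_ne_top hprim a
    rw [eq_top_iff]
    intro x _
    rw [h3]
    intro i j hij
    have : Subsingleton {k // c k = c j} := by
      rw [← Finite.card_le_one_iff_subsingleton, hcard]; omega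
    have : (⟨i, hij⟩ : {k // c k = c j}) = ⟨j, rfl⟩ := Subsingleton.elim _ _
    rw [show i = j from congrArg Subtype.val this]

end Pow

/-- The O'Nan-Scott structure of a non-abelian minimal normal subgroup, in adapted coordinates. -/
theorem ons_core [Finite G] [FaithfulSMul G Ω] (hprim : IsPreprimitive G Ω) (a : Ω)
    (N : Subgroup G) [N.Normal] (hN : N ≠ ⊥)
    (hmin : ∀ M : Subgroup G, M.Normal → M ≤ N → M = ⊥ ∨ M = N) (hnab : ¬ IsMulCommutative N) :
    ∃ (T : Type) (_ : Group T) (_ : Finite T) (m : ℕ) (E : Emb (Fin m → T) G),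
      IsSimpleGroup T ∧ ¬ IsMulCommutative T ∧ 0 < m ∧ E.f.range = N ∧
      ((∃ K : Fin m → Subgroup T, (∀ i, K i ≠ ⊤) ∧ ∀ x, x ∈ E.R a ↔ ∀ i, x i ∈ K i) ∨
      (∃ (k : ℕ) (c : Fin m → Fin m), 2 ≤ k ∧ (∀ i, c (c i) = c i) ∧
        (∀ i, Nat.card {j // c j = c i} = k) ∧
        ∀ x, x ∈ E.R a ↔ ∀ i j, c i = c j → x i = x j)) := by
  obtain ⟨T₀, m, -, hs, hm, ⟨e₀⟩⟩ := exists_mulEquiv_pi_of_minimal_normal N hN hmin
  obtain ⟨T, _, ⟨u⟩⟩ := exists_small_copy T₀
  have hfin : Finite T := Finite.of_equiv _ u.toEquiv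
  have hsT : IsSimpleGroup T := u.symm.isSimpleGroup
  let e : N ≃* (Fin m → T) := e₀.trans (MulEquiv.piCongrRight fun _ => u)
  have hT : ¬ IsMulCommutative T := by
    intro h
    apply hnab
    refine ⟨⟨fun x y => e.injective ?_⟩⟩
    rw [map_mul, map_mul]
    ext i
    exact h.is_comm.comm _ _
  obtain ⟨E, hE, -⟩ := exists_emb N e
  have : Nonempty (Fin m) := ⟨⟨0, hm⟩⟩
  rcases E.dichotomy hT hprim a (hE ▸ hmin) with h | ⟨φ, k, c, h1, h2, h3, h4⟩
  · exact ⟨T, inferInstance, hfin, m, E, hsT, hT, hm, hE, Or.inl h⟩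
  · refine ⟨T, inferInstance, hfin, m, E.congr (MulEquiv.piCongrRight φ).symm, hsT, hT, hm,
      (E.congr_range _).trans hE, Or.inr ⟨k, c, h1, h2, h3, fun x => ?_⟩⟩
    refine (h4 ((MulEquiv.piCongrRight φ).symm x)).trans ?_
    simp

end CL.ONS
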