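import Mathlib
import Cfsg.Agent.PERM.CompLen2
import Cfsg.Agent.PERM.ONS

/-!
Composition length of primitive permutation groups.
-/

set_option autoImplicit false

namespace CL.CompLen

open Subgroup Equiv Function MulAction ArithmeticFunction

variable {G Ω : Type*} [Group G] [Finite G]

theorem cardFactors_lt_of_lt {B C : Subgroup G} (h1 : B < C) :
    cardFactors (Nat.card B) < cardFactors (Nat.card C) := by
  have e : B.relIndex C * Nat.card B = Nat.card C := by
    rw [relIndex, ← Nat.card_congr (subgroupOfEquivOfLe h1.le).toEquiv, index_mul_card]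
  have h2 : B.relIndex C ≠ 1 := fun e => h1.not_ge (relIndex_eq_one.1 e)
  have h3 : B.relIndex C ≠ 0 := fun e' => by
    rw [e', zero_mul] at e; exact Nat.card_pos.ne e
  rw [← e, cardFactors_mul h3 Nat.card_pos.ne']
  have : 0 < cardFactors (B.relIndex C) := cardFactors_pos_iff_one_lt.2 (by omega)
  omega

theorem exists_gen (K : Subgroup G) :
    ∃ s : Finset G, closure (s : Set G) = K ∧ s.card ≤ cardFactors (Nat.card K) := by
  classical
  induction K using WellFoundedLT.induction with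
  | ind K ih =>
    by_cases hK : K = ⊥
    · exact ⟨∅, by simp [hK], by simp⟩
    obtain ⟨M, hM, hmax⟩ := (Set.toFinite {M : Subgroup G | M < K}).exists_maximal ⟨⊥, Ne.bot_lt hK⟩
    replace hM : M < K := hM
    obtain ⟨s, hs, hc⟩ := ih M hM
    obtain ⟨x, hx, hx'⟩ := SetLike.exists_of_lt hM
    have hle : closure ((insert x s : Finset G) : Set G) ≤ K := by
      rw [closure_le, Finset.coe_insert, Set.insert_subset_iff]
      exact ⟨hx, fun y hy => hM.le (hs ▸ subset_closure hy)⟩
    refine ⟨insert x s, ?_, (Finset.card_insert_le _ _).trans ?_⟩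
    · by_contra hne
      refine hx' (hmax (lt_of_le_of_ne hle hne) ?_ (subset_closure (by simp)))
      rw [← hs]; exact closure_mono (by simp)
    · exact (Nat.succ_le_succ hc).trans (cardFactors_lt_of_lt hM)

theorem cl_add_stab (N H : Subgroup G) [N.Normal] (h : ∀ g : G, ∃ n ∈ N, n⁻¹ * g ∈ H) :
    cl G + cl (N.subgroupOf H) = cl N + cl H := by
  have h1 := cl_eq_add (QuotientGroup.mk' N) (QuotientGroup.mk'_surjective N)
  have h2 := cl_eq_add ((QuotientGroup.mk' N).comp H.subtype) fun q => by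
    obtain ⟨g, rfl⟩ := QuotientGroup.mk'_surjective N q
    obtain ⟨n, hn, hg⟩ := h g
    exact ⟨⟨_, hg⟩, by simp [(QuotientGroup.eq_one_iff n).2 hn]⟩
  rw [QuotientGroup.ker_mk'] at h1
  rw [← MonoidHom.comap_ker, QuotientGroup.ker_mk'] at h2
  rw [h1, h2, subgroupOf]; ring

variable [MulAction G Ω] [FaithfulSMul G Ω] [Finite Ω]

/-- the action of a point stabiliser on the other points -/
def stabHom (G : Type*) {Ω : Type*} [Group G] [MulAction G Ω] (a : Ω) :
    stabilizer G a →* Perm {x // ¬ x = a} :=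
  res ((toPermHom G Ω).comp (stabilizer G a).subtype) _ fun g x => not_congr <| by
    change (g : G) • x = a ↔ x = a
    rw [smul_eq_iff_eq_inv_smul, mem_stabilizer_iff.1 (inv_mem g.2)]

omit [Finite G] [Finite Ω] in
theorem stabHom_inj (a : Ω) : Injective (stabHom G a) :=
  (injective_iff_map_eq_one _).2 fun g hg => Subtype.ext <| FaithfulSMul.eq_of_smul_eq_smul (α := Ω) fun x => by
    rw [OneMemClass.coe_one, one_smul]
    by_cases hx : x = a
    · rw [hx]; exact g.2
    · exact congrArg Subtype.val (DFunLike.congr_fun hg ⟨x, hx⟩)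

theorem card_compl (a : Ω) : Nat.card {x // ¬ x = a} + 1 = Nat.card Ω := by
  rw [← card_split fun x => x = a, Nat.card_unique (α := {x // x = a}), add_comm]

theorem stab_bound [Nontrivial Ω] (IH : ∀ m < Nat.card Ω, P m) (a : Ω) :
    3 * cl (stabilizer G a) + 8 ≤ 4 * Nat.card Ω := by
  have e := card_compl a
  obtain ⟨b, hb⟩ := exists_ne a
  have : Nonempty {x // ¬ x = a} := ⟨⟨b, hb⟩⟩
  have := gen1' (IH _ (by omega)) _ (stabHom_inj (G := G) a)
  omega

omit [Finite G] [Finite Ω] in
theorem eq_one_of_comm {N : Subgroup G} [IsPretransitive N Ω] {a : Ω} {g : G} (hg : g • a = a)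
    (h : ∀ n ∈ N, g * n * g⁻¹ = n) : g = 1 :=
  FaithfulSMul.eq_of_smul_eq_smul (α := Ω) fun x => by
    obtain ⟨n, rfl⟩ := exists_smul_eq N a x
    rw [one_smul, Subgroup.smul_def, ← mul_smul, mul_inv_eq_iff_eq_mul.1 (h n n.2), mul_smul, hg]

theorem sq_bound (e : ℕ) (he : 5 ≤ e) : 3 * e + 3 * (e * (e + 1)) + 4 ≤ 4 * 2 ^ e := by
  induction e, he using Nat.le_induction with
  | base => norm_num
  | succ e he ih => rw [pow_succ]; nlinarith

theorem arith {n h c : ℕ} (hn : 0 < n) (h1 : h ∣ (n - 1).factorial) (h2 : h ≤ n ^ cardFactors n)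
    (hc : c ≤ cardFactors h) (hd : 2 ≤ cardFactors n) : 3 * cardFactors n + 3 * c + 4 ≤ 4 * n := by
  have h0 : h ≠ 0 := by rintro rfl; exact (Nat.factorial_ne_zero _) (zero_dvd_iff.1 h1)
  have h3 : 2 ^ c ≤ n ^ cardFactors n :=
    (Nat.pow_le_pow_right two_pos hc).trans ((two_pow_cardFactors_le h0).trans h2)
  have key : ∀ b, n ^ cardFactors n < 2 ^ (b + 1) → c ≤ b := fun b hb =>
    Nat.lt_succ_iff.1 ((Nat.pow_lt_pow_iff_right one_lt_two).1 (h3.trans_lt hb))
  by_cases h32 : 32 ≤ n
  · have e1 := Nat.pow_log_le_self 2 hn.ne'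
    have e2 := Nat.lt_pow_succ_log_self one_lt_two n
    have e3 : cardFactors n ≤ Nat.log 2 n := Nat.le_log_of_pow_le one_lt_two (two_pow_cardFactors_le hn.ne')
    have e4 : 5 ≤ Nat.log 2 n := Nat.le_log_of_pow_le one_lt_two h32
    have e5 := sq_bound _ e4
    have e6 : c ≤ Nat.log 2 n * (Nat.log 2 n + 1) := by
      refine (Nat.pow_le_pow_iff_right one_lt_two).1 (h3.trans ?_)
      rw [mul_comm, pow_mul]
      exact (Nat.pow_le_pow_right hn e3).trans (Nat.pow_le_pow_left e2.le _)
    omega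
  obtain ⟨k, hk⟩ := h1
  have hk0 : k ≠ 0 := by rintro rfl; exact (Nat.factorial_ne_zero _) hk
  have e := cardFactors_mul h0 hk0
  rw [← hk] at e
  by_cases h4 : n = 4
  · subst h4
    have : cardFactors (4 - 1).factorial = 2 := by simp [cardFactors_apply, Nat.factorial]
    have : cardFactors 4 = 2 := by simp [cardFactors_apply]
    omega
  by_cases h6 : n = 6
  · subst h6
    have : cardFactors (6 - 1).factorial = 5 := by simp [cardFactors_apply, Nat.factorial]
    have e2 : cardFactors 6 = 2 := by simp [cardFactors_apply]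
    rw [e2] at h2
    have : 0 < cardFactors k := cardFactors_pos_iff_one_lt.2 (by
      by_contra hk1
      rw [show k = 1 by omega] at hk
      norm_num [Nat.factorial] at hk h2; omega)
    omega
  by_cases h8 : n = 8
  · subst h8
    have : cardFactors (8 - 1).factorial = 8 := by simp [cardFactors_apply, Nat.factorial]
    have e2 : cardFactors 8 = 3 := by simp [cardFactors_apply]
    rw [e2] at h2
    have h9 : 8 ≤ k := by
      by_contra hk1
      have : h * k ≤ 8 ^ 3 * 7 := Nat.mul_le_mul h2 (by omega)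
      norm_num [Nat.factorial] at hk this; omega
    have : 0 < cardFactors k := cardFactors_pos_iff_one_lt.2 (by omega)
    have : cardFactors k ≠ 1 := fun e1 => by
      have := (cardFactors_eq_one_iff_prime.1 e1).dvd_factorial.1 (hk ▸ Dvd.intro_left h rfl)
      omega
    omega
  have : 3 * cardFactors n + 4 ≤ 4 * n ∧ n ^ cardFactors n < 2 ^ ((4 * n - 4 - 3 * cardFactors n) / 3 + 1) := by
    clear e hk key h2 h3 hc
    push Not at h32
    interval_cases n <;> simp [cardFactors_apply] at hd h4 h6 h8 ⊢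
  have := key _ this.2
  omega

theorem regular (N : Subgroup G) [hN : N.Normal] [IsPretransitive N Ω] (a : Ω)
    (hreg : N.subgroupOf (stabilizer G a) = ⊥) (hd : 2 ≤ cl N) : 3 * cl G + 4 ≤ 4 * Nat.card Ω := by
  have hn : Nat.card N = Nat.card Ω := by
    refine Nat.card_congr (Equiv.ofBijective (fun n : N => n • a) ⟨fun x y h => ?_, exists_smul_eq N a⟩)
    have h1 : ((y⁻¹ * x : N) : G) ∈ stabilizer G a := by
      change (y⁻¹ * x) • a = a
      rw [mul_smul, inv_smul_eq_iff]; exact h
    have h2 : (⟨_, h1⟩ : stabilizer G a) ∈ N.subgroupOf (stabilizer G a) := (y⁻¹ * x).2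
    rw [hreg, mem_bot] at h2
    have h3 : ((y⁻¹ * x : N) : G) = 1 := congrArg Subtype.val h2
    exact (inv_mul_eq_one.1 (Subtype.ext h3)).symm
  have h1 := cl_add_stab N (stabilizer G a) fun g => by
    obtain ⟨n, hn⟩ := exists_smul_eq N a (g • a)
    exact ⟨n, n.2, by rw [mem_stabilizer_iff, mul_smul, inv_smul_eq_iff]; exact hn.symm⟩
  have h2 := cl_le_cardFactors N
  have h3 := cl_le_cardFactors (stabilizer G a)
  obtain ⟨s, hs, hc⟩ := exists_gen (⊤ : Subgroup N)
  rw [card_top, hn] at hc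
  rw [hn] at h2
  have : Nonempty Ω := ⟨a⟩
  have := arith (n := Nat.card Ω) Nat.card_pos ?_ ?_ h3 (hd.trans h2)
  · omega
  · have := card_dvd_of_injective _ (stabHom_inj (G := G) a)
    rwa [Nat.card_perm, show Nat.card {x // ¬ x = a} = Nat.card Ω - 1 from by rw [← card_compl a]; rfl] at this
  · refine (Nat.card_le_card_of_injective
      (fun (h : stabilizer G a) (x : s) => MulAut.conjNormal (H := N) (h : G) x.1) fun h h' e => ?_).trans ?_
    · have : ∀ n : N, MulAut.conjNormal (H := N) (h : G) n = MulAut.conjNormal (H := N) (h' : G) n := fun n =>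
        DFunLike.congr_fun (MonoidHom.eq_of_eqOn_dense hs (f := (MulAut.conjNormal (H := N) (h : G)).toMonoidHom)
          (g := (MulAut.conjNormal (H := N) (h' : G)).toMonoidHom) fun x hx => congrFun e ⟨x, hx⟩) n
      have h5 := eq_one_of_comm (N := N) (a := a) (h'⁻¹ * h).2 fun n hn => by
        have := congrArg Subtype.val (this ⟨n, hn⟩)
        simp only [MulAut.conjNormal_apply] at this
        simp only [Subgroup.coe_mul, Subgroup.coe_inv, mul_inv_rev, inv_inv]
        calc _ = (h' : G)⁻¹ * (h * n * (h : G)⁻¹) * h' := by group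
          _ = n := by rw [this]; group
      exact (inv_mul_eq_one.1 (Subtype.ext h5)).symm
    · rw [Nat.card_fun, hn, Nat.card_eq_fintype_card (α := s), Fintype.card_coe]
      exact Nat.pow_le_pow_right Nat.card_pos hc

theorem four_le_card {T : Type*} [Group T] [Finite T] (hT : ¬ IsMulCommutative T) : 4 ≤ Nat.card T := by
  by_contra h
  have h0 := Nat.card_pos (α := T)
  have : IsCyclic T := by
    obtain h1 | h1 | h1 : Nat.card T = 1 ∨ Nat.card T = 2 ∨ Nat.card T = 3 := by omega
    · have := (Nat.card_eq_one_iff_unique.1 h1).1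
      infer_instance
    · exact isCyclic_of_prime_card (hp := ⟨Nat.prime_two⟩) h1
    · exact isCyclic_of_prime_card (hp := ⟨Nat.prime_three⟩) h1
  exact hT inferInstance

theorem big_or {T : Type*} [Group T] [Finite T] (hT : ¬ IsMulCommutative T) {m : ℕ} (hm : 0 < m)
    (R : Subgroup (Fin m → T))
    (h : (∃ K : Fin m → Subgroup T, (∀ i, K i ≠ ⊤) ∧ ∀ x, x ∈ R ↔ ∀ i, x i ∈ K i) ∨
      (∃ (k : ℕ) (c : Fin m → Fin m), 2 ≤ k ∧ (∀ i, c (c i) = c i) ∧
        (∀ i, Nat.card {j // c j = c i} = k) ∧ ∀ x, x ∈ R ↔ ∀ i j, c i = c j → x i = x j)) :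
    m ≤ cl R + 1 ∨ m * Nat.card T ≤ R.index := by
  classical
  have h4 := four_le_card hT
  rcases h with ⟨K, hK, hR⟩ | ⟨k, c, hk, hc, hcard, hR⟩
  · obtain rfl : R = Subgroup.pi Set.univ K := by ext x; simp [hR, mem_pi]
    by_cases hb : ∃ i, K i = ⊥
    · obtain ⟨i, hi⟩ := hb
      right
      rw [index_pi, ← Finset.mul_prod_erase _ _ (Finset.mem_univ i), hi, index_bot, mul_comm]
      refine Nat.mul_le_mul_left _ (le_trans ?_ (Finset.pow_card_le_prod _ _ 2 fun j _ => ?_))
      · rw [Finset.card_erase_of_mem (Finset.mem_univ i), Finset.card_univ, Fintype.card_fin]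
        have := Nat.lt_two_pow_self (n := m - 1)
        omega
      · exact one_lt_index_of_ne_top (hK j)
    · left
      push Not at hb
      let e : Subgroup.pi Set.univ K ≃* (∀ i, K i) :=
        { toFun := fun x i => ⟨x.1 i, x.2 i trivial⟩
          invFun := fun y => ⟨fun i => y i, fun i _ => (y i).2⟩
          left_inv := fun _ => rfl
          right_inv := fun _ => rfl
          map_mul' := fun _ _ => rfl }
      rw [cl_congr e, cl_pi]
      refine le_trans ?_ ((Finset.card_nsmul_le_sum _ _ 1 fun j _ => ?_).trans (Nat.le_succ _))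
      · simp
      · have := (nontrivial_iff_ne_bot _).2 (hb j)
        exact cl_pos _
  · by_cases hm2 : m ≤ 2
    · left
      have : Nontrivial T := Finite.one_lt_card_iff_nontrivial.1 (by omega)
      obtain ⟨t, ht⟩ := exists_ne (1 : T)
      have : Nontrivial R := ⟨⟨⟨fun _ => t, (hR _).2 fun _ _ _ => rfl⟩, 1, fun e =>
        ht (congrFun (congrArg Subtype.val e) ⟨0, hm⟩)⟩⟩
      have := cl_pos R
      omega
    right
    have h1 : Nat.card ({i // ¬ c i = i} → T) ≤ R.index := by
      refine Nat.card_le_card_of_injective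
        (fun x => ((fun i => if h : c i = i then 1 else x ⟨i, h⟩ : Fin m → T) : (Fin m → T) ⧸ R)) fun x y e => ?_
      funext i
      have := (hR _).1 (QuotientGroup.eq.1 e) i (c i) (hc i).symm
      simpa [hc, i.2, inv_mul_eq_one] using this
    have h2 : Nat.card {i // c i = i} ≤ Nat.card {i // ¬ c i = i} := by
      have : ∀ i : {i // c i = i}, ∃ j : {i // ¬ c i = i}, c j = i := fun i => by
        have : Nontrivial {j // c j = c i} := Finite.one_lt_card_iff_nontrivial.1 (by rw [hcard]; omega)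
        obtain ⟨j, hj⟩ := exists_ne (⟨i, rfl⟩ : {j // c j = c i})
        exact ⟨⟨j, fun e => hj (Subtype.ext (e.symm.trans (j.2.trans i.2)))⟩, j.2.trans i.2⟩
      choose f hf using this
      exact Nat.card_le_card_of_injective f fun i j e => Subtype.ext (by rw [← hf, e, hf])
    have h3 := card_split fun i => c i = i
    rw [Nat.card_fun] at h1
    rw [Nat.card_eq_fintype_card (α := Fin m), Fintype.card_fin] at h3
    refine le_trans ?_ h1
    obtain ⟨u, hu⟩ : ∃ u, Nat.card {i // ¬ c i = i} = u + 2 := ⟨_, (Nat.sub_add_cancel (by omega)).symm⟩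
    rw [hu] at h2 h3 ⊢
    rw [pow_succ]
    refine Nat.mul_le_mul_right _ (le_trans ?_ (Nat.pow_le_pow_left h4 _))
    have : u + 1 ≤ 4 ^ u := Nat.lt_pow_self (by norm_num)
    rw [pow_succ]; omega

open CL.ONS CL.Perm CL.SPow in
theorem prim [Nontrivial Ω] (IH : ∀ m < Nat.card Ω, P m) (hp : IsPreprimitive G Ω) :
    3 * cl G + 4 ≤ 4 * Nat.card Ω := by
  classical
  rcases subsingleton_or_nontrivial G with h | h
  · have := Nat.card_pos (α := Ω)
    rw [cl_eq_zero]; omega
  obtain ⟨N, hN, hne, -, hmin⟩ := exists_minimal_normal_le (⊤ : Subgroup G) top_ne_bot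
  have := isPretransitive_of_normal_of_ne_bot hp N hne
  obtain ⟨a⟩ : Nonempty Ω := inferInstance
  have h1 := cl_add_stab N (stabilizer G a) fun g => by
    obtain ⟨n, hn⟩ := exists_smul_eq N a (g • a)
    exact ⟨n, n.2, by rw [mem_stabilizer_iff, mul_smul, inv_smul_eq_iff]; exact hn.symm⟩
  have h2 := stab_bound (G := G) IH a
  by_cases h3 : cl N ≤ cl (N.subgroupOf (stabilizer G a)) + 1
  · omega
  by_cases hab : IsMulCommutative N
  · refine regular N a (eq_bot_iff.2 fun g hg => Subtype.ext (eq_one_of_comm (N := N) g.2 fun n hn => ?_)) (by omega)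
    rw [mul_inv_eq_iff_eq_mul]
    exact congrArg Subtype.val (hab.is_comm.comm ⟨g, hg⟩ ⟨n, hn⟩)
  obtain ⟨T, _, _, m, E, hs, hT, hm, rfl, hR⟩ := ons_core hp a N hne hmin hab
  have : Nonempty (Fin m) := ⟨⟨0, hm⟩⟩
  have h4 : cl E.f.range ≤ m := by
    rw [← cl_congr (MonoidHom.ofInjective E.inj), cl_pi]
    exact (Finset.sum_le_card_nsmul _ _ 1 fun _ _ => cl_le_one T).trans (by simp)
  have h5 : cl (E.R a) = cl (E.f.range.subgroupOf (stabilizer G a)) := by
    refine cl_congr (MulEquiv.ofBijective (MonoidHom.mk' (fun x => ⟨⟨E.f x, x.2⟩, x, rfl⟩) fun x y => ?_) ⟨?_, ?_⟩)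
    · exact Subtype.ext (Subtype.ext (map_mul _ _ _))
    · exact fun x y e => Subtype.ext (E.inj (congrArg (fun z => z.1.1) e))
    · rintro ⟨⟨g, hg⟩, x, hx⟩
      obtain rfl : E.f x = g := hx
      exact ⟨⟨x, hg⟩, rfl⟩
  have h6 : (E.R a).index = Nat.card Ω := by
    refine Nat.card_congr (Equiv.ofBijective (Quotient.lift (fun x => E.f x • a) fun x y h =>
      (E.f_smul_eq_iff.2 (QuotientGroup.leftRel_apply.1 h)).symm) ⟨?_, fun b => ?_⟩)
    · rintro ⟨x⟩ ⟨y⟩ e
      exact QuotientGroup.eq.2 (E.f_smul_eq_iff.1 (Eq.symm e))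
    · obtain ⟨x, hx⟩ := E.exists_smul_eq hp a b
      exact ⟨⟦x⟧, hx⟩
  rcases big_or hT hm _ hR with h7 | h7
  · omega
  let p : (Fin m → T) → Prop := fun x => ∃ i t, t ≠ 1 ∧ x = Pi.mulSingle i t
  have hp1 : ∀ g x, p x → p (E.ρ g x) := by
    rintro g _ ⟨i, t, ht, rfl⟩
    obtain ⟨σ, φ, h⟩ := exists_perm_of_aut hT (E.ρ g)
    exact ⟨_, _, by simpa using ht, aut_mulSingle h i t⟩
  let ψ := res ((MulAut.toPerm _).comp (E.ρ.comp (stabilizer G a).subtype)) p fun g x =>
    ⟨fun h => E.ρ_inv_ρ g x ▸ hp1 g⁻¹ _ h, hp1 g x⟩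
  have hψ : Injective ψ := (injective_iff_map_eq_one _).2 fun g hg => Subtype.ext <|
    eq_one_of_comm (N := E.f.range) g.2 <| by
      rintro _ ⟨x, rfl⟩
      rw [← E.hρ]
      congr 1
      refine mem_of_forall_mulSingle ((E.ρ g).toMonoidHom.eqLocus (MonoidHom.id _)) x fun i => ?_
      by_cases hx : x i = 1
      · rw [hx, Pi.mulSingle_one]; exact one_mem _
      · exact congrArg Subtype.val (DFunLike.congr_fun hg ⟨_, i, _, hx, rfl⟩)
  have h8 : Nat.card {x // p x} ≤ m * Nat.card {t : T // ¬ t = 1} := by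
    refine (Nat.card_le_card_of_surjective
      (fun y : Fin m × {t : T // ¬ t = 1} => (⟨Pi.mulSingle y.1 y.2.1, _, _, y.2.2, rfl⟩ : {x // p x})) ?_).trans (by simp)
    rintro ⟨_, i, t, ht, rfl⟩
    exact ⟨(i, ⟨t, ht⟩), rfl⟩
  obtain ⟨t, ht⟩ := exists_ne (1 : T)
  have : Nonempty {x // p x} := ⟨⟨_, ⟨0, hm⟩, t, ht, rfl⟩⟩
  rw [← card_compl (1 : T), h6, mul_add] at h7
  have := gen1' (IH _ (by omega)) ψ hψ
  omega

theorem P_all (n : ℕ) : P n := by
  induction n using Nat.strong_induction_on with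
  | _ n ih =>
    intro G k π hπ hinv
    have hn : Nat.card (Fin n) = n := by simp
    have IH : ∀ m < Nat.card (Fin n), P m := fun m hm => ih m (hn ▸ hm)
    simpa using reduce (G := G) IH (fun _ hp => prim IH hp) π hπ fun g x => hinv g g.2 x

theorem main : 3 * cl G + 4 * Nat.card (Quotient (orbitRel G Ω)) ≤ 4 * Nat.card Ω :=
  gen' (P_all _) (toPermHom G Ω) toPerm_injective (fun x => ⟦x⟧) Quotient.mk_surjective
    fun g x => Quotient.sound (mem_orbit x g)

end CL.CompLen
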