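import Mathlib
import Cfsg.Agent.INV.Bic.Grp
import Cfsg.Agent.FGS.Metacyclic
import Cfsg.Agent.FGS.HupMeta
import Cfsg.Agent.INV.ZStar
import Cfsg.Agent.TECH.SylIn
import Cfsg.Agent.CLAS.PGL2Trace
import Cfsg.Agent.S0560

/-!
Bicyclic 2-groups of rank three and groups which are a product of a cyclic group and a Z-group.
-/

set_option autoImplicit false

namespace CL.CycZ

open Subgroup Cfsg CL.MSS CL.Bic CL.PGL2 CL.Dk
open scoped MatrixGroups

section Dih

/-- the 2-subgroups behave like subgroups of dihedral groups -/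
def Dih (G : Type*) [Group G] : Prop :=
  ∀ x y : G, IsPGroup 2 (closure ({x, y} : Set G)) → x * x ≠ 1 → y * x * y⁻¹ = x ∨ y * x * y⁻¹ = x⁻¹

theorem Dih.of_injective {G H : Type*} [Group G] [Group H] (h : Dih G) (f : H →* G)
    (hf : Function.Injective f) : Dih H := fun x y hp hx => by
  have := h (f x) (f y) (by
    have := hp.map f
    rwa [MonoidHom.map_closure, Set.image_pair] at this)
    (fun e => hx (hf (by rw [map_mul, e, map_one])))
  simpa only [← map_mul, ← map_inv, hf.eq_iff] using this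

theorem dih_pgl {F : Type*} [Field F] [Finite F] (hF : Odd (Nat.card F)) : Dih PGL(2, F) := by
  intro x y hp hx
  obtain ⟨p, hc⟩ := CharP.exists F
  have := Fintype.ofFinite F
  obtain ⟨n, hpp, hn⟩ := FiniteField.card F p
  have := Fact.mk hpp
  have hp2 : p ≠ 2 := by
    rintro rfl
    rw [Nat.card_eq_fintype_card, hn] at hF
    exact (Nat.not_odd_iff_even.2 (Nat.even_pow.2 ⟨even_two, n.ne_zero⟩)) hF
  set P := closure ({x, y} : Set PGL(2, F))
  have hxP : x ∈ P := subset_closure (by simp)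
  have hyP : y ∈ P := subset_closure (by simp)
  have hne : P ≠ ⊥ := fun e => hx (by rw [e, mem_bot] at hxP; rw [hxP, one_mul])
  obtain ⟨⟨w, hw, hwc⟩, h1⟩ := ne_bot_iff_exists_ne_one.1
    (inf_centralizer_ne_bot hp hp le_normalizer hne)
  have h1' : w ≠ 1 := fun e => h1 (Subtype.ext e)
  obtain ⟨k, hk⟩ := isPGroup_iff_forall_mem.1 hp w hw
  obtain ⟨a, b, hab, hm⟩ := exists_mem_pairT_of_not_dvd (algebraMap F (AlgebraicClosure F)) p h1'
    fun e => hp2 ((Nat.prime_dvd_prime_iff_eq hpp Nat.prime_two).1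
      (hpp.dvd_of_dvd_pow (e.trans (orderOf_dvd_of_pow_eq_one hk))))
  have hi := mapG_injective (algebraMap F (AlgebraicClosure F))
  have hN : ∀ g ∈ P, g ∈ pairN (mapG (algebraMap F (AlgebraicClosure F))) a b := fun g hg =>
    mem_pairN_of_conj hi hab hm h1' (by rw [mul_assoc, ← hwc g hg, inv_mul_cancel_left]; exact hm)
  have hxT : x ∈ pairT (mapG (algebraMap F (AlgebraicClosure F))) a b := by
    by_contra e
    exact hx (mul_self_eq_one_of_mem_pairN hi hab (hN x hxP) e)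
  by_cases hy : y ∈ pairT (mapG (algebraMap F (AlgebraicClosure F))) a b
  · left
    have := isCyclic_pairT hi hab
    rw [setLike_mul_comm (s := pairT _ a b) hy hxT, mul_inv_cancel_right]
  · exact Or.inr (conj_eq_inv_of_mem_pairN hi hab (hN y hyP) hy hxT)

theorem dih_four : Dih (Equiv.Perm (Fin 4)) := by
  intro x y hp hx
  have k1 : ∀ g : Equiv.Perm (Fin 4), g ^ 12 = 1 := by decide +kernel
  have k2 : ∀ x y : Equiv.Perm (Fin 4), y ^ 4 ≠ 1 ∨ (x * y) ^ 4 ≠ 1 ∨ x ^ 4 ≠ 1 ∨ x * x = 1 ∨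
      y * x * y⁻¹ = x ∨ y * x * y⁻¹ = x⁻¹ := by decide +kernel
  have k3 : ∀ g ∈ closure ({x, y} : Set (Equiv.Perm (Fin 4))), g ^ 4 = 1 := fun g hg => by
    obtain ⟨k, hk⟩ := isPGroup_iff_forall_mem.1 hp g hg
    obtain ⟨j, -, hj⟩ := (Nat.dvd_prime_pow Nat.prime_two).1 (orderOf_dvd_of_pow_eq_one hk)
    have h2 := orderOf_dvd_of_pow_eq_one (k1 g)
    rw [← orderOf_dvd_iff_pow_eq_one, hj]
    rw [hj] at h2
    exact (Nat.Coprime.pow_left j (by norm_num : Nat.Coprime 2 3)).dvd_of_dvd_mul_left h2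
  have hxP : x ∈ closure ({x, y} : Set (Equiv.Perm (Fin 4))) := subset_closure (by simp)
  have hyP : y ∈ closure ({x, y} : Set (Equiv.Perm (Fin 4))) := subset_closure (by simp)
  have := k2 x y
  simp only [k3 y hyP, k3 _ (mul_mem hxP hyP), k3 x hxP, hx, ne_eq, not_true, false_or] at this
  exact this

theorem dih_perm {Ω : Type*} [Finite Ω] (h : Nat.card Ω ≤ 4) : Dih (Equiv.Perm Ω) := by
  have := Fintype.ofFinite Ω
  obtain ⟨ι⟩ : Nonempty (Ω ↪ Fin 4) := Function.Embedding.nonempty_of_card_le (by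
    rwa [Fintype.card_fin, ← Nat.card_eq_fintype_card])
  exact dih_four.of_injective _ (Equiv.Perm.viaEmbeddingHom_injective ι)

end Dih

variable {G : Type*} [Group G]

theorem cyc_eq [IsCyclic G] {u w : G} (hu : u * u = 1) (hw : w * w = 1) (h1 : u ≠ 1) (h2 : w ≠ 1) :
    u = w := by
  obtain ⟨g, hg⟩ := IsCyclic.exists_generator (α := G)
  obtain ⟨i, rfl⟩ := hg u
  obtain ⟨j, rfl⟩ := hg w
  simp only [← zpow_add, ← orderOf_dvd_iff_zpow_eq_one, ne_eq] at hu hw h1 h2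
  change g ^ i = g ^ j
  rw [← orderOf_dvd_sub_iff_zpow_eq_zpow]
  obtain ⟨c, hc⟩ := hu
  obtain ⟨d, hd⟩ := hw
  have k : ∀ {i c : ℤ}, i + i = orderOf g * c → ¬ (orderOf g : ℤ) ∣ i → Odd c := fun {i c} e h => by
    rcases Int.even_or_odd c with ⟨m, rfl⟩ | h'
    · exact absurd ⟨m, by linarith⟩ h
    · exact h'
  obtain ⟨m, rfl⟩ := k hc h1
  obtain ⟨l, rfl⟩ := k hd h2
  exact ⟨m - l, by linarith⟩

theorem cyc_eq' {C : Subgroup G} [IsCyclic C] {u w : G} (hu' : u ∈ C) (hw' : w ∈ C) (hu : u * u = 1)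
    (hw : w * w = 1) (h1 : u ≠ 1) (h2 : w ≠ 1) : u = w :=
  congrArg Subtype.val (cyc_eq (G := C) (u := ⟨u, hu'⟩) (w := ⟨w, hw'⟩) (Subtype.ext hu)
    (Subtype.ext hw) (fun e => h1 (congrArg Subtype.val e)) fun e => h2 (congrArg Subtype.val e))

theorem eq_one_of_odd (hG : IsPGroup 2 G) {x : G} {i : ℤ} (hi : Odd i) (h : x ^ i = 1) : x = 1 :=
  mem_bot.1 (mem_of_zpow_odd hG hi (H := ⊥) (mem_bot.2 h))

/-- in a metacyclic 2-group an involution which is a square lies in every four-group -/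
theorem sq_mem_four [Finite G] (hG : IsPGroup 2 G) (hm : IsMetacyclic G) {s : G}
    (hs : s * s * (s * s) = 1) (h1 : s * s ≠ 1) {V : Subgroup G} (hV : ∀ v ∈ V, v * v = 1)
    (h4 : 2 < Nat.card V) : s * s ∈ V := by
  obtain ⟨N, hN, hc, hq⟩ := hm
  obtain ⟨v, hv, hvN⟩ : ∃ v ∈ V, v ∉ N := by
    by_contra h
    push Not at h
    have := isCyclic_of_injective _ (inclusion_injective (show V ≤ N from h))
    exact absurd (Nat.le_of_dvd two_pos (MC.card_dvd_of_cyclic V (m := 2) fun x hx => by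
      rw [sq, hV x hx])) (by omega)
  obtain ⟨n0, hn0, hn0N, hn1⟩ : ∃ n0 ∈ V, n0 ∈ N ∧ n0 ≠ 1 := by
    by_contra h
    push Not at h
    have := isCyclic_of_injective ((QuotientGroup.mk' N).comp V.subtype)
      ((injective_iff_map_eq_one _).2 fun x hx =>
        Subtype.ext (h x x.2 ((QuotientGroup.eq_one_iff _).1 hx)))
    exact absurd (Nat.le_of_dvd two_pos (MC.card_dvd_of_cyclic V (m := 2) fun x hx => by
      rw [sq, hV x hx])) (by omega)
  have key : ∀ m ∈ N, m * m = 1 → m ∈ V := fun m hm e => by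
    by_cases h : m = 1
    · rw [h]; exact one_mem _
    · rw [cyc_eq' hm hn0N e (hV _ hn0) h hn1]; exact hn0
  by_cases ht : s * s ∈ N
  · exact key _ ht hs
  have e1 : ((s * s : G) : G ⧸ N) = (v : G ⧸ N) :=
    cyc_eq (by rw [← QuotientGroup.mk_mul, hs, QuotientGroup.mk_one])
      (by rw [← QuotientGroup.mk_mul, hV v hv, QuotientGroup.mk_one])
      (fun e => ht ((QuotientGroup.eq_one_iff _).1 e)) fun e => hvN ((QuotientGroup.eq_one_iff _).1 e)
  have hmN := QuotientGroup.eq.1 e1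
  set m := (s * s)⁻¹ * v with hm
  obtain ⟨j, hj⟩ := MC.conj_mem_of_le_cyclic (D := zpowers m) (zpowers_le.2 hmN) (g := s)
    (fun c hc => hN.conj_mem c hc s) (mem_zpowers m)
  have hj' : s * m * s⁻¹ = m ^ j := hj.symm
  have e2 : m ^ (j * j + 1) = 1 := by
    have hv' : v = s * s * m := by rw [hm, mul_inv_cancel_left]
    have e3 := hV v hv
    have e4 : (s * s)⁻¹ = s * s := inv_eq_of_mul_eq_one_right hs
    rw [zpow_add, zpow_one, zpow_mul, ← hj', conj_zpow, ← hj', ← e3, hv']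
    calc s * (s * m * s⁻¹) * s⁻¹ * m = s * s * m * (s * s)⁻¹ * m := by group
      _ = _ := by rw [e4]; group
  have e5 : m * m = 1 := by
    rcases Int.even_or_odd' j with ⟨c, rfl | rfl⟩
    · rw [eq_one_of_odd hG (i := 2 * c * (2 * c) + 1) ⟨2 * c * c, by ring⟩ e2, one_mul]
    · refine eq_one_of_odd hG (i := 2 * (c * c + c) + 1) ⟨_, rfl⟩ ?_
      rw [← zpow_two, ← zpow_mul, ← e2]; congr 1; ring
  have : s * s = v * m⁻¹ := by rw [hm, mul_inv_rev, inv_inv, mul_inv_cancel_left]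
  rw [this]
  exact mul_mem hv (inv_mem (key m hmN e5))

theorem meta_of_norm [Finite G] {x y : G} (h : BicOn ⊤ x y) (hn : y * x * y⁻¹ ∈ zpowers x) :
    IsMetacyclic G := by
  have hy : y ∈ normalizer ((zpowers x : Subgroup G) : Set G) :=
    mem_normalizer_of_cj_le (by rw [cj_zpowers]; exact zpowers_le.2 hn)
  have hN : (zpowers x).Normal := normalizer_eq_top_iff.1 (eq_top_iff.2 fun g _ => by
    obtain ⟨i, j, rfl⟩ := h.eq g trivial
    exact mul_mem (le_normalizer (zpow_mem_zpowers x i)) (zpow_mem hy j))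
  refine ⟨zpowers x, hN, inferInstance, ⟨⟨(y : G ⧸ zpowers x), fun q => ?_⟩⟩⟩
  obtain ⟨g, rfl⟩ := QuotientGroup.mk_surjective q
  obtain ⟨i, j, rfl⟩ := h.eq g trivial
  refine ⟨j, ?_⟩
  rw [QuotientGroup.mk_mul, (QuotientGroup.eq_one_iff _).2 (zpow_mem_zpowers x i), one_mul]
  rfl

theorem sq_ne_one [Finite G] {x y : G} (h : BicOn ⊤ x y) (hn : ¬ IsMetacyclic G) : y * y ≠ 1 := by
  intro e
  refine hn (meta_of_norm h ?_)
  obtain ⟨i, j, hij⟩ := h.eq (y * x * y⁻¹) trivial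
  have e2 : ∀ c : ℤ, y ^ (2 * c) = 1 := fun c => by rw [zpow_mul, zpow_two, e, one_zpow]
  rcases Int.even_or_odd' j with ⟨c, rfl | rfl⟩
  · rw [hij, e2, mul_one]; exact zpow_mem_zpowers x i
  · rw [zpow_add, e2, one_mul, zpow_one, inv_eq_of_mul_eq_one_right e, mul_left_inj] at hij
    have : y ∈ zpowers x := by
      rw [eq_mul_inv_of_mul_eq hij]
      exact mul_mem (zpow_mem_zpowers x i) (inv_mem (mem_zpowers x))
    exact mul_mem (mul_mem this (mem_zpowers x)) (inv_mem this)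

theorem not_meta {E : Subgroup G} (hE : ∀ e ∈ E, e * e = 1) (h4 : 4 < Nat.card E) :
    ¬ IsMetacyclic G := fun h =>
  absurd (Nat.le_of_dvd (by norm_num) (MC.card_dvd_sq h E (m := 2) fun x hx => by rw [sq, hE x hx]))
    (by omega)

theorem card_le_inf [Finite G] {M : Subgroup G} (hM : M.index = 2) (E : Subgroup G) :
    Nat.card E ≤ 2 * Nat.card (E.subgroupOf M) := by
  have := normal_of_index_eq_two hM
  have h2 : M.relIndex E ∣ 2 := hM ▸ relIndex_dvd_index_of_normal _ E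
  have h3 := (M.subgroupOf E).index_mul_card
  have h4 : Nat.card (M.subgroupOf E) = Nat.card (E.subgroupOf M) := by
    rw [← inf_subgroupOf_right, Nat.card_congr (subgroupOfEquivOfLe inf_le_right).toEquiv,
      ← inf_subgroupOf_right E, Nat.card_congr (subgroupOfEquivOfLe inf_le_right).toEquiv, inf_comm]
  rw [← h3, h4]
  exact Nat.mul_le_mul_right _ (Nat.le_of_dvd two_pos h2)

theorem exists_max [Finite G] (hG : IsPGroup 2 G) {x y : G} (h : BicOn ⊤ x y) (hn : ¬ IsMetacyclic G) :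
    ∃ M : Subgroup G, M.index = 2 ∧ y ∈ M ∧ x ∉ M ∧ IsMetacyclic M := by
  obtain ⟨M, hM, h2⟩ := exists_index_two hG (A := zpowers y) fun e =>
    hn (meta_of_norm h.symm (e ▸ mem_top _))
  have hy := hM (mem_zpowers y)
  refine ⟨M, h2, hy, fun hx => ?_, h.symm.metacyclic_max hG hn h2 hy⟩
  have : M = ⊤ := eq_top_iff.2 fun g _ => by
    obtain ⟨i, j, rfl⟩ := h.eq g trivial
    exact mul_mem (zpow_mem hx i) (zpow_mem hy j)
  rw [this, index_top] at h2
  omega

/-- a bicyclic 2-group has rank at most three -/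
theorem card_le_eight [Finite G] (hG : IsPGroup 2 G) {x y : G} (h : BicOn ⊤ x y) {E : Subgroup G}
    (hE : ∀ e ∈ E, e * e = 1) : Nat.card E ≤ 8 := by
  by_contra hc
  obtain ⟨M, h2, -, -, hm⟩ := exists_max hG h (not_meta hE (by omega))
  have := card_le_inf h2 E
  exact not_meta (E := E.subgroupOf M) (fun e he => Subtype.ext (hE _ he)) (by omega) hm

theorem comm_of_sq {E : Subgroup G} (hE : ∀ e ∈ E, e * e = 1) {a b : G} (ha : a ∈ E) (hb : b ∈ E) :
    a * b = b * a := by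
  rw [← inv_eq_of_mul_eq_one_right (hE _ (mul_mem ha hb)), mul_inv_rev,
    inv_eq_of_mul_eq_one_right (hE _ ha), inv_eq_of_mul_eq_one_right (hE _ hb)]

/-- in rank three the involution of `⟨y⟩` is central -/
theorem comm_of_rank [Finite G] (hG : IsPGroup 2 G) {x y : G} (h : BicOn ⊤ x y) {E : Subgroup G}
    (hE : ∀ e ∈ E, e * e = 1) (h4 : 4 < Nat.card E) {t : G} (ht : t ∈ zpowers y) (h2 : t * t = 1) :
    t * x = x * t := by
  by_cases h1 : t = 1
  · rw [h1, one_mul, mul_one]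
  have hn := not_meta hE h4
  obtain ⟨M, hM, hy, hx, hm⟩ := exists_max hG h hn
  obtain ⟨e, he, heM⟩ : ∃ e ∈ E, e ∉ M := by
    by_contra hc
    push Not at hc
    exact not_meta (E := E.subgroupOf M) (fun e he => Subtype.ext (hE _ he))
      (by rwa [Nat.card_congr (subgroupOfEquivOfLe (show E ≤ M from hc)).toEquiv]) hm
  obtain ⟨k, rfl⟩ := ht
  change y ^ k * x = x * y ^ k
  change y ^ k * y ^ k = 1 at h2
  change ¬ y ^ k = 1 at h1
  obtain ⟨c, rfl⟩ : Even k := by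
    by_contra hk
    refine sq_ne_one h hn (eq_one_of_odd hG (Int.not_even_iff_odd.1 hk) ?_)
    rw [← h2, (Commute.refl y).mul_zpow]
  have := card_le_inf hM E
  have ht : y ^ (c + c) ∈ E := by
    have := sq_mem_four (hG.to_subgroup M) hm (s := ⟨y ^ c, zpow_mem hy c⟩)
      (Subtype.ext (by simpa [← zpow_add] using h2))
      (fun e => h1 (by simpa [← zpow_add] using congrArg Subtype.val e)) (V := E.subgroupOf M)
      (fun e he => Subtype.ext (hE _ he)) (by omega)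
    rw [zpow_add]; exact this
  obtain ⟨i, j, rfl⟩ := h.eq e trivial
  have hi : Odd i := Int.not_even_iff_odd.1 fun a =>
    heM (mul_mem ((zpow_mem_iff hM hx i).2 a) (zpow_mem hy j))
  have e1 := comm_of_sq hE he ht
  have e2 : x ^ i ∈ centralizer ({y ^ (c + c)} : Set G) := by
    rw [mem_centralizer_singleton_iff]
    refine mul_right_cancel (b := y ^ j) ?_
    rw [mul_assoc (y ^ (c + c)), ← e1]; group
  exact (mem_centralizer_singleton_iff.1 (mem_of_zpow_odd hG hi e2)).symm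

/-- the involutions of the bicyclic group when `y` inverts `x` modulo a central element -/
theorem inv_cases [Finite G] (hG : IsPGroup 2 G) {x y : G} (h : BicOn ⊤ x y) (hn : ¬ IsMetacyclic G)
    (hd : ∀ g ∈ zpowers x, g ∈ zpowers y → g = 1) {k : G} (hk : k ∈ zpowers y) (hkx : k * x = x * k)
    (he : y * x * y⁻¹ = x * k ∨ y * x * y⁻¹ = x⁻¹ * k) {z t : G} (hz : z ∈ zpowers x) (hz1 : z ≠ 1)
    (hz2 : z * z = 1) (ht : t ∈ zpowers y) (ht1 : t ≠ 1) (ht2 : t * t = 1) :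
    ∃ u₁ u₂ : G, (∀ g : G, g * g = 1 → g ≠ 1 → (g = z ∨ g = t ∨ g = z * t) ∨ IsConj g u₁ ∨ IsConj g u₂) ∧
      ∀ g : G, g * g = 1 → g ≠ 1 → (∀ w, g * w = w * g) → g = z ∨ g = t ∨ g = z * t := by
  have hxy : y * x ≠ x * y := fun e =>
    hn (meta_of_norm h (by rw [e, mul_inv_cancel_right]; exact mem_zpowers x))
  rcases he with he | he
  · refine absurd (meta_of_norm h.symm ?_) hn
    have : x * y * x⁻¹ = k⁻¹ * y := by
      calc x * y * x⁻¹ = x * (y * x * y⁻¹)⁻¹ * y := by group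
        _ = _ := by rw [he, ← hkx]; group
    rw [this]
    exact mul_mem (inv_mem hk) (mem_zpowers y)
  obtain ⟨m0, rfl⟩ := hk
  change y ^ m0 * x = x * y ^ m0 at hkx
  change y * x * y⁻¹ = x⁻¹ * y ^ m0 at he
  obtain ⟨m, rfl⟩ : ∃ m, m0 = 2 * m := by
    rcases Int.even_or_odd' m0 with ⟨m, e | e⟩
    · exact ⟨m, e⟩
    · exact absurd (mem_centralizer_singleton_iff.1 (mem_of_zpow_odd hG ⟨m, e⟩
        (mem_centralizer_singleton_iff.2 hkx))) hxy
  have c1 : Commute (y ^ (2 : ℤ)) x := by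
    change y ^ (2 : ℤ) * x = x * y ^ (2 : ℤ)
    calc y ^ (2 : ℤ) * x = y * (y * x * y⁻¹) * y := by rw [zpow_two]; group
      _ = (y * x * y⁻¹)⁻¹ * y ^ (2 * m) * y ^ (2 : ℤ) := by
        conv_lhs => rw [he]
        group
      _ = _ := by rw [he, mul_inv_rev, inv_inv, mul_assoc _ x, ← hkx]; group
  have c2 : ∀ l i : ℤ, y ^ (2 * l) * x ^ i = x ^ i * y ^ (2 * l) := fun l i => by
    rw [zpow_mul]; exact (c1.zpow_zpow l i).eq
  have c3 : ∀ i : ℤ, y * x ^ i = x ^ (-i) * y ^ (2 * (m * i) + 1) := fun i => by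
    have : Commute x⁻¹ (y ^ (2 * m)) := (show Commute x (y ^ (2 * m)) from hkx.symm).inv_left
    calc y * x ^ i = (y * x * y⁻¹) ^ i * y := by rw [conj_zpow]; group
      _ = _ := by rw [he, this.mul_zpow]; group
  have c4 : ∀ i l : ℤ, x ^ i * y ^ (2 * l + 1) * (x ^ i * y ^ (2 * l + 1)) =
      y ^ (2 * (2 * l + 1 + m * i)) := fun i l => by
    calc _ = x ^ i * y ^ (2 * l) * (y * x ^ i) * y ^ (2 * l + 1) := by group
      _ = x ^ i * (y ^ (2 * l) * x ^ (-i)) * y ^ (2 * (m * i) + 1) * y ^ (2 * l + 1) := by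
        rw [c3]; group
      _ = _ := by rw [c2]; group
  have key : ∀ g : G, g * g = 1 → g ≠ 1 → (g = z ∨ g = t ∨ g = z * t) ∨
      ∃ l : ℤ, y ^ (2 * (2 * l + 1 + m)) = 1 ∧ IsConj g (x * y ^ (2 * l + 1)) := by
    intro g hg h1
    obtain ⟨i, j, rfl⟩ := h.eq g trivial
    rcases Int.even_or_odd' j with ⟨l, rfl | rfl⟩
    · left
      have e1 : x ^ i * x ^ i * (y ^ (2 * l) * y ^ (2 * l)) = 1 := by
        rw [← hg, mul_assoc, mul_assoc, ← mul_assoc (y ^ _) (x ^ i), c2, mul_assoc]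
      have e2 : x ^ i * x ^ i = 1 := hd _ (mul_mem (zpow_mem_zpowers x i) (zpow_mem_zpowers x i)) (by
        rw [eq_inv_of_mul_eq_one_left e1]
        exact inv_mem (mul_mem (zpow_mem_zpowers y _) (zpow_mem_zpowers y _)))
      rw [e2, one_mul] at e1
      by_cases a : x ^ i = 1 <;> by_cases b : y ^ (2 * l) = 1
      · exact absurd (by rw [a, b, one_mul]) h1
      · rw [a, one_mul, cyc_eq' (zpow_mem_zpowers y _) ht e1 ht2 b ht1]; tauto
      · rw [b, mul_one, cyc_eq' (zpow_mem_zpowers x _) hz e2 hz2 a hz1]; tauto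
      · rw [cyc_eq' (zpow_mem_zpowers y _) ht e1 ht2 b ht1,
          cyc_eq' (zpow_mem_zpowers x _) hz e2 hz2 a hz1]; tauto
    · right
      rw [c4] at hg
      obtain ⟨r, rfl⟩ : ∃ r, i = 2 * r + 1 := by
        rcases Int.even_or_odd' i with ⟨r, rfl | e⟩
        · refine absurd (eq_one_of_odd hG (i := 2 * (l + m * r) + 1) ⟨_, rfl⟩ ?_) (sq_ne_one h hn)
          rw [← zpow_two, ← zpow_mul, ← hg]; congr 1; ring
        · exact ⟨r, e⟩
      refine ⟨l + m * r, by rw [← hg]; congr 1; ring, isConj_iff.2 ⟨x ^ (-r), ?_⟩⟩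
      calc _ = x ^ (r + 1) * y ^ (2 * l) * (y * x ^ r) := by group
        _ = x ^ (r + 1) * (y ^ (2 * l) * x ^ (-r)) * y ^ (2 * (m * r) + 1) := by rw [c3]; group
        _ = _ := by rw [c2]; group
  have fin : ∀ g : G, g * g = 1 → g ≠ 1 → (∀ w, g * w = w * g) → g = z ∨ g = t ∨ g = z * t := by
    intro g hg h1 hc
    refine (key g hg h1).resolve_right ?_
    rintro ⟨l, -, e⟩
    obtain ⟨c, e⟩ := isConj_iff.1 e
    rw [← hc c, mul_inv_cancel_right] at e
    have e2 := hc y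
    rw [e, mul_assoc, ← mul_assoc y, ← (Commute.refl y).zpow_right (2 * l + 1) |>.eq, ← mul_assoc,
      mul_left_inj] at e2
    exact hxy e2.symm
  by_cases hex : ∃ l : ℤ, y ^ (2 * (2 * l + 1 + m)) = 1
  · obtain ⟨l0, h0⟩ := hex
    refine ⟨x * y ^ (2 * l0 + 1), x * y ^ (2 * l0 + 1) * t, fun g hg h1 => ?_, fin⟩
    refine (key g hg h1).imp_right ?_
    rintro ⟨l, hl, e⟩
    have e1 : y ^ (2 * (l - l0)) * y ^ (2 * (l - l0)) = 1 := by
      calc _ = y ^ (2 * (2 * l + 1 + m)) * (y ^ (2 * (2 * l0 + 1 + m)))⁻¹ := by group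
        _ = 1 := by rw [hl, h0, inv_one, mul_one]
    have e2 : x * y ^ (2 * l + 1) = x * y ^ (2 * l0 + 1) * y ^ (2 * (l - l0)) := by group
    by_cases b : y ^ (2 * (l - l0)) = 1
    · left; rwa [e2, b, mul_one] at e
    · right; rwa [e2, cyc_eq' (zpow_mem_zpowers y _) ht e1 ht2 b ht1] at e
  · exact ⟨1, 1, fun g hg h1 => Or.inl ((key g hg h1).resolve_right fun ⟨l, hl, _⟩ => hex ⟨l, hl⟩), fin⟩

end CL.CycZ
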