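import Mathlib
import Cfsg.Agent.PERM.CycZ1
import Cfsg.Agent.SOLV.Core

/-!
The Z*-theorem against three central involutions; Sylow subgroups of a product of a cyclic group and
a Z-group; doubly transitive groups with a cyclic regular subgroup and Z-groups as point stabilizers.
-/

set_option autoImplicit false

namespace CL.CycZ

open Subgroup Cfsg CL.MSS CL.Bic MulAction

variable {G : Type*} [Group G]

theorem not_conj_third [Finite G] (T : Sylow 2 G) {z t : G} (hz : z ∈ T) (ht : t ∈ T) (hz1 : z ≠ 1)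
    (ht1 : t ≠ 1) (ht2 : t * t = 1) (hzc : ∀ w ∈ T, z * w = w * z) (htc : ∀ w ∈ T, t * w = w * t)
    (hc : ¬ IsConj t z)
    (h2 : ∀ g ∈ T, g * g = 1 → g ≠ 1 → (∀ w ∈ T, g * w = w * g) → g = z ∨ g = t ∨ g = z * t) :
    ¬ IsConj (z * t) t := by
  intro h
  obtain ⟨g, hg⟩ := isConj_iff.1 h
  obtain ⟨n, hn, e⟩ := T.conj_eq_normalizer_conj_of_mem_centralizer (z * t) g⁻¹
    (fun w hw => by rw [← mul_assoc, ← hzc w hw, mul_assoc, ← htc w hw, mul_assoc])
    (by rw [inv_inv, hg]; exact fun w hw => (htc w hw).symm)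
  rw [inv_inv, hg] at e
  have hn' : n ∈ normalizer ((T : Subgroup G) : Set G) := hn
  have hm : ∀ w ∈ T, n⁻¹ * w * n ∈ T := fun w hw => (mem_normalizer_iff''.1 hn' w).1 hw
  have e2 : n⁻¹ * t * n = z * t := by
    rcases h2 _ (hm t ht) (by
        calc _ = n⁻¹ * (t * t) * n := by group
          _ = 1 := by rw [ht2]; group) (fun a => ht1 (by
        calc t = n * (n⁻¹ * t * n) * n⁻¹ := by group
          _ = 1 := by rw [a]; group)) (fun w hw => by
        have := htc _ ((mem_normalizer_iff.1 hn' w).1 hw)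
        calc _ = n⁻¹ * (t * (n * w * n⁻¹)) * n := by group
          _ = _ := by rw [this]; group) with a | a | a
    · exact absurd (isConj_iff.2 ⟨n⁻¹, by rwa [inv_inv]⟩) hc
    · exact absurd (by simpa using e.symm.trans a.symm) hz1
    · exact a
  have e3 : ∀ k : ℕ, (n ^ (2 * k + 1))⁻¹ * t * n ^ (2 * k + 1) = z * t := by
    intro k
    induction k with
    | zero => simpa using e2
    | succ k ih =>
      calc _ = n⁻¹ * (n⁻¹ * ((n ^ (2 * k + 1))⁻¹ * t * n ^ (2 * k + 1)) * n) * n := by group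
        _ = _ := by rw [ih, ← e, e2]
  have := normal_in_normalizer (H := (T : Subgroup G))
  have e4 : n ^ (T : Subgroup G).relIndex (normalizer ((T : Subgroup G) : Set G)) ∈ (T : Subgroup G) :=
    pow_index_mem ((T : Subgroup G).subgroupOf (normalizer ((T : Subgroup G) : Set G))) ⟨n, hn'⟩
  obtain ⟨k, hk⟩ : Odd ((T : Subgroup G).relIndex (normalizer ((T : Subgroup G) : Set G))) :=
    Nat.not_even_iff_odd.1 fun a => (sylIn_sylow T le_normalizer).not_dvd_relIndex a.two_dvd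
  rw [hk] at e4
  have e5 := e3 k
  rw [mul_assoc, htc _ e4, inv_mul_cancel_left] at e5
  exact hz1 (right_eq_mul.1 e5)

theorem exists_conj_ne [Finite G] (hO : oddCore G = ⊥) (hZ : center G = ⊥) (T : Sylow 2 G) {w : G}
    (hw1 : w ≠ 1) (hw2 : w * w = 1) (hwc : ∀ g ∈ T, w * g = g * w) :
    ∃ g ∈ T, g ≠ w ∧ IsConj w g := by
  have ho : orderOf w = 2 := orderOf_eq_prime (by rw [sq, hw2]) hw1
  by_contra hc
  push Not at hc
  refine hw1 (mem_bot.1 (hZ ▸ BS.zstar_center ⟨ho, fun g hg => ?_⟩ hO))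
  have hT : SylIn 2 T (centralizer ({w} : Set G)) := sylIn_sylow T fun x hx =>
    mem_centralizer_singleton_iff.2 (hwc x hx).symm
  obtain ⟨c, hc', e⟩ := hT.exists_conj_le (R := zpowers (g * w * g⁻¹))
    (isPGroup_zpowers (k := 1) (by rw [conj_pow, pow_one, sq, hw2]; group))
    (zpowers_le.2 (mem_centralizer_singleton_iff.2 hg.eq.symm))
  have e1 := e (conj_mem_cj (mem_zpowers _))
  by_contra hne
  refine hc _ e1 (fun a => hne ?_) (isConj_iff.2 ⟨c * g, by group⟩)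
  calc g * w * g⁻¹ = c⁻¹ * (c * (g * w * g⁻¹) * c⁻¹) * c := by group
    _ = w := by rw [a, mul_assoc, ← mem_centralizer_singleton_iff.1 hc', inv_mul_cancel_left]

theorem zstar_false [Finite G] (hO : oddCore G = ⊥) (hZ : center G = ⊥) (T : Sylow 2 G) {z t : G}
    (hz : z ∈ T) (ht : t ∈ T) (hz1 : z ≠ 1) (hz2 : z * z = 1) (ht1 : t ≠ 1) (ht2 : t * t = 1)
    (hzc : ∀ w ∈ T, z * w = w * z) (htc : ∀ w ∈ T, t * w = w * t) (hc : ¬ IsConj t z) {u₁ u₂ : G}
    (h1 : ∀ g ∈ T, g * g = 1 → g ≠ 1 → (g = z ∨ g = t ∨ g = z * t) ∨ IsConj g u₁ ∨ IsConj g u₂)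
    (h2 : ∀ g ∈ T, g * g = 1 → g ≠ 1 → (∀ w ∈ T, g * w = w * g) → g = z ∨ g = t ∨ g = z * t) :
    False := by
  have a1 := not_conj_third T hz ht hz1 ht1 ht2 hzc htc hc h2
  have a2 := not_conj_third T ht hz ht1 hz1 hz2 htc hzc (fun e => hc e.symm) fun g hg b c d => by
    rw [← hzc t ht]; have := h2 g hg b c d; tauto
  rw [← hzc t ht] at a2
  have key : ∀ w, w ≠ 1 → w * w = 1 → (∀ g ∈ T, w * g = g * w) →
      (∀ g, IsConj w g → g = z ∨ g = t ∨ g = z * t → g = w) → IsConj w u₁ ∨ IsConj w u₂ := by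
    intro w b1 b2 b3 b4
    obtain ⟨g, hg, hne, e⟩ := exists_conj_ne hO hZ T b1 b2 b3
    obtain ⟨c, rfl⟩ := isConj_iff.1 e
    rcases h1 _ hg (by
        calc _ = c * (w * w) * c⁻¹ := by group
          _ = 1 := by rw [b2]; group) (by simpa using b1) with a | a | a
    · exact absurd (b4 _ e a) hne
    · exact Or.inl (e.trans a)
    · exact Or.inr (e.trans a)
  have k1 := key z hz1 hz2 hzc (by
    rintro g e (rfl | rfl | rfl)
    exacts [rfl, absurd e.symm hc, absurd e.symm a2])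
  have k2 := key t ht1 ht2 htc (by
    rintro g e (rfl | rfl | rfl)
    exacts [absurd e hc, rfl, absurd e.symm a1])
  have k3 := key (z * t) (fun e => hc (by
      rw [eq_inv_of_mul_eq_one_left e, inv_eq_of_mul_eq_one_right ht2]))
    (by rw [mul_assoc, ← mul_assoc t, ← hzc t ht, mul_assoc, ht2, mul_one, hz2])
    (fun w hw => by rw [mul_assoc, htc w hw, ← mul_assoc, hzc w hw, mul_assoc]) (by
    rintro g e (rfl | rfl | rfl)
    exacts [absurd e a2, absurd e a1, rfl])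
  rcases k1 with k1 | k1 <;> rcases k2 with k2 | k2 <;> rcases k3 with k3 | k3 <;>
    first | exact hc (k2.trans k1.symm) | exact a1 (k3.trans k2.symm) | exact a2 (k3.trans k1.symm)

/-- `G` is the product of `⟨a⟩` and the Z-group `B` -/
structure Fac (a : G) (B : Subgroup G) : Prop where
  zg : IsZGroup B
  eq : ∀ g : G, ∃ i : ℤ, ∃ b ∈ B, g = a ^ i * b

theorem Fac.exists_bic [Finite G] {a : G} {B : Subgroup G} (h : Fac a B) (p : ℕ) [Fact p.Prime] :
    ∃ (T : Sylow p G) (x y : T), SylIn p (zpowers (x : G)) (zpowers a) ∧ (y : G) ∈ B ∧ BicOn ⊤ x y := by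
  obtain ⟨P, Q, T, e⟩ := Cfsg.Agent.S0560.result (zpowers a) B (fun g => by
    obtain ⟨i, b, hb, e⟩ := h.eq g
    exact ⟨_, zpow_mem_zpowers a i, b, hb, e⟩) p
  have := h.zg
  have hP := sylIn_map_subtype P
  have hQ := sylIn_map_subtype Q
  have : IsCyclic ((P : Subgroup (zpowers a)).map (zpowers a).subtype) :=
    isCyclic_of_surjective _ (MonoidHom.subgroupMap_surjective _ _)
  have : IsCyclic ((Q : Subgroup B).map B.subtype) :=
    isCyclic_of_surjective _ (MonoidHom.subgroupMap_surjective _ _)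
  obtain ⟨x, hx⟩ := MC.exists_eq_zpowers ((P : Subgroup (zpowers a)).map (zpowers a).subtype)
  obtain ⟨y, hy⟩ := MC.exists_eq_zpowers ((Q : Subgroup B).map B.subtype)
  rw [hx, hy] at e
  rw [hx] at hP
  rw [hy] at hQ
  have hm : ∀ g : G, g ∈ (T : Subgroup G) ↔ ∃ i j : ℤ, g = x ^ i * y ^ j := fun g => by
    rw [← SetLike.mem_coe, e, Set.mem_mul]
    exact ⟨fun ⟨_, ⟨i, hi⟩, _, ⟨j, hj⟩, e⟩ => ⟨i, j, by rw [← e, ← hi, ← hj]⟩,
      fun ⟨i, j, e⟩ => ⟨_, zpow_mem_zpowers x i, _, zpow_mem_zpowers y j, e.symm⟩⟩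
  refine ⟨T, ⟨x, (hm x).2 ⟨1, 0, by simp⟩⟩, ⟨y, (hm y).2 ⟨0, 1, by simp⟩⟩, hP, hQ.le (mem_zpowers y),
    trivial, trivial, fun g _ => ?_⟩
  obtain ⟨i, j, e⟩ := (hm g).1 g.2
  exact ⟨i, j, Subtype.ext e⟩

theorem exists_conj_sub [Finite G] {p : ℕ} [Fact p.Prime] (T : Sylow p G) {E : Subgroup G} {m : ℕ}
    (hE : ∀ e ∈ E, e ^ p ^ m = 1) :
    ∃ E' : Subgroup T, Nat.card E' = Nat.card E ∧ ∀ e ∈ E', e ^ p ^ m = 1 := by
  obtain ⟨c, -, hc⟩ := (sylIn_top T).exists_conj_le (isPGroup_iff_forall_mem.2 fun e he => ⟨m, hE e he⟩)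
    le_top
  refine ⟨(c •ᶜ E).subgroupOf T, by rw [Nat.card_congr (subgroupOfEquivOfLe hc).toEquiv, card_cj],
    fun e he => Subtype.ext ?_⟩
  obtain ⟨g, hg, e'⟩ := mem_cj'.1 he
  change ((T : Subgroup G).subtype e) ^ p ^ m = 1
  rw [← e', conj_pow, hE g hg]; group

theorem Fac.card_le_eight [Finite G] {a : G} {B : Subgroup G} (h : Fac a B) {E : Subgroup G}
    (hE : ∀ e ∈ E, e * e = 1) : Nat.card E ≤ 8 := by
  obtain ⟨T, x, y, -, -, hb⟩ := h.exists_bic 2
  obtain ⟨E', e, hE'⟩ := exists_conj_sub T (E := E) (m := 1) fun e he => by rw [pow_one, sq, hE e he]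
  exact e ▸ CycZ.card_le_eight T.isPGroup' hb fun e he => by simpa [sq] using hE' e he

theorem Fac.card_le_sq [Finite G] {a : G} {B : Subgroup G} (h : Fac a B) {p : ℕ} [hp : Fact p.Prime]
    (h2 : p ≠ 2) {E : Subgroup G} (hE : ∀ e ∈ E, e ^ p = 1) : Nat.card E ≤ p ^ 2 := by
  obtain ⟨T, x, y, -, -, hb⟩ := h.exists_bic p
  obtain ⟨E', e, hE'⟩ := exists_conj_sub T (E := E) (m := 1) fun e he => by rw [pow_one, hE e he]
  have hm : IsMetacyclic T := by
    refine R2.huppert h2 T.isPGroup' ?_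
    have k : ∀ (g : T) (i : ℤ), ∃ r : Fin p, ∃ w ∈ powerClosure p 1 (⊤ : Subgroup T),
        g ^ i = g ^ (r : ℕ) * w ∧ g ^ i = w * g ^ (r : ℕ) := fun g i => by
      have h0 : (0 : ℤ) < p := by exact_mod_cast hp.out.pos
      have e1 : ((i % p).toNat : ℤ) = i % p := Int.toNat_of_nonneg (Int.emod_nonneg _ h0.ne')
      refine ⟨⟨(i % p).toNat, by have := Int.emod_lt_of_pos i h0; omega⟩, (g ^ (i / p)) ^ p ^ 1,
        subset_closure ⟨_, trivial, rfl⟩, ?_, ?_⟩ <;>
      · rw [← zpow_natCast, ← zpow_natCast, ← zpow_mul, ← zpow_add, e1]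
        congr 1
        push_cast
        linarith [Int.emod_add_mul_ediv i p]
    have hN : (powerClosure p 1 (⊤ : Subgroup T)).Normal := ⟨fun w hw g => by
      induction hw using closure_induction with
      | mem w hw =>
        obtain ⟨s, -, rfl⟩ := hw
        exact subset_closure ⟨g * s * g⁻¹, trivial, conj_pow.symm⟩
      | one => simpa using one_mem _
      | mul u v _ _ a b => simpa [mul_assoc] using mul_mem a b
      | inv u _ a => simpa [mul_assoc] using inv_mem a⟩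
    refine (Nat.card_le_card_of_surjective
      (fun r : Fin p × Fin p => ((x ^ (r.1 : ℕ) * y ^ (r.2 : ℕ) : T) : T ⧸ powerClosure p 1 ⊤))
      fun q => ?_).trans_eq (by simp [sq])
    obtain ⟨g, rfl⟩ := QuotientGroup.mk_surjective q
    obtain ⟨i, j, rfl⟩ := hb.eq g trivial
    obtain ⟨r, w, hw, -, e1⟩ := k x i
    obtain ⟨s, v, hv, e2, -⟩ := k y j
    refine ⟨(r, s), ?_⟩
    simp only [e1, e2, QuotientGroup.mk_mul, (QuotientGroup.eq_one_iff _).2 hw,
      (QuotientGroup.eq_one_iff _).2 hv, one_mul, mul_one]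
  exact e ▸ Nat.le_of_dvd (pow_pos hp.out.pos 2) (MC.card_dvd_sq hm E' fun e he => by
    simpa using hE' e he)

variable {Ω : Type*} [MulAction G Ω]

theorem card_orb (H : Subgroup G) (β : Ω) :
    Nat.card H = {γ | ∃ g ∈ H, g • β = γ}.ncard * Nat.card (H ⊓ stabilizer G β : Subgroup G) := by
  have h1 : orbit H β = {γ | ∃ g ∈ H, g • β = γ} := by
    ext y
    exact ⟨fun ⟨g, e⟩ => ⟨g, g.2, e⟩, fun ⟨g, hg, e⟩ => ⟨⟨g, hg⟩, e⟩⟩
  have h2 : stabilizer H β = (H ⊓ stabilizer G β : Subgroup G).subgroupOf H := by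
    ext g
    rw [mem_stabilizer_iff, mem_subgroupOf, mem_inf, mem_stabilizer_iff]
    exact ⟨fun h => ⟨g.2, h⟩, fun h => h.2⟩
  rw [← h1, ← index_stabilizer, ← Nat.card_congr
    (subgroupOfEquivOfLe (inf_le_left : H ⊓ stabilizer G β ≤ H)).toEquiv, ← h2, index_mul_card]

theorem card_tr {H : Subgroup G} {β : Ω} (h : ∀ γ, ∃ g ∈ H, g • β = γ) :
    Nat.card H = Nat.card Ω * Nat.card (H ⊓ stabilizer G β : Subgroup G) := by
  rw [card_orb H β, Set.eq_univ_of_forall (s := {γ | ∃ g ∈ H, g • β = γ}) h, Set.ncard_univ]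

theorem dvd_card_stab [Finite Ω] {H : Subgroup G} {α β : Ω} (hne : β ≠ α)
    (h : ∀ γ, γ ≠ α → ∃ g ∈ H, g • α = α ∧ g • β = γ) :
    Nat.card Ω - 1 ∣ Nat.card (H ⊓ stabilizer G α : Subgroup G) := by
  rw [card_orb _ β, show {γ | ∃ g ∈ H ⊓ stabilizer G α, g • β = γ} = {α}ᶜ from Set.ext fun γ =>
    ⟨fun ⟨g, hg, e⟩ a => hne (smul_left_cancel g (e.trans (a.trans hg.2.symm))), fun a =>
      let ⟨g, b, c, d⟩ := h γ a; ⟨g, ⟨b, c⟩, d⟩⟩, Set.ncard_compl, Set.ncard_singleton]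
  exact dvd_mul_right _ _

/-- a doubly transitive group with the regular subgroup `⟨a⟩` of even order and Z-groups as point
stabilizers -/
structure TZ (Ω : Type*) [MulAction G Ω] (a : G) : Prop where
  faith : ∀ g : G, (∀ ω : Ω, g • ω = ω) → g = 1
  two : ∀ {α β γ δ : Ω}, α ≠ β → γ ≠ δ → ∃ g : G, g • α = γ ∧ g • β = δ
  tr : ∀ α β : Ω, ∃ i : ℤ, a ^ i • α = β
  zg : ∀ α : Ω, IsZGroup (stabilizer G α)
  ev : Even (Nat.card Ω)
  ne : Nonempty Ω

theorem reg_of {a : G} (faith : ∀ g : G, (∀ ω : Ω, g • ω = ω) → g = 1)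
    (tr : ∀ α β : Ω, ∃ i : ℤ, a ^ i • α = β) {g : G} (hg : g * a = a * g) {α : Ω} (h : g • α = α) :
    g = 1 := faith g fun ω => by
  obtain ⟨i, rfl⟩ := tr α ω
  rw [← mul_smul, ((show Commute g a from hg).zpow_right i).eq, mul_smul, h]

theorem order_of {a : G} (faith : ∀ g : G, (∀ ω : Ω, g • ω = ω) → g = 1)
    (tr : ∀ α β : Ω, ∃ i : ℤ, a ^ i • α = β) (α : Ω) : orderOf a = Nat.card Ω := by
  rw [← Nat.card_zpowers, card_tr (β := α) fun γ => let ⟨i, e⟩ := tr α γ; ⟨_, zpow_mem_zpowers a i, e⟩,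
    eq_bot_iff.2 (show zpowers a ⊓ stabilizer G α ≤ ⊥ from fun g hg => by
      obtain ⟨⟨i, rfl⟩, h⟩ := hg
      exact reg_of faith tr ((Commute.refl a).zpow_left i).eq h), card_bot, mul_one]

namespace TZ

variable {a : G} {α β : Ω}

theorem reg (h : TZ Ω a) {g : G} (hg : g ∈ zpowers a) (e : g • α = α) : g = 1 := by
  obtain ⟨i, rfl⟩ := hg
  exact reg_of h.faith h.tr ((Commute.refl a).zpow_left i).eq e

theorem fac (h : TZ Ω a) (α : Ω) : Fac a (stabilizer G α) := ⟨h.zg α, fun g => by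
  obtain ⟨i, e⟩ := h.tr α (g • α)
  exact ⟨i, (a ^ i)⁻¹ * g, by rw [mem_stabilizer_iff, mul_smul, ← e, inv_smul_smul], by group⟩⟩

theorem tr_normal (h : TZ Ω a) {N : Subgroup G} [hN : N.Normal] (h1 : N ≠ ⊥) (α γ : Ω) :
    ∃ g ∈ N, g • α = γ := by
  obtain ⟨⟨g, hg⟩, h2⟩ := ne_bot_iff_exists_ne_one.1 h1
  obtain ⟨ω, hω⟩ := not_forall.1 fun e => h2 (Subtype.ext (h.faith g e))
  by_cases e : α = γ
  · exact ⟨1, one_mem _, by rw [one_smul, e]⟩
  obtain ⟨b, e1, e2⟩ := h.two (Ne.symm hω) e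
  exact ⟨_, hN.conj_mem g hg b, by rw [mul_smul, mul_smul, ← e1, inv_smul_smul, e2]⟩

theorem semi (h : TZ Ω a) {x : G} (hx : x • α = α) (hn : ∀ b : G, b • α = α → b * x * b⁻¹ ∈ zpowers x)
    (hne : β ≠ α) (e : x • β = β) : x = 1 := h.faith x fun ω => by
  by_cases k : ω = α
  · rw [k, hx]
  obtain ⟨b, e1, e2⟩ := h.two k hne (γ := β) (δ := α)
  have : b * x * b⁻¹ ∈ stabilizer G β := zpowers_le.2 (show x ∈ stabilizer G β from e) (hn b e2)
  rw [mem_stabilizer_iff, ← e1, mul_smul, inv_smul_smul, mul_smul] at this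
  exact smul_left_cancel b this

/-- the derived subgroup of the point stabilizer -/
abbrev Dr (G : Type*) [Group G] {Ω : Type*} [MulAction G Ω] (α : Ω) : Subgroup G :=
  (_root_.commutator (stabilizer G α)).map (stabilizer G α).subtype

/-- its centralizer in the point stabilizer -/
abbrev Xr (G : Type*) [Group G] {Ω : Type*} [MulAction G Ω] (α : Ω) : Subgroup G :=
  stabilizer G α ⊓ centralizer (Dr G α : Set G)

theorem comm_mem {b c : G} (hb : b • α = α) (hc : c • α = α) : b * c * b⁻¹ * c⁻¹ ∈ Dr G α :=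
  ⟨_, commutator_mem_commutator (mem_top (⟨b, hb⟩ : stabilizer G α)) (mem_top ⟨c, hc⟩), rfl⟩

theorem le_norm_Dr : stabilizer G α ≤ normalizer (Dr G α : Set G) :=
  le_normalizer_of_cj_le fun b hb => cj_le_iff_forall.2 fun _ ⟨c, hc, e⟩ =>
    ⟨_, (inferInstance : (_root_.commutator (stabilizer G α)).Normal).conj_mem c hc ⟨b, hb⟩, e ▸ rfl⟩

variable [Finite G]

theorem cyc_Dr (h : TZ Ω a) (α : Ω) : IsCyclic (Dr G α) :=
  have := h.zg α
  have := IsZGroup.isCyclic_commutator (stabilizer G α)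
  isCyclic_of_surjective _ (MonoidHom.subgroupMap_surjective _ _)

theorem Dr_le (h : TZ Ω a) : Dr G α ≤ Xr G α := fun x hx =>
  have := h.cyc_Dr α
  ⟨map_subtype_le _ hx, fun _ hy => setLike_mul_comm (s := Dr G α) hy hx⟩

theorem cyc_Xr (h : TZ Ω a) (α : Ω) : IsCyclic (Xr G α) := by
  have := h.zg α
  have : IsZGroup (Xr G α) := IsZGroup.of_injective (inclusion_injective inf_le_left)
  have : IsMulCommutative (Xr G α) :=
    MonoidHom.isMulCommutative_of_isCyclic_of_ker_le_center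
      (Abelianization.of.comp (inclusion (inf_le_left : Xr G α ≤ stabilizer G α))) fun x hx =>
        mem_center_iff.2 fun y => Subtype.ext (y.2.2 x ⟨_, by
          rwa [MonoidHom.mem_ker, MonoidHom.comp_apply, ← MonoidHom.mem_ker, Abelianization.ker_of]
            at hx, rfl⟩).symm
  let _ : CommGroup (Xr G α) := { (inferInstance : Group _) with mul_comm := mul_comm' }
  infer_instance

theorem Xr_norm (h : TZ Ω a) {x b : G} (hx : x ∈ Xr G α) (hb : b • α = α) :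
    b * x * b⁻¹ ∈ zpowers x :=
  have := h.cyc_Xr α
  MC.conj_mem_of_le_cyclic (zpowers_le.2 hx) (fun _ hc => conj_mem_of_normalizes
    (le_normalizer_inf le_normalizer (le_normalizer_centralizer le_norm_Dr))
    (show b ∈ stabilizer G α from hb) hc) (mem_zpowers x)

theorem Xr_semi (h : TZ Ω a) {x : G} (hx : x ∈ Xr G α) (hne : β ≠ α) (e : x • β = β) : x = 1 :=
  h.semi hx.1 (fun _ hb => h.Xr_norm hx hb) hne e

theorem cyc_two (h : TZ Ω a) (hne : β ≠ α) :
    IsCyclic (stabilizer G α ⊓ stabilizer G β : Subgroup G) := by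
  have := h.zg α
  refine isCyclic_of_injective (Abelianization.of.comp (inclusion inf_le_left))
    ((injective_iff_map_eq_one _).2 fun x hx =>
      Subtype.ext (h.Xr_semi (h.Dr_le ⟨inclusion inf_le_left x, ?_, rfl⟩) hne x.2.2))
  rwa [MonoidHom.comp_apply, ← MonoidHom.mem_ker, Abelianization.ker_of] at hx

theorem inv_eq (h : TZ Ω a) (hne : β ≠ α) {s t : G} (hs : s * s = 1) (ht : t * t = 1) (hs1 : s ≠ 1)
    (ht1 : t ≠ 1) (h1 : s • α = α) (h2 : s • β = β) (h3 : t • α = α) (h4 : t • β = β) : s = t :=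
  have := h.cyc_two hne
  cyc_eq' (C := stabilizer G α ⊓ stabilizer G β) ⟨h1, h2⟩ ⟨h3, h4⟩ hs ht hs1 ht1

theorem card_le [Finite Ω] (h : TZ Ω a) (h3 : 3 ≤ Nat.card Ω) :
    Nat.card G ≤ Nat.card Ω * ((Nat.card Ω - 1) * (Nat.card Ω - 2)) := by
  obtain ⟨α⟩ := h.ne
  have : Nontrivial Ω := Finite.one_lt_card_iff_nontrivial.1 (by omega)
  obtain ⟨β, hne⟩ := exists_ne α
  have e1 := card_tr (H := (⊤ : Subgroup G)) (β := α) fun γ => let ⟨i, e⟩ := h.tr α γ; ⟨_, trivial, e⟩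
  rw [card_top, top_inf_eq] at e1
  have e2 : Nat.card (Xr G α) ≤ Nat.card Ω - 1 := by
    rw [card_orb _ β, eq_bot_iff.2 (show Xr G α ⊓ stabilizer G β ≤ ⊥ from fun g hg =>
      h.Xr_semi hg.1 hne hg.2), card_bot, mul_one, ← Set.ncard_singleton α, ← Set.ncard_compl]
    exact Set.ncard_le_ncard (fun γ ⟨g, hg, e⟩ k =>
      hne (smul_left_cancel g (e.trans (k.trans hg.1.symm)))) (Set.toFinite _)
  have e3 : (centralizer (Dr G α : Set G)).relIndex (stabilizer G α) ≤ Nat.card Ω - 2 := by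
    have := h.cyc_Dr α
    have k1 : (centralizer (Dr G α : Set G)).relIndex (normalizer (Dr G α : Set G)) ∣
        Nat.card (MulAut (Dr G α)) := by
      rw [relIndex, ← normalizerMonoidHom_ker, index_ker]
      exact card_subgroup_dvd_card _
    refine (relIndex_le_of_le_right le_norm_Dr index_ne_zero_of_finite).trans
      ((Nat.le_of_dvd Nat.card_pos k1).trans ?_)
    rw [IsCyclic.card_mulAut]
    have k2 := (card_le_of_le (h.Dr_le (α := α))).trans e2
    rcases (Nat.succ_le_of_lt (Nat.card_pos (α := Dr G α))).eq_or_lt with k | k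
    · rw [← k, Nat.totient_one]; omega
    · have := Nat.totient_lt _ k; omega
  have e4 : Nat.card (Xr G α) * (centralizer (Dr G α : Set G)).relIndex (stabilizer G α) =
      Nat.card (stabilizer G α) := by
    rw [← inf_relIndex_left, ← Nat.card_congr (subgroupOfEquivOfLe inf_le_left).toEquiv]
    exact card_mul_index _
  rw [e1, ← e4]
  exact Nat.mul_le_mul_left _ (Nat.mul_le_mul e2 e3)

/-- a normal subgroup which is not semiregular contains a subgroup of prime order normal in the point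
stabilizer -/
theorem exists_prime (h : TZ Ω a) {L : Subgroup G} [hL : L.Normal] (h1 : L ⊓ stabilizer G α ≠ ⊥) :
    ∃ g ∈ L, g ∈ Xr G α ∧ (orderOf g).Prime := by
  obtain ⟨g, hg, hX, hne⟩ : ∃ g ∈ L, g ∈ Xr G α ∧ g ≠ 1 := by
    obtain ⟨⟨g, hg⟩, h2⟩ := ne_bot_iff_exists_ne_one.1 h1
    by_contra hc
    push Not at hc
    refine h2 (Subtype.ext (hc g hg.1 ⟨hg.2, fun y hy => ?_⟩))
    have := hc _ (mul_mem (hL.conj_mem g hg.1 y) (inv_mem hg.1))
      (h.Dr_le (comm_mem (map_subtype_le _ hy) hg.2))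
    rwa [mul_inv_eq_one, mul_inv_eq_iff_eq_mul] at this
  obtain ⟨p, hp, hd⟩ := Nat.exists_prime_and_dvd (mt orderOf_eq_one_iff.1 hne)
  exact ⟨g ^ (orderOf g / p), pow_mem hg _, pow_mem hX _, by
    rw [orderOf_pow_orderOf_div (orderOf_pos g).ne' hd]; exact hp⟩

theorem exists_sign [Finite Ω] (h : TZ Ω a) : ∃ σ : G →* ℤˣ, σ a = -1 := by
  classical
  have := Fintype.ofFinite Ω
  obtain ⟨α⟩ := h.ne
  have ho := order_of h.faith h.tr α
  have ha : ∀ ω : Ω, a • ω ≠ ω := fun ω e => by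
    have := h.ev
    rw [← ho, h.reg (mem_zpowers a) e, orderOf_one] at this
    exact absurd this (by decide)
  have hc : (toPermHom G Ω a).IsCycle := ⟨α, ha α, fun γ _ => by
    obtain ⟨i, e⟩ := h.tr α γ
    exact ⟨i, by rw [← map_zpow]; exact e⟩⟩
  refine ⟨Equiv.Perm.sign.comp (toPermHom G Ω), ?_⟩
  rw [MonoidHom.comp_apply, hc.sign, Finset.eq_univ_of_forall (s := (toPermHom G Ω a).support)
    fun ω => Equiv.Perm.mem_support.2 (ha ω), Finset.card_univ, ← Nat.card_eq_fintype_card,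
    h.ev.neg_one_pow]

end TZ

end CL.CycZ
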