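import Mathlib
import Cfsg.Agent.PERM.CycZ2
import Cfsg.Agent.PERM.SpecPerm
import Cfsg.Agent.CLAS.DicksonSub
import Cfsg.Agent.CLAS.U3Syl
import Cfsg.Agent.CLAS.UniGen
import Cfsg.Agent.FUS.SESSL3
import Cfsg.Agent.INV.GW.DFAut
import Cfsg.Agent.S0482
import Cfsg.Agent.S3559
import Cfsg.Agent.S3972

/-!
Identification of a doubly transitive group with a cyclic regular subgroup and Z-groups as point
stabilizers whose socle has 2-rank at most two.
-/

set_option autoImplicit false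

namespace CL.CycZ

open Subgroup Cfsg CL.MSS CL.Bic MulAction CL.PGL2 CL.Dk
open scoped MatrixGroups

variable {G : Type*} [Group G] [Finite G] {Ω : Type*} [MulAction G Ω] [Finite Ω]

/-- Schur's theorem for even degree -/
theorem schur {a : G} (faith : ∀ g : G, (∀ ω : Ω, g • ω = ω) → g = 1)
    (tr : ∀ α β : Ω, ∃ i : ℤ, a ^ i • α = β) (hp : IsPreprimitive G Ω) (ev : Even (Nat.card Ω))
    {α β γ δ : Ω} (h1 : α ≠ β) (h2 : γ ≠ δ) : ∃ g : G, g • α = γ ∧ g • β = δ := by
  classical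
  have := Fintype.ofFinite Ω
  have hf : FaithfulSMul G Ω := ⟨fun {g k} e => by
    rw [← inv_mul_eq_one]
    exact faith _ fun ω => by rw [mul_smul, ← e, inv_smul_smul]⟩
  have ho := order_of faith tr α
  by_cases h0 : Nat.card Ω = 2
  · obtain ⟨i, e⟩ := tr α γ
    refine ⟨_, e, ?_⟩
    obtain ⟨y, -, hy⟩ := (Nat.card_eq_two_iff' γ).1 h0
    rw [hy δ h2.symm, hy _ fun k => h1 (smul_left_cancel _ (e.trans k.symm))]
  have : Nontrivial Ω := ⟨α, β, h1⟩
  by_cases hq : IsPrimePow (Nat.card Ω)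
  · obtain ⟨p, m, hp', hm, e⟩ := (isPrimePow_nat_iff _).1 hq
    obtain rfl : 2 = p := (Nat.prime_dvd_prime_iff_eq Nat.prime_two hp').1
      (Nat.prime_two.dvd_of_dvd_pow (e ▸ ev.two_dvd))
    let f : Ω →ₑ[(toPermHom G Ω).rangeRestrict] Ω := ⟨id, fun _ _ => rfl⟩
    have k1 : IsPreprimitive (toPermHom G Ω).range Ω :=
      IsPreprimitive.of_surjective (f := f) Function.surjective_id
    by_contra hc
    refine (Cfsg.Agent.S3972.result 2 m hp' (by
      by_contra k
      obtain rfl : m = 1 := by omega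
      exact h0 e.symm) (by rw [e, Nat.card_eq_fintype_card]) (toPermHom G Ω).range inferInstance
      (fun k => ?_) ((toPermHom G Ω).rangeRestrict a) ?_).1 k1
    · obtain ⟨⟨_, g, rfl⟩, e⟩ := is_two_pretransitive_iff.1 k h1 h2
      exact hc ⟨g, e⟩
    · rw [e, ← ho, ← orderOf_coe]
      exact orderOf_injective (toPermHom G Ω) toPerm_injective a
  · refine is_two_pretransitive_iff.1 ((Cfsg.Agent.S3559.result inferInstance
      Finite.one_lt_card hq (zpowers a) inferInstance ⟨⟨fun x y => ?_⟩, fun x => ?_⟩).resolve_left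
        (not_not.2 hp)) h1 h2
    · obtain ⟨i, e⟩ := tr x y
      exact ⟨⟨_, zpow_mem_zpowers a i⟩, e⟩
    · refine eq_bot_iff.2 fun ⟨_, i, rfl⟩ hg => Subtype.ext ?_
      exact reg_of faith tr ((Commute.refl a).zpow_left i).eq hg

theorem Fac.le_of_hom {a : G} {B : Subgroup G} (h : Fac a B) {p : ℕ} [Fact p.Prime] (h2 : p ≠ 2)
    {S : Type*} [Group S] (φ : S →* G) (hφ : Function.Injective φ) (hS : ∀ s : S, s ^ p = 1) :
    Nat.card S ≤ p ^ 2 := by
  rw [Nat.card_congr (MonoidHom.ofInjective hφ).toEquiv]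
  refine h.card_le_sq h2 ?_
  rintro _ ⟨s, rfl⟩
  rw [← map_pow, hS, map_one]

omit [Finite G] in
theorem exists_char (F : Type*) [Field F] [Fintype F] (hF : Odd (Fintype.card F)) :
    ∃ p m : ℕ, p.Prime ∧ p ≠ 2 ∧ CharP F p ∧ 1 ≤ m ∧ Fintype.card F = p ^ m := by
  obtain ⟨p, hc⟩ := CharP.exists F
  obtain ⟨n, hpp, hn⟩ := FiniteField.card F p
  refine ⟨p, n, hpp, ?_, hc, n.2, hn⟩
  rintro rfl
  rw [hn] at hF
  exact (Nat.not_odd_iff_even.2 (Nat.even_pow.2 ⟨even_two, n.ne_zero⟩)) hF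

theorem cast_choose_two {F : Type*} [Field F] {p : ℕ} (hp : p.Prime) (h2 : p ≠ 2) [CharP F p] :
    ((p.choose 2 : ℕ) : F) = 0 :=
  (CharP.cast_eq_zero_iff F p _).2 (hp.dvd_choose_self two_ne_zero (lt_of_le_of_ne hp.two_le h2.symm))

theorem Fac.not_psl3 {a : G} {B : Subgroup G} (h : Fac a B) {F : Type*} [Field F] [Fintype F]
    (hF : Odd (Fintype.card F)) (φ : PSL(3, F) →* G) (hφ : Function.Injective φ) : False := by
  obtain ⟨p, m, hp, h2, _, hm, hq⟩ := exists_char F hF
  have := Fact.mk hp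
  have k1 : ∀ (n : ℕ) (x y z : F), Fus.heis3 x y z ^ n =
      Fus.heis3 (n * x) (n * y) (n * z + (n.choose 2 : ℕ) * (x * y)) := by
    intro n x y z
    induction n with
    | zero => simp [Fus.heis3_zero]
    | succ n ih =>
      rw [pow_succ, ih, Fus.heis3_mul, Fus.heis3_inj, Nat.choose_succ_succ' n 1, Nat.choose_one_right]
      push_cast
      exact ⟨by ring, by ring, by ring⟩
  have k2 := h.le_of_hom h2 ((φ.comp (QuotientGroup.mk' _)).comp (DefChar.slU 3 F).subtype)
    ((injective_iff_map_eq_one _).2 fun s hs => by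
      obtain ⟨x, y, z, e⟩ := Fus.mem_slU_three.1 s.2
      obtain ⟨r, -, hr⟩ := Matrix.SpecialLinearGroup.mem_center_iff.1
        ((QuotientGroup.eq_one_iff s.1).1 (hφ (hs.trans (map_one φ).symm)))
      rw [e] at hr
      have e1 := congr_fun₂ hr 0 1
      have e2 := congr_fun₂ hr 1 2
      have e3 := congr_fun₂ hr 0 2
      simp [Fus.heis3] at e1 e2 e3
      exact Subtype.ext (by rw [e, ← e1, ← e2, ← e3, Fus.heis3_zero]; rfl))
    fun s => Subtype.ext (by
      obtain ⟨x, y, z, e⟩ := Fus.mem_slU_three.1 s.2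
      rw [coe_pow, e, k1, cast_choose_two hp h2]
      simp [Fus.heis3_zero])
  have k3 : Nat.card (F × F × F) ≤ Nat.card (DefChar.slU 3 F) :=
    Nat.card_le_card_of_injective (fun v => ⟨Fus.heis3 v.1 v.2.1 v.2.2, Fus.mem_slU_three.2 ⟨_, _, _, rfl⟩⟩)
      fun v w e => by
        obtain ⟨e1, e2, e3⟩ := Fus.heis3_inj.1 (congrArg Subtype.val e)
        exact Prod.ext e1 (Prod.ext e2 e3)
  rw [Nat.card_prod, Nat.card_prod, Nat.card_eq_fintype_card, hq, ← pow_add, ← pow_add] at k3
  have := (Nat.pow_le_pow_iff_right hp.one_lt).1 (k3.trans k2)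
  omega

theorem Fac.not_psu3 {a : G} {B : Subgroup G} (h : Fac a B) {F : Type*} [Field F] [Fintype F] {q : ℕ}
    (hF : Fintype.card F = q ^ 2) (hq : Odd q) (φ : PSU 3 F q →* G) (hφ : Function.Injective φ) :
    False := by
  obtain ⟨p, m, hp, h2, _, -, -⟩ := exists_char F (hF ▸ hq.pow)
  have := Fact.mk hp
  obtain ⟨ψ, hψ⟩ := U3.exists_hom_SU hF
  have k1 : ∀ (n : ℕ) (x : U3.S hF), (x ^ n).b = n * x.b + (n.choose 2 : ℕ) * (x.a ^ q * x.a) := by
    intro n x
    induction n with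
    | zero => simp
    | succ n ih =>
      rw [pow_succ', U3.S.mul_b, ih, U3.S.pow_a, Nat.choose_succ_succ' n 1, Nat.choose_one_right]
      push_cast
      ring
  have k2 := h.le_of_hom h2 (φ.comp _)
    (hφ.comp (U3.injective_mk_comp hF (by norm_num) p (U3.S.isPGroup hF p) hψ)) fun s => by
      ext
      · simp [U3.S.pow_a]
      · rw [k1, cast_choose_two hp h2]; simp
  rw [U3.S.card_S] at k2
  have k3 := Nat.pow_le_pow_left (Nat.le_of_dvd hq.pos (U3.dvd_q hF p)) 3
  have := (Nat.pow_le_pow_iff_right hp.one_lt).1 (k3.trans k2)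
  omega

omit [Finite G] in
theorem comm_of_norm {g b : G} (hg : (orderOf g).Prime) (hb : b * g * b⁻¹ ∈ zpowers g)
    (hc : (orderOf b).Coprime (orderOf g - 1)) : Commute b g := by
  have : Finite (zpowers g) := finite_zpowers.2 (orderOf_pos_iff.1 hg.pos)
  have hn : b ∈ normalizer ((zpowers g : Subgroup G) : Set G) :=
    mem_normalizer_fintype fun _ ⟨i, e⟩ => by rw [← e, ← conj_zpow]; exact zpow_mem hb i
  have h1 := orderOf_dvd_natCard ((zpowers g).normalizerMonoidHom ⟨b, hn⟩)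
  rw [IsCyclic.card_mulAut, Nat.card_zpowers, Nat.totient_prime hg] at h1
  have h2 := orderOf_map_dvd (zpowers g).normalizerMonoidHom ⟨b, hn⟩
  rw [orderOf_mk] at h2
  have h3 : (⟨b, hn⟩ : normalizer _) ∈ (zpowers g).normalizerMonoidHom.ker :=
    orderOf_eq_one_iff.1 (Nat.eq_one_of_dvd_coprimes hc h2 h1)
  rw [normalizerMonoidHom_ker] at h3
  exact (h3 g (mem_zpowers g)).symm

/-- `G` is `PGL₂(p)` -/
def PG (G : Type*) [Group G] : Prop :=
  ∃ (F : Type) (_ : Field F) (_ : Fintype F) (p : ℕ), p.Prime ∧ 3 < p ∧ Fintype.card F = p ∧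
    Nonempty (G ≃* PGL(2, F))

theorem exists_iP {F : Type*} [Field F] [Fintype F] (hp : (Fintype.card F).Prime) :
    Function.Surjective (GW.DF.iP F) := fun a => by
  have : Subsingleton (F →+* F) := by
    have e := ZMod.ringEquivOfPrime F hp rfl
    exact ⟨fun f g => RingHom.ext fun x => by
      obtain ⟨y, rfl⟩ := e.surjective x
      exact congr($(Subsingleton.elim (f.comp e.toRingHom) (g.comp e.toRingHom)) y)⟩
  exact GW.DF.exists_iP_of_sg (RingEquiv.toRingHom_injective (Subsingleton.elim _ _))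

/-- a group with self-centralizing normal subgroup `PSL₂(p)` embeds in `PGL₂(p)` -/
theorem exists_inj_pgl {L : Subgroup G} [L.Normal] (hC : ∀ c : G, (∀ l ∈ L, c * l = l * c) → c = 1)
    {F : Type*} [Field F] [Fintype F] (hp : (Fintype.card F).Prime) (e : L ≃* PSL(2, F)) :
    ∃ θ : G →* PGL(2, F), Function.Injective θ := by
  let j := MulEquiv.ofBijective _ ⟨GW.DF.iP_inj, exists_iP hp⟩
  refine ⟨j.symm.toMonoidHom.comp ((MulAut.congr e).toMonoidHom.comp MulAut.conjNormal),
    j.symm.injective.comp ((MulAut.congr e).injective.comp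
      ((injective_iff_map_eq_one _).2 fun c hc => hC c fun l hl => ?_))⟩
  have := congrArg Subtype.val (DFunLike.congr_fun hc ⟨l, hl⟩)
  rw [MulAut.conjNormal_apply] at this
  exact mul_inv_eq_iff_eq_mul.1 this

omit [Finite G] in
theorem two_mul_card_psl {F : Type*} [Field F] [Finite F] (hF : Odd (Nat.card F)) :
    2 * Nat.card PSL(2, F) = Nat.card F * (Nat.card F ^ 2 - 1) := by
  rw [← gcd_mul_card_pslIn, gcd_two_of_odd hF, Nat.card_congr (pslInEquiv F).toEquiv]

theorem TZ.ident {a : G} (h : TZ Ω a) {L : Subgroup G} [hL : L.Normal] [IsSimpleGroup L]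
    (hna : ¬ IsMulCommutative L) (hpr : IsPreprimitive L Ω) (hrk : PRankLE 2 2 L) : PG G := by
  obtain ⟨α⟩ := h.ne
  have hL1 : L ≠ ⊥ := (nontrivial_iff_ne_bot L).1 inferInstance
  have e1 := card_tr (h.tr_normal hL1 α)
  set n := Nat.card Ω with hn
  set s := Nat.card (L ⊓ stabilizer G α : Subgroup G) with hs
  have n0 : 0 < n := by have := h.ne; exact Nat.card_pos
  have s0 : 0 < s := Nat.card_pos
  obtain ⟨n', hn'⟩ := h.ev
  have : Nontrivial Ω := Finite.one_lt_card_iff_nontrivial.1 (by omega)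
  obtain ⟨β, hne⟩ := exists_ne α
  have n3 : 3 ≤ n := by
    by_contra k
    have k2 : Nat.card Ω = 2 := by omega
    have : L ⊓ stabilizer G α = ⊥ := eq_bot_iff.2 fun g hg => h.faith g fun ω => by
      by_cases e : ω = α
      · rw [e]; exact hg.2
      obtain ⟨y, -, hy⟩ := (Nat.card_eq_two_iff' α).1 k2
      rw [hy _ fun k => e (smul_left_cancel g (k.trans hg.2.symm)), ← hy ω e]
    rw [hs, this, card_bot, mul_one, hn, k2] at e1
    have := isCyclic_of_prime_card (p := 2) e1
    exact hna inferInstance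
  have e2 : n - 1 ∣ s := by
    set H := zpowers a ⊔ L
    have ha : a ∈ H := le_sup_left (b := L) (mem_zpowers a)
    let f : Ω →ₑ[inclusion (le_sup_right : L ≤ H)] Ω := ⟨id, fun _ _ => rfl⟩
    have k1 := dvd_card_stab (H := H) hne fun γ hγ => by
      obtain ⟨g, e⟩ := schur (G := H) (a := ⟨a, ha⟩) (fun g hg => Subtype.ext (h.faith g hg)) h.tr
        (IsPreprimitive.of_surjective (f := f) Function.surjective_id) h.ev hne.symm hγ.symm
      exact ⟨g, g.2, e⟩
    have k2 := card_tr (H := H) (β := α) fun γ => let ⟨i, e⟩ := h.tr α γ; ⟨_, zpow_mem ha i, e⟩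
    have k3 := CL.card_sup_mul_card_inf_of_le_normalizer (H := zpowers a) (K := L)
      (by rw [normalizer_eq_top]; exact le_top)
    rw [k2, Nat.card_zpowers, order_of h.faith h.tr α, e1, mul_assoc] at k3
    have k4 := Nat.eq_of_mul_eq_mul_left n0 k3
    refine (show (n - 1).Coprime n from ?_).dvd_of_dvd_mul_left (k4 ▸ k1.mul_right _)
    rw [Nat.coprime_self_sub_left (by omega)]; exact Nat.coprime_one_left n
  have e3 : 2 * Nat.card L ≤ Nat.card G := by
    obtain ⟨σ, hσ⟩ := h.exists_sign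
    have k1 : L ≤ σ.ker := by
      rcases (inferInstance : (σ.comp L.subtype).ker.Normal).eq_bot_or_eq_top with e | e
      · exact absurd ⟨⟨fun x y => (MonoidHom.ker_eq_bot_iff _).1 e (by rw [map_mul, map_mul, mul_comm])⟩⟩ hna
      · exact fun x hx => e.ge (mem_top (⟨x, hx⟩ : L))
    have k2 : L.index ≠ 1 := fun e => by
      have := k1 (index_eq_one.1 e ▸ mem_top a)
      rw [MonoidHom.mem_ker, hσ] at this
      exact absurd this (by decide)
    have k3 : L.index ≠ 0 := index_ne_zero_of_finite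
    rw [← L.index_mul_card]
    exact Nat.mul_le_mul_right _ (by omega)
  have e4 := e3.trans (h.card_le n3)
  have e5 : n * (n - 1) ∣ Nat.card L := e1 ▸ Nat.mul_dvd_mul_left n e2
  have e6 := Nat.le_of_dvd s0 e2
  obtain ⟨g, hgL, hgX, hr⟩ := h.exists_prime (L := L) (α := α) fun e => by
    rw [hs, e, card_bot] at e6; omega
  have g1 : g ≠ 1 := fun e => by rw [e, orderOf_one] at hr; exact Nat.not_prime_one hr
  have hfix : ∀ c : G, c * g = g * c → c • α = α := fun c hc => by
    by_contra k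
    exact g1 (h.Xr_semi hgX k (by rw [← mul_smul, ← hc, mul_smul, hgX.1]))
  have hC : ∀ c : G, (∀ l ∈ L, c * l = l * c) → c = 1 := fun c hc => h.faith c fun ω => by
    obtain ⟨l, hl, rfl⟩ := h.tr_normal hL1 α ω
    rw [← mul_smul, hc l hl, mul_smul, hfix c (hc g hgL)]
  have hn2 : n % 2 = 0 := by omega
  have num : ∀ N m : ℕ, N < m * (m - 1) → n * (n - 1) ∣ N → 0 < N → n < m := fun N m k1 k2 k3 => by
    by_contra k
    have := Nat.mul_le_mul (not_lt.1 k) (Nat.sub_le_sub_right (not_lt.1 k) 1)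
    have := Nat.le_of_dvd k3 k2
    omega
  rcases Cfsg.Agent.S0482.result hna hrk with ⟨F, _, _, h1, h5, ⟨e⟩⟩ | ⟨F, _, _, h1, ⟨e⟩⟩ |
    ⟨F, _, _, q, h1, h2, ⟨e⟩⟩ | ⟨F, _, _, h1, ⟨e⟩⟩ | ⟨⟨e⟩⟩ | ⟨-, e⟩
  · obtain ⟨p, m, hp, h2, _, hm, hq⟩ := exists_char F h1
    have := Fact.mk hp
    let ψ : L →* PGL(2, F) := (psl2pgl F).comp e.toMonoidHom
    have hψ : Function.Injective ψ := psl2pgl_injective.comp e.injective
    have hrg : ∀ u ∈ pslIn F, ∃ l, ψ l = u := by
      rintro _ ⟨u, rfl⟩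
      exact ⟨e.symm u, by simp [ψ]⟩
    have ho : orderOf (ψ ⟨g, hgL⟩) = orderOf g := by rw [orderOf_injective ψ hψ, orderOf_mk]
    have g2 : ψ ⟨g, hgL⟩ ≠ 1 := fun k => g1 (congrArg Subtype.val (hψ (k.trans (map_one ψ).symm)))
    have hO : Odd (Nat.card F) := by rwa [Nat.card_eq_fintype_card]
    have c1 := two_mul_card_psl hO
    rw [← Nat.card_congr e.toEquiv] at c1
    by_cases hrp : orderOf g = p
    · obtain ⟨x, hx⟩ := (isPGroup_zpowers (p := p) (k := 1) (x := ψ ⟨g, hgL⟩) (by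
        rw [pow_one, ← hrp, ← ho, pow_orderOf_eq_one])).nonempty_fixed_point_of_prime_not_dvd_card
          (P1 F) (by
            rw [Projectivization.card_of_finrank_two F _ (by simp), Nat.card_eq_fintype_card, hq,
              Nat.dvd_add_right (dvd_pow_self p (by omega))]
            exact hp.not_dvd_one)
      have hu : ψ ⟨g, hgL⟩ ∈ unipAt x := mem_unipAt_of_pow_char_pow p (hx ⟨_, mem_zpowers _⟩) (k := 1)
        (by rw [pow_one, ← hrp, ← ho, pow_orderOf_eq_one])
      have cm : ∀ u ∈ unipAt x, ∀ w ∈ unipAt x, u * w = w * u := fun u hu w hw => by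
        obtain ⟨k, rfl⟩ := exists_smul_inf x
        obtain ⟨c, hc⟩ := mem_unipAt_inf.1 (mem_unipAt_smul.1 hu)
        obtain ⟨d, hd⟩ := mem_unipAt_inf.1 (mem_unipAt_smul.1 hw)
        have : k⁻¹ * u * k * (k⁻¹ * w * k) = k⁻¹ * w * k * (k⁻¹ * u * k) := by
          rw [hc, hd, aff_mul, aff_mul]; simp [add_comm]
        calc u * w = k * (k⁻¹ * u * k * (k⁻¹ * w * k)) * k⁻¹ := by group
          _ = _ := by rw [this]; group
      set U := ((unipAt x).comap ψ).map L.subtype
      have hU : U ≤ stabilizer G α := by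
        rintro _ ⟨l, hl, rfl⟩
        have : l * ⟨g, hgL⟩ = ⟨g, hgL⟩ * l := hψ (by rw [map_mul, map_mul]; exact cm _ hl _ hu)
        exact hfix _ (congrArg Subtype.val this)
      have hUp : ∀ u ∈ U, u ^ p = 1 := by
        rintro _ ⟨l, hl, rfl⟩
        rw [← map_pow, hψ (a₁ := l ^ p) (a₂ := 1) (by
          rw [map_pow, map_one]; exact pow_char_eq_one_of_mem_unipAt p hl), map_one]
      have := h.zg α
      have : IsCyclic (U.subgroupOf (stabilizer G α)) := IsPGroup.isCyclic_of_isZGroup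
        (isPGroup_subgroupOf (isPGroup_iff_forall_mem.2 fun u hu => ⟨1, by rw [pow_one, hUp u hu]⟩) _)
      have : IsCyclic U := isCyclic_of_surjective _ (subgroupOfEquivOfLe hU).surjective
      have k1 := MC.card_dvd_of_cyclic U hUp
      rw [card_map_of_injective L.subtype_injective, Nat.card_congr (comapEquivOfLe hψ
        fun u hu => hrg u (unipAt_le_pslIn x hu)).toEquiv, card_unipAt, Nat.card_eq_fintype_card] at k1
      have k2 : Fintype.card F = p := ((Nat.dvd_prime hp).1 k1).resolve_left (by omega)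
      obtain ⟨θ, hθ⟩ := exists_inj_pgl hC (k2 ▸ hp) e
      exact ⟨F, _, _, p, hp, by omega, k2, ⟨MulEquiv.ofBijective θ
        ((Nat.bijective_iff_injective_and_card θ).2 ⟨hθ, le_antisymm
          (Nat.card_le_card_of_injective θ hθ) (by rw [card_PGL2, ← c1]; exact e3)⟩)⟩⟩
    · exfalso
      obtain ⟨x, y, hxy, hm⟩ := exists_mem_pairT_of_not_dvd (algebraMap F (AlgebraicClosure F)) p g2
        fun k => hrp ((Nat.prime_dvd_prime_iff_eq hp hr).1 (ho ▸ k)).symm
      set f := algebraMap F (AlgebraicClosure F)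
      have hT : pairT (mapG f) x y ≠ ⊥ := fun k => g2 (mem_bot.1 (k ▸ hm))
      have k1 : s ≤ Nat.card ↥(pairN (mapG f) x y ⊓ pslIn F) := by
        refine Nat.card_le_card_of_injective (fun b => ⟨ψ ⟨b, b.2.1⟩,
          mem_pairN_of_conj (mapG_injective f) hxy hm g2 ?_, ⟨_, rfl⟩⟩) fun b c k =>
            Subtype.ext (congrArg (fun u : L => (u : G)) (hψ (congrArg Subtype.val k)))
        obtain ⟨i, hi⟩ := h.Xr_norm hgX (inv_mem b.2.2 : (b : G)⁻¹ ∈ stabilizer G α)
        rw [← map_inv, ← map_mul, ← map_mul, show (⟨b, b.2.1⟩ : L)⁻¹ * ⟨g, hgL⟩ * ⟨b, b.2.1⟩ =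
          ⟨g, hgL⟩ ^ i from Subtype.ext (by simpa using hi.symm), map_zpow]
        exact zpow_mem hm i
      have k2 := gcd_mul_card_pairT_inf_pslIn f hxy hT
      rw [gcd_two_of_odd hO] at k2
      rw [card_eq_two_mul_of_le_pairN inf_le_left (not_pairN_inf_pslIn_le f hxy hT), ← inf_assoc,
        inf_eq_left.2 (pairT_le_pairN _ x y), k2] at k1
      have k3 : s ≤ Nat.card F + 1 := by
        rcases (torus_data f hxy hT).1 with k | k <;> rw [k.2.2] at k1 <;> omega
      rw [← Nat.card_eq_fintype_card] at h5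
      rw [e1] at c1
      obtain ⟨q, hq'⟩ : ∃ q, Nat.card F = q + 5 := ⟨_, (Nat.sub_add_cancel h5).symm⟩
      rw [hq'] at c1 k3
      rw [show (q + 5) ^ 2 - 1 = q * q + 10 * q + 24 from Nat.sub_eq_of_eq_add (by ring)] at c1
      have := Nat.mul_le_mul (show n ≤ q + 7 by omega) k3
      nlinarith
  · exact ((h.fac α).not_psl3 h1 (L.subtype.comp e.symm.toMonoidHom)
      (L.subtype_injective.comp e.symm.injective)).elim
  · exact ((h.fac α).not_psu3 h1 h2 (L.subtype.comp e.symm.toMonoidHom)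
      (L.subtype_injective.comp e.symm.injective)).elim
  · exfalso
    have k1 : Nat.card L = 62400 := by
      have hF : Fintype.card F = 4 ^ 2 := h1
      have := card_eq_card_quotient_mul_card_subgroup (center (SU 3 F 4))
      rw [U3.card_SU3 hF, Uni.card_center_SU hF (n := 3) (by norm_num)] at this
      rw [Nat.card_congr e.toEquiv]
      norm_num at this
      exact this.symm
    rw [k1] at e4 e5
    have k : ∀ n < 251, n * (n - 1) ∣ 62400 → n % 2 = 0 → 2 * 62400 ≤ n * ((n - 1) * (n - 2)) → False := by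
      decide +kernel
    exact k n (num _ _ (by norm_num) e5 (by norm_num)) e5 hn2 e4
  · exfalso
    have k1 : Nat.card L = 2520 := by
      rw [Nat.card_congr e.toEquiv, nat_card_alternatingGroup]; simp [Nat.factorial]
    rw [k1] at e1 e4 e5
    have k : ∀ n < 51, n * (n - 1) ∣ 2520 → n % 2 = 0 → 2 * 2520 ≤ n * ((n - 1) * (n - 2)) → n = 36 := by
      decide +kernel
    rw [k n (num _ _ (by norm_num) e5 (by norm_num)) e5 hn2 e4] at e1
    have k2 : Nat.card (L ⊓ stabilizer G α : Subgroup G) = 70 := by omega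
    have sp : ∀ l ∈ L, orderOf l ≤ 7 := fun l hl => by
      have k3 := Spec.range_orderOf_alternating (α := Fin 7)
      rw [Fintype.card_fin, Spec.setOf_mem_eq_of_all (l' := [1, 2, 3, 4, 5, 6, 7])
        (by decide +kernel) (by decide +kernel)] at k3
      have k4 : orderOf (e ⟨l, hl⟩) ∈ [1, 2, 3, 4, 5, 6, 7] := k3.le ⟨_, rfl⟩
      rw [MulEquiv.orderOf_eq, orderOf_mk] at k4
      simp only [List.mem_cons, List.not_mem_nil, or_false] at k4
      omega
    have key : ∀ r : ℕ, r.Prime → r ∣ 70 → r.Coprime (orderOf g - 1) → r.Coprime (orderOf g) →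
        r * orderOf g ≤ 7 := fun r hr' hd c1 c2 => by
      have := Fact.mk hr'
      obtain ⟨b, hb⟩ := exists_prime_orderOf_dvd_card' r (k2 ▸ hd)
      rw [← orderOf_coe] at hb
      have := (comm_of_norm hr (h.Xr_norm hgX b.2.2) (hb ▸ c1)).orderOf_mul_eq_mul_orderOf_of_coprime
        (hb ▸ c2)
      rw [← hb, ← this]
      exact sp _ (mul_mem b.2.1 hgL)
    have k5 : orderOf g ∣ 70 := k2 ▸ (L ⊓ stabilizer G α).orderOf_dvd_natCard ⟨hgL, hgX.1⟩
    have k6 := sp g hgL
    have k7 := key 5 (by norm_num) (by norm_num)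
    have k8 := key 7 (by norm_num) (by norm_num)
    generalize orderOf g = r at hr k5 k6 k7 k8
    interval_cases r <;> revert hr k5 k7 k8 <;> decide
  · exfalso
    rw [e] at e4 e5
    have k : ∀ n < 90, n * (n - 1) ∣ 7920 → n % 2 = 0 → 2 * 7920 ≤ n * ((n - 1) * (n - 2)) → False := by
      decide +kernel
    exact k n (num _ _ (by norm_num) e5 (by norm_num)) e5 hn2 e4

end CL.CycZ
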