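import Mathlib
import Cfsg.Agent.PERM.CycZ3
import Cfsg.Agent.PERM.MinNormal
import Cfsg.Agent.S0700

/-!
Doubly transitive groups with a cyclic regular subgroup of even order and Z-groups as point
stabilizers are solvable or `PGL₂(p)`.
-/

set_option autoImplicit false

namespace CL.CycZ

open Subgroup Cfsg CL.MSS CL.Bic MulAction CL.PGL2 CL.Dk
open scoped MatrixGroups

universe u

theorem exists_inv {G : Type*} [Group G] [Finite G] (hG : IsPGroup 2 G) {y : G} (hy : y ≠ 1) :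
    ∃ t ∈ zpowers y, t ≠ 1 ∧ t * t = 1 := by
  obtain ⟨k, hk⟩ := hG y
  obtain ⟨j, -, hj⟩ := (Nat.dvd_prime_pow Nat.prime_two).1 (orderOf_dvd_of_pow_eq_one hk)
  have hd : 2 ∣ orderOf y := hj ▸ dvd_pow_self 2 fun e => hy (orderOf_eq_one_iff.1 (by rw [hj, e, pow_zero]))
  have := orderOf_pow_orderOf_div (orderOf_pos y).ne' hd
  exact ⟨_, npow_mem_zpowers y _, fun e => by rw [e, orderOf_one] at this; omega,
    by rw [← sq, ← orderOf_dvd_iff_pow_eq_one, this]⟩

section

variable {G : Type*} [Group G] [Finite G] {Ω : Type*} [MulAction G Ω] [Finite Ω]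

omit [Finite G] in
theorem even_of_fpf {z : G} (hz : z * z = 1) (h : ∀ ω : Ω, z • ω ≠ ω) : Even (Nat.card Ω) := by
  classical
  have := Fintype.ofFinite Ω
  have e := Equiv.Perm.two_dvd_card_support (σ := toPermHom G Ω z) (by rw [sq, ← map_mul, hz, map_one])
  rw [Finset.eq_univ_of_forall (s := (toPermHom G Ω z).support)
    fun ω => Equiv.Perm.mem_support.2 (h ω), Finset.card_univ, ← Nat.card_eq_fintype_card] at e
  exact even_iff_two_dvd.2 e

omit [Finite Ω] in
theorem tz_range {a : G} (two : ∀ {α β γ δ : Ω}, α ≠ β → γ ≠ δ → ∃ g : G, g • α = γ ∧ g • β = δ)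
    (tr : ∀ α β : Ω, ∃ i : ℤ, a ^ i • α = β) (zg : ∀ α : Ω, IsZGroup (stabilizer G α))
    (ev : Even (Nat.card Ω)) (ne : Nonempty Ω) :
    TZ (G := (toPermHom G Ω).range) Ω ((toPermHom G Ω).rangeRestrict a) where
  faith g hg := Subtype.ext (Equiv.ext hg)
  two h1 h2 := let ⟨g, e⟩ := two h1 h2; ⟨(toPermHom G Ω).rangeRestrict g, e⟩
  tr α β := let ⟨i, e⟩ := tr α β; ⟨i, by rw [← map_zpow]; exact e⟩
  zg α := by
    have := zg α
    refine IsZGroup.of_surjective (f := ((toPermHom G Ω).rangeRestrict.comp (stabilizer G α).subtype).codRestrict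
      (stabilizer _ α) fun g => g.2) ?_
    rintro ⟨⟨_, g, rfl⟩, hg⟩
    exact ⟨⟨g, hg⟩, rfl⟩
  ev := ev
  ne := ne

end

variable {G Ω : Type u} [Group G] [Finite G] [MulAction G Ω] [Finite Ω]

/-- the action of the centralizer of an involution on its fixed points -/
theorem TZ.exists_k {a : G} (h : TZ Ω a)
    (ih : ∀ (H Δ : Type u) [Group H] [Finite H] [MulAction H Δ] [Finite Δ] (b : H),
      Nat.card Δ < Nat.card Ω → TZ Δ b → Dih H) {α : Ω} {x y z t : G}
    (hP : IsPGroup 2 (closure ({x, y} : Set G))) (hx : x ∈ zpowers a) (hx2 : x * x ≠ 1)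
    (hz : z ∈ zpowers a) (hz1 : z ≠ 1) (hz2 : z * z = 1) (ht1 : t ≠ 1) (ht2 : t * t = 1)
    (hta : t • α = α) (htx : x * t = t * x) (hty : y * t = t * y) (htz : z * t = t * z) :
    ∃ k : G, k • α = α ∧ k * x = x * k ∧ (y * x * y⁻¹ = x * k ∨ y * x * y⁻¹ = x⁻¹ * k) := by
  set N := centralizer ({t} : Set G)
  have hN : ∀ {g : G}, g ∈ N ↔ g * t = t * g := mem_centralizer_singleton_iff
  let Δ : SubMulAction N Ω := ⟨{ω | t • ω = ω}, fun g ω (e : t • ω = ω) => by
    change t • (g : G) • ω = (g : G) • ω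
    rw [← mul_smul, ← hN.1 g.2, mul_smul, e]⟩
  have cj : ∀ {g : G} {β γ : Ω}, β ≠ γ → t • β = β → t • γ = γ → t • g • β = g • β →
      t • g • γ = g • γ → g ∈ N := fun {g β γ} hne e1 e2 e3 e4 => by
    have := h.inv_eq hne (s := g⁻¹ * t * g) (t := t) (by
        calc _ = g⁻¹ * (t * t) * g := by group
          _ = 1 := by rw [ht2]; group) ht2 (fun e => ht1 (by
        calc t = g * (g⁻¹ * t * g) * g⁻¹ := by group
          _ = 1 := by rw [e]; group)) ht1 (by rw [mul_smul, mul_smul, e4, inv_smul_smul])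
      (by rw [mul_smul, mul_smul, e3, inv_smul_smul]) e2 e1
    rw [hN]
    calc g * t = g * (g⁻¹ * t * g) := by rw [this]
      _ = _ := by group
  have two : ∀ {β γ β' γ' : Δ}, β ≠ γ → β' ≠ γ' → ∃ g : N, g • β = β' ∧ g • γ = γ' :=
    fun {β γ β' γ'} h1 h2 => by
      obtain ⟨g, e1, e2⟩ := h.two (Subtype.coe_ne_coe.2 h1) (Subtype.coe_ne_coe.2 h2)
      exact ⟨⟨g, cj (Subtype.coe_ne_coe.2 h1) β.2 γ.2 (e1 ▸ β'.2) (e2 ▸ γ'.2)⟩, Subtype.ext e1,
        Subtype.ext e2⟩
  have hzf : ∀ ω : Ω, z • ω ≠ ω := fun ω e => hz1 (h.reg hz e)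
  have : IsCyclic (zpowers a ⊓ N : Subgroup G) :=
    isCyclic_of_injective _ (inclusion_injective inf_le_left)
  obtain ⟨b, hb⟩ := MC.exists_eq_zpowers (zpowers a ⊓ N)
  have hbN : b ∈ N := (hb.ge (mem_zpowers b)).2
  have tz := tz_range (G := N) (Ω := Δ) (a := ⟨b, hbN⟩) two (fun β γ => by
      obtain ⟨i, e⟩ := h.tr β γ
      have k : ∀ ω : Ω, t • ω = ω → t • z • ω = z • ω := fun ω e => by
        rw [← mul_smul, ← htz, mul_smul, e]
      obtain ⟨j, hj⟩ := hb.le ⟨zpow_mem_zpowers a i, cj (hzf β) (k _ β.2) β.2 (by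
        rw [← mul_smul (a ^ i), setLike_mul_comm (s := zpowers a) (zpow_mem_zpowers a i) hz, mul_smul, e]
        exact k _ γ.2) (e ▸ γ.2)⟩
      exact ⟨j, Subtype.ext (by rw [← e, ← hj]; rfl)⟩)
    (fun β => by
      have := h.zg β
      exact IsZGroup.of_injective (f := (N.subtype.comp (stabilizer N β).subtype).codRestrict
        (stabilizer G (β : Ω)) fun g => congrArg Subtype.val g.2)
        fun u v e => Subtype.ext (Subtype.ext (congrArg (fun w : stabilizer G (β : Ω) => (w : G)) e)))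
    (even_of_fpf (z := (⟨z, hN.2 htz⟩ : N)) (Subtype.ext hz2) fun ω e => hzf ω (congrArg Subtype.val e))
    ⟨⟨α, hta⟩⟩
  have lt : Nat.card Δ < Nat.card Ω := by
    obtain ⟨ω, hω⟩ := not_forall.1 fun e => ht1 (h.faith t e)
    exact Finite.card_subtype_lt (p := fun ω => ω ∈ Δ) hω
  let φ := (toPermHom N Δ).rangeRestrict
  have hxx : (x * x) • α ≠ α := fun e => hx2 (h.reg (mul_mem hx hx) e)
  have hD := ih _ _ _ lt tz (φ ⟨x, hN.2 htx⟩) (φ ⟨y, hN.2 hty⟩) (by
      have := (isPGroup_subgroupOf hP N).map φ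
      refine this.to_le ((closure_le _).2 ?_)
      rintro _ (rfl | rfl)
      exacts [⟨_, subset_closure (by simp), rfl⟩, ⟨_, subset_closure (by simp), rfl⟩])
    (fun e => hxx (by
      rw [← map_mul] at e
      exact congrArg (fun σ : (toPermHom N Δ).range => ((σ • (⟨α, hta⟩ : Δ) : Δ) : Ω)) e))
  have key : ∀ k : N, φ k = 1 → (k : G) • α = α ∧ k * x = x * k := fun k hk => by
    have k1 : ∀ β : Δ, (k : G) • (β : Ω) = β := fun β =>
      congrArg (fun σ : (toPermHom N Δ).range => ((σ • β : Δ) : Ω)) hk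
    have k2 : ∀ (g : N) (β γ : Δ), β ≠ γ → g • β = β → (g : G) * k = k * g := fun g β γ hne e => by
      have := h.Xr_semi (h.Dr_le (TZ.comm_mem (congrArg Subtype.val e) (k1 β)))
        (Subtype.coe_ne_coe.2 hne.symm) (by
          rw [mul_smul, mul_smul, mul_smul, (inv_smul_eq_iff.2 (k1 γ).symm : (k : G)⁻¹ • (γ : Ω) = γ)]
          exact (congrArg ((g : G) • ·) (k1 (g⁻¹ • γ))).trans (smul_inv_smul _ _))
      rwa [mul_inv_eq_one, mul_inv_eq_iff_eq_mul] at this
    refine ⟨k1 ⟨α, hta⟩, ?_⟩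
    let x' : N := ⟨x, hN.2 htx⟩
    let α' : Δ := ⟨α, hta⟩
    have n1 : x' • x' • α' ≠ α' := fun e => hxx (by rw [mul_smul]; exact congrArg Subtype.val e)
    have n2 : x' • x' • α' ≠ x' • α' := fun e => n1 (by rw [smul_left_cancel _ e, smul_left_cancel _ e])
    obtain ⟨g, e1, e2⟩ := two n1 n2
    have e3 := k2 g _ _ n1 e1
    have e4 := k2 (g⁻¹ * x') _ _ n1.symm (by rw [mul_smul, ← e2, inv_smul_smul])
    calc (k : G) * x = k * g * ((g : G)⁻¹ * x) := by group
      _ = g * (((g : G)⁻¹ * x) * k) := by rw [← e3, mul_assoc]; exact congrArg _ e4.symm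
      _ = _ := by group
  rcases hD with e | e
  · obtain ⟨e1, e2⟩ := key (⟨x, hN.2 htx⟩⁻¹ * (⟨y, hN.2 hty⟩ * ⟨x, hN.2 htx⟩ * ⟨y, hN.2 hty⟩⁻¹)) (by
      rw [map_mul, map_mul, map_mul, map_inv, map_inv, e, inv_mul_cancel])
    exact ⟨_, e1, e2, Or.inl (mul_inv_cancel_left _ _).symm⟩
  · obtain ⟨e1, e2⟩ := key (⟨x, hN.2 htx⟩ * (⟨y, hN.2 hty⟩ * ⟨x, hN.2 htx⟩ * ⟨y, hN.2 hty⟩⁻¹)) (by
      rw [map_mul, map_mul, map_mul, map_inv, e, mul_inv_cancel])
    exact ⟨_, e1, e2, Or.inr (inv_mul_cancel_left _ _).symm⟩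

theorem TZ.rank {a : G} (h : TZ Ω a)
    (ih : ∀ (H Δ : Type u) [Group H] [Finite H] [MulAction H Δ] [Finite Δ] (b : H),
      Nat.card Δ < Nat.card Ω → TZ Δ b → Dih H) (hO : oddCore G = ⊥) (hZ : center G = ⊥)
    {E : Subgroup G} (hE : ∀ e ∈ E, e * e = 1) : Nat.card E ≤ 4 := by
  by_contra hc
  obtain ⟨α⟩ := h.ne
  obtain ⟨T, x, y, hx, hy, hb⟩ := (h.fac α).exists_bic 2
  obtain ⟨E', e, hE'⟩ := exists_conj_sub T (E := E) (m := 1) fun e he => by rw [pow_one, sq, hE e he]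
  have hE2 : ∀ e ∈ E', e * e = 1 := fun e he => by simpa [sq] using hE' e he
  have h4 : 4 < Nat.card E' := by omega
  have hn := not_meta hE2 h4
  have hT := T.isPGroup'
  have x2 := sq_ne_one hb.symm hn
  obtain ⟨z, hz, hz1, hz2⟩ := exists_inv hT (y := x) fun e => x2 (by rw [e, one_mul])
  obtain ⟨t, ht, ht1, ht2⟩ := exists_inv hT (y := y) fun e => sq_ne_one hb hn (by rw [e, one_mul])
  have cen : ∀ {u v w : T}, BicOn ⊤ u v → w ∈ zpowers v → w * w = 1 → ∀ g, w * g = g * w :=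
    fun {u v w} hb hw h2 g => by
      obtain ⟨i, j, rfl⟩ := hb.eq g trivial
      exact (((show Commute w u from comm_of_rank hT hb hE2 h4 hw h2).zpow_right i).mul_right
        (setLike_mul_comm (s := zpowers v) hw (zpow_mem_zpowers v j))).eq
  have hzc := cen hb.symm hz hz2
  have htc := cen hb ht ht2
  have hxa : ∀ g ∈ zpowers x, (g : G) ∈ zpowers a := fun _ ⟨i, e⟩ => hx.le ⟨i, congrArg Subtype.val e⟩
  have hya : ∀ g ∈ zpowers y, (g : G) • α = α := fun _ ⟨i, e⟩ => e ▸ zpow_mem hy i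
  obtain ⟨k, k1, k2, k3⟩ := h.exists_k ih (x := x) (y := y) (z := z) (t := t)
    (hT.to_le ((closure_le _).2 (by rintro _ (rfl | rfl); exacts [x.2, y.2])))
    (hxa x (mem_zpowers x)) (fun e => x2 (Subtype.ext e)) (hxa z hz) (fun e => hz1 (Subtype.ext e))
    (congrArg Subtype.val hz2) (fun e => ht1 (Subtype.ext e)) (congrArg Subtype.val ht2) (hya t ht)
    (congrArg Subtype.val (htc x).symm) (congrArg Subtype.val (htc y).symm)
    (congrArg Subtype.val (htc z).symm)
  have hkT : k ∈ (T : Subgroup G) := by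
    have := mul_mem (mul_mem y.2 x.2) (inv_mem y.2)
    rcases k3 with e | e <;> rw [e] at this
    exacts [(mul_mem_cancel_left x.2).1 this, (mul_mem_cancel_left (inv_mem x.2)).1 this]
  obtain ⟨u₁, u₂, c1, c2⟩ := inv_cases hT hb hn
    (fun g h1 h2 => Subtype.ext (h.reg (hxa g h1) (hya g h2))) (k := ⟨k, hkT⟩) (by
      obtain ⟨i, j, e⟩ := hb.eq ⟨k, hkT⟩ trivial
      have : x ^ i = 1 := Subtype.ext (h.reg (hxa _ (zpow_mem_zpowers x i)) (by
        rwa [show k = ((x ^ i : T) : G) * (y ^ j : T) from congrArg Subtype.val e, mul_smul,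
          hya _ (zpow_mem_zpowers y j)] at k1))
      rw [e, this, one_mul]
      exact zpow_mem_zpowers y j) (Subtype.ext k2) (k3.imp Subtype.ext Subtype.ext) hz hz1 hz2 ht ht1 ht2
  have tr : ∀ {g : G} {hg : g ∈ (T : Subgroup G)}, (⟨g, hg⟩ : T) = z ∨ (⟨g, hg⟩ : T) = t ∨
      (⟨g, hg⟩ : T) = z * t → g = z ∨ g = t ∨ g = z * t := fun e =>
    e.imp (congrArg Subtype.val) (Or.imp (congrArg Subtype.val) (congrArg Subtype.val))
  refine zstar_false hO hZ T z.2 t.2 (fun e => hz1 (Subtype.ext e)) (congrArg Subtype.val hz2)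
    (fun e => ht1 (Subtype.ext e)) (congrArg Subtype.val ht2)
    (fun w hw => congrArg Subtype.val (hzc ⟨w, hw⟩)) (fun w hw => congrArg Subtype.val (htc ⟨w, hw⟩))
    (fun e => ?_) (u₁ := u₁) (u₂ := u₂) (fun g hg e1 e2 => (c1 ⟨g, hg⟩ (Subtype.ext e1)
      fun e => e2 (congrArg Subtype.val e)).imp tr
        (Or.imp (T : Subgroup G).subtype.map_isConj (T : Subgroup G).subtype.map_isConj))
    fun g hg e1 e2 e3 => tr (c2 ⟨g, hg⟩ (Subtype.ext e1) (fun e => e2 (congrArg Subtype.val e))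
      fun w => Subtype.ext (e3 w w.2))
  obtain ⟨c, e⟩ := isConj_iff.1 e
  exact hz1 (Subtype.ext (h.reg (hxa z hz) (α := c • α) (by
    rw [← e, mul_smul, inv_smul_smul, mul_smul, hya t ht])))

theorem main (n : ℕ) : ∀ (G Ω : Type u) [Group G] [Finite G] [MulAction G Ω] [Finite Ω] (a : G),
    Nat.card Ω = n → TZ Ω a → Dih G ∧ (Group.IsSolvable G ∨ PG G) := by
  induction n using Nat.strong_induction_on with
  | _ n ih =>
  intro G Ω _ _ _ _ a hn h
  obtain ⟨α⟩ := h.ne
  have hf : Function.Injective (toPermHom G Ω) :=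
    (injective_iff_map_eq_one _).2 fun g e => h.faith g fun ω => DFunLike.congr_fun e ω
  by_cases hc : ∃ N : Subgroup G, N.Normal ∧ N ≠ ⊥ ∧ IsMulCommutative N
  · obtain ⟨N, hN, h1, hc⟩ := hc
    have reg : ∀ g ∈ N, g • α = α → g = 1 := fun g hg e => h.faith g fun ω => by
      obtain ⟨l, hl, rfl⟩ := h.tr_normal h1 α ω
      rw [← mul_smul, setLike_mul_comm hg hl, mul_smul, e]
    have cd : ∀ M : Subgroup G, M.Normal → M ≠ ⊥ → M ≤ N → Nat.card M = Nat.card Ω := fun M _ a b => by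
      rw [card_tr (h.tr_normal a α), eq_bot_iff.2 (show M ⊓ stabilizer G α ≤ ⊥ from fun g hg =>
        reg g (b hg.1) hg.2), card_bot, mul_one]
    refine ⟨?_, Or.inl ?_⟩
    · let E : Subgroup G := ⟨⟨⟨{g | g ∈ N ∧ g * g = 1}, fun {u v} hu hv => ⟨mul_mem hu.1 hv.1, by
        rw [mul_assoc, ← mul_assoc v, setLike_mul_comm hv.1 hu.1, mul_assoc, hv.2, mul_one, hu.2]⟩⟩,
        one_mem _, one_mul 1⟩, fun {u} hu => ⟨inv_mem hu.1, by rw [← mul_inv_rev, hu.2, inv_one]⟩⟩
      have hE : E.Normal := ⟨fun u hu g => ⟨hN.conj_mem u hu.1 g, by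
        calc _ = g * (u * u) * g⁻¹ := by group
          _ = 1 := by rw [hu.2]; group⟩⟩
      have e1 := cd E hE (fun e => by
        obtain ⟨g, hg⟩ := exists_prime_orderOf_dvd_card' (G := N) 2
          (cd N hN h1 le_rfl ▸ h.ev.two_dvd)
        have : (g : G) ∈ E := ⟨g.2, by rw [← sq, ← hg, ← orderOf_coe, pow_orderOf_eq_one]⟩
        rw [e, mem_bot, OneMemClass.coe_eq_one] at this
        rw [this, orderOf_one] at hg
        omega) fun _ hg => hg.1
      by_cases h4 : Nat.card Ω ≤ 4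
      · exact (dih_perm h4).of_injective _ hf
      exfalso
      obtain ⟨T, x, y, hx, hy, hb⟩ := (h.fac α).exists_bic 2
      obtain ⟨E', e, hE'⟩ := exists_conj_sub T (E := E) (m := 1) fun e he => by rw [pow_one, sq, he.2]
      have hE2 : ∀ e ∈ E', e * e = 1 := fun e he => by simpa [sq] using hE' e he
      have h5 : 4 < Nat.card E' := by omega
      obtain ⟨t, ht, ht1, ht2⟩ := exists_inv T.isPGroup' (y := y) fun e =>
        sq_ne_one hb (not_meta hE2 h5) (by rw [e, one_mul])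
      have e2 := congrArg Subtype.val (comm_of_rank T.isPGroup' hb hE2 h5 ht ht2)
      obtain ⟨k, hk⟩ := IsPGroup.iff_card.1 (isPGroup_iff_forall_mem.2 fun g (hg : g ∈ E) =>
        ⟨1, by rw [pow_one, sq, hg.2]⟩ : IsPGroup 2 E)
      have e3 := hx.eq_of_isPGroup (IsPGroup.of_card (n := k) (by
        rw [Nat.card_zpowers, order_of h.faith h.tr α, ← e1, hk]))
      obtain ⟨i, hi⟩ := e3.ge (mem_zpowers a)
      obtain ⟨j, hj⟩ := ht
      refine ht1 (Subtype.ext (reg_of h.faith h.tr (α := α) ?_ (hj ▸ zpow_mem hy j)))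
      rw [← hi]
      exact ((show Commute (t : G) x from e2).zpow_right i).eq
    · have := h.zg α
      have : Group.IsSolvable N := Group.isSolvable_of_comm fun u v => mul_comm' u v
      refine (Group.isSolvable_iff_subgroup_quotient N).2 ⟨this, Group.isSolvable_of_surjective
        (f := (QuotientGroup.mk' N).comp (stabilizer G α).subtype) fun q => ?_⟩
      obtain ⟨g, rfl⟩ := QuotientGroup.mk_surjective q
      obtain ⟨l, hl, e⟩ := h.tr_normal h1 α (g⁻¹ • α)
      exact ⟨⟨g * l, by rw [mem_stabilizer_iff, mul_smul, e, smul_inv_smul]⟩,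
        QuotientGroup.mk_mul_of_mem g hl⟩
  push Not at hc
  have hO : oddCore G = ⊥ := by
    by_contra k
    have := CL.coprime_card_pPrimeCore 2 G
    rw [card_tr (h.tr_normal k α)] at this
    exact absurd (Nat.eq_one_of_dvd_coprimes this (h.ev.two_dvd.mul_right _) dvd_rfl) (by decide)
  have hZ : center G = ⊥ := by_contra fun k => hc _ inferInstance k inferInstance
  have ha : (⊤ : Subgroup G) ≠ ⊥ := fun e => by
    have := h.ev
    rw [← order_of h.faith h.tr α, mem_bot.1 (e.le (mem_top a)), orderOf_one] at this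
    exact absurd this (by decide)
  obtain ⟨L, hL, hL1, -, hmin⟩ := CL.Perm.exists_minimal_normal_le ⊤ ha
  have hrk : PRankLE 2 2 L := fun A _ hA => by
    rw [← card_map_of_injective L.subtype_injective]
    refine h.rank (fun H Δ _ _ _ _ b lt hb => (ih _ (hn ▸ lt) H Δ b rfl hb).1) hO hZ ?_
    rintro _ ⟨g, hg, rfl⟩
    rw [← map_mul, ← sq, hA g hg, map_one]
  have key : IsSimpleGroup L ∧ IsPreprimitive L Ω := by
    classical
    have := Fintype.ofFinite Ω
    let e := MonoidHom.ofInjective hf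
    have := hL.map e.toMonoidHom e.surjective
    have k := Cfsg.Agent.S0700.result (toPermHom G Ω).range
      (is_two_pretransitive_iff.2 fun h1 h2 => let ⟨g, k⟩ := h.two h1 h2; ⟨e g, k⟩)
      (L.map e.toMonoidHom) (fun k => hL1 ((map_eq_bot_iff_of_injective _ e.injective).1 k))
      fun M hM hle => by
        rcases hmin (M.comap e.toMonoidHom) inferInstance (by
          rw [← comap_map_eq_self_of_injective (f := e.toMonoidHom) e.injective L]
          exact comap_mono hle) with k | k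
        · left; rw [← map_comap_eq_self_of_surjective (f := e.toMonoidHom) e.surjective M, k, Subgroup.map_bot]
        · right; rw [← k, map_comap_eq_self_of_surjective (f := e.toMonoidHom) e.surjective]
    let e' := L.equivMapOfInjective e.toMonoidHom e.injective
    rcases k with ⟨k, -⟩ | ⟨k1, k2⟩
    · exact absurd ⟨⟨fun u v => e'.injective (by rw [map_mul, map_mul, mul_comm'])⟩⟩ (hc L hL hL1)
    · let f : Ω →ₑ[e'.symm] Ω := ⟨id, fun g ω => by
        obtain ⟨g, rfl⟩ := e'.surjective g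
        rw [e'.symm_apply_apply]; rfl⟩
      exact ⟨e'.isSimpleGroup, IsPreprimitive.of_surjective (f := f) Function.surjective_id⟩
  have := key.1
  obtain ⟨F, _, _, p, hp, h3, hF, ⟨e⟩⟩ := h.ident (hc L hL hL1) key.2 hrk
  exact ⟨(dih_pgl (by rw [Nat.card_eq_fintype_card, hF]; exact hp.odd_of_ne_two (by omega))).of_injective
    e.toMonoidHom e.injective, Or.inr ⟨F, _, _, p, hp, h3, hF, ⟨e⟩⟩⟩

end CL.CycZ
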