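import Mathlib
import Cfsg.Agent.PERM.CycZ4
import Cfsg.Agent.FGS.SolvRad
import Cfsg.Agent.FGS.CITStruct
import Cfsg.Agent.CLAS.PGL2Solv
import Cfsg.Agent.SOLV.OddOrderCor

/-!
A nonsolvable product of a cyclic group and a Z-group is `PGL₂(p)` modulo its solvable radical.
-/

set_option autoImplicit false

namespace CL.CycZ

open Subgroup Cfsg CL.MSS CL.Bic MulAction CL.PGL2 CL.Dk
open scoped MatrixGroups commutatorElement

universe u

theorem pslIn_le {F : Type*} [Field F] [Fintype F] (h4 : 4 ≤ Fintype.card F) {N : Subgroup PGL(2, F)}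
    [hN : N.Normal] (h : N ≠ ⊥) : pslIn F ≤ N := by
  have := CITC.isSimpleGroup_psl2 h4
  have : IsSimpleGroup (pslIn F) := (pslInEquiv F).symm.isSimpleGroup
  refine subgroupOf_eq_top.1 ((inferInstance : (N.subgroupOf (pslIn F)).Normal).eq_bot_or_eq_top.resolve_left
    fun e => h (eq_bot_iff.2 fun g hg => eq_of_smul_eq_smul (α := P1 F) fun x => ?_))
  obtain ⟨k, rfl⟩ := exists_smul_inf x
  have hu : k * aff 1 1 * k⁻¹ ∈ unipAt (k • (inf : P1 F)) :=
    mem_unipAt_smul.2 (mem_unipAt_inf.2 ⟨1, by group⟩)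
  have hc := commute_of_normal_of_disjoint N (pslIn F) hN inferInstance (subgroupOf_eq_bot.1 e) g _ hg
    (unipAt_le_pslIn _ hu)
  obtain ⟨h1, h2⟩ := mem_unipAt.1 hu
  rw [one_smul]
  refine (h2 _ (by rw [← mul_smul, ← hc.eq, mul_smul, h1])).resolve_right fun a => ?_
  rw [mul_inv_eq_one, mul_eq_left, aff_eq_one_iff] at a
  exact one_ne_zero a.2

theorem eq_bot_of_solv {F : Type*} [Field F] [Fintype F] (h4 : 4 ≤ Fintype.card F)
    {N : Subgroup PGL(2, F)} [N.Normal] [Group.IsSolvable N] : N = ⊥ := by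
  by_contra h
  have := CITC.isSimpleGroup_psl2 h4
  exact not_isMulCommutative_psl (F := F) ⟨⟨IsSimpleGroup.comm_iff_isSolvable.2
    (Group.isSolvable_of_isSolvable_injective
      (f := (inclusion (pslIn_le h4 h)).comp (pslInEquiv F).toMonoidHom)
      ((inclusion_injective (pslIn_le h4 h)).comp (pslInEquiv F).injective))⟩⟩

section

variable {G : Type*} [Group G]

theorem sq_sup {V W : Subgroup G} (hV : ∀ v ∈ V, v * v = 1) (hW : ∀ w ∈ W, w * w = 1)
    (hc : ∀ v ∈ V, ∀ w ∈ W, v * w = w * v) : ∀ e ∈ V ⊔ W, e * e = 1 := fun e he => by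
  rw [← SetLike.mem_coe, coe_mul_of_left_le_normalizer_right _ _ (le_trans (b := centralizer W)
    (fun v hv w hw => (hc v hv w hw).symm) (centralizer_le_normalizer _))] at he
  obtain ⟨v, hv, w, hw, rfl⟩ := he
  change v * w * (v * w) = 1
  rw [mul_assoc, ← mul_assoc w, ← hc v hv w hw, mul_assoc, hW w hw, mul_one, hV v hv]

variable [Finite G]

theorem exists_four (hS : ∀ N : Subgroup G, N.Normal → Group.IsSolvable N → N = ⊥) {D : Subgroup G}
    [hD : D.Normal] (h1 : D ≠ ⊥) : ∃ V ≤ D, (∀ v ∈ V, v * v = 1) ∧ 2 < Nat.card V := by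
  obtain ⟨w, hw⟩ := exists_prime_orderOf_dvd_card' (G := D) 2 (even_iff_two_dvd.1
    (Nat.not_odd_iff_even.1 fun e => h1 (hS D hD (isSolvable_of_odd D e))))
  rw [← orderOf_coe] at hw
  have w1 : (w : G) ≠ 1 := fun e => by rw [e, orderOf_one] at hw; omega
  have w2 : (w : G) * w = 1 := by rw [← sq, ← hw, pow_orderOf_eq_one]
  obtain ⟨g, hg, hne⟩ : ∃ g : G, Commute (w : G) (g * w * g⁻¹) ∧ g * w * g⁻¹ ≠ w := by
    by_contra hc
    push Not at hc
    have := BS.zstar_center ⟨hw, hc⟩ (hS _ inferInstance (isSolvable_of_odd _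
      (Nat.coprime_two_right.1 (CL.coprime_card_pPrimeCore 2 G))))
    rw [hS (center G) inferInstance (Group.isSolvable_of_comm fun u v => mul_comm' u v)] at this
    exact w1 this
  have k : ∀ u : G, u * u = 1 → ∀ v ∈ zpowers u, v * v = 1 := by
    rintro u hu _ ⟨i, rfl⟩
    rw [← (Commute.refl u).mul_zpow, hu, one_zpow]
  refine ⟨zpowers (w : G) ⊔ zpowers (g * w * g⁻¹), sup_le (zpowers_le.2 w.2)
    (zpowers_le.2 (hD.conj_mem _ w.2 g)), sq_sup (k _ w2) (k _ (by
      calc _ = g * (w * w) * g⁻¹ := by group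
        _ = 1 := by rw [w2]; group)) ?_, ?_⟩
  · rintro _ ⟨i, rfl⟩ _ ⟨j, rfl⟩
    exact (hg.zpow_zpow i j).eq
  · have := Fintype.ofFinite (zpowers (w : G) ⊔ zpowers (g * w * g⁻¹) : Subgroup G)
    rw [Nat.card_eq_fintype_card]
    exact Fintype.two_lt_card_iff.2 ⟨1, ⟨w, mem_sup_left (mem_zpowers _)⟩,
      ⟨_, mem_sup_right (mem_zpowers _)⟩, fun e => w1 (congrArg Subtype.val e).symm,
      fun e => w1 (by simpa using (congrArg Subtype.val e).symm),
      fun e => hne (congrArg Subtype.val e).symm⟩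

omit [Finite G] in
theorem Fac.sub {a : G} {B H : Subgroup G} (h : Fac a B) (hB : B ≤ H) :
    ∃ b : H, Fac b (B.subgroupOf H) := by
  have : IsCyclic (zpowers a ⊓ H : Subgroup G) :=
    isCyclic_of_injective _ (inclusion_injective inf_le_left)
  obtain ⟨b, hb⟩ := MC.exists_eq_zpowers (zpowers a ⊓ H)
  have := h.zg
  refine ⟨⟨b, (hb.ge (mem_zpowers b)).2⟩, IsZGroup.of_injective
    (f := (subgroupOfEquivOfLe hB).toMonoidHom) (MulEquiv.injective _), fun g => ?_⟩
  obtain ⟨i, c, hc, e⟩ := h.eq g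
  obtain ⟨j, hj⟩ := hb.le ⟨zpow_mem_zpowers a i, (mul_mem_cancel_right (hB hc)).1 (e ▸ g.2)⟩
  exact ⟨j, ⟨c, hB hc⟩, hc, Subtype.ext (by rw [e, ← hj]; rfl)⟩

theorem Fac.map {a : G} {B : Subgroup G} (h : Fac a B) {H : Type*} [Group H] (f : G →* H)
    (hf : Function.Surjective f) : Fac (f a) (B.map f) := by
  have := h.zg
  refine ⟨IsZGroup.of_surjective (f.subgroupMap_surjective B), fun g => ?_⟩
  obtain ⟨g, rfl⟩ := hf g
  obtain ⟨i, c, hc, rfl⟩ := h.eq g
  exact ⟨i, _, ⟨c, hc, rfl⟩, by rw [map_mul, map_zpow]⟩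

end

/-- `G` is `PGL₂(p)` modulo a solvable normal subgroup -/
def PQ (G : Type*) [Group G] : Prop :=
  ∃ (F : Type) (_ : Field F) (_ : Fintype F) (p : ℕ), p.Prime ∧ 3 < p ∧ Fintype.card F = p ∧
    ∃ φ : G →* PGL(2, F), Function.Surjective φ ∧ Group.IsSolvable φ.ker

theorem prim {G : Type u} [Group G] [Finite G] {a : G} {B M : Subgroup G} (h : Fac a B)
    (hS : ∀ N : Subgroup G, N.Normal → Group.IsSolvable N → N = ⊥) (hG : ¬ Group.IsSolvable G)
    (hM : IsCoatom M) (hB : B ≤ M) (hC : M.normalCore = ⊥) : PQ G := by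
  have faith : ∀ g : G, (∀ ω : G ⧸ M, g • ω = ω) → g = 1 := fun g hg =>
    mem_bot.1 (hC ▸ normalCore_eq_ker M ▸ Equiv.ext hg)
  have tr0 : ∀ β : G ⧸ M, ∃ i : ℤ, a ^ i • ((1 : G) : G ⧸ M) = β := fun β => by
    obtain ⟨g, rfl⟩ := QuotientGroup.mk_surjective β
    obtain ⟨i, c, hc, rfl⟩ := h.eq g
    exact ⟨i, by rw [QuotientGroup.mk_mul_of_mem _ (hB hc), Quotient.smul_mk, smul_eq_mul, mul_one]⟩
  have tr : ∀ α β : G ⧸ M, ∃ i : ℤ, a ^ i • α = β := fun α β => by
    obtain ⟨i, rfl⟩ := tr0 α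
    obtain ⟨j, rfl⟩ := tr0 β
    exact ⟨j - i, by rw [← mul_smul, ← zpow_add, sub_add_cancel]⟩
  have zg : ∀ α : G ⧸ M, IsZGroup (stabilizer G α) := fun α => by
    obtain ⟨i, rfl⟩ := tr0 α
    have := h.zg
    have hle : stabilizer G ((1 : G) : G ⧸ M) ≤ B := fun g hg => by
      obtain ⟨j, c, hc, rfl⟩ := h.eq g
      rw [reg_of faith tr (g := a ^ j) ((Commute.refl a).zpow_left j).eq (α := ((1 : G) : G ⧸ M))
        ((mul_mem_cancel_right (H := stabilizer G _) (by rw [stabilizer_quotient]; exact hB hc)).1 hg),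
        one_mul]
      exact hc
    have := IsZGroup.of_injective (inclusion_injective hle)
    exact IsZGroup.of_injective (f := (stabilizerEquivStabilizer (g := a ^ i) (a := ((1 : G) : G ⧸ M))
      rfl).symm.toMonoidHom) (MulEquiv.injective _)
  have : Nontrivial (G ⧸ M) := QuotientGroup.nontrivial_iff.2 hM.1
  have ev : Even (Nat.card (G ⧸ M)) := by
    obtain ⟨V, -, hV, h2⟩ := exists_four hS (D := ⊤) fun e => hM.1 (eq_top_iff.2 (e.le.trans bot_le))
    have hp : IsPGroup 2 V := isPGroup_iff_forall_mem.2 fun v hv => ⟨1, by rw [pow_one, sq, hV v hv]⟩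
    by_contra k
    obtain ⟨ω, hω⟩ := hp.nonempty_fixed_point_of_prime_not_dvd_card (G ⧸ M) (mt even_iff_two_dvd.2 k)
    have hle : V ≤ stabilizer G ω := fun v hv => hω ⟨v, hv⟩
    have := zg ω
    have := IsZGroup.of_injective (inclusion_injective hle)
    have : IsCyclic (⊤ : Subgroup V) := IsPGroup.isCyclic_of_isZGroup (hp.to_subgroup ⊤)
    have : IsCyclic V := isCyclic_of_surjective _ topEquiv.surjective
    exact absurd (Nat.le_of_dvd two_pos (MC.card_dvd_of_cyclic V (m := 2) fun x hx => by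
      rw [sq, hV x hx])) (by omega)
  obtain ⟨F, _, _, p, hp, h3, hF, ⟨e⟩⟩ := (main _ G (G ⧸ M) a rfl ⟨faith, schur faith tr
    ((isCoatom_stabilizer_iff_preprimitive G ((1 : G) : G ⧸ M)).1 (by rwa [stabilizer_quotient])) ev,
    tr, zg, ev, inferInstance⟩).2.resolve_left hG
  exact ⟨F, _, _, p, hp, h3, hF, e.toMonoidHom, e.surjective, by
    rw [e.toMonoidHom.ker_eq_bot e.injective]; infer_instance⟩

theorem red (n : ℕ) : ∀ (G : Type u) [Group G] [Finite G] (a : G) (B : Subgroup G), Nat.card G = n →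
    Fac a B → ¬ Group.IsSolvable G → PQ G := by
  induction n using Nat.strong_induction_on with
  | _ n ih =>
  intro G _ _ a B hn h hG
  by_cases hS : ∃ N : Subgroup G, N.Normal ∧ Group.IsSolvable N ∧ N ≠ ⊥
  · obtain ⟨N, _, _, h1⟩ := hS
    obtain ⟨F, _, _, p, hp, h3, hF, φ, hφ, hk⟩ := ih _ (by
      have := (one_lt_card_iff_ne_bot N).2 h1
      rw [← hn, card_eq_card_quotient_mul_card_subgroup N]
      exact lt_mul_of_one_lt_right Nat.card_pos this) (G ⧸ N) _ _ rfl
      (h.map _ (QuotientGroup.mk'_surjective N))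
      fun k => hG ((Group.isSolvable_iff_subgroup_quotient N).2 ⟨inferInstance, k⟩)
    refine ⟨F, _, _, p, hp, h3, hF, φ.comp (QuotientGroup.mk' N),
      hφ.comp (QuotientGroup.mk'_surjective N), Group.isSolvable_of_ker_le_range
        (inclusion (fun g hg => ?_ : N ≤ _)) (((QuotientGroup.mk' N).comp (Subgroup.subtype _)).codRestrict φ.ker
          fun g => g.2) fun g hg => ⟨⟨g, (QuotientGroup.eq_one_iff _).1 (congrArg Subtype.val hg)⟩, rfl⟩⟩
    rw [MonoidHom.mem_ker, MonoidHom.comp_apply, QuotientGroup.mk'_apply,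
      (QuotientGroup.eq_one_iff _).2 hg, map_one]
  push Not at hS
  have := h.zg
  obtain ⟨M, hM, hB⟩ := (eq_top_or_exists_le_coatom B).resolve_left fun e =>
    hG (Group.isSolvable_of_surjective (f := B.subtype) fun g => ⟨⟨g, e ▸ mem_top g⟩, rfl⟩)
  by_cases hC : M.normalCore = ⊥
  · exact prim h hS hG hM hB hC
  exfalso
  set C := M.normalCore
  have hCM : C ≤ M := normalCore_le M
  obtain ⟨b, hb⟩ := h.sub hB
  have lt : Nat.card M < Nat.card G := by
    rw [← M.index_mul_card]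
    exact lt_mul_of_one_lt_left Nat.card_pos (one_lt_index_of_ne_top hM.1)
  obtain ⟨F, _, _, p, hp, h3, hF, φ, hφ, hk⟩ := ih _ (hn ▸ lt) M b _ rfl hb fun _ =>
    hC (hS C inferInstance (Group.isSolvable_of_isSolvable_injective (inclusion_injective hCM)))
  have h4 : 4 ≤ Fintype.card F := by omega
  have hO : Odd (Nat.card F) := by rw [Nat.card_eq_fintype_card, hF]; exact hp.odd_of_ne_two (by omega)
  set L : Subgroup G := ⁅C, C⁆
  have hLC : L ≤ C := commutator_le_left C C
  have hL1 : L ≠ ⊥ := fun e => hC (hS C inferInstance (Group.isSolvable_of_comm fun u v => Subtype.ext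
    (commutator_eq_bot_iff_le_centralizer.1 e v.2 u u.2)))
  let ψ : L →* PGL(2, F) := φ.comp (inclusion (hLC.trans hCM))
  have hψ : Function.Injective ψ := (injective_iff_map_eq_one _).2 fun g hg => by
    have := SR.coe_mem_solvableRadical (SR.le_solvableRadical (N := ψ.ker)
      (Group.isSolvable_of_isSolvable_injective (f := ((inclusion (hLC.trans hCM)).comp
        ψ.ker.subtype).codRestrict φ.ker fun g => g.2) fun u v e => Subtype.ext
          (inclusion_injective (hLC.trans hCM) (congrArg (fun w : φ.ker => (w : M)) e))) hg)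
    rw [SR.solvableRadical_eq_bot_iff.2 hS] at this
    exact Subtype.ext this
  have hr : ψ.range = pslIn F := by
    have e : ψ.range = (L.subgroupOf M).map φ := by
      rw [MonoidHom.range_comp, inclusion_range]
    have : ψ.range.Normal := e ▸ Normal.map inferInstance φ hφ
    refine le_antisymm ?_ (pslIn_le h4 fun k => hL1 (eq_bot_iff.2 fun g hg =>
      congrArg Subtype.val (hψ (a₁ := ⟨g, hg⟩) (a₂ := 1) ((k.le ⟨_, rfl⟩).trans (map_one ψ).symm))))
    rw [e, map_le_iff_le_comap, ← map_le_map_iff_of_injective M.subtype_injective, subgroupOf_map_subtype]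
    refine inf_le_left.trans (commutator_le.2 fun u hu v hv => ⟨⁅(⟨u, hCM hu⟩ : M), ⟨v, hCM hv⟩⁆, ?_, rfl⟩)
    rw [SetLike.mem_coe, mem_comap, map_commutatorElement, commutatorElement_def]
    simp only [mul_mem_iff_of_index_two (index_pslIn_of_odd hO), inv_mem_iff]
    tauto
  let e : L ≃* PSL(2, F) := (MonoidHom.ofInjective hψ).trans
    ((MulEquiv.subgroupCongr hr).trans (pslInEquiv F).symm)
  by_cases hD : centralizer (L : Set G) = ⊥
  · obtain ⟨θ, hθ⟩ := exists_inj_pgl (fun c hc => mem_bot.1 (hD ▸ fun l hl => (hc l hl).symm))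
      (hF ▸ hp) e
    exact absurd ((Nat.card_le_card_of_injective θ hθ).trans (Nat.card_le_card_of_surjective φ hφ))
      (by omega)
  obtain ⟨V, hV, hV2, h5⟩ := exists_four hS hL1
  obtain ⟨W, hW, hW2, h6⟩ := exists_four hS hD
  have hc : ∀ v ∈ V, ∀ w ∈ W, v * w = w * v := fun v hv w hw => hW hw v (hV hv)
  have k := h.card_le_eight (sq_sup hV2 hW2 hc)
  rw [CL.card_sup_of_disjoint (le_trans (b := centralizer W) (fun v hv w hw => (hc v hv w hw).symm)
    (centralizer_le_normalizer _)) (eq_bot_iff.2 ((inf_le_inf hV hW).trans (hS (L ⊓ centralizer L)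
      inferInstance (Group.isSolvable_of_comm fun u v => Subtype.ext (v.2.2 u u.2.1))).le))] at k
  nlinarith

end CL.CycZ
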