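import Mathlib
import Cfsg.Agent.PERM.ONS
import Cfsg.Agent.CHAR.Burnside
import Cfsg.Agent.FGS.ConjCover

/-!
Conjugacy classes of derangements in primitive groups.
-/

set_option autoImplicit false

namespace CL.ONS

open MulAction Subgroup CL.MSS CL.Perm CL.SPow

variable {G Ω : Type*} [Group G] [MulAction G Ω]

theorem exists_three_orders (T : Type*) [Group T] [Finite T] [IsSimpleGroup T]
    (hT : ¬ IsMulCommutative T) : ∃ t u v : T, t ≠ 1 ∧ u ≠ 1 ∧ v ≠ 1 ∧ orderOf t ≠ orderOf u ∧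
      orderOf t ≠ orderOf v ∧ orderOf u ≠ orderOf v := by
  have hns : ¬ Group.IsSolvable T := fun h =>
    hT ⟨⟨IsSimpleGroup.comm_iff_isSolvable.mpr h⟩⟩
  obtain ⟨p, hp, hpd⟩ := Nat.exists_prime_and_dvd (Finite.one_lt_card (α := T)).ne'
  obtain ⟨q, hq, hqd, hqp⟩ : ∃ q : ℕ, q.Prime ∧ q ∣ Nat.card T ∧ q ≠ p := by
    by_contra h
    push Not at h
    exact hns (CL.Char.isSolvable_of_primes_subset_pair hp hp fun r hr hd => Or.inl (h r hr hd))
  obtain ⟨r, hr, hrd, hrp, hrq⟩ : ∃ r : ℕ, r.Prime ∧ r ∣ Nat.card T ∧ r ≠ p ∧ r ≠ q := by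
    by_contra h
    push Not at h
    exact hns (CL.Char.isSolvable_of_primes_subset_pair hp hq fun r hr hd =>
      (em (r = p)).imp_right (h r hr hd))
  have key : ∀ s : ℕ, s.Prime → s ∣ Nat.card T → ∃ t : T, t ≠ 1 ∧ orderOf t = s := by
    intro s hs hd
    have := Fact.mk hs
    obtain ⟨t, ht⟩ := exists_prime_orderOf_dvd_card' s hd
    refine ⟨t, ?_, ht⟩
    rintro rfl
    rw [orderOf_one] at ht
    exact hs.one_lt.ne ht
  obtain ⟨t, ht, ht'⟩ := key p hp hpd
  obtain ⟨u, hu, hu'⟩ := key q hq hqd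
  obtain ⟨v, hv, hv'⟩ := key r hr hrd
  exact ⟨t, u, v, ht, hu, hv, by omega, by omega, by omega⟩

theorem Emb.not_isConj {T ι : Type*} [Group T] [IsSimpleGroup T] [Fintype ι]
    (E : Emb (ι → T) G) (hT : ¬ IsMulCommutative T) {x y : ι → T}
    (h : ∏ i, orderOf (x i) ≠ ∏ i, orderOf (y i)) : ¬ IsConj (E.f x) (E.f y) := by
  intro hc
  obtain ⟨g, hg⟩ := isConj_iff.mp hc
  rw [← E.hρ] at hg
  rw [← E.inj hg, prod_orderOf_aut hT] at h
  exact h rfl

theorem prod_orderOf_mulSingle {T ι : Type*} [Group T] [Fintype ι] [DecidableEq ι] (i : ι) (t : T) :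
    ∏ k, orderOf (Pi.mulSingle (M := fun _ : ι => T) i t k) = orderOf t := by
  rw [Finset.prod_eq_single i] <;> simp +contextual

theorem prod_orderOf_mulSingle_mul {T ι : Type*} [Group T] [Fintype ι] [DecidableEq ι] {i j : ι}
    (hij : i ≠ j) (t u : T) :
    ∏ k, orderOf ((Pi.mulSingle i t * Pi.mulSingle j u : ι → T) k) =
      orderOf t * orderOf u := by
  rw [Finset.prod_eq_mul i j hij] <;> simp +contextual [hij, hij.symm]

/-- If the centraliser of the image is nontrivial, the image is regular. -/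
theorem Emb.R_eq_bot {A : Type*} [Group A] (E : Emb A G) [FaithfulSMul G Ω]
    (hprim : IsPreprimitive G Ω) (hC : centralizer (E.f.range : Set G) ≠ ⊥) (a : Ω) :
    E.R a = ⊥ := by
  have := E.normal
  rw [eq_bot_iff]
  intro x hx
  rw [mem_bot, ← map_eq_one_iff _ E.inj]
  exact eq_one_of_commute_of_transitive _ (isPretransitive_of_normal_of_ne_bot hprim _ hC)
    (fun m hm => mem_centralizer_iff.mp hm _ ⟨x, rfl⟩) hx

theorem Emb.isSimpleGroup_range {T : Type*} [Group T] [IsSimpleGroup T] (E : Emb (Fin 1 → T) G) :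
    IsSimpleGroup E.f.range :=
  ((MulEquiv.piUnique fun _ : Fin 1 => T).symm.trans
    (MonoidHom.ofInjective E.inj)).symm.isSimpleGroup

/-- A primitive group that is neither affine nor almost simple has three pairwise non-conjugate
derangements. -/
theorem exists_three_derangements [Finite G] [FaithfulSMul G Ω] [Nontrivial Ω]
    (hprim : IsPreprimitive G Ω)
    (hnas : ¬ ∃ T : Subgroup G, T.Normal ∧ IsSimpleGroup T ∧ ¬ IsMulCommutative T ∧
      centralizer (T : Set G) = ⊥)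
    (hna : ¬ ∃ N : Subgroup G, N.Normal ∧ N ≠ ⊥ ∧ IsMulCommutative N) :
    ∃ x y z : G, (∀ ω : Ω, x • ω ≠ ω) ∧ (∀ ω : Ω, y • ω ≠ ω) ∧ (∀ ω : Ω, z • ω ≠ ω) ∧
      ¬ IsConj x y ∧ ¬ IsConj x z ∧ ¬ IsConj y z := by
  classical
  obtain ⟨a, b, hab⟩ := exists_pair_ne Ω
  have htop : (⊤ : Subgroup G) ≠ ⊥ := by
    intro h
    obtain ⟨g, hg⟩ := exists_smul_eq G a b
    have : g ∈ (⊥ : Subgroup G) := h ▸ mem_top g
    rw [mem_bot.mp this, one_smul] at hg
    exact hab hg
  obtain ⟨N, hNn, hN, -, hmin⟩ := exists_minimal_normal_le (⊤ : Subgroup G) htop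
  have hnab : ¬ IsMulCommutative N := fun h => hna ⟨N, hNn, hN, h⟩
  obtain ⟨T, _, _, m, E, h1, hT, hm, hE, h4⟩ := ons_core hprim a N hN hmin hnab
  obtain ⟨t, u, v, ht, hu, hv, htu, htv, huv⟩ := exists_three_orders T hT
  have : Nonempty (Fin m) := ⟨⟨0, hm⟩⟩
  have caseA : ∀ i : Fin m, (∀ s : T, s ≠ 1 → ∀ y, y⁻¹ * Pi.mulSingle i s * y ∉ E.R a) →
      ∃ x y z : G, (∀ ω : Ω, x • ω ≠ ω) ∧ (∀ ω : Ω, y • ω ≠ ω) ∧ (∀ ω : Ω, z • ω ≠ ω) ∧
      ¬ IsConj x y ∧ ¬ IsConj x z ∧ ¬ IsConj y z := fun i h =>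
    ⟨_, _, _, E.forall_smul_ne hprim a (h t ht), E.forall_smul_ne hprim a (h u hu),
      E.forall_smul_ne hprim a (h v hv),
      E.not_isConj hT (by simpa only [prod_orderOf_mulSingle] using htu),
      E.not_isConj hT (by simpa only [prod_orderOf_mulSingle] using htv),
      E.not_isConj hT (by simpa only [prod_orderOf_mulSingle] using huv)⟩
  by_cases hC : centralizer (N : Set G) = ⊥
  swap
  · apply caseA ⟨0, hm⟩
    intro s hs y hy
    rw [E.R_eq_bot hprim (hE ▸ hC), mem_bot] at hy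
    have := congrFun hy ⟨0, hm⟩
    simp [mul_assoc, inv_mul_eq_one] at this
    exact hs this
  have hm2 : 2 ≤ m := by
    by_contra h
    obtain rfl : m = 1 := by omega
    exact hnas ⟨N, hNn, hE ▸ E.isSimpleGroup_range, hnab, hC⟩
  rcases h4 with ⟨K, hK, hK'⟩ | ⟨k, c, hk, -, hc, hc'⟩
  · let i : Fin m := ⟨0, by omega⟩
    let j : Fin m := ⟨1, by omega⟩
    have hij : i ≠ j := by simp [i, j]
    obtain ⟨d, hd⟩ := CL.exists_forall_conj_notMem (hK i)
    have hder : ∀ s : T, ∀ ω : Ω, E.f (Pi.mulSingle i d * Pi.mulSingle j s) • ω ≠ ω := by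
      intro s
      apply E.forall_smul_ne hprim a
      intro y hy
      have := (hK' _).mp hy i
      simp [hij] at this
      exact hd _ this
    have hd0 : 0 < orderOf d := orderOf_pos d
    exact ⟨_, _, _, hder t, hder u, hder v,
      E.not_isConj hT (by
        simpa only [prod_orderOf_mulSingle_mul hij] using fun h => htu (Nat.eq_of_mul_eq_mul_left hd0 h)),
      E.not_isConj hT (by
        simpa only [prod_orderOf_mulSingle_mul hij] using fun h => htv (Nat.eq_of_mul_eq_mul_left hd0 h)),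
      E.not_isConj hT (by
        simpa only [prod_orderOf_mulSingle_mul hij] using fun h => huv (Nat.eq_of_mul_eq_mul_left hd0 h))⟩
  · let i : Fin m := ⟨0, by omega⟩
    obtain ⟨⟨j, hj⟩, hji⟩ : ∃ j : {j // c j = c i}, j ≠ ⟨i, rfl⟩ := by
      have : Nontrivial {j // c j = c i} := Finite.one_lt_card_iff_nontrivial.mp (by rw [hc]; omega)
      exact exists_ne _
    have hji' : j ≠ i := fun h => hji (Subtype.ext h)
    have key : ∀ s : T, s ≠ 1 → ∀ y, y⁻¹ * Pi.mulSingle i s * y ∉ E.R a := by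
      intro s hs y hy
      have := (hc' _).mp hy i j hj.symm
      simp [hji', mul_assoc, inv_mul_eq_one] at this
      exact hs this
    exact caseA i key

/-- An abelian normal subgroup of a primitive group is regular. -/
theorem regular_of_comm [FaithfulSMul G Ω] (hprim : IsPreprimitive G Ω) (N : Subgroup G)
    [N.Normal] (hN : N ≠ ⊥) (hc : IsMulCommutative N) {n : G} (hn : n ∈ N) {a : Ω}
    (h : n • a = a) : n = 1 :=
  eq_one_of_commute_of_transitive N (isPretransitive_of_normal_of_ne_bot hprim N hN)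
    (fun m hm => congrArg Subtype.val (hc.is_comm.comm ⟨n, hn⟩ ⟨m, hm⟩)) h

theorem isConj_iff_of_regular (N : Subgroup G) [hNn : N.Normal] (hc : IsMulCommutative N)
    (ht : IsPretransitive N Ω) {a : Ω} (hr : ∀ n ∈ N, n • a = a → n = 1) {n n' : G} (hn : n ∈ N)
    (hn' : n' ∈ N) : IsConj n n' ↔ ∃ h : G, h • a = a ∧ h • n • a = n' • a := by
  rw [isConj_iff]
  constructor
  · rintro ⟨g, rfl⟩
    obtain ⟨m, hm⟩ := ht.exists_smul_eq a (g • a)
    have hm' : (m : G) • a = g • a := hm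
    refine ⟨(m : G)⁻¹ * g, by rw [mul_smul, ← hm', inv_smul_smul], ?_⟩
    have h1 : (m : G)⁻¹ * (g * n * g⁻¹) = g * n * g⁻¹ * (m : G)⁻¹ :=
      congrArg Subtype.val (hc.is_comm.comm m⁻¹ ⟨_, hn'⟩)
    calc ((m : G)⁻¹ * g) • n • a = ((m : G)⁻¹ * (g * n * g⁻¹)) • g • a := by simp [mul_smul]
      _ = _ := by rw [h1, ← hm', mul_smul, inv_smul_smul]
  · rintro ⟨h, h1, h2⟩
    refine ⟨h, ?_⟩
    have := hr (n'⁻¹ * (h * n * h⁻¹)) (N.mul_mem (N.inv_mem hn') (hNn.conj_mem n hn h)) (by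
      rw [mul_smul, mul_smul, mul_smul, inv_smul_eq_iff.mpr h1.symm, h2, inv_smul_smul])
    exact (inv_mul_eq_one.mp this).symm

theorem two_transitive_of_stabilizer [IsPretransitive G Ω] (a : Ω)
    (h : ∀ b c : Ω, b ≠ a → c ≠ a → ∃ g : G, g • a = a ∧ g • b = c) :
    IsMultiplyPretransitive G Ω 2 := by
  rw [is_two_pretransitive_iff]
  intro x y z w hxy hzw
  obtain ⟨g, rfl⟩ := exists_smul_eq G a x
  obtain ⟨k, rfl⟩ := exists_smul_eq G a z
  obtain ⟨u, h1, h2⟩ := h (g⁻¹ • y) (k⁻¹ • w) (fun e => hxy (inv_smul_eq_iff.mp e).symm)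
    (fun e => hzw (inv_smul_eq_iff.mp e).symm)
  exact ⟨k * u * g⁻¹, by simp [mul_smul, h1], by simp [mul_smul, h2]⟩

/-- In a sharply 2-transitive group the derangements are conjugate. -/
theorem isConj_of_sharply_two [Finite Ω] [FaithfulSMul G Ω] (h2 : IsMultiplyPretransitive G Ω 2)
    (hs : ∀ g : G, ∀ a b : Ω, a ≠ b → g • a = a → g • b = b → g = 1) {x y : G} {a : Ω}
    (hx : ∀ ω : Ω, x • ω ≠ ω) (hy : ∀ ω : Ω, y • ω ≠ ω) : IsConj x y := by
  have htop : (⊤ : Subgroup G) ≠ ⊥ := by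
    intro h
    have : x ∈ (⊥ : Subgroup G) := h ▸ mem_top x
    exact hx a (by rw [mem_bot.mp this, one_smul])
  obtain ⟨K, p, hKn, -, hKt, hK, -, -, hKc, -⟩ :=
    exists_regular_normal_of_two_point_trivial h2 ⊤ htop (fun g _ => hs g)
  rw [isConj_iff_of_regular K hKc hKt (a := a) (fun n hn h => ((hK n).mp hn).resolve_right
    fun h' => h'.2 a h) ((hK x).mpr (Or.inr ⟨trivial, hx⟩)) ((hK y).mpr (Or.inr ⟨trivial, hy⟩))]
  exact is_two_pretransitive_iff.mp h2 (hx a).symm (hy a).symm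

end CL.ONS
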