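/- STUB (S3373): building the frame from the action on an elementary abelian group of order 27.
Hints: choose ρ : H →* SL(3,F) (uniqueness of B from `inj`); kernel A = range ι (`cen`); ρ is onto since
the transvections generate SL(3,F) (Matrix.diagonal_transvection_induction or a word list + decide;
ε = ±1 and the inverse of a transvection). Gaschütz `CL.gaschutz_exists` (SOLV/Gaschutz) in H with
K = A, U = comap ρ of the unitriangular group (order 27, index 208 in 5616; or U = K ⊔ A' and compute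
the index from ρ), A' = closure {X, s} = {X^i s^j c^k} (c = ⁅X,s⁆ central in it; ρ is injective on it).
Complement H₀ ≃* SL(3,F) by ρ, σ the inverse; f p = ι (vec p) * σ (lin p) (vec_mul). -/
import Mathlib
import Cfsg.Agent.PERM.L43M
import Cfsg.Agent.SOLV.Gaschutz
import Cfsg.Agent.CLAS.SLBasic

set_option autoImplicit false

namespace CL.L43

open scoped MatrixGroups commutatorElement

namespace FH

open Subgroup
open scoped Pointwise

theorem card_SL : Nat.card SL(3, F) = 5616 := by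
  have := CL.SL.card_SL_mul (F := F) 3 (by norm_num)
  rw [ZMod.card, Fin.prod_univ_three] at this
  have e : (3 ^ 3 - 3 ^ ((0 : Fin 3) : ℕ)) * (3 ^ 3 - 3 ^ ((1 : Fin 3) : ℕ)) * (3 ^ 3 - 3 ^ ((2 : Fin 3) : ℕ)) =
    11232 := by decide
  omega

theorem normal_form {G : Type*} [Group G] {X s : G} (X3 : X ^ 3 = 1) (s3 : s ^ 3 = 1) (c1 : Commute ⁅X, s⁆ X)
    (c2 : Commute ⁅X, s⁆ s) {g : G} (hg : g ∈ closure {X, s}) :
    ∃ t : Fin 3 × Fin 3 × Fin 3, g = ⁅X, s⁆ ^ (t.1 : ℕ) * s ^ (t.2.1 : ℕ) * X ^ (t.2.2 : ℕ) := by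
  have e : X * s * X⁻¹ = ⁅X, s⁆ * s := by rw [commutatorElement_def, inv_mul_cancel_right]
  generalize ⁅X, s⁆ = c at *
  have c3 : c ^ 3 = 1 := by
    have := congrArg (· ^ 3) e
    simp only [conj_pow, c2.mul_pow, s3, mul_one, mul_inv_cancel] at this
    exact this.symm
  have hX : ∀ g, (∃ i j k : ℕ, g = c ^ i * s ^ j * X ^ k) → ∃ i j k : ℕ, X * g = c ^ i * s ^ j * X ^ k := by
    rintro _ ⟨i, j, k, rfl⟩
    refine ⟨i + j, j, k + 1, ?_⟩
    rw [pow_add, mul_assoc (c ^ i) (c ^ j), ← c2.mul_pow, ← e, conj_pow, ← mul_assoc, ← mul_assoc,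
      (c1.pow_left i).symm.eq, pow_succ']
    group
  have hs : ∀ g, (∃ i j k : ℕ, g = c ^ i * s ^ j * X ^ k) → ∃ i j k : ℕ, s * g = c ^ i * s ^ j * X ^ k := by
    rintro _ ⟨i, j, k, rfl⟩
    exact ⟨i, j + 1, k, by rw [← mul_assoc, ← mul_assoc, (c2.pow_left i).symm.eq, pow_succ', mul_assoc (c ^ i)]⟩
  have iv : ∀ {a : G}, a ^ 3 = 1 → ∀ g, a⁻¹ * g = a * (a * g) := fun {a} h g => by
    rw [← mul_assoc, ← one_mul a⁻¹, ← h, pow_succ, mul_inv_cancel_right, sq]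
  have : ∃ i j k : ℕ, g = c ^ i * s ^ j * X ^ k := by
    induction hg using closure_induction_left with
    | one => exact ⟨0, 0, 0, by simp⟩
    | mul_left x hx y _ ih => rcases hx with rfl | rfl; exacts [hX _ ih, hs _ ih]
    | inv_mul_cancel x hx y _ ih =>
      rcases hx with rfl | rfl
      · rw [iv X3]; exact hX _ (hX _ ih)
      · rw [iv s3]; exact hs _ (hs _ ih)
  obtain ⟨i, j, k, rfl⟩ := this
  exact ⟨(⟨i % 3, Nat.mod_lt _ (by norm_num)⟩, ⟨j % 3, Nat.mod_lt _ (by norm_num)⟩,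
    ⟨k % 3, Nat.mod_lt _ (by norm_num)⟩), by
      rw [← pow_eq_pow_mod i c3, ← pow_eq_pow_mod j s3, ← pow_eq_pow_mod k X3]⟩

/-- the elements of the unitriangular group -/
def W (b c e : F) (t : Fin 3 × Fin 3 × Fin 3) : P0 :=
  ⁅uu b c 0 0 0 0, uu 0 0 0 e 0 0⁆ ^ (t.1 : ℕ) * uu 0 0 0 e 0 0 ^ (t.2.1 : ℕ) * uu b c 0 0 0 0 ^ (t.2.2 : ℕ)

theorem W_inj : ∀ b c e : F, b ≠ 0 → e ≠ 0 → ∀ t t', (W b c e t).1.b = (W b c e t').1.b →
    (W b c e t).1.c = (W b c e t').1.c → (W b c e t).1.f = (W b c e t').1.f → t = t' := by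
  decide +kernel

theorem lin_W_inj {b c e : F} (hb : b ≠ 0) (he : e ≠ 0) : Function.Injective fun t => lin (W b c e t) :=
  fun t t' h => by
    have a := fun i j => congrFun (congrFun (congrArg Subtype.val h) i) j
    exact W_inj b c e hb he t t' (a 0 1) (a 0 2) (a 1 2)

end FH

open FH Subgroup in
theorem exists_hom {G : Type*} [Group G] [Finite G] {ι : (Fin 3 → F) → G}
    (add : ∀ u v, ι (u + v) = ι u * ι v) (inj : Function.Injective ι) {H : Subgroup G}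
    (mem : ∀ v, ι v ∈ H)
    (act : ∀ g ∈ H, ∃ B : SL(3, F), ∀ v, g * ι v * g⁻¹ = ι (B.1.mulVec v))
    (sur : ∀ i j : Fin 3, i ≠ j → ∃ ε : F, ε ≠ 0 ∧ ∃ g ∈ H,
      ∀ v, g * ι v * g⁻¹ = ι ((Matrix.transvection i j ε).mulVec v))
    (cen : ∀ g ∈ H, (∀ v, g * ι v = ι v * g) → ∃ v, ι v = g)
    {X s : G} (XH : X ∈ H) (sH : s ∈ H) (X3 : X ^ 3 = 1) (s3 : s ^ 3 = 1) {b c e : F} (hb : b ≠ 0)
    (he : e ≠ 0) (aX : ∀ v, X * ι v * X⁻¹ = ι ((lin (uu b c 0 0 0 0)).1.mulVec v))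
    (as : ∀ v, s * ι v * s⁻¹ = ι ((lin (uu 0 0 0 e 0 0)).1.mulVec v))
    (c1 : Commute ⁅X, s⁆ X) (c2 : Commute ⁅X, s⁆ s) :
    ∃ f : P0 →* G, Function.Injective f ∧ f.range = H ∧ ∀ u v w, f (tr u v w) = ι ![u, v, w] := by
  have i0 : ι 0 = 1 := by simpa using add 0 0
  have uq : ∀ {g : G} {B B' : SL(3, F)}, (∀ v, g * ι v * g⁻¹ = ι (B.1.mulVec v)) →
      (∀ v, g * ι v * g⁻¹ = ι (B'.1.mulVec v)) → B = B' := fun h h' =>
    Subtype.ext (Matrix.ext_of_mulVec_single fun i => inj ((h _).symm.trans (h' _)))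
  choose r hr using fun g : H => act g g.2
  let ρ : H →* SL(3, F) := MonoidHom.mk' r fun g k => uq (hr _) fun v => by
    rw [Matrix.SpecialLinearGroup.coe_mul, ← Matrix.mulVec_mulVec, ← hr, ← hr, coe_mul]; group
  have hρ : ∀ (g : H) v, g * ι v * (g : G)⁻¹ = ι ((ρ g).1.mulVec v) := hr
  have cm : ∀ u v, ι u * ι v = ι v * ι u := fun u v => by rw [← add, add_comm, add]
  have ker : ∀ g : H, g ∈ ρ.ker ↔ ∃ v, ι v = g := fun g => ⟨fun h => cen g g.2 fun v => by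
    have := hρ g v
    rw [show ρ g = 1 from h, Matrix.SpecialLinearGroup.coe_one, Matrix.one_mulVec] at this
    exact mul_inv_eq_iff_eq_mul.1 this, fun ⟨v, h⟩ => uq (hρ g) fun u => by
      rw [← h, cm, mul_inv_cancel_right, Matrix.SpecialLinearGroup.coe_one, Matrix.one_mulVec]⟩
  have sj : Function.Surjective ρ := by
    rw [← MonoidHom.range_eq_top]
    refine CL.SL.eq_top_of_transvection_mem _ fun i j hij c => ?_
    obtain ⟨ε, h0, g, hg, h⟩ := sur i j hij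
    have m : Matrix.SpecialLinearGroup.transvection hij ε ∈ ρ.range := ⟨⟨g, hg⟩, uq (hρ _) h⟩
    have : ∀ c ε : F, ε ≠ 0 → c = 0 ∨ c = ε ∨ c = -ε := by decide
    rcases this c ε h0 with rfl | rfl | rfl
    · rw [Matrix.SpecialLinearGroup.transvection_coeff_zero]; exact one_mem _
    · exact m
    · rw [← Matrix.SpecialLinearGroup.transvection_inv]; exact inv_mem m
  have : IsMulCommutative ρ.ker := ⟨⟨fun a b => by
    obtain ⟨u, hu⟩ := (ker _).1 a.2
    obtain ⟨v, hv⟩ := (ker _).1 b.2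
    refine Subtype.ext (Subtype.ext ?_)
    simp only [coe_mul, ← hu, ← hv, cm u v]⟩⟩
  have pK : IsPGroup 3 ρ.ker := fun a => ⟨1, by
    obtain ⟨u, hu⟩ := (ker _).1 a.2
    refine Subtype.ext (Subtype.ext ?_)
    have : ∀ u : Fin 3 → F, u + u + u = 0 := by decide
    change ((a : H) : G) ^ 3 = 1
    rw [← hu, pow_succ, sq, ← add, ← add, this, i0]⟩
  let X' : H := ⟨X, XH⟩
  let s' : H := ⟨s, sH⟩
  have rX : ρ X' = lin (uu b c 0 0 0 0) := uq (hρ _) aX
  have rs : ρ s' = lin (uu 0 0 0 e 0 0) := uq (hρ _) as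
  have nf : ∀ g ∈ closure {X', s'}, ∃ t : Fin 3 × Fin 3 × Fin 3,
      g = ⁅X', s'⁆ ^ (t.1 : ℕ) * s' ^ (t.2.1 : ℕ) * X' ^ (t.2.2 : ℕ) := fun g =>
    normal_form (X := X') (s := s') (Subtype.ext X3) (Subtype.ext s3) (Subtype.ext c1.eq) (Subtype.ext c2.eq)
  have rW : ∀ t : Fin 3 × Fin 3 × Fin 3,
      ρ (⁅X', s'⁆ ^ (t.1 : ℕ) * s' ^ (t.2.1 : ℕ) * X' ^ (t.2.2 : ℕ)) = lin (W b c e t) := fun t => by
    simp only [W, map_mul, map_pow, map_commutatorElement, rX, rs]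
  have mX : X' ∈ closure {X', s'} := subset_closure (by simp)
  have ms : s' ∈ closure {X', s'} := subset_closure (by simp)
  have cA : Nat.card ((closure {X', s'}).map ρ) = 27 := by
    have : (((closure {X', s'}).map ρ : Subgroup _) : Set SL(3, F)) = Set.range fun t => lin (W b c e t) := by
      ext B
      constructor
      · rintro ⟨g, hg, rfl⟩
        obtain ⟨t, rfl⟩ := nf g hg
        exact ⟨t, (rW t).symm⟩
      · rintro ⟨t, rfl⟩
        exact ⟨_, mul_mem (mul_mem (pow_mem (mul_mem (mul_mem (mul_mem mX ms) (inv_mem mX)) (inv_mem ms)) _)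
          (pow_mem ms _)) (pow_mem mX _), rW t⟩
    rw [← SetLike.coe_sort_coe, this, Nat.card_range_of_injective (lin_W_inj hb he)]
    simp
  obtain ⟨H0, hc⟩ := CL.gaschutz_exists ρ.ker (ρ.ker ⊔ closure {X', s'}) le_sup_left (by
    obtain ⟨n, hn⟩ := IsPGroup.iff_card.mp pK
    have h1 := ((closure {X', s'}).map ρ).index_mul_card
    rw [cA, card_SL] at h1
    rw [hn, ← index_map_eq _ sj le_sup_left, Subgroup.map_sup, (Subgroup.map_eq_bot_iff ρ.ker).2 le_rfl, bot_sup_eq,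
      show ((closure {X', s'}).map ρ).index = 208 by omega]
    exact Nat.Coprime.pow_left _ (by norm_num)) (closure {X', s'}) (by
    refine eq_bot_iff.2 fun g ⟨h1, h2⟩ => ?_
    obtain ⟨t, rfl⟩ := nf g h1
    obtain rfl : t = 0 := lin_W_inj hb he ((rW t).symm.trans ((show ρ _ = 1 from h2).trans (by simp [W])))
    simp) rfl
  have bj : Function.Bijective (ρ.comp H0.subtype) := by
    refine ⟨(injective_iff_map_eq_one _).2 fun g h => Subtype.ext ?_, fun B => ?_⟩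
    · exact mem_bot.1 (hc.disjoint.le_bot ⟨h, g.2⟩)
    · obtain ⟨g, rfl⟩ := sj B
      obtain ⟨⟨k, h⟩, rfl⟩ := hc.2 g
      exact ⟨h, by simp [show ρ k = 1 from k.2]⟩
  let σ : SL(3, F) →* H := H0.subtype.comp (MulEquiv.ofBijective _ bj).symm.toMonoidHom
  have hσ : ∀ B, ρ (σ B) = B := fun B => (MulEquiv.ofBijective _ bj).apply_symm_apply B
  let f : P0 →* G := MonoidHom.mk' (fun p => ι (vec p) * σ (lin p)) fun p q => by
    rw [vec_mul, add, map_mul, map_mul, coe_mul, ← hσ (lin p), ← hρ, hσ]; group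
  have hf : ∀ p, f p = ι (vec p) * σ (lin p) := fun _ => rfl
  refine ⟨f, (injective_iff_map_eq_one _).2 fun p h => ?_, le_antisymm ?_ fun g hg => ?_, fun u v w => ?_⟩
  · have h1 : lin p = 1 := by
      rw [← hσ (lin p)]
      refine (ker _).2 ⟨-vec p, ?_⟩
      rw [eq_inv_of_mul_eq_one_right ((hf p).symm.trans h), eq_inv_iff_mul_eq_one, ← add, neg_add_cancel, i0]
    rw [hf, h1, map_one, coe_one, mul_one, ← i0] at h
    exact ext_lin_vec (h1.trans (map_one _).symm) ((inj h).trans (by decide))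
  · rintro _ ⟨p, rfl⟩
    exact mul_mem (mem _) (σ _).2
  · obtain ⟨v, hv⟩ := (ker (⟨g, hg⟩ * (σ (ρ ⟨g, hg⟩))⁻¹)).1 (by simp [hσ])
    obtain ⟨p, h1, h2⟩ := exists_lin_vec (ρ ⟨g, hg⟩) v
    exact ⟨p, by rw [hf, h1, h2, hv]; simp⟩
  · rw [hf, lin_tr, vec_tr, map_one, coe_one, mul_one]

end CL.L43
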