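/- Linear algebra for the centralizer `3^(1+4) : SL(2,3)`. -/
import Mathlib
import Cfsg.Agent.PERM.L43E

set_option autoImplicit false

namespace CL.L43

open Subgroup CL.McL3 CL.Odd
open scoped MatrixGroups commutatorElement

theorem la {U : Type*} [AddCommGroup U] [Module F U] (ω : U →ₗ[F] U →ₗ[F] F) (alt : ∀ u, ω u u = 0)
    (S I T : U →ₗ[F] U) (A : U → Prop) {u1 u2 u4 : U} (S3 : ∀ u, S (S (S u)) = u)
    (ωS : ∀ u v, ω (S u) (S v) = ω u v) (S1 : S u1 = u1) (SP : ∀ u, ω u u1 = 0 → A (S u - u))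
    (SA : ∀ a, A a → ∃ k : F, S a - a = k • u1) (kA : ∀ a, A a → S a = a → ∃ k : F, a = k • u1)
    (h2 : S u2 - u2 = u1) (iso : ω u2 u1 = 0) (h4 : ω u4 u1 ≠ 0) (II : ∀ u, I (I u) = -u)
    (rel : ∀ u, S (I (S (I (S u)))) = I u) (T1 : T u1 = u1)
    (TA : ∀ a, A a → ∃ k : F, T a + a = k • u1) (TI : ∀ u, T (I u) = -I (T u))
    (ωT : ∀ u v, ω (T u) (T v) = -ω u v) :
    (∀ u, S (S u - u) = S u - u) ∧ S (I u1) - I u1 = u1 ∧ (∀ a, A a → ω (I u1) a = 0) ∧
      ∃ X, ω X u1 ≠ 0 ∧ ω (S X - X) X = 0 ∧ ω (S X - X) (I u1) ≠ 0 := by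
  have t3 : (3 : F) = 0 := rfl
  have t2 : (2 : F) ≠ 0 := by decide
  have three : ∀ u : U, (3 : F) • u = 0 := fun u => by rw [t3, zero_smul]
  have an : ∀ u v, ω u v = -ω v u := fun u v => by
    have := alt (u + v)
    simp only [map_add, LinearMap.add_apply, alt] at this; linear_combination this
  obtain ⟨N, rfl⟩ : ∃ N : U →ₗ[F] U, S = LinearMap.id + N := ⟨S - LinearMap.id, by simp⟩
  simp only [LinearMap.add_apply, LinearMap.id_apply, add_sub_cancel_left, add_eq_left] at *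
  have n3 : ∀ u, N (N (N u)) = 0 := fun u => by
    have := S3 u
    simp only [map_add] at this
    linear_combination (norm := module) this - three (N u) - three (N (N u))
  have adj : ∀ u v, ω (N u) v = 2 * ω u (N v) + ω u (N (N v)) := fun u v => by
    have := ωS u (v + N v + N (v + N v))
    rw [S3] at this
    simp only [map_add, LinearMap.add_apply] at this; linear_combination this
  have h1 : ω u1 u4 ≠ 0 := by rw [an]; simpa using h4
  have p3 : ω (N u4) u1 = 0 := by simp [adj, S1]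
  have n4 : N (N u4) = 0 := by
    obtain ⟨k, hk⟩ := kA _ (SP _ p3) (n3 _)
    have := adj (N u4) u4
    rw [alt, hk, map_smul, map_smul, p3] at this
    rw [hk, show k = 0 by simpa [h1] using this, zero_smul]
  have n2 : ∀ u, N (N u) = 0 := fun u => by
    obtain ⟨k, hk⟩ := SA _ (SP (u - (ω u u1 / ω u4 u1) • u4) (by simp [div_mul_cancel₀ _ h4]))
    have := adj (N (u - (ω u u1 / ω u4 u1) • u4)) u4
    rw [hk, adj, n4] at this
    simpa [show k = 0 by simpa [h1] using this, n4] using hk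
  have nv : N (I u1) = u1 := by
    have e := rel u1
    rw [S1, add_zero] at e
    have e1 := congrArg N e
    simp only [map_add, n2, II, map_neg, S1, map_zero, neg_zero] at e e1
    have e2 : I (N (I u1)) = u1 + I u1 - N (I u1) := by
      linear_combination (norm := module) e - e1
    have e3 := congrArg I e2
    rw [II, map_sub, map_add, II, e2] at e3
    linear_combination (norm := module) e3 + three (N (I u1)) - three u1
  have v1 : ω (I u1) u1 = 0 := by
    have := adj u2 (I u1 - u2)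
    simp only [map_sub, nv, h2, sub_self, map_zero] at this
    rw [an, ← an u2 u1] at iso
    rw [an]; linear_combination -this - an u1 u2 + iso
  refine ⟨n2, nv, fun a ha => ?_, u4 + (-ω (N u4) u4 / ω u4 u1) • I u1, by simpa [v1] using h4, ?_, ?_⟩
  · obtain ⟨k, hk⟩ := TA a ha
    have := ωT (I u1) a
    rw [TI, T1, eq_sub_of_add_eq hk] at this
    simp only [map_neg, map_sub, map_smul, LinearMap.neg_apply, v1, smul_eq_mul] at this
    exact (mul_eq_zero.1 (by linear_combination this)).resolve_left t2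
  · have := adj u4 (I u1)
    simp only [map_add, map_smul, nv, LinearMap.add_apply, LinearMap.smul_apply, smul_eq_mul, n2,
      S1, map_zero] at this ⊢
    rw [this, an u1 u4, an u1 (I u1), v1]; field_simp; ring
  · have := adj u4 (I u1)
    simp only [map_add, map_smul, nv, LinearMap.add_apply, LinearMap.smul_apply, smul_eq_mul, n2,
      S1, map_zero] at this ⊢
    rw [this, an u1 (I u1), v1]; simpa using ⟨t2, h4⟩

abbrev S2 := SL(2, F)

theorem sl_ex : ∀ s : S2, s * s * s = 1 → s ≠ 1 → ∃ i : S2, i * i = -1 ∧ s * i * s * i * s = i := by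
  decide +kernel

set_option synthInstance.maxSize 2000 in
set_option synthInstance.maxHeartbeats 200000 in
theorem sl_gen : ∀ s : S2, s * s * s = 1 → s ≠ 1 → ∀ i : S2, i * i = -1 → s * i * s * i * s = i →
    s * (i * s * i⁻¹) * s * i = 1 ∧
    (∀ x, ∃ a b : Fin 3, ∃ c : Fin 4, x = s ^ a.val * i ^ c.val * s ^ b.val) ∧
    (∀ m : Fin 3, s ^ m.val * i * (s ^ m.val)⁻¹ * (s ^ m.val * i * (s ^ m.val)⁻¹) = -1 ∧
      s * (s ^ m.val * i * (s ^ m.val)⁻¹) * s * (s ^ m.val * i * (s ^ m.val)⁻¹) * s =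
        s ^ m.val * i * (s ^ m.val)⁻¹) ∧
    ∀ j : S2, j * j = -1 → s⁻¹ * j * s⁻¹ * j * s⁻¹ * j⁻¹ = 1 →
      ∃ m : Fin 3, s⁻¹ ^ m.val * j * (s⁻¹ ^ m.val)⁻¹ = (s ^ m.val * i * (s ^ m.val)⁻¹)⁻¹ := by
  decide +kernel

theorem sl_neg : ∀ x : S2, x = 1 ∨ x = -1 ∨ ∃ y, x * (y * x⁻¹ * y⁻¹) = -1 ∨
    x * (y * x⁻¹ * y⁻¹) * (x * (y * x⁻¹ * y⁻¹)) = -1 := by decide +kernel

universe u

variable {G : Type u} [Group G]

section coord

variable {ι : (Fin 3 → F) → G} (add : ∀ u v, ι (u + v) = ι u * ι v)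
include add

theorem io_zero : ι 0 = 1 := by simpa using add 0 0

theorem io_smul (c : F) (v : Fin 3 → F) : ι (c • v) = ι v ^ c.val := by
  rw [← ZMod.natCast_zmod_val c, Nat.cast_smul_eq_nsmul, ZMod.natCast_zmod_val]
  induction c.val with
  | zero => simp [io_zero add]
  | succ n ih => rw [succ_nsmul, add, ih, pow_succ]

theorem ac_of_basis {g : G} {B : Matrix (Fin 3) (Fin 3) F}
    (h : ∀ k, g * ι (Pi.single k 1) * g⁻¹ = ι fun j => B j k) (v : Fin 3 → F) :
    g * ι v * g⁻¹ = ι (B.mulVec v) := by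
  have e : v = v 0 • Pi.single 0 1 + v 1 • Pi.single 1 1 + v 2 • Pi.single 2 1 := by
    ext i; fin_cases i <;> simp
  have e' : B.mulVec v = (v 0 • fun j => B j 0) + (v 1 • fun j => B j 1) + v 2 • fun j => B j 2 := by
    ext i; simp [Matrix.mulVec, dotProduct, Fin.sum_univ_three, mul_comm]
  rw [e', add, add, io_smul add, io_smul add, io_smul add, ← h, ← h, ← h, conj_pow, conj_pow,
    conj_pow, conj_mul, conj_mul, ← io_smul add, ← io_smul add, ← io_smul add, ← add, ← add, ← e]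

omit add in
/-- the elements acting with determinant one -/
def HH (ι : (Fin 3 → F) → G) : Subgroup G where
  carrier := {g | ∃ B : SL(3, F), ∀ v, g * ι v * g⁻¹ = ι (B.1.mulVec v)}
  one_mem' := ⟨1, fun v => by simp⟩
  mul_mem' := fun {g k} ⟨B, h⟩ ⟨C, h'⟩ => ⟨B * C, fun v => by
    rw [Matrix.SpecialLinearGroup.coe_mul, ← Matrix.mulVec_mulVec, ← h, ← h']; group⟩
  inv_mem' := fun {g} ⟨B, h⟩ => ⟨B⁻¹, fun v => by
    rw [mul_inv_eq_iff_eq_mul, inv_mul_eq_iff_eq_mul, ← mul_assoc, h, Matrix.mulVec_mulVec,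
      ← Matrix.SpecialLinearGroup.coe_mul, mul_inv_cancel]; simp⟩

theorem mem_HH (inj : Function.Injective ι) {g : G} (h : ∀ v, ∃ w, ι w = g * ι v * g⁻¹)
    (g3 : g ^ 3 = 1) : g ∈ HH ι := by
  choose w hw using h
  have e := ac_of_basis add (B := Matrix.of fun j k => w (Pi.single k 1) j) fun k => (hw _).symm
  generalize (Matrix.of fun j k => w (Pi.single k 1) j) = B at e
  have b : B * B * B = 1 := Matrix.ext_iff_mulVec.2 fun v => inj (by
    rw [← Matrix.mulVec_mulVec, ← Matrix.mulVec_mulVec, ← e, ← e, ← e, Matrix.one_mulVec]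
    calc _ = g ^ 3 * ι v * (g ^ 3)⁻¹ := by rw [pow_three]; group
      _ = _ := by rw [g3]; simp)
  have := congrArg Matrix.det b
  rw [Matrix.det_mul, Matrix.det_mul, Matrix.det_one] at this
  exact ⟨⟨B, (by decide : ∀ a : F, a * a * a = 1 → a = 1) _ this⟩, e⟩

end coord

end CL.L43
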