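/- From the centralizer `3^(1+4) : SL(2,3)` to the parabolic subgroup `3^3 : SL(3,3)`. -/
import Mathlib
import Cfsg.Agent.PERM.L43G
import Cfsg.Agent.PERM.L43F

set_option autoImplicit false

namespace CL.L43

open Subgroup CL.McL3 CL.Odd
open scoped MatrixGroups commutatorElement

universe u

variable {G : Type u} [Group G]

/-- the hypotheses on `C(z) = 3^(1+4) : SL(2,3)` -/
structure HC (Q : Subgroup G) (z : G) (π : cz z →* S2) : Prop extends ES Q z where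
  sur : ∀ x, ∃ g, Rel π g x
  ker : ∀ g, Rel π g 1 ↔ g ∈ Q
  neg : ∀ g, Rel π g (-1) → ∀ q ∈ Q, g * q * g⁻¹ * q ∈ zpowers z

namespace HC

variable {Q : Subgroup G} {z : G} {π : cz z →* S2} (h : HC Q z π)
include h

theorem mem_Q {a b : G} {x : S2} (ha : Rel π a x) (hb : Rel π b x) : a * b⁻¹ ∈ Q :=
  (h.ker _).1 ((ha.mul hb.inv).congr (mul_inv_cancel x))

/-- an element inverting `z` and `Q' / Z'` -/
theorem exists_t [Finite G] {k : G} (hz : k * z * k⁻¹ ∈ Q) (hn : k * z * k⁻¹ ∉ zpowers z) :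
    ∃ t, t * (k * z * k⁻¹) = k * z * k⁻¹ * t ∧ t * z * t⁻¹ = z⁻¹ ∧
      ∀ q ∈ Q.map (MulAut.conj k), t * q * t⁻¹ * q ∈ zpowers (k * z * k⁻¹) := by
  have h' : ES _ (k * z * k⁻¹) := h.toES.map (MulAut.conj k)
  obtain ⟨t, ht⟩ := h.sur (-1)
  have a : ∀ q ∈ Q.map (MulAut.conj k), k * t * k⁻¹ * q * (k * t * k⁻¹)⁻¹ * q ∈
      zpowers (k * z * k⁻¹) := by
    rintro _ ⟨q, hq, rfl⟩
    obtain ⟨j, e⟩ := h.neg t ht q hq
    exact ⟨j, by simp only [conj_zpow, e, MulAut.conj_apply, MonoidHom.coe_coe]; group⟩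
  have b : k * t * k⁻¹ * (k * z * k⁻¹) = k * z * k⁻¹ * (k * t * k⁻¹) := by
    rw [conj_mul, conj_mul, mem_cz'.1 ht.mem]
  generalize k * t * k⁻¹ = t at a b
  generalize k * z * k⁻¹ = y at *
  generalize Q.map (MulAut.conj k : G →* G) = Q' at *
  have zQ := h.symm_mem h' hz
  obtain ⟨q, hq, -, ε, h0, e⟩ := h'.sep (inv_mem zQ) (one_mem _) fun _ => by
    simpa using h.symm_not h' hn
  obtain ⟨j, hj⟩ := exists_val h'.z3 (a z zQ)
  have c := fun n => (show Commute q y from h'.Qz q hq).pow_right n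
  have k1 : ∀ n : ℕ, q ^ n * z⁻¹ * (q ^ n)⁻¹ = (y ^ ε.val) ^ n * z⁻¹ := fun n => by
    induction n with
    | zero => simp
    | succ n ih =>
      calc _ = q * (q ^ n * z⁻¹ * (q ^ n)⁻¹) * q⁻¹ := by group
        _ = (y ^ ε.val) ^ n * (q * z⁻¹ * q⁻¹) := by
          rw [ih, ← mul_assoc, ((c _).pow_right n).eq]; group
        _ = _ := by rw [e]; group
  obtain ⟨n, hn'⟩ : ∃ n : ℕ, y ^ j.val * (y ^ ε.val) ^ n = 1 := by
    refine ⟨(-j * ε).val, ?_⟩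
    rw [← pow_mul, ← pow_add, ← orderOf_dvd_iff_pow_eq_one, orderOf_eq_prime h'.z3 h'.z1]
    exact (by decide : ∀ j ε : F, ε ≠ 0 → 3 ∣ j.val + ε.val * (-j * ε).val) j ε h0
  refine ⟨q ^ n * t, by rw [mul_assoc, b, ← mul_assoc, ← mul_assoc, h'.Qz _ (pow_mem hq n)], ?_,
    fun r hr => ?_⟩
  · calc _ = q ^ n * (t * z * t⁻¹ * z * z⁻¹) * (q ^ n)⁻¹ := by group
      _ = y ^ j.val * (q ^ n * z⁻¹ * (q ^ n)⁻¹) := by
        rw [hj, ← mul_assoc, ((c _).pow_left n).eq]; group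
      _ = _ := by rw [k1, ← mul_assoc, hn', one_mul]
  · have := mul_mem (h'.Qc _ (pow_mem hq n) _ (h'.nQ t (.of_comm b) r hr)) (a r hr)
    simpa [mul_assoc] using this

omit h in
theorem sl_inv : ∀ x : S2, x * x = 1 → x = 1 ∨ x = -1 := by decide +kernel

variable [Finite G] {Q' : Subgroup G} {y t : G} (h' : ES Q' y) (hz : y ∈ Q) (hn : y ∉ zpowers z)
  (ty : t * y = y * t) (tz : t * z * t⁻¹ = z⁻¹) (tq : ∀ q ∈ Q', t * q * t⁻¹ * q ∈ zpowers y)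
include h' hz tz tq

omit [Finite G] h' in
theorem exists_i {s : G} (sQ : s ∈ Q') {σ : S2} (hσ : Rel π s σ) (s3 : σ * σ * σ = 1) (s1 : σ ≠ 1) :
    ∃ i ι, Rel π i ι ∧ ι * ι = -1 ∧ σ * ι * σ * ι * σ = ι ∧ Rel π (t * i * t⁻¹) ι⁻¹ := by
  obtain ⟨ι, i2, ir⟩ := sl_ex σ s3 s1
  obtain ⟨i, hi⟩ := h.sur ι
  have tN : NZ z t := .inr tz
  have ts : Rel π (t * s * t⁻¹) σ⁻¹ := by
    simpa using ((h.ker _).2 (zpowers_le.2 hz (tq s sQ))).mul hσ.inv
  obtain ⟨κ, hκ⟩ := rel_of_mem π (mem_cz'.2 (tN.conj_comm (mem_cz'.1 hi.mem)))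
  have k1 : ∀ {g x}, Rel π g 1 → Rel π (t * g * t⁻¹) x → x = 1 := fun a b =>
    b.uniq ((h.ker _).2 (h.nQ t tN _ ((h.ker _).1 a)))
  have k2 : κ * κ = -1 := (sl_inv _ (k1 (((hi.mul hi).mul (hi.mul hi)).congr (by rw [i2]; simp))
      (by simpa only [conj_mul] using (hκ.mul hκ).mul (hκ.mul hκ)))).resolve_left fun e => by
    have := h.nQ _ tN.inv _ ((h.ker _).1 ((hκ.mul hκ).congr e))
    rw [conj_mul, show t⁻¹ * (t * (i * i) * t⁻¹) * t⁻¹⁻¹ = i * i by group] at this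
    exact absurd (((hi.mul hi).congr i2).uniq ((h.ker _).2 this)) (by decide)
  obtain ⟨-, -, g1, g2⟩ := sl_gen σ s3 s1 ι i2 ir
  obtain ⟨m, hm⟩ := g2 κ k2 (k1 ((((((hσ.mul hi).mul hσ).mul hi).mul hσ).mul hi.inv).congr
    (by rw [ir, mul_inv_cancel])) (by
      simpa only [conj_mul, conj_inv] using ((((ts.mul hκ).mul ts).mul hκ).mul ts).mul hκ.inv))
  exact ⟨_, _, ((hσ.pow m).mul hi).mul (hσ.pow m).inv, (g1 m).1, (g1 m).2, by
    simpa only [conj_mul, conj_inv, conj_pow] using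
      (((ts.pow m).mul hκ).mul (ts.pow m).inv).congr hm⟩

include hn ty

theorem exists_data : ∃ s ∈ Q', ∃ σ i ι, Rel π s σ ∧ σ * σ * σ = 1 ∧ σ ≠ 1 ∧ Rel π i ι ∧
    ι * ι = -1 ∧ σ * ι * σ * ι * σ = ι ∧ i * y * i⁻¹ ∈ Q ⊓ Q' ∧
    (∀ j l : F, y ^ j.val * (i * y * i⁻¹) ^ l.val ∈ zpowers z → j = 0 ∧ l = 0) ∧
    ∃ X ∈ Q, X * y ≠ y * X ∧ Commute ⁅X, s⁆ X ∧ s * ⁅X, s⁆ * s⁻¹ * ⁅X, s⁆⁻¹ ∈ zpowers z ∧
      ⁅X, s⁆ * (i * y * i⁻¹) ≠ i * y * i⁻¹ * ⁅X, s⁆ := by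
  have zQ := h.symm_mem h' hz
  obtain ⟨s, sQ, sz, sn⟩ := h.exists_s h' hz hn
  have Ac := h.toES.inf_comm h' hn
  have A27 := h.card_inf h' hz hn
  obtain ⟨σ, hσ⟩ := rel_of_mem π (mem_cz'.2 sz)
  have s3 : σ * σ * σ = 1 := by rw [← pow_three', hσ.pow_eq_one (h'.Q3 s sQ)]
  have s1 : σ ≠ 1 := fun e => sn ((h.ker s).1 (hσ.congr e))
  obtain ⟨i, ι, hi, i2, ir, ti⟩ := h.exists_i hz tz tq sQ hσ s3 s1
  obtain ⟨U, _, _, p, φ, ω, pa, p0, ps, pφ, hω⟩ := h.sympl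
  have sN : NZ z s := .of_comm sz
  have iN : NZ z i := .of_comm (mem_cz'.1 hi.mem)
  have tN : NZ z t := .inr tz
  have pk : ∀ a ∈ Q, ∀ k : F, p (a ^ k.val) = k • p a := fun a ha k => by
    rw [← ZMod.natCast_zmod_val k, Nat.cast_smul_eq_nsmul, ZMod.natCast_zmod_val]
    induction k.val with
    | zero => simp [p0 _ (one_mem _)]
    | succ n ih => rw [pow_succ, pa _ (pow_mem ha n) _ ha, ih, succ_nsmul]
  have pi : ∀ a ∈ Q, p a⁻¹ = -p a := fun a ha => eq_neg_of_add_eq_zero_left (by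
    rw [← pa _ (inv_mem ha) _ ha, inv_mul_cancel, p0 _ (one_mem _)]; exact one_mem _)
  have pc : ∀ g, NZ z g → ∀ a ∈ Q, p (g * a * g⁻¹ * a⁻¹) = φ g (p a) - p a := fun g hg a ha => by
    rw [pa _ (h.nQ g hg a ha) _ (inv_mem ha), pi a ha, pφ g hg a ha, sub_eq_add_neg]
  have eqv : ∀ {g k x}, Rel π g x → Rel π k x → ∀ a ∈ Q, p (g * a * g⁻¹) = p (k * a * k⁻¹) :=
    fun {g k x} hg hk a ha => by
    have m := h.nQ k (.of_comm (mem_cz'.1 hk.mem)) a ha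
    have := (p0 _ (h.ZQ (h.Qc _ (h.mem_Q hg hk) _ m))).2 (h.Qc _ (h.mem_Q hg hk) _ m)
    rwa [show g * k⁻¹ * (k * a * k⁻¹) * (g * k⁻¹)⁻¹ = g * a * g⁻¹ by group, pa _ (h.nQ g (.of_comm
      (mem_cz'.1 hg.mem)) a ha) _ (inv_mem m), pi _ m, ← sub_eq_add_neg, sub_eq_zero] at this
  have ω0 : ∀ a ∈ Q, ∀ b ∈ Q, ω (p a) (p b) = 0 ↔ a * b = b * a := fun a ha b hb =>
    ⟨fun e => by simpa [e, mul_inv_eq_iff_eq_mul] using hω a ha b hb,
      fun e => pow_val_inj h.z1 h.z3 (by rw [← hω a ha b hb, e]; simp)⟩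
  have II : ∀ u, φ i (φ i u) = -u := fun u => by
    obtain ⟨a, ha, rfl⟩ := ps u
    have m := h.nQ _ (iN.mul iN) a ha
    have := (p0 _ (mul_mem m ha)).2 (h.neg _ ((hi.mul hi).congr i2) a ha)
    rw [pa _ m _ ha] at this
    rw [pφ i iN a ha, pφ i iN _ (h.nQ i iN a ha), ← eq_neg_of_add_eq_zero_left this]; congr 1; group
  obtain ⟨a, ha, as⟩ : ∃ a ∈ Q ⊓ Q', s * a ≠ a * s := by
    by_contra c
    push Not at c
    exact sn (h'.max_ab inf_le_right Ac A27 sQ c).1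
  obtain ⟨u2, h2, iso⟩ : ∃ u2, φ s u2 - u2 = p y ∧ ω u2 (p y) = 0 := by
    have e0 := (ω0 a ha.1 y hz).2 (h'.Qz a ha.2)
    rcases (mem_zpowers_three h'.z3).1 (h'.Qc s sQ a ha.2) with e | e | e
    · exact absurd (by simpa [mul_inv_eq_iff_eq_mul] using e) as
    · exact ⟨p a, by rw [← pc s sN a ha.1, e], e0⟩
    · exact ⟨-p a, by rw [map_neg, neg_sub_neg, ← neg_sub, ← pc s sN a ha.1, e, pi y hz, neg_neg],
        by simp [e0]⟩
  obtain ⟨q, hq, qy⟩ : ∃ q ∈ Q, y * q ≠ q * y := by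
    by_contra c
    push Not at c
    exact hn (h.CQ y c)
  let Y : Multiplicative V2 →* G := MonoidHom.mk' (fun v => co2 z y v.toAdd) fun u v =>
    co2_add h.z3 h'.z3 (h.Qz y hz).symm _ _
  have y0 : p y ≠ 0 := fun e => hn ((p0 y hz).1 e)
  have pY : ∀ v, p (Y v) = v.toAdd.2 • p y := fun v => by
    rw [show Y v = _ * _ from rfl, pa _ (pow_mem h.zQ _) _ (pow_mem hz _), pk _ hz,
      (p0 _ (pow_mem h.zQ _)).2 (pow_mem (mem_zpowers z) _), zero_add]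
  have Y9 : Nat.card Y.range = 9 := by
    rw [← Nat.card_congr (MonoidHom.ofInjective ((injective_iff_map_eq_one Y).2 fun v e => ?_)).toEquiv]
    · simp
    have e2 : v.toAdd.2 = 0 := by
      have := pY v
      rw [e, (p0 _ (one_mem _)).2 (one_mem _)] at this
      exact (smul_eq_zero.1 this.symm).resolve_right y0
    have e1 : v.toAdd.1 = 0 := pow_val_inj h.z1 h.z3 (by
      simpa [show Y v = z ^ v.toAdd.1.val * y ^ v.toAdd.2.val from rfl, e2] using e)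
    exact Prod.ext e1 e2
  obtain ⟨n2, nv, va, X, X1, X2, X3⟩ := la ω (fun u => (ps u).elim fun a e => e.2 ▸ (ω0 a e.1 a e.1).2 rfl)
    (φ s) (φ i) (φ t) (fun u => ∃ a ∈ Q ⊓ Q', p a = u) (u1 := p y) (u2 := u2) (u4 := p q)
    (fun u => by
      obtain ⟨a, ha, rfl⟩ := ps u
      rw [pφ s sN a ha, pφ s sN _ (h.nQ s sN a ha), pφ s sN _ (h.nQ s sN _ (h.nQ s sN a ha))]
      congr 1
      calc _ = s ^ 3 * a * (s ^ 3)⁻¹ := by rw [pow_three]; group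
        _ = _ := by rw [h'.Q3 s sQ]; simp)
    (fun u v => by
      obtain ⟨a, ha, rfl⟩ := ps u
      obtain ⟨b, hb, rfl⟩ := ps v
      refine pow_val_inj h.z1 h.z3 ?_
      rw [pφ s sN a ha, pφ s sN b hb, ← hω _ (h.nQ s sN a ha) _ (h.nQ s sN b hb), conj_inv, conj_inv,
        conj_mul, conj_mul, conj_mul, hω a ha b hb, ← conj_pow, sz, mul_inv_cancel_right])
    (by rw [pφ s sN y hz, h'.Qz s sQ, mul_inv_cancel_right])
    (fun u e => by
      obtain ⟨a, ha, rfl⟩ := ps u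
      exact ⟨_, mem_inf.2 ⟨mul_mem (h.nQ s sN a ha) (inv_mem ha), by
        simpa [mul_assoc] using mul_mem sQ (h'.nQ a (.of_comm ((ω0 a ha y hz).1 e)) _ (inv_mem sQ))⟩,
        pc s sN a ha⟩)
    (by
      rintro _ ⟨a, ha, rfl⟩
      obtain ⟨k, e⟩ := exists_val h'.z3 (h'.Qc s sQ a ha.2)
      exact ⟨k, by rw [← pc s sN a ha.1, e, pk y hz]⟩)
    (by
      rintro _ ⟨b, hb, rfl⟩ e
      rw [← sub_eq_zero, ← pc s sN b hb.1, p0 _ (mul_mem (h.nQ s sN b hb.1) (inv_mem hb.1))] at e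
      have e' := h.toES.eq_one h' hn e (h'.Qc s sQ b hb.2)
      rcases eq_of_card_three (A := Y.range) (B := Q ⊓ Q' ⊓ cz s) (by
        rintro _ ⟨v, rfl⟩
        exact mul_mem (pow_mem (mem_inf.2 ⟨mem_inf.2 ⟨h.zQ, zQ⟩, mem_cz'.2 sz.symm⟩) _)
          (pow_mem (mem_inf.2 ⟨mem_inf.2 ⟨hz, h'.zQ⟩, mem_cz'.2 (h'.Qz s sQ).symm⟩) _)) inf_le_left (by rw [A27, Y9]) with c | c
      · obtain ⟨v, rfl⟩ := c ⟨hb, mem_cz'.2 (by
          simpa [mul_inv_eq_iff_eq_mul, eq_comm (a := b * s)] using e')⟩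
        exact ⟨_, pY v⟩
      · exact absurd (mem_cz'.1 (c ha).2).symm as)
    h2 iso (fun e => qy ((ω0 q hq y hz).1 e).symm) II
    (fun u => by
      obtain ⟨a, ha, rfl⟩ := ps u
      have m := h.nQ s sN a ha
      have m2 := h.nQ s sN _ (h.nQ i iN _ m)
      rw [pφ s sN a ha, pφ i iN _ m, pφ s sN _ (h.nQ i iN _ m), pφ i iN _ m2,
        pφ s sN _ (h.nQ i iN _ m2), pφ i iN a ha,
        ← eqv (((((hσ.mul hi).mul hσ).mul hi).mul hσ).congr ir) hi a ha]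
      congr 1; group)
    (by rw [pφ t tN y hz, ty, mul_inv_cancel_right])
    (by
      rintro _ ⟨a, ha, rfl⟩
      obtain ⟨k, e⟩ := exists_val h'.z3 (tq a ha.2)
      exact ⟨k, by rw [pφ t tN a ha.1, ← pa _ (h.nQ t tN a ha.1) _ ha.1, e, pk y hz]⟩)
    (fun u => by
      obtain ⟨a, ha, rfl⟩ := ps u
      have m := h.nQ t tN a ha
      have e := II (p (i⁻¹ * (t * a * t⁻¹) * i⁻¹⁻¹))
      rw [pφ i iN _ (h.nQ _ iN.inv _ m), ← eqv ti hi.inv _ m] at e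
      rw [pφ i iN a ha, pφ t tN a ha, pφ t tN _ (h.nQ i iN a ha), eq_comm, neg_eq_iff_eq_neg]
      rwa [show i * (i⁻¹ * (t * a * t⁻¹) * i⁻¹⁻¹) * i⁻¹ = t * a * t⁻¹ by group,
        show t * i * t⁻¹ * (t * a * t⁻¹) * (t * i * t⁻¹)⁻¹ = t * (i * a * i⁻¹) * t⁻¹ by group] at e)
    (fun u v => by
      obtain ⟨a, ha, rfl⟩ := ps u
      obtain ⟨b, hb, rfl⟩ := ps v
      refine pow_val_inj h.z1 h.z3 ?_
      rw [pφ t tN a ha, pφ t tN b hb, ← hω _ (h.nQ t tN a ha) _ (h.nQ t tN b hb), conj_inv, conj_inv,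
        conj_mul, conj_mul, conj_mul, hω a ha b hb, ← conj_pow, tz, pow_val_neg h.z3, inv_pow])
  have aQ := h.nQ i iN y hz
  rw [pφ i iN y hz] at nv va X3
  obtain ⟨X, hX, rfl⟩ := ps X
  have cQ : ⁅X, s⁆ ∈ Q := by
    simpa [commutatorElement_def, mul_assoc] using mul_mem hX (h.nQ s sN _ (inv_mem hX))
  have pX : p ⁅X, s⁆ = -(φ s (p X) - p X) := by
    rw [← pc s sN X hX, ← pi _ (mul_mem (h.nQ s sN X hX) (inv_mem hX)), commutatorElement_def]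
    congr 1; group
  refine ⟨s, sQ, σ, i, ι, hσ, s3, s1, hi, i2, ir, h.max_ab inf_le_left Ac A27 aQ fun b hb =>
    (ω0 _ aQ b hb.1).1 (va _ ⟨b, hb, rfl⟩), fun j l e => ?_, X, hX,
    fun e => X1 ((ω0 X hX y hz).2 e), (ω0 _ cQ X hX).1 (by rw [pX, map_neg, LinearMap.neg_apply, X2, neg_zero]),
    (p0 _ (mul_mem (h.nQ s sN _ cQ) (inv_mem cQ))).1 (by rw [pc s sN _ cQ, pX, map_neg, n2, sub_self]),
    fun e => X3 (neg_eq_zero.1 (by rw [← LinearMap.neg_apply, ← map_neg, ← pX]; exact (ω0 _ cQ _ aQ).2 e))⟩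
  rw [← p0 _ (mul_mem (pow_mem hz _) (pow_mem aQ _)), pa _ (pow_mem hz _) _ (pow_mem aQ _), pk _ hz,
    pk _ aQ] at e
  have e' := congrArg (fun u => φ s u - u) e
  simp only [map_add, map_smul, pφ s sN y hz, h'.Qz s sQ, mul_inv_cancel_right, map_zero, sub_zero,
    add_sub_add_left_eq_sub, ← smul_sub, nv, smul_eq_zero, y0, or_false] at e'
  exact ⟨by simpa [e', y0] using e, e'⟩

omit hz hn ty tz tq h' in
theorem frame {k : G} (hz : k * z * k⁻¹ ∈ Q) (hn : k * z * k⁻¹ ∉ zpowers z) :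
    ∃ f : P0 →* G, Fr f := by
  have h' : ES _ (k * z * k⁻¹) := h.toES.map (MulAut.conj k)
  obtain ⟨t, ty, tz, tq⟩ := h.exists_t hz hn
  generalize k * z * k⁻¹ = y at *
  generalize Q.map (MulAut.conj k : G →* G) = Q' at *
  obtain ⟨s, sQ, σ, i, κ, hσ, s3, s1, hi, i2, ir, aA, ind, X, hX, Xy, cX, cs, ca⟩ :=
    h.exists_data h' hz hn ty tz tq
  have zQ := h.symm_mem h' hz
  have Ac := h.toES.inf_comm h' hn
  have A27 := h.card_inf h' hz hn
  have h'' : ES _ (i * y * i⁻¹) := h'.map (MulAut.conj i)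
  have sz := mem_cz'.1 hσ.mem
  have iz := mem_cz'.1 hi.mem
  have ia : i * (i * y * i⁻¹) * i⁻¹ * y ∈ zpowers z := by
    simpa [mul_assoc] using h.neg _ ((hi.mul hi).congr i2) y hz
  generalize ea : i * y * i⁻¹ = a at *
  have zA : z ∈ Q ⊓ Q' := ⟨h.zQ, zQ⟩
  have yA : y ∈ Q ⊓ Q' := ⟨hz, h'.zQ⟩
  let ι : (Fin 3 → F) → G := fun v => z ^ (v 0).val * (y ^ (v 1).val * a ^ (v 2).val)
  have mA : ∀ v, ι v ∈ Q ⊓ Q' := fun v =>
    mul_mem (pow_mem zA _) (mul_mem (pow_mem yA _) (pow_mem aA _))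
  have add : ∀ u v, ι (u + v) = ι u * ι v := fun u v => by
    simp only [ι, Pi.add_apply, pow_val_add h.z3, pow_val_add h'.z3, pow_val_add h''.z3, mul_assoc]
    rw [← mul_assoc (y ^ (u 1).val) (a ^ _), ← mul_assoc (_ * _) (z ^ _), Ac (_ * _) (mul_mem
      (pow_mem yA _) (pow_mem aA _)) _ (pow_mem zA _), ← mul_assoc (y ^ (v 1).val),
      Ac _ (pow_mem yA (v 1).val) _ (pow_mem aA _)]
    simp only [mul_assoc]
  have inj : Function.Injective ι := fun u v e => by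
    have e' : ι (u - v) = 1 := by rw [← mul_left_inj (ι v), ← add, sub_add_cancel, e, one_mul]
    obtain ⟨e1, e2⟩ := ind _ _ ((mul_mem_cancel_left (pow_mem (mem_zpowers z) _)).1
      (show ι (u - v) ∈ _ from e' ▸ one_mem _))
    have e0 : (u - v) 0 = 0 := pow_val_inj h.z1 h.z3 (by simpa [ι, e1, e2] using e')
    rw [← sub_eq_zero]; ext j; fin_cases j; exacts [e0, e1, e2]
  have sA : ∀ b ∈ Q ⊓ Q', ∃ v, ι v = b := fun b hb => by
    obtain ⟨v, e⟩ := ((Nat.bijective_iff_injective_and_card (fun v => (⟨ι v, mA v⟩ : ↥(Q ⊓ Q')))).2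
      ⟨fun u v e => inj (congrArg Subtype.val e), by rw [A27]; simp⟩).2 ⟨b, hb⟩
    exact ⟨v, congrArg Subtype.val e⟩
  have v1 : (1 : F).val = 1 := rfl
  have b0 : ι (Pi.single 0 1) = z := by simp [ι, v1]
  have b1 : ι (Pi.single 1 1) = y := by simp [ι, v1]
  have b2 : ι (Pi.single 2 1) = a := by simp [ι, v1]
  have nA : ∀ g, (∀ j, g * ι (Pi.single j 1) * g⁻¹ ∈ Q ⊓ Q') → ∀ v, ∃ w, ι w = g * ι v * g⁻¹ :=
    fun g hg v => by
    choose w hw using fun j => sA _ (hg j)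
    exact ⟨_, (ac_of_basis add (B := Matrix.of fun j k => w k j) (fun k => (hw k).symm) v).symm⟩
  have nE : ∀ {R c}, ES R c → Q ⊓ Q' ≤ R → c ∈ Q ⊓ Q' → R ≤ HH ι := fun {R c} e h1 h2 g hg =>
    mem_HH add inj (nA g fun j => by
      simpa using mul_mem (zpowers_le.2 h2 (e.Qc g hg _ (h1 (mA (Pi.single j 1))))) (mA (Pi.single j 1)))
      (e.Q3 g hg)
  have QH := nE h.toES inf_le_left zA
  have QH' := nE h' inf_le_right yA
  have iA := nA i fun j => by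
    fin_cases j
    · simpa [b0, iz] using zA
    · simpa [b1, ea] using aA
    · simpa [b2] using mul_mem (zpowers_le.2 zA ia) (inv_mem yA)
  have iA' : ∀ v, ∃ w, ι w = i⁻¹ * ι v * i⁻¹⁻¹ := fun v => by
    choose w hw using iA
    obtain ⟨u, rfl⟩ := Finite.surjective_of_injective (f := w) (fun u v e => inj (by
      simpa [hw] using congrArg ι e)) v
    exact ⟨u, by rw [hw]; group⟩
  have AQ : Q ⊓ Q' ≤ Q'.map (MulAut.conj i : G →* G) := fun b hb => by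
    obtain ⟨v, rfl⟩ := sA b hb
    obtain ⟨w, e⟩ := iA' v
    exact ⟨_, (mA w).2, by simp [e, mul_assoc]⟩
  have QH'' := nE h'' AQ aA
  obtain ⟨g1, g2, -⟩ := sl_gen σ s3 s1 κ i2 ir
  have iH : i ∈ HH ι := (mul_mem_cancel_left (mul_mem (mul_mem (QH' sQ) (QH'' ⟨s, sQ, rfl⟩))
    (QH' sQ))).1 (QH ((h.ker _).1 ((((hσ.mul ((hi.mul hσ).mul hi.inv)).mul hσ).mul hi).congr g1)))
  have CH : cz z ≤ HH ι := fun g hg => by
    obtain ⟨x, hx⟩ := rel_of_mem π hg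
    obtain ⟨a, b, c, rfl⟩ := g2 x
    exact (mul_mem_cancel_right (inv_mem (mul_mem (mul_mem (pow_mem (QH' sQ) _) (pow_mem iH _))
      (pow_mem (QH' sQ) _)))).1 (QH (h.mem_Q hx (((hσ.pow _).mul (hi.pow _)).mul (hσ.pow _))))
  have tH : t ∈ HH ι := by
    obtain ⟨j, hj⟩ := exists_val h'.z3 (tq a aA.2)
    refine ⟨⟨!![-1, 0, 0; 0, 1, j; 0, 0, -1], by simp [Matrix.det_fin_three]⟩,
      ac_of_basis add fun l => ?_⟩
    fin_cases l
    · simp [b0, ι, tz, inv_eq_sq_of_cube h.z3, pow_two]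
    · simp [b1, ι, ty, v1]
    · simp [b2, ι, ← hj, mul_assoc, ← pow_succ', h''.z3]
  have cen : ∀ g, (∀ v, g * ι v = ι v * g) → ∃ v, ι v = g := fun g hg => by
    obtain ⟨x, hx⟩ := rel_of_mem π (mem_cz'.2 (b0 ▸ hg _))
    have k : ∀ l, Rel π l (-1) → ¬ ∀ v, l * ι v = ι v * l := fun l hl e => hn (by
      have := h.neg l hl y hz
      rw [← b1, e, b1, mul_inv_cancel_right, ← inv_eq_sq_of_cube h'.z3] at this
      exact inv_mem_iff.1 this)
    rcases sl_neg x with rfl | rfl | ⟨w, e⟩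
    · exact sA g (h.max_ab inf_le_left Ac A27 ((h.ker g).1 hx) fun b hb => (sA b hb).elim
        fun v e => e ▸ hg v)
    · exact (k g hx hg).elim
    obtain ⟨l, hl⟩ := h.sur w
    obtain ⟨B, hB⟩ := inv_mem (CH hl.mem)
    have c : ∀ v, Commute (g * (l * g⁻¹ * l⁻¹)) (ι v) := fun v => Commute.mul_left (hg v) (by
      have := (show Commute g _ from hg (B.1.mulVec v)).inv_left.eq
      rw [← hB] at this
      calc _ = l * (g⁻¹ * (l⁻¹ * ι v * l⁻¹⁻¹)) * l⁻¹ := by group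
        _ = _ := by rw [this]; group)
    have r := hx.mul ((hl.mul hx.inv).mul hl.inv)
    rcases e with e | e
    exacts [(k _ (r.congr e) c).elim, (k _ ((r.mul r).congr e) fun v => (c v).mul_left (c v)).elim]
  have sur : ∀ (j : Fin 3) R, ES R (ι (Pi.single j 1)) → Q ⊓ Q' ≤ R → ∀ l, j ≠ l → ∃ ε : F, ε ≠ 0 ∧
      ∃ g ∈ HH ι, ∀ v, g * ι v * g⁻¹ = ι ((Matrix.transvection j l ε).mulVec v) := by
    clear_value ι
    intro j R e hR l jl
    obtain ⟨m, mj, ml, hm⟩ := (by decide : ∀ j l : Fin 3, j ≠ l → ∃ m, m ≠ j ∧ m ≠ l ∧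
      ∀ n, n = j ∨ n = l ∨ n = m) j l jl
    obtain ⟨q, hq, qc, ε, e0, qb⟩ := e.sep (hR (mA (Pi.single l 1))) (hR (mA (Pi.single m 1)))
      fun c hc => by
        obtain ⟨d, hd⟩ := exists_val e.z3 hc
        rw [← io_smul add, ← io_smul add, ← add] at hd
        simpa [jl.symm, ml.symm] using congrFun (inj hd) l
    refine ⟨ε, e0, q, nE e hR (mA _) hq, ac_of_basis add fun n => ?_⟩
    rcases hm n with rfl | rfl | rfl
    · rw [e.Qz q hq, mul_inv_cancel_right]; apply congrArg ι; ext r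
      simp [Matrix.transvection, Matrix.one_apply, Pi.single_apply, jl.symm]
    · rw [qb, ← io_smul add, ← add]; apply congrArg ι; ext r
      simp [Matrix.transvection, Matrix.one_apply, Pi.single_apply, Matrix.single_apply, add_comm,
        eq_comm]
    · rw [qc, mul_inv_cancel_right]; apply congrArg ι; ext r
      simp [Matrix.transvection, Matrix.one_apply, Pi.single_apply, ml.symm]
  have cQ : ⁅X, s⁆ ∈ Q := by
    simpa [commutatorElement_def, mul_assoc] using mul_mem hX (h.nQ s (.of_comm sz) _ (inv_mem hX))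
  obtain ⟨n, hn'⟩ : ∃ n : ℕ, s * a ^ n * ⁅X, s⁆ = ⁅X, s⁆ * (s * a ^ n) := by
    obtain ⟨γ, hγ⟩ := exists_val h.z3 cs
    obtain ⟨δ, hδ⟩ := exists_val h.z3 (h.Qc a aA.1 _ cQ)
    generalize ⁅X, s⁆ = c at *
    have d0 : δ ≠ 0 := fun e => ca (by simpa [e, mul_inv_eq_iff_eq_mul, eq_comm (a := c * a)]
      using hδ)
    have k1 : ∀ n : ℕ, a ^ n * c * (a ^ n)⁻¹ = (z ^ δ.val) ^ n * c := fun n => by
      induction n with
      | zero => simp
      | succ n ih =>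
        calc _ = a * (a ^ n * c * (a ^ n)⁻¹) * a⁻¹ := by group
          _ = (z ^ δ.val) ^ n * (a * c * a⁻¹ * c⁻¹) * c := by
            rw [ih, ← mul_assoc, (((show Commute a z from h.Qz a aA.1).pow_right _).pow_right n).eq]
            group
          _ = _ := by rw [hδ]; group
    refine ⟨(-γ * δ).val, mul_inv_eq_iff_eq_mul.1 ?_⟩
    calc _ = s * (a ^ (-γ * δ).val * c * (a ^ (-γ * δ).val)⁻¹) * s⁻¹ := by group
      _ = (z ^ δ.val) ^ (-γ * δ).val * (s * c * s⁻¹ * c⁻¹) * c := by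
        rw [k1, ← mul_assoc, (((show Commute s z from sz).pow_right _).pow_right _).eq]; group
      _ = _ := by
        rw [hγ, ← pow_mul, ← pow_add, orderOf_dvd_iff_pow_eq_one.1 (by
          rw [orderOf_eq_prime h.z3 h.z1]
          exact (by decide : ∀ γ δ : F, δ ≠ 0 → 3 ∣ δ.val * (-γ * δ).val + γ.val) γ δ d0), one_mul]
  have sQ' := mul_mem sQ (pow_mem aA.2 n)
  have sz' : Commute (s * a ^ n) z := Commute.mul_left sz (Commute.pow_left (h.Qz a aA.1) n)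
  obtain ⟨d, hd⟩ := exists_val h.z3 (h.Qc X hX _ (pow_mem aA.1 n))
  have ec : ⁅X, s * a ^ n⁆ = ⁅X, s⁆ * z ^ d.val := by
    calc _ = ⁅X, s⁆ * (s * (X * a ^ n * X⁻¹ * (a ^ n)⁻¹) * s⁻¹) := by
          simp only [commutatorElement_def]; group
      _ = _ := by rw [hd, ((show Commute s z from sz).pow_right _).eq, mul_inv_cancel_right]
  obtain ⟨b, hb⟩ := exists_val h.z3 (h.Qc X hX y hz)
  obtain ⟨c, hc⟩ := exists_val h.z3 (h.Qc X hX a aA.1)
  obtain ⟨e, he⟩ := exists_val h'.z3 (h'.Qc _ sQ' a aA.2)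
  have as : ∀ v, s * a ^ n * ι v * (s * a ^ n)⁻¹ = ι ((lin (uu 0 0 0 e 0 0)).1.mulVec v) :=
    ac_of_basis add (B := !![1, 0, 0; 0, 1, e; 0, 0, 1]) fun l => by
      generalize s * a ^ n = s at *
      fin_cases l
      · simp [b0, ι, sz'.eq, v1]
      · simp [b1, ι, h'.Qz _ sQ', v1]
      · simp [b2, ι, ← he, v1]
  obtain ⟨f, fi, fr, ft⟩ := exists_hom add inj (H := HH ι) (fun v => QH (mA v).1) (fun _ => id)
    (fun j => by
      fin_cases j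
      exacts [sur 0 _ (b0 ▸ h.toES) inf_le_left, sur 1 _ (b1 ▸ h') inf_le_right, sur 2 _ (b2 ▸ h'') AQ])
    (fun g _ => cen g) (QH hX) (QH' sQ') (h.Q3 X hX) (h'.Q3 _ sQ') (b := b) (c := c) (e := e)
    (fun e => Xy (by simpa [e, mul_inv_eq_iff_eq_mul] using hb))
    (fun e0 => s1 (hσ.uniq ((h.ker s).2 ((mul_mem_cancel_right (pow_mem (show a ∈ Q from aA.1) n)).1 (by
      obtain ⟨v, hv⟩ := cen _ fun v => mul_inv_eq_iff_eq_mul.1 ((as v).trans (by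
        rw [e0, show uu 0 0 0 0 0 0 = 1 from rfl]; simp))
      exact hv ▸ (mA v).1)))))
    (ac_of_basis add (B := !![1, b, c; 0, 1, 0; 0, 0, 1]) fun l => by
      fin_cases l
      · simp [b0, ι, h.Qz X hX, v1]
      · simp [b1, ι, ← hb, v1]
      · simp [b2, ι, ← hc, v1]) as
    (ec ▸ cX.mul_left (Commute.pow_left (h.Qz X hX).symm _))
    (ec ▸ Commute.mul_left hn'.symm (sz'.symm.pow_left _))
  have fz : f L43.z = z := (ft 1 0 0).trans (by simp [ι, v1])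
  refine ⟨f, fi, fun g hg => ?_⟩
  rw [fz] at hg
  rw [fr]
  rcases hg with e | e
  · exact CH (mem_cz.2 e)
  · refine (mul_mem_cancel_left tH).1 (CH (mem_cz.2 ?_))
    calc _ = t * (g * z * g⁻¹) * t⁻¹ := by group
      _ = _ := by rw [e, ← conj_inv, tz, inv_inv]

end HC

end CL.L43
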