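/- STUB (S3373): from the hypotheses of the statement to the frame `Fr f`.
Build `HC Q z π` (PERM/L43H; ES in PERM/L43E) and apply `HC.frame`.
(0) Z = ⟨z⟩, Q ≤ S ≤ C (CL.McL3.le_sylow, es, cent_zp, exists_hom, pre in PERM/McL3M; template
S5523.lean): Z ≤ C(Q) ≤ Q. C = cz z. nQ: NZ.cent + PComp.normalizer_le_normalizer_pCoreOf. syl: the image of
a 3-group in SL(2,3) (order 24) has order ≤ 3. K = C: every x in SL(2,3) is a product of three elements
of order dividing 3 (decide: ∃ y w, y³ = w³ = (y w x)³ = 1).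
(1) neg from the chain. For C-invariant Z ≤ B < B' ≤ Q use `exists_quot` (p, φ for Q/B). Counting: if
τ : α → B' has p ∘ τ injective then |α| |B| ≤ |B'| ((a, β) ↦ τ a * β).
fac1 (noncentral ⇒ 9 |B| ≤ |B'|): otherwise p(B') = F v, elements with cube in Q fix v, so C does.
fac2 (chief, noncentral, |B'| < 27 |B| ⇒ t b t⁻¹ b ∈ B for b ∈ B', Rel π t (-1)): D = {b ∈ B' | φ t fixes p b}
is C-invariant, so D = B (then apply it to b · t b t⁻¹) or D = B'. In the latter case take σ of order 3,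
ι from `sl_ex`, κ = σ ι σ⁻¹ (ι κ = -κ ι, σ κ σ⁻¹ = ± ι κ; signs act trivially on W = p(B')). If I v ≠ v for
some v ∈ W there is w ≠ 0 with I w = -w, J w = ± w, and w, S w, S² w have the three distinct nontrivial
characters of ⟨I,J⟩, so are independent, 27 |B| ≤ |B'|. So I = 1 on W, C acts through powers of S
(`sl_gen`), (S - 1)³ = 0 gives a fixed vector ≠ 0, and {b | S fixes p b} is C-invariant, so is B': central.
Chain: for i < j noncentral, 3 ≤ |A i|, 9 |A i| ≤ |A (i+1)| ≤ |A j|, 9 |A j| ≤ |A (j+1)| ≤ 243 force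
A i = Z, A (i+1) = A j = M of order 27, A (j+1) = Q. With m = t q t⁻¹ q ∈ M, t m t⁻¹ m ∈ Z, and t² ∈ Q:
in Q/Z, 2 (T v + v) = 0. -/
import Mathlib
import Cfsg.Agent.PERM.L43H
import Cfsg.Agent.PERM.McL3M

set_option autoImplicit false

namespace CL.L43

namespace Ix

open Subgroup CL.McL3 CL.Odd Matrix

theorem m1 : ∀ S : Matrix (Fin 1) (Fin 1) F, S * S * S = 1 → ∀ I : Matrix (Fin 1) (Fin 1) F, I * I * (I * I) = 1 →
    S * I * S * I * S = I → ∃ v ≠ 0, S *ᵥ v = v ∧ I *ᵥ v = v := by decide +kernel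

theorem m2 : ∀ S : Matrix (Fin 2) (Fin 2) F, S * S * S = 1 → ∀ I : Matrix (Fin 2) (Fin 2) F, I * I * (I * I) = 1 →
    S * I * S * I * S = I → (∃ v ≠ 0, S *ᵥ v = v ∧ I *ᵥ v = v) ∨ I * I = -1 := by decide +kernel

theorem la {U : Type*} [AddCommGroup U] [Module F U] [Finite U] [Nontrivial U] {S I : Module.End F U}
    (h1 : S * S * S = 1) (h2 : I * I * (I * I) = 1) (h3 : S * I * S * I * S = I)
    (h4 : ∀ u, S u = u → I u = u → u = 0) : 9 ≤ Nat.card U ∧ (Nat.card U < 27 → I * I = -1) := by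
  have key : ∀ n, Module.finrank F U = n → ∃ φ : Module.End F U ≃ₐ[F] Matrix (Fin n) (Fin n) F,
      ¬ ∃ v ≠ 0, φ S *ᵥ v = v ∧ φ I *ᵥ v = v := fun n e => by
    let b := Module.finBasisOfFinrankEq F U e
    refine ⟨LinearMap.toMatrixAlgEquiv b, fun ⟨v, v0, e1, e2⟩ => ?_⟩
    obtain ⟨u, rfl⟩ := b.equivFun.surjective v
    have k := fun T : Module.End F U => LinearMap.toMatrix_mulVec_repr b b T u
    exact v0 (by rw [h4 u (b.equivFun.injective ((k S).symm.trans e1)) (b.equivFun.injective ((k I).symm.trans e2)),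
      map_zero])
  have hc : Nat.card U = 3 ^ Module.finrank F U := by rw [Module.natCard_eq_pow_finrank (K := F), Nat.card_zmod]
  have h0 := Module.finrank_pos (R := F) (M := U)
  have n1 : Module.finrank F U ≠ 1 := fun e => by
    obtain ⟨φ, n⟩ := key 1 e
    exact n (m1 _ (by simp only [← map_mul, h1, map_one]) _ (by simp only [← map_mul, h2, map_one])
      (by simp only [← map_mul, h3]))
  rw [hc]
  refine ⟨Nat.pow_le_pow_right (n := 3) (i := 2) (by norm_num) (by omega), fun l => ?_⟩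
  have := (Nat.pow_lt_pow_iff_right (a := 3) (m := 3) (by norm_num)).1 l
  obtain ⟨φ, n⟩ := key 2 (by omega)
  exact φ.injective (by
    rw [map_mul, map_neg, map_one]
    exact (m2 _ (by simp only [← map_mul, h1, map_one]) _ (by simp only [← map_mul, h2, map_one])
      (by simp only [← map_mul, h3])).resolve_left n)

theorem three : ∀ x : S2, ∃ y w : S2, y ^ 3 = 1 ∧ w ^ 3 = 1 ∧ (y * w * x) ^ 3 = 1 := by decide +kernel

theorem s0 : ∃ s : S2, s * s * s = 1 ∧ s ≠ 1 := by decide +kernel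

variable {G : Type*} [Group G] [Finite G] {Q : Subgroup G} {z : G} {π : cz z →* S2} (h : ES Q z)
  (sur : ∀ x, ∃ g, Rel π g x) (ker : ∀ g, Rel π g 1 ↔ g ∈ Q)
include h sur ker

theorem fac {B B' : Subgroup G} (hZ : zpowers z ≤ B) (lt : B < B') (hQ : B' ≤ Q)
    (i1 : ∀ k ∈ cz z, ∀ a ∈ B, k * a * k⁻¹ ∈ B) (i2 : ∀ k ∈ cz z, ∀ a ∈ B', k * a * k⁻¹ ∈ B')
    (mx : ∀ D : Subgroup G, B < D → D < B' → ∃ k ∈ cz z, ∃ b ∈ D, k * b * k⁻¹ ∉ D)
    (nc : ∃ k ∈ cz z, ∃ a ∈ B', k * a * k⁻¹ * a⁻¹ ∉ B) : 9 * Nat.card B ≤ Nat.card B' ∧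
      (Nat.card B' < 27 * Nat.card B → ∀ t, Rel π t (-1) → ∀ b ∈ B', t * b * t⁻¹ * b ∈ B) := by
  obtain ⟨U, _, _, p, φ, add, k0, sj, hφ⟩ := exists_quot (Q := B') (B := B)
    (fun a ha b hb => hZ (h.Qc a (hQ ha) b (hQ hb))) fun a ha => h.Q3 a (hQ ha)
  have c : ∀ k ∈ cz z, ∀ a ∈ B', φ k (p a) = p (k * a * k⁻¹) := fun k hk => hφ k (i2 k hk) (i1 k hk)
  have df : ∀ a ∈ B', ∀ b ∈ B', a * b⁻¹ ∈ B ↔ p a = p b := fun a ha b hb => by
    have m := mul_mem ha (inv_mem hb)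
    rw [← k0 _ m, ← add_left_inj (p b), ← add _ m b hb, inv_mul_cancel_right, zero_add]
  have mul : ∀ {k l x y}, Rel π k x → Rel π l y → φ (k * l) = φ k * φ l := fun hk hl => LinearMap.ext fun u => by
    obtain ⟨a, ha, rfl⟩ := sj u
    rw [Module.End.mul_apply, c _ (mul_mem hk.mem hl.mem) a ha, c _ hl.mem a ha, c _ hk.mem _ (i2 _ hl.mem a ha)]
    congr 1; group
  have one : ∀ {k}, Rel π k 1 → φ k = 1 := fun {k} hk => LinearMap.ext fun u => by
    obtain ⟨a, ha, rfl⟩ := sj u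
    rw [c _ hk.mem a ha]
    exact (df _ (i2 _ hk.mem a ha) a ha).1 (hZ (h.Qc k ((ker k).1 hk) a (hQ ha)))
  have eq : ∀ {k l x}, Rel π k x → Rel π l x → φ k = φ l := fun {k l x} hk hl => by
    have := (hk.mul hl.inv).congr (mul_inv_cancel x)
    rw [← inv_mul_cancel_right k l, mul this hl, one this, one_mul]
  let ψ : B' →* Multiplicative U := MonoidHom.mk' (fun a => .ofAdd (p a)) fun a b => add a a.2 b b.2
  have hc := card_of_hom (π := ψ) lt.le (fun x => (sj x.toAdd).elim fun a e => ⟨a, e.1, e.2⟩)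
    fun l => ⟨fun e => (k0 l e.1).1 e.2, fun e => ⟨lt.le e, (k0 l (lt.le e)).2 e⟩⟩
  rw [show Nat.card (Multiplicative U) = Nat.card U from rfl] at hc
  have : Finite U := Finite.of_surjective (fun a : B' => p a) fun u => (sj u).elim fun a e => ⟨⟨a, e.1⟩, e.2⟩
  have : Nontrivial U := by
    obtain ⟨a, ha, n⟩ := SetLike.exists_of_lt lt
    exact nontrivial_of_ne _ _ fun e => n ((k0 a ha).1 e)
  obtain ⟨σ, s3, s1⟩ := s0
  obtain ⟨ι, ii, rel⟩ := sl_ex σ s3 s1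
  obtain ⟨s, hs⟩ := sur σ
  obtain ⟨i, hi⟩ := sur ι
  have := la (S := φ s) (I := φ i)
    (by rw [← mul hs hs, ← mul (hs.mul hs) hs, one (((hs.mul hs).mul hs).congr s3)])
    (by rw [← mul hi hi, ← mul (hi.mul hi) (hi.mul hi), one (((hi.mul hi).mul (hi.mul hi)).congr (by rw [ii]; simp))])
    (by rw [← mul hs hi, ← mul (hs.mul hi) hs, ← mul ((hs.mul hi).mul hs) hi, ← mul (((hs.mul hi).mul hs).mul hi) hs]
        exact eq (((((hs.mul hi).mul hs).mul hi).mul hs).congr rel) hi) fun u e1 e2 => by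
      obtain ⟨a, ha, rfl⟩ := sj u
      have pw : ∀ {k x}, Rel π k x → φ k (p a) = p a → ∀ n : ℕ, φ (k ^ n) (p a) = p a := fun hk e n => by
        induction n with
        | zero => rw [pow_zero, one Rel.one]; rfl
        | succ n ih => rw [pow_succ, mul (hk.pow n) hk, Module.End.mul_apply, e, ih]
      let D : Subgroup G :=
        { carrier := {b | b ∈ B' ∧ ∀ k ∈ cz z, φ k (p b) = p b}
          one_mem' := ⟨one_mem _, fun k _ => by rw [(k0 1 (one_mem _)).2 (one_mem _), map_zero]⟩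
          mul_mem' := fun ha hb => ⟨mul_mem ha.1 hb.1, fun k hk => by
            rw [add _ ha.1 _ hb.1, map_add, ha.2 k hk, hb.2 k hk]⟩
          inv_mem' := fun {b} hb => ⟨inv_mem hb.1, fun k hk => by
            have := add _ (inv_mem hb.1) _ hb.1
            rw [inv_mul_cancel, (k0 1 (one_mem _)).2 (one_mem _)] at this
            rw [eq_neg_of_add_eq_zero_left this.symm, map_neg, hb.2 k hk]⟩ }
      have aD : a ∈ D := ⟨ha, fun k hk => by
        obtain ⟨x, hx⟩ := rel_of_mem π hk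
        obtain ⟨l, m, n, rfl⟩ := (sl_gen σ s3 s1 ι ii rel).2.1 x
        rw [eq hx (((hs.pow _).mul (hi.pow _)).mul (hs.pow _)), mul ((hs.pow _).mul (hi.pow _)) (hs.pow _),
          mul (hs.pow _) (hi.pow _), Module.End.mul_apply, Module.End.mul_apply, pw hs e1, pw hi e2, pw hs e1]⟩
      by_contra n
      obtain ⟨k, hk, b, hb, n'⟩ := nc
      obtain ⟨k, hk, b, hb, n'⟩ := mx D (lt_of_le_of_ne (fun b hb => ⟨lt.le hb, fun k _ => by
          rw [(k0 b (lt.le hb)).2 hb, map_zero]⟩) fun e => n ((k0 a ha).2 (e.ge aD)))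
        (lt_of_le_of_ne (fun _ hb => hb.1) fun e => n' ((df _ (i2 k hk b hb) b hb).2
          ((c k hk b hb).symm.trans ((e.ge hb).2 k hk))))
      exact n' ⟨i2 k hk b hb.1, fun l hl => by rw [← c k hk b hb.1, hb.2 k hk, hb.2 l hl]⟩
  have b0 : 0 < Nat.card B := Nat.card_pos
  refine ⟨by rw [hc, mul_comm]; exact Nat.mul_le_mul_left _ this.1, fun l t ht b hb => ?_⟩
  have m := i2 t ht.mem b hb
  rw [← k0 _ (mul_mem m hb), add _ m b hb, ← c t ht.mem b hb, eq ht ((hi.mul hi).congr ii), mul hi hi,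
    this.2 (by rw [hc, mul_comm 27] at l; exact lt_of_mul_lt_mul_left l (Nat.zero_le _))]
  exact neg_add_cancel _

omit [Finite G] sur in
theorem fin {M : Subgroup G} {t : G} (ht : Rel π t (-1)) (h1 : ∀ b ∈ M, t * b * t⁻¹ * b ∈ zpowers z)
    (h2 : ∀ b ∈ Q, t * b * t⁻¹ * b ∈ M) : ∀ b ∈ Q, t * b * t⁻¹ * b ∈ zpowers z := fun b hb => by
  obtain ⟨U, _, _, p, φ, add, k0, -, -⟩ := exists_quot h.Qc h.Q3
  have n := h.nQ t (NZ.of_comm (mem_cz'.1 ht.mem))
  have tt := (ker _).1 ((ht.mul ht).congr (by simp))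
  have m := n b hb
  have e := (k0 _ (mul_mem (n _ (mul_mem m hb)) (mul_mem m hb))).2 (h1 _ (h2 b hb))
  have e2 := (k0 _ (mul_mem (mul_mem (mul_mem tt hb) (inv_mem tt)) (inv_mem hb))).2 (h.Qc _ tt b hb)
  rw [show t * (t * b * t⁻¹ * b) * t⁻¹ * (t * b * t⁻¹ * b) =
      t * t * b * (t * t)⁻¹ * b⁻¹ * (b * (t * b * t⁻¹) * (t * b * t⁻¹ * b)) by group,
    add _ (mul_mem (mul_mem (mul_mem tt hb) (inv_mem tt)) (inv_mem hb)) _ (mul_mem (mul_mem hb m) (mul_mem m hb)), e2,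
    zero_add, add _ (mul_mem hb m) _ (mul_mem m hb), add _ hb _ m, add_comm (p b), ← add _ m _ hb, ← two_smul F] at e
  exact (k0 _ (mul_mem m hb)).1 ((smul_eq_zero.1 e).resolve_left (by decide))

end Ix

open Subgroup CL.McL3 CL.Odd in
theorem exists_frame {G : Type*} [Group G] [Finite G]
    (S : Sylow 3 G) (Z : Subgroup G) (hZ : Z = (S : Subgroup G) ⊓ Subgroup.centralizer ((S : Subgroup G) : Set G))
    (C : Subgroup G) (hCZ : C = Subgroup.centralizer (Z : Set G))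
    (Q : Subgroup G) (hQ : Q = (Cfsg.pCore 3 C).map C.subtype)
    (hQex : Cfsg.IsExtraspecial 3 Q) (hQcard : Nat.card Q = 3 ^ 5) (hQexp : ∀ a ∈ Q, a ^ 3 = 1)
    (hCQ : Subgroup.centralizer (Q : Set G) ≤ Q)
    (hZQ : ∃ x : G, Z.map (MulAut.conj x).toMonoidHom ≤ Q ∧ Z.map (MulAut.conj x).toMonoidHom ≠ Z)
    (K : Subgroup G) (hK : K = ((Cfsg.pResidual 2 (C ⧸ Cfsg.pCore 3 C)).comap (QuotientGroup.mk' (Cfsg.pCore 3 C))).map C.subtype)
    (r : ℕ) (A : Fin (r + 1) → Subgroup G) (hA0 : A 0 = Z) (hAr : A (Fin.last r) = Q)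
    (hmono : ∀ i : Fin r, A i.castSucc < A i.succ)
    (hinv : ∀ i : Fin (r + 1), ∀ k ∈ K, ∀ a ∈ A i, k * a * k⁻¹ ∈ A i)
    (hmax : ∀ i : Fin r, ∀ B : Subgroup G, A i.castSucc < B → B < A i.succ → ∃ k ∈ K, ∃ b ∈ B, k * b * k⁻¹ ∉ B)
    (e : C ⧸ Cfsg.pCore 3 C ≃* Matrix.SpecialLinearGroup (Fin 2) (ZMod 3))
    (htwo : ∃ i j : Fin r, i ≠ j ∧ (∃ k ∈ K, ∃ a ∈ A i.succ, k * a * k⁻¹ * a⁻¹ ∉ A i.castSucc) ∧ (∃ k ∈ K, ∃ a ∈ A j.succ, k * a * k⁻¹ * a⁻¹ ∉ A j.castSucc) ∧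
      ∀ l : Fin r, (∃ k ∈ K, ∃ a ∈ A l.succ, k * a * k⁻¹ * a⁻¹ ∉ A l.castSucc) → l = i ∨ l = j) :
    ∃ f : P0 →* G, Fr f := by
  have hc : ∀ s ∈ S, ∀ z ∈ Z, s * z = z * s := fun s hs z hz => (hZ.le hz).2 s hs
  have SC : (S : Subgroup G) ≤ C := fun s hs => hCZ.ge fun z hz => (hc s hs z hz).symm
  have QS : Q ≤ S := hQ ▸ le_sylow S.isPGroup' (fun d => S.not_dvd_index (d.trans (relIndex_dvd_index_of_le SC)))
    (PComp.pCoreOf_isPGroup 3 C) (PComp.pCoreOf_le 3 C) (PComp.le_normalizer_pCoreOf 3 C)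
  have ZQ : Z ≤ Q := fun z hz => hCQ fun q hq => hc q (QS hq) z hz
  have : Nontrivial (S : Subgroup G) := (nontrivial_iff_ne_bot _).2 fun e => by
    have h2 := card_le_of_le (QS.trans e.le)
    rw [card_bot] at h2
    omega
  have := S.isPGroup'.center_nontrivial
  obtain ⟨⟨⟨z, zS⟩, hz⟩, z1⟩ := exists_ne (1 : center (S : Subgroup G))
  have zZ : z ∈ Z := hZ.ge ⟨zS, fun s hs => congrArg Subtype.val (mem_center_iff.1 hz ⟨s, hs⟩)⟩
  replace z1 : z ≠ 1 := fun e => z1 (Subtype.ext (Subtype.ext e))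
  have z3 := hQexp _ (ZQ zZ)
  obtain ⟨Qc, QZ⟩ := es hQex (ZQ zZ) z1 z3 fun q hq => hc q (QS hq) _ zZ
  obtain rfl : Z = zpowers z :=
    le_antisymm (fun y hy => QZ y (ZQ hy) fun q hq => (hc q (QS hq) y hy).symm) (zpowers_le.2 zZ)
  rw [cent_zp] at hCZ
  subst hCZ
  let π : cz z →* S2 := e.toMonoidHom.comp (QuotientGroup.mk' _)
  have sur : ∀ x, ∃ g, Rel π g x := fun x => by
    obtain ⟨g, hg⟩ := QuotientGroup.mk_surjective (e.symm x)
    exact ⟨g, g.2, by show e (QuotientGroup.mk g) = x; rw [hg, e.apply_symm_apply]⟩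
  have ker : ∀ g, Rel π g 1 ↔ g ∈ Q := fun g => hQ ▸
    ⟨fun ⟨h1, h2⟩ => ⟨_, (QuotientGroup.eq_one_iff _).1 (e.map_eq_one_iff.1 h2), rfl⟩,
      by rintro ⟨g, hg, rfl⟩; exact ⟨g.2, e.map_eq_one_iff.2 ((QuotientGroup.eq_one_iff _).2 hg)⟩⟩
  have h : ES Q z := ⟨z1, z3, ZQ zZ, hQcard, hQexp, fun q hq => hc q (QS hq) _ zZ, Qc,
    fun g hg => QZ g (hCQ fun q hq => (hg q hq).symm) hg,
    fun g hg q => hQ ▸ Tr.conj_mem_of_mem_normalizer (PComp.normalizer_le_normalizer_pCoreOf 3 _ hg.cent),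
    fun X h1 h2 => by
      let ψ := π.comp (inclusion h1)
      have e1 : ψ.ker = (X ⊓ Q).subgroupOf X := Subgroup.ext fun x =>
        ⟨fun e => ⟨x.2, (ker x).1 ⟨h1 x.2, e⟩⟩, fun e => ((ker x).2 e.2).2⟩
      obtain ⟨k, hk⟩ := (h2.of_surjective _ ψ.rangeRestrict_surjective).exists_card_eq
      have d := card_subgroup_dvd_card ψ.range
      rw [hk, show Nat.card S2 = 24 by rw [Nat.card_eq_fintype_card]; decide +kernel] at d
      have k2 : k < 2 := by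
        by_contra c
        exact absurd ((pow_dvd_pow 3 (not_lt.1 c)).trans d) (by norm_num)
      rw [← ψ.ker.card_mul_index, index_ker, hk, e1, Nat.card_congr (subgroupOfEquivOfLe inf_le_left).toEquiv, mul_comm]
      exact Nat.mul_le_mul_right _ (by interval_cases k <;> norm_num)⟩
  obtain rfl : K = cz z := hK.trans (le_antisymm (map_subtype_le _) fun g hg => ⟨⟨g, hg⟩, by
    obtain ⟨y, w, h1, h2, h3⟩ := Ix.three (π ⟨g, hg⟩)
    have m : ∀ y : S2, y ^ 3 = 1 → e.symm y ∈ Cfsg.pResidual 2 _ := fun y hy => subset_closure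
      ((show Nat.Coprime 3 2 by norm_num).coprime_dvd_left (orderOf_dvd_of_pow_eq_one (by rw [← map_pow, hy, map_one])))
    have := mul_mem (inv_mem (mul_mem (m y h1) (m w h2))) (m _ h3)
    rw [← map_mul, ← map_inv, ← map_mul, inv_mul_cancel_left] at this
    exact (congrArg (· ∈ Cfsg.pResidual 2 _) (e.symm_apply_apply (QuotientGroup.mk ⟨g, hg⟩))).mp this, rfl⟩)
  have mono : Monotone A := (Fin.strictMono_iff_lt_succ.2 hmono).monotone
  have fc := fun i : Fin r => Ix.fac h sur ker (hA0.ge.trans (mono (Fin.zero_le _))) (hmono i)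
    ((mono (Fin.le_last _)).trans hAr.le) (hinv _) (hinv _) (hmax i)
  have key : ∀ i j : Fin r, i < j → (∃ k ∈ cz z, ∃ a ∈ A i.succ, k * a * k⁻¹ * a⁻¹ ∉ A i.castSucc) →
      (∃ k ∈ cz z, ∃ a ∈ A j.succ, k * a * k⁻¹ * a⁻¹ ∉ A j.castSucc) →
      ∀ g, Rel π g (-1) → ∀ q ∈ Q, g * q * g⁻¹ * q ∈ zpowers z := fun i j l n1 n2 t ht => by
    obtain ⟨a1, b1⟩ := fc i n1
    obtain ⟨a2, b2⟩ := fc j n2
    have l1 := hA0.ge.trans (mono (Fin.zero_le i.castSucc))
    have l2 := mono (Fin.succ_le_castSucc_iff.2 l)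
    have l3 := (mono (Fin.le_last j.succ)).trans hAr.le
    have c1 := card_le_of_le l1
    have c2 := card_le_of_le l2
    have c3 := card_le_of_le l3
    have c0 := h.cZ
    have cQ := h.cQ
    exact Ix.fin h ker ht (M := A i.succ) (eq_of_le_of_card_ge l1 (by omega) ▸ b1 (by omega) t ht)
      (eq_of_le_of_card_ge l2 (by omega) ▸ eq_of_le_of_card_ge l3 (by omega) ▸ b2 (by omega) t ht)
  obtain ⟨i, j, ne, n1, n2, -⟩ := htwo
  obtain ⟨x, h1, h2⟩ := hZQ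
  rw [MonoidHom.map_zpowers] at h1 h2
  refine HC.frame ⟨h, sur, ker, ne.lt_or_gt.elim (key i j · n1 n2) (key j i · n2 n1)⟩ (k := x) (h1 (mem_zpowers _))
    fun m => h2 (eq_of_le_of_card_ge (zpowers_le.2 m) ?_)
  rw [h.cZ, card_zpowers_three (by simpa using z1) (by rw [← map_pow, z3, map_one])]

end CL.L43
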