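/- STUB (S3373): the centralizer of a non-singular vector of `J = 3^4` lies in `N(J)`.
Hints: copy CL.McL3.Crd.CyW (PERM/McL3H) up to ι : M648 →* C(y)/⟨y⟩ (ρ i = the unique element acting
as Rm i and commuting with w, CL.McL3.exists_mul_comm; so ρ 2 = r), but prove `A9Base ι` (inj; norm from
`rot`) and use `A9Base.main` (PERM/A9Main). hO: the preimage of a 3'-subgroup of C(y)/⟨y⟩ normalized by
the image of J is ⟨y⟩ × X (Schur–Zassenhaus, or elements of order prime to 3), X = ⊥ by `sig`.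
Exclude A₉: every element of order 3 of A₉ lies in an elementary abelian subgroup of order 27 (cycle
type: conjugate in S₉ to a product of some of (012),(345),(678)); for the image of D0 = mk 0 2 conjugate
that subgroup into (S0.map ι) (A9Base.iS, exists_conj_le_of_isPGroup), then M648.le_J0 contradicts nq. -/
import Mathlib
import Cfsg.Agent.PERM.McL3H
import Cfsg.Agent.PERM.A9Main
import Cfsg.Agent.INV.ZStarAux

set_option autoImplicit false

namespace CL.L43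

open Subgroup CL.McL3 CL.Odd

namespace YH

open Cfsg Equiv Equiv.Perm

theorem core_bot {H Q : Type*} [Group H] [Finite H] [Group Q] (f : H →* Q) (hf : Function.Surjective f)
    (hc : f.ker ≤ center H) (hp : IsPGroup 3 f.ker) (hO : pPrimeCore 3 H = ⊥) : pPrimeCore 3 Q = ⊥ := by
  rw [← CL.map_pPrimeCore_equiv (QuotientGroup.quotientKerEquivOfSurjective f hf),
    CL.BS.pPrimeCore_quotient_central 3 hO _ hc hp, Subgroup.map_bot]

abbrev V := Multiplicative (ZMod 3 × ZMod 3 × ZMod 3)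

def c1 : Perm (Fin 9) := swap 0 1 * swap 0 2
def c2 : Perm (Fin 9) := swap 3 4 * swap 3 5
def c3 : Perm (Fin 9) := swap 6 7 * swap 6 8

def φ : V →* Perm (Fin 9) := MonoidHom.mk'
  (fun v => c1 ^ v.toAdd.1.val * c2 ^ v.toAdd.2.1.val * c3 ^ v.toAdd.2.2.val) (by decide +kernel)

theorem φ_facts : (∀ v, φ v = 1 → v = 1) ∧ φ (.ofAdd (1, 0, 0)) = c1 ∧ φ (.ofAdd (1, 1, 0)) = c1 * c2 ∧
    φ (.ofAdd (1, 1, 1)) = c1 * c2 * c3 ∧ (∀ x, c1 x = x ∨ c2 x = x) ∧ (∀ x, (c1 * c2) x = x ∨ c3 x = x) ∧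
    ∀ v : V, v ^ 3 = 1 := by decide +kernel

theorem perm9 {a : Perm (Fin 9)} (ha : a ^ 3 = 1) : ∃ v g, g * φ v * g⁻¹ = a := by
  obtain ⟨-, e1, e2, e3, d1, d2, -⟩ := φ_facts
  have t1 : c1.cycleType = {3} := (isThreeCycle_swap_mul_swap_same (by decide) (by decide) (by decide)).cycleType
  have t2 : c2.cycleType = {3} := (isThreeCycle_swap_mul_swap_same (by decide) (by decide) (by decide)).cycleType
  have t3 : c3.cycleType = {3} := (isThreeCycle_swap_mul_swap_same (by decide) (by decide) (by decide)).cycleType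
  have t12 := Disjoint.cycleType_mul (σ := c1) (τ := c2) d1
  have t123 := Disjoint.cycleType_mul (σ := c1 * c2) (τ := c3) d2
  have h := cycleType_of_pow_prime_eq_one ha
  have h' := sum_cycleType_le a
  generalize a.cycleType.card = n at h
  rw [h, Multiset.sum_replicate, Fintype.card_fin, smul_eq_mul] at h'
  have k : ∀ v, (φ v).cycleType = Multiset.replicate n 3 → ∃ v g, g * φ v * g⁻¹ = a := fun v e =>
    ⟨v, isConj_iff.1 (isConj_iff_cycleType_eq.2 (e.trans h.symm))⟩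
  have : n < 4 := by omega
  interval_cases n
  · exact k 1 (by simp)
  · exact k _ (by rw [e1, t1]; rfl)
  · exact k _ (by rw [e2, t12, t1, t2]; rfl)
  · exact k _ (by rw [e3, t123, t12, t1, t2, t3]; rfl)

theorem alt9 {Q : Type*} [Group Q] (e : Q ≃* alternatingGroup (Fin 9)) {a : Q} (ha : a ^ 3 = 1) :
    ∃ ψ : V →* Q, Function.Injective ψ ∧ a ∈ ψ.range := by
  obtain ⟨v, g, h⟩ := perm9 (a := (e a).1) (by rw [← Subgroup.coe_pow, ← map_pow, ha, map_one, Subgroup.coe_one])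
  let ψ : V →* alternatingGroup (Fin 9) := ((MulAut.conj g).toMonoidHom.comp φ).codRestrict _ fun v => by
    have h3 : (sign.comp ((MulAut.conj g).toMonoidHom.comp φ)) v ^ 3 = 1 := by
      rw [← map_pow, φ_facts.2.2.2.2.2.2, map_one]
    rwa [pow_succ, Int.units_sq, one_mul] at h3
  refine ⟨e.symm.toMonoidHom.comp ψ, e.symm.injective.comp fun x y k => ?_, v, e.symm_apply_eq.2 (Subtype.ext h)⟩
  exact (injective_iff_map_eq_one φ).2 φ_facts.1 ((MulAut.conj g).injective (congrArg Subtype.val k))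

theorem not_alt9 {Q : Type*} [Group Q] [Finite Q] {ι : M648 →* Q} (H : A9Base ι)
    (e : Q ≃* alternatingGroup (Fin 9)) : ∃ g x, g * ι M648.D0 * g⁻¹ = ι (M648.mk x 0) := by
  obtain ⟨ψ, hψ, v, hv⟩ := alt9 e (a := ι M648.D0) (by
    rw [← map_pow, show M648.D0 ^ 3 = 1 by decide +kernel, map_one])
  have v3 := φ_facts.2.2.2.2.2.2
  obtain ⟨g, hg⟩ := exists_conj_le_of_isPGroup H.pS H.iS (A := ψ.range) fun ⟨_, u, rfl⟩ =>
    ⟨1, Subtype.ext (by change ψ u ^ 3 = 1; rw [← map_pow, v3, map_one])⟩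
  let χ := (MulAut.conj g).toMonoidHom.comp ψ
  have hχ : Function.Injective χ := (MulAut.conj g).injective.comp hψ
  have hle : χ.range ≤ ι.range := by
    rintro _ ⟨u, rfl⟩; exact map_le_range _ _ (hg _ ⟨u, rfl⟩)
  have hB := M648.le_J0 (B := χ.range.comap ι)
    (fun a ⟨u, hu⟩ => H.inj (by rw [map_pow, ← hu, ← map_pow, v3, map_one, map_one]))
    (fun a ⟨u, hu⟩ b ⟨u', hu'⟩ => H.inj (by rw [map_mul, map_mul, ← hu, ← hu', ← map_mul, mul_comm, map_mul]))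
    (by rw [← card_map_of_injective H.inj, map_comap_eq_self hle,
      ← Nat.card_congr (MonoidHom.ofInjective hχ).toEquiv]; simp)
  obtain ⟨p, hp⟩ := hle ⟨v, rfl⟩
  exact ⟨g, p.1, by rw [← M648.eq_mk_of (M648.mem_J0.1 (hB ⟨v, hp.symm⟩)), hp, ← hv]; rfl⟩

end YH

open Cfsg in
theorem cy_of {G : Type*} [Group G] [Finite G] {J : Subgroup G} {τ : V4 → G} (h : Co J τ)
    (cJ : ∀ g, (∀ j ∈ J, g * j = j * g) → g ∈ J) {w : G} (hw : Act τ w W4) (w2 : w * w = 1)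
    (ex : ∀ i, ∃ g, Act τ g (Rm i))
    (rot : ∀ g ∈ Nm J, g * τ e0 = τ e0 * g → ∃ i, Act τ g (Rm i))
    (sig : ∀ X : Subgroup G, (Nat.card X).Coprime 3 → (∀ j ∈ J, ∀ a ∈ X, j * a * j⁻¹ ∈ X) → X = ⊥)
    {r : G} (hr : Act τ r (Rm 2)) (rw : r * w = w * r)
    (nq : ∀ c, c * τ e0 = τ e0 * c → c * r * c⁻¹ ∉ J) {g : G} (hg : g * τ e0 = τ e0 * g) :
    g ∈ Nm J := by
  obtain ⟨-, -, m3, -, m5, m6, -⟩ := misc5
  have Jc : ∀ a ∈ J, ∀ b ∈ J, a * b = b * a := fun a ha b hb => by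
    obtain ⟨x, rfl⟩ := (h.mem _).1 ha
    obtain ⟨y, rfl⟩ := (h.mem _).1 hb
    exact h.comm x y
  have J3 : ∀ a ∈ J, a ^ 3 = 1 := fun a ha => by
    obtain ⟨x, rfl⟩ := (h.mem _).1 ha
    rw [pow_three', ← h.add, ← h.add, h.eq_one]; exact three_x x
  have pJ : IsPGroup 3 J := fun a => ⟨1, Subtype.ext (J3 _ a.2)⟩
  have JN : J ≤ Nm J := le_normalizer
  have aeq : ∀ {x y A}, Act τ x A → Act τ y A → x * y⁻¹ ∈ J := fun {x y A} e e' => cJ _ fun j hj => by
    obtain ⟨v, hv⟩ := (h.mem _).1 (Tr.inv_conj_mem_of_mem_normalizer (h.mem_N e') hj)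
    refine mul_inv_eq_iff_eq_mul.1 ?_
    calc _ = x * (y⁻¹ * j * y) * x⁻¹ := by group
      _ = j := by rw [← hv, e, ← e', hv]; group
  have rcz : ∀ {x i}, Act τ x (Rm i) → x ∈ cz (τ e0) := fun {x i} e =>
    mem_cz'.2 ((h.fix e).2 (misc4.2.2.2.2.2.2.2.2.2.2 i))
  have exc : ∀ i, ∃ x, Act τ x (Rm i) ∧ x * w = w * x := fun i => by
    obtain ⟨x, hx⟩ := ex i
    obtain ⟨r, hr, e'⟩ := exists_mul_comm (x := x) pJ w2 (by
      simpa [mul_assoc] using aeq (hx.mul hw) ((hw.mul hx).congr (mm_W _).symm))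
    exact ⟨_, ((h.act_J hr).mul hx).congr (mt_ext fun v => by rw [ap_mm, ap_I4]), e'⟩
  choose ρ ρ1 ρ2 using exc
  have uq : ∀ {x y A}, Act τ x A → Act τ y A → x * w = w * x → y * w = w * y → x = y :=
    fun {x y A} h1 h2 h3 h4 => by
      obtain ⟨v, hv⟩ := (h.mem _).1 (aeq h1 h2)
      have := (h.fix hw).1 (show w * τ v = τ v * w from
        hv ▸ ((show Commute x w from h3).mul_left (show Commute y w from h4).inv_left).symm)
      rw [ap_W4] at this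
      rw [← mul_inv_eq_one, ← hv, m3 v this, h.zero]
  have ρm : ∀ i j, ρ (qm24 i j) = ρ i * ρ j := fun i j => uq (ρ1 _) (((ρ1 i).mul (ρ1 j)).congr
    (Rm_mm i j)) (ρ2 _) ((show Commute _ w from ρ2 i).mul_left (ρ2 j))
  have ρ0 : ρ 0 = 1 := uq (ρ1 0) (Act.one.congr misc.2.2.2.2.2.1.symm) (ρ2 0) (by simp)
  have ρr : ρ 2 = r := uq (ρ1 2) hr (ρ2 2) rw
  set C := cz (τ e0)
  have JC : J ≤ C := fun j hj => mem_cz'.2 (Jc j hj _ (h.mJ _))
  let ι₀ : M648 →* C := MonoidHom.mk' (fun p => ⟨τ (0, p.1) * ρ p.2,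
    mul_mem (JC (h.mJ _)) (rcz (ρ1 _))⟩) fun p q => Subtype.ext (by
      show τ (0, p.1 + sig24 p.2 q.1) * ρ (qm24 p.2 q.2) = τ (0, p.1) * ρ p.2 * (τ (0, q.1) * ρ q.2)
      rw [ρm, show ((0, p.1 + sig24 p.2 q.1) : V4) = (0, p.1) + ap (Rm p.2) (0, q.1) by
        rw [ap_Rm]; simp, h.add, ← ρ1]; group)
  let Y := (zpowers (τ e0)).subgroupOf C
  have Yc : Y ≤ center C := fun y ⟨j, hj⟩ => mem_center_iff.2 fun c => Subtype.ext (by
    have hj' : τ e0 ^ j = y := hj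
    rw [coe_mul, coe_mul, ← hj']
    exact (Commute.zpow_right (mem_cz'.1 c.2) j).eq)
  have : Y.Normal := normal_of_le_center Yc
  have YJ : zpowers (τ e0) ≤ J := zpowers_le.2 (h.mJ _)
  have ιN : ∀ p, (ι₀ p : G) ∈ Nm J := fun p => mul_mem (JN (h.mJ _)) (h.mem_N (ρ1 _))
  have ιJ : ∀ p, (ι₀ p : G) ∈ J → p.2 = 0 := fun p e => Rm_inj (h.uniq (ρ1 _) ((h.act_J
    ((mul_mem_cancel_left (h.mJ _)).1 e)).congr misc.2.2.2.2.2.1.symm))
  have ι0 : ∀ x, (ι₀ (M648.mk x 0) : G) = τ (0, x) := fun x => by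
    show τ _ * ρ 0 = _; rw [ρ0, mul_one]; rfl
  have eq : ∀ {a b : C}, (a : C ⧸ Y) = b → (a : G) * (b : G)⁻¹ ∈ zpowers (τ e0) := fun e =>
    QuotientGroup.eq_iff_div_mem.1 e |> fun e => by rwa [div_eq_mul_inv] at e
  have H : A9Base ((QuotientGroup.mk' Y).comp ι₀) := ⟨(injective_iff_map_eq_one _).2 fun p e => by
      have e1 : (ι₀ p : G) ∈ zpowers (τ e0) := (QuotientGroup.eq_one_iff (N := Y) (ι₀ p)).1 e
      have e2 := M648.eq_mk_of (ιJ p (YJ e1))
      rw [e2, ι0] at e1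
      rw [e2, m5 _ (h.zp.1 e1)]; rfl,
    fun c hc => by
      obtain ⟨c, rfl⟩ := QuotientGroup.mk_surjective c
      have cN : c.1 ∈ Nm J := Tr.mem_normalizer_of_conj_mem fun j hj => by
        obtain ⟨v, rfl⟩ := (h.mem _).1 hj
        obtain ⟨y, hy⟩ := hc v.2
        have e := YJ (eq (a := c * ι₀ (M648.mk v.2 0) * c⁻¹) hy)
        rw [ι0, mul_mem_cancel_right (inv_mem (h.mJ _)), coe_mul, coe_mul, ι0, coe_inv] at e
        rw [m6 v, h.add, ← conj_mul, h.smul, ← conj_pow, mem_cz.1 c.2]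
        exact mul_mem (pow_mem (h.mJ _) _) e
      obtain ⟨i, hi⟩ := rot _ cN (mem_cz'.1 c.2)
      obtain ⟨v, hv⟩ := (h.mem _).1 (aeq hi (ρ1 i))
      refine ⟨M648.mk v.2 i, (QuotientGroup.eq_iff_div_mem.2 ?_).symm⟩
      rw [div_eq_mul_inv]
      show (c : G) * (τ (0, v.2) * ρ i)⁻¹ ∈ zpowers _
      rw [mul_inv_rev, ← mul_assoc, ← hv, ← h.sub]
      exact h.zp.2 ⟨v.1, by rw [sub_eq_iff_eq_add]; exact m6 v⟩⟩
  rcases H.main (fun x _ => by
    set K := cz (((QuotientGroup.mk' Y).comp ι₀) (M648.mk x 0))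
    have JK : J ≤ (K.comap (QuotientGroup.mk' Y)).map C.subtype := fun j hj =>
      ⟨⟨j, JC hj⟩, mem_cz'.2 (by
        rw [MonoidHom.comp_apply, ← map_mul, ← map_mul]
        exact congrArg _ (Subtype.ext (by rw [coe_mul, coe_mul, ι0]; exact Jc _ hj _ (h.mJ _)))), rfl⟩
    have kY : ∀ a, a ∈ ((QuotientGroup.mk' Y).subgroupComap K).ker → a.1 ∈ Y := fun a ha =>
      (QuotientGroup.eq_one_iff _).1 (congrArg Subtype.val ha)
    refine YH.core_bot ((QuotientGroup.mk' Y).subgroupComap K)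
      (MonoidHom.subgroupComap_surjective_of_surjective _ _ (QuotientGroup.mk'_surjective Y))
      (fun a ha => mem_center_iff.2 fun b => Subtype.ext (mem_center_iff.1 (Yc (kY a ha)) b))
      (fun a => ⟨1, Subtype.ext (Subtype.ext (Subtype.ext (J3 _ (YJ (kY _ a.2)))))⟩) ?_
    rw [← map_eq_bot_iff_of_injective (f := C.subtype.comp (K.comap (QuotientGroup.mk' Y)).subtype) _
      ((subtype_injective C).comp (subtype_injective _))]
    refine sig _ (CL.coprime_card_map_pPrimeCore _) fun j hj => ?_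
    obtain ⟨j, hj', rfl⟩ := JK hj
    rintro _ ⟨a, ha, rfl⟩
    exact ⟨_, (inferInstance : (pPrimeCore 3 _).Normal).conj_mem a ha ⟨j, hj'⟩, rfl⟩) with e | ⟨⟨e⟩⟩
  · obtain ⟨p, e⟩ := e.ge (mem_top (QuotientGroup.mk ⟨g, mem_cz'.2 hg⟩ : C ⧸ Y))
    exact (mul_mem_cancel_right (inv_mem (ιN p))).1 (JN (YJ (eq e.symm)))
  · obtain ⟨c, x, e⟩ := YH.not_alt9 H e
    obtain ⟨c, rfl⟩ := QuotientGroup.mk_surjective c
    have e := YJ (eq (a := c * ι₀ M648.D0 * c⁻¹) e)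
    rw [ι0, mul_mem_cancel_right (inv_mem (h.mJ _)), coe_mul, coe_mul, coe_inv,
      show (ι₀ M648.D0 : G) = r from by
        show τ 0 * ρ 2 = r
        rw [h.zero, one_mul, ρr]] at e
    exact absurd e (nq c (mem_cz'.1 c.2))

end CL.L43
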