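import Mathlib
import Cfsg.Agent.PERM.OddGen

/-! A strongly closed subgroup of index three in a Sylow 3-subgroup: an involution none of whose
conjugates inverts an element outside it lies in a normal subgroup meeting the Sylow subgroup
inside it. -/

set_option autoImplicit false
open Cfsg CL.PF CL.Char
open scoped ComplexConjugate Classical

namespace CL.Odd

variable {G : Type*} [Group G] [Finite G]

theorem theta_top {S Q : Subgroup G} (hS : IsPGroup 3 S) (hi : ¬ 3 ∣ S.index) (hQS : Q ≤ S)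
    (hc : Nat.card S = 3 * Nat.card Q)
    (hsc : ∀ q ∈ Q, ∀ g, g * q * g⁻¹ ∈ S → g * q * g⁻¹ ∈ Q) {e : G} (e2 : e * e = 1)
    (hinv : ∀ g, ∀ s ∈ S, g * e * g⁻¹ * s * (g * e * g⁻¹)⁻¹ = s⁻¹ → s ∈ Q) :
    ∃ N : Subgroup G, N.Normal ∧ e ∈ N ∧ N ⊓ S ≤ Q := by
  have := Fintype.ofFinite G
  obtain ⟨n, hn⟩ := hS.exists_card_eq
  have : (Q.subgroupOf S).Normal := ⟨fun q hq g => hsc q hq g (g * q * g⁻¹).2⟩
  have hq : Nat.card (S ⧸ Q.subgroupOf S) = 3 := by
    have a := Subgroup.card_eq_card_quotient_mul_card_subgroup (Q.subgroupOf S)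
    rw [Nat.card_congr (Subgroup.subgroupOfEquivOfLe hQS).toEquiv, hc] at a
    exact (Nat.eq_of_mul_eq_mul_right Nat.card_pos a).symm
  let ε := mulEquivOfPrimeCardEq (p := 3) (G' := Multiplicative (ZMod 3)) hq (by simp)
  let φ := ε.toMonoidHom.comp (QuotientGroup.mk' _)
  have hφ : ∀ s, (φ s).toAdd = 0 ↔ (s : G) ∈ Q := fun s => by
    rw [toAdd_eq_zero]
    exact (map_eq_one_iff ε ε.injective).trans (QuotientGroup.eq_one_iff s)
  obtain ⟨k, hk0, hk1⟩ := Nat.chineseRemainder (n := S.index) (m := Nat.card S)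
    (hn ▸ ((Nat.Prime.coprime_iff_not_dvd Nat.prime_three).mpr hi).pow_left n).symm 0 1
  let θ : G → ℂ := fun g => if ∃ q ∈ Q, IsConj q g then 0 else 3
  have hθc : ∀ {a b : G}, IsConj a b → θ a = θ b := fun {a b} e => by
    have : (∃ q ∈ Q, IsConj q a) ↔ ∃ q ∈ Q, IsConj q b :=
      exists_congr fun x => and_congr_right fun _ => ⟨fun h => h.trans e, fun h => h.trans e.symm⟩
    simp only [θ, this]
  have hθ : θ ∈ CF (⊤ : Subgroup G) := ⟨fun x hx => (hx trivial).elim, fun g _ x =>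
    (hθc (isConj_iff.mpr ⟨g, rfl⟩)).symm⟩
  have hθp : ∀ s ∈ S, θ s = if s ∈ Q then 0 else 3 := fun s hs => by
    have : (∃ q ∈ Q, IsConj q s) ↔ s ∈ Q := ⟨fun ⟨q, hq, hx⟩ => by
      obtain ⟨g, rfl⟩ := isConj_iff.mp hx
      exact hsc q hq g hs, fun e => ⟨s, e, IsConj.refl _⟩⟩
    simp only [θ, this]
  let μ : G → ℂ := Function.extend S.subtype (fun s => e3 (φ s).toAdd) 0
  have hμ : ∀ s : S, μ s = e3 (φ s).toAdd := fun s => S.subtype_injective.extend_apply _ _ s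
  obtain ⟨lam, hlam⟩ := exists_lin_of_map_mul (H := S) (f := μ)
    ((hμ 1).trans (by rw [map_one]; exact e3_zero)) fun a ha b hb =>
      (hμ (⟨a, ha⟩ * ⟨b, hb⟩)).trans (by
        rw [map_mul, toAdd_mul, e3_add, ← hμ, ← hμ])
  have hZ : res S θ ∈ ZIrr S := by
    have : res S θ = triv S + triv S - lin lam - star (lin lam) := by
      funext g
      by_cases hg : g ∈ S
      · simp only [Pi.sub_apply, Pi.add_apply, Pi.star_apply, hlam, res_of_mem _ hg,
          triv_of_mem hg, hθp g hg, hμ ⟨g, hg⟩, RCLike.star_def, conj_e3]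
        have := e3_add_neg (φ ⟨g, hg⟩).toAdd
        rw [tr3] at this
        simp only [hφ] at this
        split_ifs at this ⊢ <;> push_cast at this <;> linear_combination this
      · simp [res_of_not_mem _ hg, triv_of_not_mem hg, lin_of_not_mem _ hg]
    rw [this]
    exact sub_mem (sub_mem (add_mem (triv_mem_ZIrr _) (triv_mem_ZIrr _))
      (Irr.zirr (lin_mem_Irr _))) (ZIrr.star_mem (Irr.zirr (lin_mem_Irr _)))
  set f : G → ℂ := fun g => θ (g ^ k) with hf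
  have hfZ : f ∈ ZIrr (⊤ : Subgroup G) := zirr_of_ppart hS hi hθ hZ hk0 hk1
  have hθ1 : θ 1 = 0 := by rw [hθp 1 S.one_mem, if_pos Q.one_mem]
  have hf1 : f 1 = 0 := by simp [hf, hθ1]
  have hfD : ∀ s ∈ S, s ∉ Q → f s = 3 := fun s hs hq => by
    have : s ^ k = s := by
      rw [pow_eq_pow_of_modEq hk1 (congrArg Subtype.val (pow_card_eq_one' (x := (⟨s, hs⟩ : S)))),
        pow_one]
    rw [hf]; simp only [this, hθp s hs, if_neg hq]
  have hk81 : ∀ g : G, (g ^ k) ^ 3 ^ n = 1 := fun g => by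
    obtain ⟨c, rfl⟩ := (Nat.modEq_zero_iff_dvd).mp hk0
    rw [← pow_mul, show S.index * c * 3 ^ n = (Nat.card S * S.index) * c by rw [hn]; ring,
      S.card_mul_index, pow_mul, pow_card_eq_one', one_pow]
  have hprod : ∀ a b, IsConj e a → IsConj e b → f (a * b) = 0 := fun a b ha hb => by
    have h2 : ∀ s, IsConj e s → s⁻¹ = s := fun s hs => by
      obtain ⟨g, hg⟩ := isConj_iff.mp hs
      refine inv_eq_of_mul_eq_one_right ?_
      rw [← hg, conj_mul, e2]; simp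
    obtain ⟨g, hp⟩ := exists_conj_mem_of_pow hS hi (hk81 (a * b))
    obtain ⟨c, hc⟩ := isConj_iff.mp (ha.trans (isConj_iff.mpr ⟨g, rfl⟩))
    show θ _ = 0
    rw [hθc (isConj_iff.mpr ⟨g, rfl⟩), hθp _ hp, if_pos (hinv c _ hp ?_)]
    have : a * (a * b) * a⁻¹ = (a * b)⁻¹ := by
      rw [mul_inv_rev, h2 b hb, ← mul_assoc]; nth_rewrite 1 [← h2 a ha]; simp
    rw [hc]
    calc _ = g * (a * (a * b) ^ k * a⁻¹) * g⁻¹ := by group
      _ = _ := by rw [← conj_pow, this, inv_pow]; group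
  have hfE : f e = 0 := by
    have : e ^ k = 1 := by
      have a := pow_gcd_eq_one.mpr ⟨hk81 e, show (e ^ k) ^ 2 = 1 by
        rw [← pow_mul, mul_comm, pow_mul, pow_two, e2, one_pow]⟩
      rwa [Nat.Coprime.pow_left n (by norm_num : Nat.Coprime 3 2), pow_one] at a
    rw [hf]; simp only [this, hθ1]
  obtain ⟨d, hd, hdQ⟩ : ∃ d ∈ S, d ∉ Q := by
    by_contra! a
    have := Subgroup.card_le_of_le (show S ≤ Q from a)
    have := Nat.card_pos (α := Q)
    omega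
  obtain ⟨m, hm⟩ := ZIrr.exists_int_ip hfZ (triv_mem_ZIrr ⊤)
  have hff : ip ⊤ f f = 3 * m := by
    rw [← hm, ip, ip, Finset.mul_sum, Finset.mul_sum, Finset.mul_sum]
    refine Finset.sum_congr rfl fun g _ => ?_
    rw [triv_of_mem (Subgroup.mem_top _)]
    simp only [hf, θ]
    split_ifs <;> simp [map_ofNat]; ring
  have hg : f - (m : ℂ) • triv ⊤ ∈ ZIrr (⊤ : Subgroup G) :=
    sub_mem hfZ (intCast_smul_mem m (triv_mem_ZIrr _))
  have hg1 := ZIrr.one_le_nsq hg fun e => by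
    have e1 := congrFun e 1
    have e2 := congrFun e d
    simp only [Pi.sub_apply, Pi.smul_apply, triv_of_mem (Subgroup.mem_top _), hf1, hfD d hd hdQ,
      smul_eq_mul, Pi.zero_apply] at e1 e2
    have : (3 : ℂ) = 0 := by linear_combination e2 - e1
    norm_num at this
  have hg2 : (nsq ⊤ (f - (m : ℂ) • triv ⊤) : ℂ) = ((3 * m - m ^ 2 : ℤ) : ℂ) := by
    rw [← ip_self, ip_sub_left, ip_sub_right, ip_sub_right, ip_smul_left, ip_smul_right,
      ip_smul_left, ip_smul_right, hff, hm, ZIrr.ip_comm (triv_mem_ZIrr _) hfZ, hm, ip_triv_triv]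
    simp; ring
  have hg3 : (1 : ℤ) ≤ 3 * m - m ^ 2 := by
    have : nsq ⊤ (f - (m : ℂ) • triv ⊤) = ((3 * m - m ^ 2 : ℤ) : ℝ) := by exact_mod_cast hg2
    rw [this] at hg1; exact_mod_cast hg1
  have hm12 : m = 1 ∨ m = 2 := by
    have h1 : 0 < m := by nlinarith
    have h2 : m < 3 := by nlinarith
    omega
  refine ⟨cfker ⊤ f, ⟨fun x hx g => CF.conj_mem_cfker (ZIrr.cf hfZ) trivial hx⟩,
    mem_cfker_of_norm hfZ (by omega) hm (by
      rw [hff]; rcases hm12 with e | e <;> rw [e] <;> norm_num) hf1 hfE e2 hprod,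
    fun s hs => by_contra fun a => ?_⟩
  have := apply_of_mem_cfker hs.1
  rw [hfD s hs.2 a, hf1] at this
  norm_num at this

theorem theta {X S Q : Subgroup G} (hSX : S ≤ X) (hS : IsPGroup 3 S) (hi : ¬ 3 ∣ S.relIndex X)
    (hQS : Q ≤ S) (hc : Nat.card S = 3 * Nat.card Q)
    (hsc : ∀ q ∈ Q, ∀ g ∈ X, g * q * g⁻¹ ∈ S → g * q * g⁻¹ ∈ Q) {e : G} (he : e ∈ X)
    (e2 : e * e = 1)
    (hinv : ∀ g ∈ X, ∀ s ∈ S, g * e * g⁻¹ * s * (g * e * g⁻¹)⁻¹ = s⁻¹ → s ∈ Q) :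
    ∃ N ≤ X, (∀ g ∈ X, ∀ n ∈ N, g * n * g⁻¹ ∈ N) ∧ e ∈ N ∧ N ⊓ S ≤ Q := by
  obtain ⟨N, hN, eN, h⟩ := theta_top (S := S.subgroupOf X) (Q := Q.subgroupOf X) hS.comap_subtype hi
    (fun _ a => hQS a) (by
      rwa [Nat.card_congr (Subgroup.subgroupOfEquivOfLe hSX).toEquiv,
        Nat.card_congr (Subgroup.subgroupOfEquivOfLe (hQS.trans hSX)).toEquiv])
    (fun q hq g => hsc q hq g g.2) (e := ⟨e, he⟩) (Subtype.ext e2)
    fun g s hs a => hinv g g.2 s hs (congrArg Subtype.val a)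
  refine ⟨N.map X.subtype, Subgroup.map_subtype_le _, ?_, ⟨_, eN, rfl⟩, ?_⟩
  · rintro g hg _ ⟨n, hn, rfl⟩; exact ⟨_, hN.conj_mem n hn ⟨g, hg⟩, rfl⟩
  · rintro _ ⟨⟨n, hn, rfl⟩, a⟩; exact h ⟨hn, a⟩

end CL.Odd
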