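import Mathlib
import Cfsg.Agent.PERM.S9Theta
import Cfsg.Agent.PERM.A9Gen
import Cfsg.Agent.PERM.A9Two
import Cfsg.Agent.PERM.A9Four
import Cfsg.Agent.KSG.AltAut

/-! Abelian Sylow 3-subgroups whose automizer is generated by reflections, and a parity
criterion for subgroups of index two. -/

set_option autoImplicit false
set_option maxRecDepth 100000
open Cfsg

namespace CL.Odd

open A8

variable {G : Type*} [Group G] [Finite G]

theorem sc3_sig {Y Z D : Subgroup G} {v : G} (hZY : Z ≤ Y) (hc : ∀ a ∈ Z, ∀ g ∈ Y, g * a = a * g)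
    (h2 : ∀ a ∈ Z, a * a = 1) (cZ : Nat.card Z ∣ 8) (vY : v ∈ Y) (v1 : v ≠ 1) (v3 : v ^ 3 = 1)
    (hK : ∀ g ∈ Y, g * v = v * g → g ∈ Z ∨ v⁻¹ * g ∈ Z ∨ v * g ∈ Z) (hD : IsPGroup 3 D)
    (hn : D ≤ Subgroup.normalizer (Y : Set G))
    (sig : ∀ K ≤ Y, ¬ 3 ∣ Nat.card K → D ≤ Subgroup.normalizer (K : Set G) → K ≤ Z) :
    ∀ g ∈ Y, g * v * g⁻¹ = v ∨ g * v * g⁻¹ = v⁻¹ := fun g hg => by
  have hc' : ∀ a ∈ Z.subgroupOf Y, ∀ g : Y, g * a = a * g := fun a ha g =>
    Subtype.ext (hc a ha g g.2)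
  have : (Z.subgroupOf Y).Normal := ⟨fun a ha g => by rwa [hc' a ha, mul_inv_cancel_right]⟩
  obtain ⟨hS, y1, y3⟩ := sc3_quot' hc' (fun a ha => Subtype.ext (h2 _ ha))
    (y := ⟨v, vY⟩) (fun e => v1 (congrArg Subtype.val e)) (Subtype.ext v3)
    fun g hg => hK g g.2 (congrArg Subtype.val hg)
  have cA : Nat.card (Z.subgroupOf Y) = Nat.card Z :=
    Nat.card_congr (Subgroup.subgroupOfEquivOfLe hZY).toEquiv
  obtain ⟨N, hN, hN3, -, hcase⟩ := hS.classification y1 y3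
  have hR := sig _ (Subgroup.map_subtype_le (pPrimeCore 3 Y)) (by
    rw [Subgroup.card_map_of_injective Y.subtype_injective]; exact not_dvd_card_pPrimeCore 3 Y)
    (hn.trans (normalizer_le_normalizer_map_pPrimeCore Y))
  obtain rfl : N = ⊥ := eq_bot_iff.mpr fun n hn => by
    obtain ⟨g, rfl⟩ := QuotientGroup.mk_surjective n
    refine (QuotientGroup.eq_one_iff g).mpr (hR ⟨g, ?_, rfl⟩)
    rw [← comap_mk'_pPrimeCore (Z.subgroupOf Y) (by
      rw [cA]; exact Nat.Coprime.coprime_dvd_left cZ (by norm_num))]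
    exact le_pPrimeCore ((Nat.Prime.coprime_iff_not_dvd Nat.prime_three).mpr hN3).symm hn
  have c1 := Subgroup.card_eq_card_quotient_mul_card_subgroup (Z.subgroupOf Y)
  have c2 := Nat.card_congr (QuotientGroup.quotientBot (G := Y ⧸ Z.subgroupOf Y)).toEquiv
  have c0 := Nat.card_pos (α := Z)
  rw [cA] at c1
  have fin : Nat.card (Y ⧸ Z.subgroupOf Y) ∣ 6 → g * v * g⁻¹ = v ∨ g * v * g⁻¹ = v⁻¹ := fun e => by
    have a := (Subgroup.zpowers ((⟨v, vY⟩ : Y) : Y ⧸ Z.subgroupOf Y)).card_mul_index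
    rw [card_zpowers_three y1 y3] at a
    have b : (Subgroup.zpowers ((⟨v, vY⟩ : Y) : Y ⧸ Z.subgroupOf Y)).Normal := by
      have := Nat.le_of_dvd (by norm_num) e
      obtain b | b : (Subgroup.zpowers ((⟨v, vY⟩ : Y) : Y ⧸ Z.subgroupOf Y)).index = 1 ∨
        (Subgroup.zpowers ((⟨v, vY⟩ : Y) : Y ⧸ Z.subgroupOf Y)).index = 2 := by
          have := Nat.card_pos (α := Y ⧸ Z.subgroupOf Y); omega
      · rw [Subgroup.index_eq_one.mp b]; infer_instance
      · exact Subgroup.normal_of_index_eq_two b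
    have k : ∀ w ∈ Y, w ^ 3 = 1 → w⁻¹ * (g * v * g⁻¹) ∈ Z → g * v * g⁻¹ = w := fun w hw w3 m => by
      have c := hc _ m w hw
      have : (w⁻¹ * (g * v * g⁻¹)) ^ 3 = 1 := by
        rw [← mul_right_inj (w ^ 3), ← (show Commute w _ from c).mul_pow, mul_inv_cancel_left,
          conj_pow, v3, w3]; simp
      rw [pow_succ, pow_two, h2 _ m, one_mul] at this
      exact (inv_mul_eq_one.mp this).symm
    rcases (mem_zpowers_three y3).mp (b.conj_mem _ (Subgroup.mem_zpowers _) ((⟨g, hg⟩ : Y) : _))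
      with c | c | c
    · exact (y1 (by simpa using c)).elim
    · exact Or.inl (k v vY v3 ((QuotientGroup.eq (a := ⟨v, vY⟩)
        (b := ⟨g, hg⟩ * ⟨v, vY⟩ * (⟨g, hg⟩ : Y)⁻¹)).mp c.symm))
    · have : (((⟨v, vY⟩ : Y)⁻¹ : Y) : Y ⧸ Z.subgroupOf Y) =
        ((⟨g, hg⟩ * ⟨v, vY⟩ * (⟨g, hg⟩ : Y)⁻¹ : Y) : Y ⧸ Z.subgroupOf Y) := c.symm
      have := QuotientGroup.eq.mp this
      exact Or.inr (k _ (inv_mem vY) (by rw [inv_pow, v3, inv_one]) this)
  have syl : ∀ p [Fact p.Prime], p ≠ 3 → ¬ 3 ∣ Nat.card (Sylow p Y) → ∀ n, p ^ n ∣ Nat.card Y →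
      p ^ n ∣ Nat.card Z := fun p hp p3 h3 m hm => by
    obtain ⟨P, hP⟩ := (exists_norm_sylow hn p).2 hD h3
    obtain ⟨n, hn⟩ := (P.isPGroup'.map Y.subtype).exists_card_eq
    have a := Subgroup.card_dvd_of_le (sig _ (Subgroup.map_subtype_le _) (by
      rw [hn]; exact fun e => p3 ((Nat.prime_dvd_prime_iff_eq Nat.prime_three hp.out).mp
        (Nat.prime_three.dvd_of_dvd_pow e)).symm)
      fun d hd => Subgroup.mem_normalizer_fintype (hP d hd))
    rw [Subgroup.card_map_of_injective Y.subtype_injective] at a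
    exact (P.pow_dvd_card_of_pow_dvd_card hm).trans a
  rcases hcase with e | ⟨⟨e⟩⟩ | ⟨-, -, ⟨e⟩⟩ | ⟨⟨e⟩⟩
  · exact fin (by rw [← c2, e]; norm_num)
  · exact fin (by rw [← c2, Nat.card_congr e.toEquiv, Nat.card_perm, Nat.card_fin]; rfl)
  · rw [Nat.card_congr e.toEquiv, card_A5] at c2
    let ψ := (QuotientGroup.mk' ⊥).comp (QuotientGroup.mk' (Z.subgroupOf Y))
    let ε := (alternatingGroup (Fin 5)).subtype.comp e.toMonoidHom
    have εi : Function.Injective ε := Subtype.val_injective.comp e.injective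
    have ψs : Function.Surjective ψ :=
      (QuotientGroup.mk'_surjective _).comp (QuotientGroup.mk'_surjective _)
    have ψk : ψ.ker = Z.subgroupOf Y := by
      rw [← MonoidHom.comap_ker, QuotientGroup.ker_mk', MonoidHom.comap_bot, QuotientGroup.ker_mk']
    obtain ⟨a, ha, -⟩ := dec_a5.2 (ε (ψ ⟨v, vY⟩)) (by
      rw [← map_pow, ← map_pow, show (⟨v, vY⟩ : Y) ^ 3 = 1 from Subtype.ext v3]; simp)
      ((map_ne_one_iff _ εi).mpr fun e => y1 ((QuotientGroup.eq_one_iff _).mp e))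
    obtain ⟨b, rfl⟩ : ∃ b, ε b = a := ⟨e.symm ⟨a, ha.1⟩, by simp [ε]⟩
    have R : Rot (ψ ⟨v, vY⟩) b _ := ⟨fun e => ha.2.1 (by rw [e, map_one]),
      εi (by rw [map_mul, ha.2.2.1, map_one]), rfl, εi (by simpa using ha.2.2.2)⟩
    have iP : (R.four.comap ψ).index = 15 := by
      have := R.four.card_mul_index
      rw [R.card_four, Nat.card_congr e.toEquiv, card_A5] at this
      rw [Subgroup.index_comap_of_surjective _ ψs]; omega
    have pZ : IsPGroup 2 (Z.subgroupOf Y) := fun a => ⟨1, Subtype.ext (Subtype.ext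
      ((pow_two _).trans (h2 _ a.2)))⟩
    let P := (IsPGroup.comap_of_ker_isPGroup (IsPGroup.of_card (n := 2) R.card_four) ψ
      (ψk ▸ pZ)).toSylow (by rw [iP]; norm_num)
    obtain ⟨j, hj⟩ := pZ.exists_card_eq
    rw [cA] at hj
    have := syl 2 (by norm_num) (fun e => by
      have a := (Subgroup.normalizer (P : Set Y)).card_mul_index
      have b := Subgroup.orderOf_dvd_natCard (Subgroup.normalizer (P : Set Y)) (x := ⟨v, vY⟩)
        (Subgroup.mem_normalizer_fintype fun q hq => by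
          show ψ _ ∈ R.four
          rw [map_mul, map_mul, map_inv]; exact R.four_conj _ hq)
      rw [orderOf_eq_prime (Subtype.ext v3) fun e => v1 (congrArg Subtype.val e)] at b
      rw [P.card_eq_index_normalizer] at e
      have := (mul_dvd_mul b e).trans (a.dvd.trans (c1.dvd.trans (mul_dvd_mul c2.symm.dvd cZ)))
      norm_num at this) (j + 1) (by rw [c1, ← c2, hj, pow_succ']; exact mul_dvd_mul_right (by norm_num) _)
    rw [hj, Nat.pow_dvd_pow_iff_le_right one_lt_two] at this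
    omega
  · rw [Nat.card_congr e.toEquiv, card_L27] at c1
    have : Fact (Nat.Prime 7) := ⟨by norm_num⟩
    have := (syl 7 (by norm_num) (by
      have a := ((Sylow.card_dvd_index (Classical.arbitrary (Sylow 7 Y))).trans
        (Subgroup.index_dvd_card _)).trans (c1.dvd.trans (mul_dvd_mul_left _ cZ))
      exact (by decide +kernel : ∀ n ∈ Nat.divisors 1344, n % 7 = 1 % 7 → ¬ 3 ∣ n) _
        (Nat.mem_divisors.mpr ⟨a, by norm_num⟩) (card_sylow_modEq_one 7 Y)) 1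
      (by rw [c1]; exact Dvd.dvd.mul_right (by norm_num) _)).trans cZ
    norm_num at this

/-- an abelian 3-subgroup `D` of `X` and a central elementary abelian 2-subgroup `Z` containing
the `D`-invariant subgroups of order prime to three -/
structure Sig (X D Z : Subgroup G) : Prop where
  le : D ≤ X
  p : IsPGroup 3 D
  comm : ∀ a ∈ D, ∀ b ∈ D, a * b = b * a
  zle : Z ≤ X
  cen : ∀ a ∈ Z, ∀ g ∈ X, g * a = a * g
  sq : ∀ a ∈ Z, a * a = 1
  card : Nat.card Z ∣ 8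
  sig : ∀ K ≤ X, ¬ 3 ∣ Nat.card K → D ≤ Subgroup.normalizer (K : Set G) → K ≤ Z

namespace Sig
variable {X D Z : Subgroup G} (h : Sig X D Z)
include h

omit [Finite G] in
theorem mono {X' : Subgroup G} (a : X' ≤ X) (b : D ≤ X') (c : Z ≤ X') : Sig X' D Z :=
  ⟨b, h.p, h.comm, c, fun z hz g hg => h.cen z hz g (a hg), h.sq, h.card,
    fun K hK => h.sig K (hK.trans a)⟩

theorem mem_of {g y a : G} (hg : g ∈ X) (hy : y ∈ D) (ha : a ∈ Z) (m : g * y * g⁻¹ * a ∈ D) :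
    g * y * g⁻¹ ∈ D := by
  obtain ⟨k, hk⟩ := h.p ⟨y, hy⟩
  refine T43.mem_of_sq_mem (k := k) (by
    rw [conj_pow, show y ^ 3 ^ k = 1 from congrArg Subtype.val hk]; simp) ?_
  have := D.mul_mem m m
  rwa [mul_assoc _ a, ← mul_assoc a, ← h.cen a ha _ (mul_mem (mul_mem hg (h.le hy)) (inv_mem hg)),
    mul_assoc _ a, h.sq a ha, mul_one] at this

theorem not_dvd (hN : ∀ g ∈ X, (∀ y ∈ D, g * y * g⁻¹ ∈ D) → g * g ∈ D) : ¬ 3 ∣ D.relIndex X :=
  CL.SylowRel.not_dvd_relIndex_of_normalizer h.p h.le fun g hg hn ⟨_, e⟩ =>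
    T43.mem_of_sq_mem e (hN g hg fun y hy => (Subgroup.mem_normalizer_iff.mp hn y).mp hy)

theorem refl {v : G} (vD : v ∈ D) (v1 : v ≠ 1) (v3 : v ^ 3 = 1)
    (hN : ∀ g ∈ X, (∀ y ∈ D, g * y * g⁻¹ ∈ D) →
      g * g ∈ D ∧ ∀ y ∈ D, y * g * y⁻¹ * g⁻¹ ∈ Subgroup.zpowers v)
    (hC : ∀ g ∈ X, g * v = v * g → ∃ a ∈ Z, g * a ∈ D) : ∀ g ∈ X, ∀ y ∈ D, g * y * g⁻¹ ∈ D := by
  obtain ⟨Y, hYX, hn, hYD, h4, hg⟩ := T43.exists_res h.le h.p h.comm hN
  have ZY : Z ≤ Y := fun a ha => h4 a (h.zle ha) (by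
    rw [show 4 = 2 * 2 from rfl, pow_mul, pow_two a, h.sq a ha, one_pow])
  have DY : D ≤ Subgroup.normalizer (Y : Set G) := fun d hd =>
    Subgroup.mem_normalizer_fintype (hn d (h.le hd))
  have key : ∀ g ∈ Y, g * v * g⁻¹ = v ∨ g * v * g⁻¹ = v⁻¹ := by
    by_cases vY : v ∈ Y
    · refine sc3_sig ZY (fun a ha g hg => h.cen a ha g (hYX hg)) h.sq h.card vY v1 v3
        (fun g hg e => ?_) h.p DY fun K hK => h.sig K (hK.trans hYX)
      obtain ⟨a, ha, m⟩ := hC g (hYX hg) e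
      rcases (mem_zpowers_three v3).mp (hYD ⟨mul_mem hg (ZY ha), m⟩) with c | c | c <;>
        rw [eq_mul_inv_of_mul_eq c] <;> simp [ha]
    · have := h.sig Y hYX (fun e => by
        obtain ⟨y, hy⟩ := exists_prime_orderOf_dvd_card' 3 e
        have y3 : (y : G) ^ 3 = 1 := by rw [← Subgroup.coe_pow, ← hy, pow_orderOf_eq_one]; rfl
        obtain ⟨g, hg⟩ := exists_conj_mem_of_pow (S := D.subgroupOf X) h.p.comap_subtype
          (h.not_dvd fun g a b => (hN g a b).1) (a := ⟨y, hYX y.2⟩) (k := 1) (Subtype.ext y3)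
        have m := hn g g.2 y y.2
        rcases (mem_zpowers_three v3).mp (hYD ⟨m, hg⟩) with c | c | c
        · rw [conj_eq_one_iff, OneMemClass.coe_eq_one] at c
          rw [c, orderOf_one] at hy; omega
        · exact vY (c ▸ m)
        · exact vY (inv_mem_iff.mp (c ▸ m))) DY
      exact fun g hg => Or.inl (by rw [← h.cen g (this hg) v (h.le vD), mul_inv_cancel_right])
  intro g gX y hy
  obtain ⟨a, ha, m⟩ := hC _ (mul_mem (mul_mem gX (h.le hy)) (inv_mem gX)) (mem_cz'.mp (by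
    obtain ⟨x, hx, p, hp, rfl⟩ := hg g gX
    have := conj_mem_cz (x * p) (mem_cz'.mpr (h.comm y hy v vD))
    rw [show x * p * v * (x * p)⁻¹ = x * v * x⁻¹ by rw [mul_assoc x, h.comm p hp v vD]; group] at this
    rcases key x hx with c | c <;> rw [c] at this
    exacts [this, cz_inv v ▸ this]))
  exact h.mem_of gX hy ha m

theorem two {Q : Subgroup G} {v w e : G} (hQ : Q ≤ D) (hc : Nat.card D = 3 * Nat.card Q)
    (vD : v ∈ D) (v1 : v ≠ 1) (v3 : v ^ 3 = 1) (wD : w ∈ D) (wQ : w ∉ Q) (w3 : w ^ 3 = 1)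
    (he : e ∈ X) (e2 : e * e = 1) (ev : e * v * e⁻¹ = v⁻¹)
    (hsc : ∀ q ∈ Q, ∀ g ∈ X, g * q * g⁻¹ ∈ D → g * q * g⁻¹ ∈ Q)
    (hinv : ∀ g ∈ X, ∀ s ∈ D, g * e * g⁻¹ * s * (g * e * g⁻¹)⁻¹ = s⁻¹ → s ∈ Q)
    (hN : ∀ g ∈ X, (∀ y ∈ D, g * y * g⁻¹ ∈ D) → g * g ∈ D ∧
      ((∀ y ∈ D, y * g * y⁻¹ * g⁻¹ ∈ Subgroup.zpowers v) ∨ g * w * g⁻¹ = w⁻¹))
    (hC : ∀ g ∈ X, g * v = v * g → (∃ a ∈ Z, g * a ∈ D) ∨ g * w * g⁻¹ = w⁻¹) :
    ∀ g ∈ X, ∀ y ∈ D, g * y * g⁻¹ ∈ D := by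
  obtain ⟨N, hNX, hn, eN, hND⟩ := theta h.le h.p (h.not_dvd fun g a b => (hN g a b).1) hQ hc hsc
    he e2 hinv
  have sq : ∀ {a : G}, a ^ 3 = 1 → a⁻¹ * a⁻¹ = a := fun a3 => by
    rw [← inv_eq_sq_of_cube (by rw [inv_pow, a3, inv_one]), inv_inv]
  let X' : Subgroup G :=
    { carrier := {g | g ∈ X ∧ g * w * g⁻¹ * w⁻¹ ∈ N}
      one_mem' := ⟨X.one_mem, by simp⟩
      mul_mem' := fun {a b} ha hb => ⟨mul_mem ha.1 hb.1, by
        simpa [mul_assoc] using N.mul_mem (hn a ha.1 _ hb.2) ha.2⟩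
      inv_mem' := fun {a} ha => ⟨inv_mem ha.1, by
        simpa [mul_assoc] using N.inv_mem (hn _ (inv_mem ha.1) _ ha.2)⟩ }
  have nw : ∀ g ∈ X', g * w * g⁻¹ ≠ w⁻¹ := fun g hg c => wQ (hND ⟨by
    have := hg.2
    rwa [c, sq w3] at this, wD⟩)
  have := (h.mono (X' := X') (fun _ a => a.1)
    (fun d hd => ⟨h.le hd, by rw [h.comm d hd w wD]; simp⟩)
    fun a ha => ⟨h.zle ha, by rw [← h.cen a ha w (h.le wD)]; simp⟩).refl vD v1 v3
    (fun g hg a => ⟨(hN g hg.1 a).1, (hN g hg.1 a).2.resolve_right (nw g hg)⟩)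
    fun g hg a => (hC g hg.1 a).resolve_right (nw g hg)
  have vN : v ∈ N := by
    have := N.mul_mem eN (hn v (h.le vD) _ (N.inv_mem eN))
    rwa [← mul_assoc, ← mul_assoc, ev, sq v3] at this
  intro g hg y hy
  have m := hn _ (inv_mem hg) v vN
  have m' : g⁻¹ * v * g⁻¹⁻¹ ∈ D := T43.mem_of_sq_mem (k := 1) (by rw [conj_pow, pow_one, v3]; simp)
    (hN _ (hNX m) (this _ ⟨hNX m, by
      simpa [mul_assoc] using N.mul_mem m (hn w (h.le wD) _ (N.inv_mem m))⟩)).1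
  have c := conj_mem_cz g (mem_cz'.mpr (h.comm y hy _ m'))
  rw [show g * (g⁻¹ * v * g⁻¹⁻¹) * g⁻¹ = v by group] at c
  rcases hC _ (mul_mem (mul_mem hg (h.le hy)) (inv_mem hg)) (mem_cz'.mp c) with ⟨a, ha, b⟩ | b
  · exact h.mem_of hg hy ha b
  · obtain ⟨k, hk⟩ := h.p ⟨y, hy⟩
    have := mem_cz.mp (T43.mem_of_sq_mem (P := cz w) (g := g * y * g⁻¹) (k := k) (by
      rw [conj_pow, show y ^ 3 ^ k = 1 from congrArg Subtype.val hk]; simp) (mem_cz.mpr (by
        generalize g * y * g⁻¹ = u at b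
        calc _ = u * (u * w * u⁻¹) * u⁻¹ := by group
          _ = _ := by rw [b, ← conj_inv, b, inv_inv])))
    rw [b, inv_eq_iff_mul_eq_one] at this
    rw [pow_succ, pow_two, this, one_mul] at w3
    exact (wQ (w3 ▸ Q.one_mem)).elim

end Sig

theorem dvd_card_of_orbits {B Ω : Type*} [Group B] [MulAction B Ω] [Finite B] {n : ℕ} (s : Finset Ω)
    (hs : ∀ b : B, ∀ x ∈ s, b • x ∈ s) (h : ∀ x ∈ s, n ∣ (MulAction.stabilizer B x).index) :
    n ∣ s.card := by
  classical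
  rw [Finset.card_eq_sum_card_image (Quotient.mk (MulAction.orbitRel B Ω))]
  refine Finset.dvd_sum fun q hq => ?_
  obtain ⟨x, hx, rfl⟩ := Finset.mem_image.mp hq
  refine (h x hx).trans (Eq.dvd (Eq.symm ?_))
  rw [MulAction.index_stabilizer, ← Set.ncard_coe_finset]
  congr 1
  ext y
  simp only [Finset.coe_filter, Set.mem_ofPred_eq, Quotient.eq, MulAction.orbitRel_apply]
  exact ⟨And.right, fun ⟨b, e⟩ => ⟨e ▸ hs b x hx, b, e⟩⟩

/-- an involution acting as an odd permutation on the cosets of `C` -/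
theorem exists_sign {B C : Subgroup G} (hB : IsPGroup 2 B) {r : G} (rB : r ∈ B) (r2 : r * r = 1)
    (rc : ∀ b ∈ B, b * r = r * b) (rC : r ∉ C) (hBC : ∀ b ∈ B, b ∈ C ∨ r * b ∈ C)
    (h : ∀ g, g⁻¹ * r * g ∉ C → (C.map (MulAut.conj g).toMonoidHom).relIndex B = 2 →
      g ∈ C ∨ r * g ∈ C) : ∃ χ : G →* ℤˣ, χ r = -1 := by
  classical
  have := Fintype.ofFinite (G ⧸ C)
  have ri := inv_eq_of_mul_eq_one_right r2
  refine ⟨Equiv.Perm.sign.comp (MulAction.toPermHom G (G ⧸ C)), ?_⟩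
  let s := Finset.univ.filter fun x : G ⧸ C => r • x ≠ x
  have rr : ∀ x : G ⧸ C, r • r • x = x := fun x => by rw [smul_smul, r2, one_smul]
  have ne : r • ((1 : G) : G ⧸ C) ≠ (1 : G) := fun e => rC (by simpa [ri] using QuotientGroup.eq.mp e)
  have k : ∀ b : B, b • ((1 : G) : G ⧸ C) = (1 : G) ∨ b • ((1 : G) : G ⧸ C) = r • ((1 : G) : G ⧸ C) :=
    fun b => (hBC b b.2).imp (fun a => (QuotientGroup.eq.mpr (by simpa using a)).symm)
      fun a => (QuotientGroup.eq.mpr (by simpa [ri] using a)).symm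
  have cm : ∀ (b : B) (x : G ⧸ C), b • r • x = r • b • x := fun b x => by
    show (b : G) • r • x = r • (b : G) • x
    rw [smul_smul, smul_smul, rc b b.2]
  have h4 := dvd_card_of_orbits (B := B) (n := 4)
    ((s.erase ((1 : G) : G ⧸ C)).erase (r • ((1 : G) : G ⧸ C))) (fun b x hx => by
      simp only [s, Finset.mem_erase, Finset.mem_filter, Finset.mem_univ, true_and] at hx ⊢
      refine ⟨fun e => ?_, fun e => ?_, fun e => hx.2.2 (by rwa [← cm, smul_left_cancel_iff] at e)⟩ <;>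
        rw [← eq_inv_smul_iff] at e
      · rw [cm] at e
        rcases k b⁻¹ with c | c <;> rw [c] at e
        exacts [hx.1 e, hx.2.1 (e.trans (rr _))]
      · rcases k b⁻¹ with c | c <;> rw [c] at e
        exacts [hx.2.1 e, hx.1 e]) fun x hx => by
      simp only [s, Finset.mem_erase, Finset.mem_filter, Finset.mem_univ, true_and] at hx
      obtain ⟨g, rfl⟩ := QuotientGroup.mk_surjective x
      obtain ⟨n, hn⟩ := hB.index (MulAction.stabilizer B (g : G ⧸ C))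
      rcases n with _ | _ | n
      · exact (hx.2.2 ((Subgroup.index_eq_one.mp hn).ge (Subgroup.mem_top (⟨r, rB⟩ : B)))).elim
      · rcases h g (fun a => hx.2.2 (QuotientGroup.eq.mpr (by simpa [mul_assoc] using a)).symm) (by
          refine Eq.trans (congrArg Subgroup.index ?_) hn
          ext b
          rw [Subgroup.mem_subgroupOf, Subgroup.mem_map_equiv, MulAction.mem_stabilizer_iff, eq_comm]
          exact (QuotientGroup.eq.trans (by simp [mul_assoc])).symm) with a | a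
        · exact (hx.2.1 (QuotientGroup.eq.mpr (by simpa using a)).symm).elim
        · exact (hx.1 (QuotientGroup.eq.mpr (by simpa [ri] using a)).symm).elim
      · exact ⟨2 ^ n, by rw [hn]; ring⟩
  have m1 : ((1 : G) : G ⧸ C) ∈ s := by simpa [s] using ne
  have m2 : r • ((1 : G) : G ⧸ C) ∈ s.erase ((1 : G) : G ⧸ C) := by
    simp only [s, Finset.mem_erase, Finset.mem_filter, Finset.mem_univ, true_and, rr]
    exact ⟨ne, ne.symm⟩
  have a := Finset.card_erase_add_one m1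
  have b := Finset.card_erase_add_one m2
  have c := Finset.card_filter_add_card_filter_not (s := Finset.univ) fun x : G ⧸ C => r • x = x
  rw [MonoidHom.comp_apply, Equiv.Perm.sign_of_pow_two_eq_one (by
    rw [← map_pow, pow_two, r2, map_one]), Fintype.card_subtype]
  refine Odd.neg_one_pow (Nat.odd_iff.mpr ?_)
  change (_ - (Finset.univ.filter fun x : G ⧸ C => r • x = x).card) / 2 % 2 = 1
  rw [Finset.card_univ] at c
  change _ + s.card = _ at c
  omega

theorem iso_perm_of_alt {n : ℕ} (h4 : 4 ≤ n) (h6 : n ≠ 6) {K : Subgroup G} [K.Normal]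
    (e : K ≃* alternatingGroup (Fin n)) (hK : K ≠ ⊤)
    (hC : ∀ g, (∀ k ∈ K, g * k * g⁻¹ = k) → g = 1) : Nonempty (G ≃* Equiv.Perm (Fin n)) := by
  choose σ hσ using fun g : G => KSG.exists_perm_of_mulAut (by simpa) (by simpa)
    (MulAut.congr e (MulAut.conjNormal g))
  replace hσ : ∀ g a, (e (MulAut.conjNormal g (e.symm a))).1 = σ g * a.1 * (σ g)⁻¹ := hσ
  let Φ : G →* Equiv.Perm (Fin n) := MonoidHom.mk' σ fun a b => by
    rw [← inv_mul_eq_one]
    refine KSG.eq_one_of_commute_alt (by simpa) fun g hg => ?_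
    have h1 := hσ (a * b) ⟨g, hg⟩
    have h2 := hσ a (e (MulAut.conjNormal b (e.symm ⟨g, hg⟩)))
    rw [MulEquiv.symm_apply_apply, hσ b, ← MulAut.mul_apply, ← map_mul, h1] at h2
    calc _ = (σ (a * b))⁻¹ * (σ a * (σ b * g * (σ b)⁻¹) * (σ a)⁻¹) * (σ a * σ b) := by group
      _ = _ := by rw [← h2]; group
  have hΦ : Function.Injective Φ := (injective_iff_map_eq_one Φ).mpr fun g hg => hC g fun k hk => by
    have := hσ g (e ⟨k, hk⟩)
    rw [show σ g = 1 from hg, one_mul, inv_one, mul_one, MulEquiv.symm_apply_apply] at this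
    exact congrArg Subtype.val (e.injective (Subtype.ext this))
  refine ⟨MulEquiv.ofBijective Φ (hΦ.bijective_of_nat_card_le ?_)⟩
  have : Nontrivial (Fin n) := Fin.nontrivial_iff_two_le.mpr (by omega)
  have h1 := K.card_mul_index
  have h2 := two_mul_nat_card_alternatingGroup (α := Fin n)
  rw [Nat.card_congr e.toEquiv] at h1
  have h3 : K.index ≠ 0 := Subgroup.FiniteIndex.index_ne_zero
  have h4 : K.index ≠ 1 := mt Subgroup.index_eq_one.mp hK
  rw [← h1, ← h2, mul_comm]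
  exact Nat.mul_le_mul_left _ (by omega)

end CL.Odd
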