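import Mathlib
import Cfsg.Agent.PERM.S9Mod
import Cfsg.Agent.PERM.S9Gen
import Cfsg.Agent.PERM.A9Loc

/-! The three-local structure of a group with the centralizer `3^3 : Sym(3)`. -/

set_option autoImplicit false
set_option maxRecDepth 100000
set_option synthInstance.maxSize 2000
set_option linter.unusedSectionVars false
open Cfsg

namespace CL.Odd

open MO

variable {G : Type*} [Group G] [Finite G] {n : Fin 4} {ι : U n →* G}

theorem mem_cz_hom {M : Type*} [Group M] {ι : M →* G} (hι : Function.Injective ι) {p q : M} :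
    ι p ∈ cz (ι q) ↔ p * q = q * p := by rw [mem_cz', ← map_mul, ← map_mul, hι.eq_iff]

theorem mem_Js {l : V3} {g : G} : g ∈ (Js n l).map ι ↔ ∃ x, dot l x = 0 ∧ ι (tau n x) = g :=
  ⟨fun ⟨p, hp, e⟩ => ⟨p.1.1, hp.2, eq_tau hp ▸ e⟩, fun ⟨_, a, e⟩ => ⟨_, tau_mem_Js.mpr a, e⟩⟩

theorem tau_memJ (x : V3) : ι (tau n x) ∈ (Js n 0).map ι := ⟨_, tau_mem x, rfl⟩

theorem tau_conj' (p : U n) (x : V3) : ι p * ι (tau n x) * (ι p)⁻¹ = ι (tau n (act p x)) := by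
  rw [← tau_conj, map_mul, map_mul, map_inv]

theorem tau_cube' (x : V3) : ι (tau n x) ^ 3 = 1 := by rw [← map_pow, tau_cube, map_one]

theorem Js_comm {l l' : V3} : ∀ a ∈ (Js n l).map ι, ∀ b ∈ (Js n l').map ι, a * b = b * a :=
  fun a ha b hb => by
  obtain ⟨x, -, rfl⟩ := mem_Js.mp ha
  obtain ⟨y, -, rfl⟩ := mem_Js.mp hb
  rw [← map_mul, tau_comm, map_mul]

theorem Js_cube {l : V3} : ∀ a ∈ (Js n l).map ι, a ^ 3 = 1 := fun a ha => by
  obtain ⟨x, -, rfl⟩ := mem_Js.mp ha; exact tau_cube' x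

theorem Js_p (l : V3) : IsPGroup 3 ((Js n l).map ι) := fun a => ⟨1, Subtype.ext (Js_cube _ a.2)⟩

theorem J_le_cz (x : V3) : (Js n 0).map ι ≤ cz (ι (tau n x)) := fun a ha =>
  mem_cz'.mpr (Js_comm a ha _ (tau_memJ x))

theorem comm_mem {p : U n} {y v : V3} (e : y - act p y ∈ [0, v, -v]) :
    ι (tau n y) * ι p * (ι (tau n y))⁻¹ * (ι p)⁻¹ ∈ Subgroup.zpowers (ι (tau n v)) := by
  have : ι (tau n y) * ι p * (ι (tau n y))⁻¹ * (ι p)⁻¹ = ι (tau n (y - act p y)) := by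
    rw [sub_eq_add_neg, tau_add, tau_neg, map_mul, map_inv, ← tau_conj']; group
  rw [this, mem_zpowers_three (tau_cube' v), ← map_inv, ← tau_neg]
  simp only [List.mem_cons, List.not_mem_nil, or_false] at e
  rcases e with e | e | e <;> rw [e] <;> simp [tau_zero]

/-- the stabilizer of `u` is generated by the reflections `e` along `v` and `f` along `w` -/
abbrev Two (u v w l : V3) (e f : U n) : Prop :=
  (∀ a, inW n a → sg a u = u → wm a a = (0, false) ∧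
    ((∀ y, y - sg a y ∈ [0, v, -v]) ∨ sg a w = -w) ∧ (∀ x, dot l (sg a x) = 0 ↔ dot l x = 0) ∧
    (∀ x, dot l x ≠ 0 → sg a x = x → Refl v a) ∧
    (sg a v = v → Refl w a ∧ (a = (0, false) ∨ sg a w = -w))) ∧
  (∀ p : U n, act p u = u → p * p = 1 → ∀ x, dot l x ≠ 0 → act p x = -x →
    ∃ y, tau n y * f * (tau n y)⁻¹ = p ∨ tau n y * (e * f) * (tau n y)⁻¹ = p) ∧
  l ≠ 0 ∧ v ≠ 0 ∧ w ≠ 0 ∧ dot l w ≠ 0 ∧ dot l u = 0 ∧ dot l v = 0 ∧ act e u = u ∧ e * e = 1 ∧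
  act e v = -v ∧ e * f = f * e ∧ ∀ y, act f y = y ↔ dot l y = 0

/-- the hypothesis -/
structure S9Hyp (ι : U n →* G) : Prop where
  intro ::
  inj : Function.Injective ι
  norm : ∀ g, (∀ x, ∃ y, g * ι (tau n x) * g⁻¹ = ι (tau n y)) → g ∈ ι.range
  cent : cz (ι (tau n cc)) ≤ ι.range
  sig : ∀ K : Subgroup G, ¬ 3 ∣ Nat.card K → (Js n 0).map ι ≤ Subgroup.normalizer (K : Set G) →
    K = ⊥

namespace S9Hyp
variable (h : S9Hyp ι)
include h

theorem tau_ne {x : V3} (hx : x ≠ 0) : ι (tau n x) ≠ 1 := fun e =>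
  hx (tau_inj (h.inj (e.trans (map_one ι).symm)))

theorem act_eq {p : U n} {x y : V3} (e : ι p * ι (tau n x) * (ι p)⁻¹ = ι (tau n y)) : act p x = y :=
  tau_inj (h.inj ((tau_conj' p x).symm.trans e))

theorem fix {p : U n} {x : V3} : ι p ∈ cz (ι (tau n x)) ↔ act p x = x :=
  (mem_cz_hom h.inj).trans act_eq_iff.symm

theorem card_J (l : V3) : Nat.card ((Js n l).map ι) = if l = 0 then 27 else 9 := by
  rw [Subgroup.card_map_of_injective h.inj, card_Js]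

theorem le_J {B : Subgroup G} (hB : B ≤ ι.range) (h3 : ∀ a ∈ B, a ^ 3 = 1)
    (hc : ∀ a ∈ B, ∀ b ∈ B, a * b = b * a) (c : 9 < Nat.card B) : B ≤ (Js n 0).map ι := by
  rw [← Subgroup.map_comap_eq_self hB] at c ⊢
  exact Subgroup.map_mono (MO.le_J (fun a ha => h.inj (by rw [map_pow, h3 _ ha, map_one]))
    (fun a ha b hb => h.inj (by rw [map_mul, hc _ ha _ hb, map_mul]))
    (by rwa [Subgroup.card_map_of_injective h.inj] at c))

theorem mem_of_conj {g : G} (hg : ∀ x, g * ι (tau n x) * g⁻¹ ∈ ι.range) : g ∈ ι.range :=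
  h.norm g fun x => by
    obtain ⟨y, -, e⟩ := mem_Js.mp (h.le_J (B := ((Js n 0).map ι).map (MulAut.conj g).toMonoidHom)
      (by rintro _ ⟨a, ha, rfl⟩; obtain ⟨x, -, rfl⟩ := mem_Js.mp ha; exact hg x)
      (by rintro _ ⟨a, ha, rfl⟩; rw [← map_pow, Js_cube a ha, map_one])
      (by rintro _ ⟨a, ha, rfl⟩ _ ⟨b, hb, rfl⟩; rw [← map_mul, Js_comm a ha b hb, map_mul])
      (by rw [Subgroup.card_map_of_injective (MulAut.conj g).injective, h.card_J]; simp)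
      ⟨_, tau_memJ x, rfl⟩)
    exact ⟨y, e.symm⟩

theorem mem_of_norm {g : G} (e : ∀ a ∈ (Js n 0).map ι, g * a * g⁻¹ ∈ (Js n 0).map ι) :
    g ∈ ι.range := h.mem_of_conj fun x => Subgroup.map_le_range _ _ (e _ (tau_memJ x))

theorem pS : IsPGroup 3 ((S3 n).map ι) :=
  IsPGroup.of_card (n := 4) (by rw [Subgroup.card_map_of_injective h.inj, card_S3]; rfl)

theorem iS : ¬ 3 ∣ ((S3 n).map ι).index :=
  not_dvd_index_of_normalizer_le' (M := ι.range) (n := 4)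
    (by rw [Subgroup.card_map_of_injective h.inj, card_S3]; rfl)
    (fun g hg => h.mem_of_conj fun x => Subgroup.map_le_range _ _
      ((Subgroup.mem_normalizer_iff.mp hg _).mp ⟨_, J_le_S (tau_mem x), rfl⟩))
    (by rw [← Nat.card_congr (MonoidHom.ofInjective h.inj).toEquiv, card_U]
        exact (by decide : ∀ n, ¬ 3 ^ (4 + 1) ∣ ![162, 324, 648, 1296] n) n)

theorem le_of_pgroup {P : Subgroup G} (hP : IsPGroup 3 P) (hJ : (Js n 0).map ι ≤ P) :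
    P ≤ ι.range := by
  obtain ⟨g, hg⟩ := exists_conj_le_of_isPGroup h.pS h.iS hP
  have := h.mem_of_conj (g := g) fun x => Subgroup.map_le_range _ _ (hg _ (hJ (tau_memJ x)))
  exact fun a ha => by
    simpa [mul_assoc] using ι.range.mul_mem (ι.range.mul_mem (inv_mem this)
      (Subgroup.map_le_range _ _ (hg a ha))) this

theorem fusion {X : Subgroup G} (hX : (Js n 0).map ι ≤ X) {x y : V3} {g : G} (hg : g ∈ X)
    (e : g * ι (tau n x) * g⁻¹ = ι (tau n y)) : ∃ p, ι p ∈ X ∧ act p x = y := by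
  have m := le_inf hX (J_le_cz (ι := ι) y)
  obtain ⟨Q, hQ⟩ := ((Js_p (ι := ι) 0).comap_subtype (K := X ⊓ cz (ι (tau n y)))).exists_le_sylow
  obtain ⟨c, hc⟩ := exists_conj_le_of_isPGroup Q.isPGroup' Q.not_dvd_index
    (((Js_p (ι := ι) 0).map (MulAut.conj g).toMonoidHom).comap_subtype (K := X ⊓ cz (ι (tau n y))))
  obtain ⟨p, hp⟩ := h.mem_of_conj (g := c * g) fun z => h.le_of_pgroup (Q.isPGroup'.map
    (X ⊓ cz _).subtype) (fun a ha => ⟨⟨a, m ha⟩, hQ ha, rfl⟩) ⟨_, hc ⟨g * ι (tau n z) * g⁻¹,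
      X.mul_mem (X.mul_mem hg (hX (tau_memJ z))) (X.inv_mem hg), e ▸
      conj_mem_cz g (J_le_cz x (tau_memJ z))⟩ ⟨_, tau_memJ z, rfl⟩, by simp [mul_assoc]⟩
  refine ⟨p, hp ▸ mul_mem c.2.1 hg, h.act_eq ?_⟩
  rw [hp]
  calc _ = c * (g * ι (tau n x) * g⁻¹) * (c : G)⁻¹ := by group
    _ = _ := by rw [e, mem_cz.mp c.2.2]

theorem fusion' {x y : V3} (e : IsConj (ι (tau n x)) (ι (tau n y))) : ∃ p : U n, act p x = y :=
  have ⟨_, hg⟩ := isConj_iff.mp e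
  (h.fusion le_top trivial hg).imp fun _ => And.right

theorem core {Y : Type*} [Group Y] (f : Y →* G) (hf : Function.Injective f)
    (hJ : (Js n 0).map ι ≤ f.range) : pPrimeCore 3 Y = ⊥ := by
  have := Finite.of_injective f hf
  refine (Subgroup.map_eq_bot_iff_of_injective _ hf).mp (h.sig _ (by
    rw [Subgroup.card_map_of_injective hf]; exact not_dvd_card_pPrimeCore 3 Y) fun a ha => ?_)
  obtain ⟨a, rfl⟩ := hJ ha
  refine Subgroup.mem_normalizer_fintype ?_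
  rintro _ ⟨k, hk, rfl⟩
  exact ⟨_, (pPrimeCore_normal 3 Y).conj_mem k hk a, by simp⟩

theorem sigJ {X : Subgroup G} (hX : (Js n 0).map ι ≤ X) : Sig X ((Js n 0).map ι) ⊥ :=
  ⟨hX, Js_p 0, Js_comm, bot_le, by simp, by simp, by simp, fun K _ a b => (h.sig K a b).le⟩

theorem le_triv {X : Subgroup G} (hX : (Js n 0).map ι ≤ X) (hp : ∀ p, ι p ∈ X → p ∈ Js n 0) :
    X ≤ (Js n 0).map ι := fun g hg => by
  obtain ⟨p, rfl⟩ := h.mem_of_norm ((h.sigJ hX).refl (tau_memJ cc) (h.tau_ne (by decide))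
    (tau_cube' _) (fun g hg e => by
      obtain ⟨p, rfl⟩ := h.mem_of_norm e
      have m : ι p ∈ (Js n 0).map ι := ⟨p, hp p hg, rfl⟩
      exact ⟨mul_mem m m, fun y hy => by rw [Js_comm y hy _ m]; simp⟩) (fun g hg e => by
      obtain ⟨p, rfl⟩ := h.cent (mem_cz'.mpr e)
      exact ⟨1, one_mem _, p, hp p hg, by simp⟩) g hg)
  exact ⟨p, hp p hg, rfl⟩

theorem le_refl {X : Subgroup G} (hX : (Js n 0).map ι ≤ X) {v : V3} (v0 : v ≠ 0)
    (hp : ∀ p, ι p ∈ X → Refl v p.1.2) : X ≤ ι.range := fun g hg =>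
  h.mem_of_norm ((h.sigJ hX).refl (tau_memJ v) (h.tau_ne v0) (tau_cube' _) (fun g hg e => by
    obtain ⟨p, rfl⟩ := h.mem_of_norm e
    refine ⟨⟨_, mem_J.mpr (hp p hg).1, map_mul ι _ _⟩, fun y hy => ?_⟩
    obtain ⟨y, -, rfl⟩ := mem_Js.mp hy
    exact comm_mem ((hp p hg).2.1 y)) (fun g hg e => ⟨1, one_mem _, by
      rw [mul_one]
      exact h.le_triv (le_inf hX (J_le_cz v)) (fun p a => mem_J.mpr ((hp p a.1).2.2 (h.fix.mp a.2)))
        ⟨hg, mem_cz'.mpr e⟩⟩) g hg)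

theorem ti {X : Subgroup G} (hX : (Js n 0).map ι ≤ X) {x y : V3} {g : G} (hg : g ∈ X)
    (hy : X ⊓ cz (ι (tau n y)) ≤ ι.range) (e : g * ι (tau n x) * g⁻¹ = ι (tau n y)) : g ∈ ι.range :=
  h.mem_of_conj fun z => hy ⟨X.mul_mem (X.mul_mem hg (hX (tau_memJ z))) (X.inv_mem hg),
    e ▸ conj_mem_cz g (J_le_cz x (tau_memJ z))⟩

theorem norm_cz {l : V3} (hD : Subgroup.centralizer ((Js n l).map ι : Set G) ≤ ι.range) {g : G}
    (hg : ∀ a ∈ (Js n l).map ι, g * a * g⁻¹ ∈ (Js n l).map ι) : g ∈ ι.range :=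
  h.mem_of_conj fun x => hD fun a ha => by
    have := (Subgroup.mem_normalizer_iff.mp (inv_mem (Subgroup.mem_normalizer_fintype hg)) a).mp ha
    calc _ = g * (g⁻¹ * a * g⁻¹⁻¹ * ι (tau n x)) * g⁻¹ := by group
      _ = _ := by rw [Js_comm _ this _ (tau_memJ x)]; group

theorem conj_Js {l : V3} (hD : Subgroup.centralizer ((Js n l).map ι : Set G) ≤ ι.range)
    {X : Subgroup G} (hX : (Js n l).map ι ≤ X) (hp : ∀ p, ι p ∈ X → T3 p.1.2 → p ∈ Js n l)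
    {g : G} (hg : g ∈ X) (g3 : g ^ 3 = 1) :
    ∃ k ∈ X, ∃ x, dot l x = 0 ∧ k * g * k⁻¹ = ι (tau n x) := by
  obtain ⟨k, hk⟩ := exists_conj_mem_of_pow (S := ((Js n l).map ι).subgroupOf X)
    (Js_p l).comap_subtype (CL.SylowRel.not_dvd_relIndex_of_normalizer (Js_p l) hX
      fun g hg hn ⟨j, e⟩ => by
        obtain ⟨p, rfl⟩ := h.norm_cz hD fun a => (Subgroup.mem_normalizer_iff.mp hn a).mp
        exact ⟨p, hp p hg (t3_of (h.inj (by rw [map_pow, e, map_one]))), rfl⟩)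
    (a := ⟨g, hg⟩) (k := 1) (Subtype.ext g3)
  obtain ⟨x, a, e⟩ := mem_Js.mp hk
  exact ⟨k, k.2, x, a, e.symm⟩

theorem not_dd {x : V3} (hx : x.2.2 = 0) : ¬ IsConj (ι (dd n)) (ι (tau n x)) := fun c => by
  obtain ⟨g, hg⟩ := isConj_iff.mp c
  have d1 : dd n ∉ Js n 0 := fun e => absurd e.1 (by decide : ((2 : Fin 24), false) ≠ (0, false))
  have x0 : x ≠ 0 := fun e => d1 (by
    rw [e, tau_zero, map_one, conj_eq_one_iff, map_eq_one_iff _ h.inj] at hg; exact hg ▸ one_mem _)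
  obtain ⟨k, hk, y, -, e⟩ := h.conj_Js (l := 0) (fun g hg => h.cent
    (mem_cz'.mpr (hg _ (tau_memJ cc)).symm)) (J_le_cz x) (fun p a b => mem_J.mpr ((by decide +kernel :
      ∀ w, ∀ x : V3, x.2.2 = 0 → x ≠ 0 → sg w x = x → T3 w → w = (0, false)) _ x hx x0
      (h.fix.mp a) b)) (g := g * ι (tau n cc) * g⁻¹) (hg ▸ conj_mem_cz g (mem_cz_comm.mp
        (h.fix.mpr (show sg (2, false) cc = cc by decide)))) (by rw [conj_pow, tau_cube']; simp)
  obtain ⟨p, hp⟩ := h.mem_of_conj (g := (k * g)⁻¹) fun z => h.cent (by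
    have := conj_mem_cz (k * g)⁻¹ (J_le_cz (ι := ι) y (tau_memJ z))
    rwa [← e, show (k * g)⁻¹ * (k * (g * ι (tau n cc) * g⁻¹) * k⁻¹) * (k * g)⁻¹⁻¹ = ι (tau n cc) by
      group] at this)
  refine d1 (h.inj (show ι (tau n (act p x)) = ι (dd n) by
    rw [← tau_conj', hp, ← mem_cz.mp hk, ← hg]; group) ▸ tau_mem _)

theorem le_two {u v w l : V3} {e f : U n} (t : Two u v w l e f)
    (hn : ∀ g ∈ cz (ι (tau n u)), g * ι e * g⁻¹ ≠ ι f ∧ g * ι e * g⁻¹ ≠ ι (e * f)) :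
    cz (ι (tau n u)) ≤ ι.range := fun g hg => by
  obtain ⟨t1, t2, l0, v0, w0, lw, -, -, eu, e2, ev, -⟩ := t
  have hX := J_le_cz (ι := ι) u
  refine h.mem_of_norm ((h.sigJ hX).two (Q := (Js n l).map ι) (Subgroup.map_mono (Js_le l))
    (by rw [h.card_J, h.card_J, if_neg l0]; rfl) (tau_memJ v) (h.tau_ne v0) (tau_cube' _)
    (tau_memJ w) (fun a => ?_) (tau_cube' _) (h.fix.mpr eu) (by rw [← map_mul, e2, map_one])
    (by rw [tau_conj', ev, tau_neg, map_inv]) (fun q hq g hg a => ?_) (fun g hg s hs a => ?_)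
    (fun g hg a => ?_) (fun g hg a => ?_) g hg)
  · obtain ⟨x, a, b⟩ := mem_Js.mp a
    exact lw (tau_inj (h.inj b) ▸ a)
  · obtain ⟨x, b, rfl⟩ := mem_Js.mp hq
    obtain ⟨y, -, c⟩ := mem_Js.mp a
    obtain ⟨p, hp, rfl⟩ := h.fusion hX hg c.symm
    exact mem_Js.mpr ⟨_, ((t1 _ p.2 (h.fix.mp hp)).2.2.1 x).mpr b, c⟩
  · obtain ⟨x, -, rfl⟩ := mem_Js.mp hs
    refine mem_Js.mpr ⟨x, by_contra fun b => ?_, rfl⟩
    have m := mul_mem (mul_mem hg (h.fix.mpr eu)) (inv_mem hg)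
    rw [← map_inv, ← tau_neg] at a
    obtain ⟨p, hp⟩ := h.ti hX m (h.le_refl (le_inf hX (J_le_cz _)) v0 fun p c =>
      (t1 _ p.2 (h.fix.mp c.1)).2.2.2.1 x b (h.fix.mp (by
        have := c.2; rwa [tau_neg, map_inv, SetLike.mem_coe, A8.cz_inv] at this))) a
    rw [← hp] at a m
    obtain ⟨y, c⟩ := t2 p (h.fix.mp m) (h.inj (by
      rw [map_mul, hp, conj_mul, ← map_mul, e2]; simp)) x b (h.act_eq a)
    have := hn _ (mul_mem (inv_mem (hX (tau_memJ y))) hg)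
    rw [show (ι (tau n y))⁻¹ * g * ι e * ((ι (tau n y))⁻¹ * g)⁻¹ =
      (ι (tau n y))⁻¹ * (g * ι e * g⁻¹) * ι (tau n y) by group, ← hp] at this
    rcases c with rfl | rfl
    exacts [this.1 (by simp [mul_assoc]), this.2 (by simp [mul_assoc])]
  · obtain ⟨p, rfl⟩ := h.mem_of_norm a
    obtain ⟨b, c, -⟩ := t1 _ p.2 (h.fix.mp hg)
    refine ⟨⟨_, mem_J.mpr b, map_mul ι _ _⟩, c.imp (fun c y hy => ?_) fun c => ?_⟩
    · obtain ⟨y, -, rfl⟩ := mem_Js.mp hy; exact comm_mem (c y)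
    · rw [tau_conj', show act p w = -w from c, tau_neg, map_inv]
  · obtain ⟨p, rfl⟩ := h.le_refl (le_inf hX (J_le_cz v)) w0 (fun p c =>
      ((t1 _ p.2 (h.fix.mp c.1)).2.2.2.2 (h.fix.mp c.2)).1) ⟨hg, mem_cz'.mpr a⟩
    refine ((t1 _ p.2 (h.fix.mp hg)).2.2.2.2 (h.fix.mp (mem_cz'.mpr a))).2.imp
      (fun c => ⟨1, one_mem _, p, mem_J.mpr c, by simp⟩) fun c => ?_
    rw [tau_conj', show act p w = -w from c, tau_neg, map_inv]

theorem le_two' {u v w l l' : V3} {e f : U n} (t : Two u v w l e f) (t' : Two u w v l' f e) :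
    cz (ι (tau n u)) ≤ ι.range := by
  have hX := J_le_cz (ι := ι) u
  have nc : ∀ g ∈ cz (ι (tau n u)), g * ι f * g⁻¹ ≠ ι e := fun g hg c => by
    obtain ⟨t1, -, -, v0, -, lw, -, lv, -, -, -, -, fl⟩ := t
    obtain ⟨s1, -, -, -, -, lv', lu', lw', -, -, -, -, el⟩ := t'
    obtain ⟨k, hk, x, a, b⟩ := h.conj_Js (l := l') (fun g hg => h.le_refl
      (le_inf hX (J_le_cz w)) v0 (fun p c => (t1 _ p.2 (h.fix.mp c.1)).2.2.2.1 w lw (h.fix.mp c.2))
      ⟨mem_cz'.mpr (hg _ (mem_Js.mpr ⟨u, lu', rfl⟩)).symm,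
        mem_cz'.mpr (hg _ (mem_Js.mpr ⟨w, lw', rfl⟩)).symm⟩)
      (X := cz (ι (tau n u)) ⊓ cz (ι e)) (le_inf ((Subgroup.map_mono (Js_le _)).trans hX)
        fun a ha => by
          obtain ⟨x, b, rfl⟩ := mem_Js.mp ha
          exact mem_cz_comm.mp (h.fix.mpr ((el x).mpr b))) (fun p c d => by
        have m : p ∈ Js n 0 := mem_J.mpr ((by decide +kernel : ∀ a, wm a a = (0, false) → T3 a →
          a = (0, false)) _ (t1 _ p.2 (h.fix.mp c.1)).1 d)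
        rw [eq_tau m] at c ⊢
        exact tau_mem_Js.mpr ((el _).mp (h.fix.mp (mem_cz_comm.mp c.2))))
      (g := g * ι (tau n v) * g⁻¹) ⟨(cz _).mul_mem ((cz _).mul_mem hg (hX (tau_memJ v)))
        ((cz _).inv_mem hg), c ▸ conj_mem_cz g (mem_cz_comm.mp (h.fix.mpr ((fl v).mpr lv)))⟩
      (by rw [conj_pow, tau_cube']; simp)
    obtain ⟨p, hp, rfl⟩ := h.fusion hX (x := v) (mul_mem hk.1 hg) (by rw [← b]; group)
    exact lv' (((s1 _ p.2 (h.fix.mp hp)).2.2.1 v).mp a)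
  by_cases c : ∃ g ∈ cz (ι (tau n u)), g * ι e * g⁻¹ = ι (e * f)
  · obtain ⟨k, hk, c⟩ := c
    refine h.le_two t' fun g hg => ⟨nc g hg, fun a => nc _ (mul_mem (inv_mem hk) hg) ?_⟩
    rw [← t.2.2.2.2.2.2.2.2.2.2.2.1, ← c] at a
    calc _ = k⁻¹ * (g * ι f * g⁻¹) * k := by group
      _ = _ := by rw [a]; group
  · exact h.le_two t fun g hg => ⟨fun a => nc _ (inv_mem hg) (by rw [← a]; group),
      fun a => c ⟨g, hg, a⟩⟩

omit h in
theorem conj_zp {s t y : G} {x : V3} (c : IsConj s t) (hy : y ∈ cz s) (y3 : y ^ 3 = 1)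
    (y1 : y ≠ 1) (x1 : ι (tau n x) ≠ 1) (hx : ι (tau n x) ∈ cz t)
    (hc : ∀ g ∈ cz t, g * ι (tau n x) = ι (tau n x) * g → (∃ k, g ^ 3 ^ k = 1) →
      g ∈ Subgroup.zpowers (ι (tau n x))) :
    IsConj y (ι (tau n x)) ∨ IsConj y (ι (tau n (-x))) := by
  obtain ⟨g, rfl⟩ := isConj_iff.mp c
  obtain ⟨k, -, hk⟩ := exists_conj_zpowers hx (conj_mem_cz g hy) x1 (tau_cube' x)
    (by rw [conj_pow, y3]; simp) hc
  have e : IsConj y (k * (g * y * g⁻¹) * k⁻¹) := isConj_iff.mpr ⟨k * g, by group⟩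
  rcases (mem_zpowers_three (tau_cube' x)).mp hk with a | a | a <;> rw [a] at e
  · exact (y1 (isConj_one_left.mp e)).elim
  · exact Or.inl e
  · exact Or.inr (by rwa [tau_neg, map_inv])

/-- a normal subgroup meeting the normalizer in the Sylow 3-subgroup -/
theorem top_of_normal {K : Subgroup G} [hK : K.Normal] (hS : (S3 n).map ι ≤ K)
    (hp : ∀ p, ι p ∈ K → p ∈ S3 n) : ι.range = ⊤ := by
  have := gt_le (J := (Js n 0).map ι) hS h.pS (Subgroup.map_mono J_le_S)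
    ⟨⟨⟨fun a b => Subtype.ext (Js_comm _ a.2 _ b.2)⟩⟩, Js_cube⟩ (fun B hB hB' hc => h.le_J
      (hB.trans (Subgroup.map_le_range _ _)) hB'.2 (fun a ha b hb => congrArg (fun c : B => (c : G))
        (hB'.1.is_comm.comm ⟨_, ha⟩ ⟨_, hb⟩)) (by rw [h.card_J] at hc; simp at hc; omega))
    (fun g hg e => by obtain ⟨p, rfl⟩ := h.mem_of_norm e; exact ⟨p, hp p hg, rfl⟩)
    (h.core K.subtype K.subtype_injective (by
      rw [Subgroup.range_subtype]; exact (Subgroup.map_mono J_le_S).trans hS))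
  exact eq_top_iff.mpr fun g _ => h.mem_of_conj fun x => Subgroup.map_le_range _ _
    (this (hK.conj_mem _ (hS ⟨_, J_le_S (tau_mem x), rfl⟩) g))

theorem cz_D : Subgroup.centralizer ((Js n (1, 2, 0)).map ι : Set G) ≤ ι.range := fun _ hg =>
  h.cent (mem_cz'.mpr (hg _ (mem_Js.mpr ⟨cc, by decide, rfl⟩)).symm)

theorem D_le : (Js n (1, 2, 0)).map ι ≤ cz (ι (sw n)) := fun a ha => by
  obtain ⟨x, a, rfl⟩ := mem_Js.mp ha
  exact mem_cz_comm.mp (h.fix.mpr ((by decide +kernel : ∀ x, dot (1, 2, 0) x = 0 →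
    sg (7, true) x = x) x a))

omit h in
theorem sw_sq : ι (sw n) * ι (sw n) = 1 := by
  rw [← map_mul, (by decide : ∀ n, sw n * sw n = 1), map_one]

theorem sw_ne : ι (sw n) ≠ 1 := (map_ne_one_iff _ h.inj).mpr ((by decide : ∀ n, sw n ≠ 1) n)

/-- signalizers for the fixed plane `l` of an involution -/
theorem sig_le {l : V3} (l0 : l ≠ 0) {K Z : Subgroup G} (h3 : ¬ 3 ∣ Nat.card K)
    (hn : (Js n l).map ι ≤ Subgroup.normalizer (K : Set G))
    (hc : ∀ x, dot l x = 0 → x ≠ 0 → ∀ g ∈ K, g ∈ cz (ι (tau n x)) → g ∈ Z ∨ g ∈ ι.range)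
    (hp : ∀ p, ι p ∈ K → (∀ x, dot l x = 0 → act p x = x) →
      ι p ∈ Z ∨ p * p ≠ 1 ∧ (p * p) ^ 3 = 1) : K ≤ Z := by
  have : IsMulCommutative ((Js n l).map ι) := ⟨⟨fun a b => Subtype.ext (Js_comm _ a.2 _ b.2)⟩⟩
  have cD := h.card_J l
  rw [if_neg l0] at cD
  refine CL.coprime_le_of_forall_centralizer_le _ K _ (fun hc => ?_) hn (by
    rw [cD]; exact Nat.Coprime.pow_left 2 ((Nat.Prime.coprime_iff_not_dvd Nat.prime_three).mpr h3))
    fun d m d1 g ⟨hg, e⟩ => ?_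
  · obtain ⟨g, hg⟩ := IsCyclic.exists_ofOrder_eq_natCard (α := (Js n l).map ι)
    have := orderOf_dvd_of_pow_eq_one (n := 3) (Subtype.ext (Js_cube _ g.2) : g ^ 3 = 1)
    rw [hg, cD] at this; omega
  obtain ⟨x, a, rfl⟩ := mem_Js.mp m
  refine (hc x a (fun e => d1 (by rw [e, tau_zero, map_one])) g hg e).elim id ?_
  rintro ⟨p, rfl⟩
  refine (hp p hg fun y hy => ?_).elim id fun e => (e.1 (h.inj ?_)).elim
  · have := K.mul_mem ((Subgroup.mem_normalizer_iff.mp (hn (mem_Js.mpr ⟨y, hy, rfl⟩)) _).mp hg)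
      (K.inv_mem hg)
    rw [show ι (tau n y) * ι p * (ι (tau n y))⁻¹ * (ι p)⁻¹ = ι (tau n (y - act p y)) by
      rw [sub_eq_add_neg, tau_add, tau_neg, map_mul, map_inv, ← tau_conj']; group] at this
    by_contra b
    exact h.tau_ne (sub_ne_zero.mpr (Ne.symm b)) (A8.eq_one_of_cube h3 this (tau_cube' _))
  · rw [map_one]
    exact A8.eq_one_of_cube h3 (map_mul ι p p ▸ K.mul_mem hg hg) (by rw [← map_pow, e.2, map_one])

theorem sigD (hc : ∀ x, dot (1, 2, 0) x = 0 → x ≠ 0 → cz (ι (tau n x)) ≤ ι.range) :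
    Sig (cz (ι (sw n))) ((Js n (1, 2, 0)).map ι) (Subgroup.zpowers (ι (sw n))) := by
  refine ⟨h.D_le, Js_p _, Js_comm, Subgroup.zpowers_le.mpr (mem_cz'.mpr rfl), fun a ha g hg => ?_,
    fun a ha => ?_, by rw [card_zpowers_two h.sw_ne sw_sq]; norm_num, fun K hK a b =>
      h.sig_le (by decide) a b (fun x c d g _ e => Or.inr (hc x c d e)) fun p c d => ?_⟩
  · rcases (mem_zpowers_two sw_sq).mp ha with rfl | rfl
    exacts [by simp, mem_cz'.mp hg]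
  · rcases (mem_zpowers_two sw_sq).mp ha with rfl | rfl
    exacts [by simp, sw_sq]
  · rcases (by decide +kernel : ∀ n, ∀ p : U n, p * sw n = sw n * p → act p cc = cc →
      act p (0, 0, 1) = (0, 0, 1) → p = 1 ∨ p = sw n ∨ p * p ≠ 1 ∧ (p * p) ^ 3 = 1) n p
      ((mem_cz_hom h.inj).mp (hK c)) (d _ (by decide)) (d _ (by decide)) with rfl | rfl | e
    exacts [Or.inl (by simp), Or.inl (Subgroup.mem_zpowers _), Or.inr e]

theorem cz_sw (hc : ∀ x, dot (1, 2, 0) x = 0 → x ≠ 0 → cz (ι (tau n x)) ≤ ι.range) {v : V3}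
    (v0 : v ≠ 0) (hv : dot (1, 2, 0) v = 0)
    (hp : ∀ p, p * sw n = sw n * p → p * p ∈ Js n (1, 2, 0) ∧
      (∀ y, dot (1, 2, 0) y = 0 → y - act p y ∈ [0, v, -v]) ∧
      (act p v = v → p ∈ Js n (1, 2, 0) ∨ p * sw n ∈ Js n (1, 2, 0))) :
    cz (ι (sw n)) ≤ ι.range := fun g hg =>
  h.norm_cz h.cz_D ((h.sigD hc).refl (mem_Js.mpr ⟨v, hv, rfl⟩) (h.tau_ne v0) (tau_cube' _)
    (fun g hg e => by
      obtain ⟨p, rfl⟩ := h.norm_cz h.cz_D e
      have := hp p ((mem_cz_hom h.inj).mp hg)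
      refine ⟨⟨_, this.1, map_mul ι _ _⟩, fun y hy => ?_⟩
      obtain ⟨y, a, rfl⟩ := mem_Js.mp hy
      exact comm_mem (this.2.1 y a)) (fun g hg e => by
      obtain ⟨p, rfl⟩ := hc v hv v0 (mem_cz'.mpr e)
      rcases (hp p ((mem_cz_hom h.inj).mp hg)).2.2 (h.fix.mp (mem_cz'.mpr e)) with a | a
      exacts [⟨1, one_mem _, p, a, by simp⟩, ⟨_, Subgroup.mem_zpowers _, _, a, map_mul ι _ _⟩]) g hg)

end S9Hyp

end CL.Odd
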