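import Mathlib
import Cfsg.Agent.PERM.S9Base
import Cfsg.Agent.INV.TwoInv

/-! The case in which the automizer of `3^3` is the group of monomial matrices with an even number
of signs. -/

set_option autoImplicit false
set_option maxRecDepth 100000
set_option synthInstance.maxSize 2000
open Cfsg

namespace CL.Odd

open MO

variable {G : Type*} [Group G] [Finite G]

theorem cz_act {n : Fin 4} {ι : U n →* G} {x : V3} (p : U n) (hx : cz (ι (tau n x)) ≤ ι.range) :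
    cz (ι (tau n (act p x))) ≤ ι.range := fun g hg => by
  have := hx (show (ι p)⁻¹ * g * (ι p)⁻¹⁻¹ ∈ _ by
    rw [← tau_conj'] at hg
    simpa [mul_assoc] using conj_mem_cz (ι p)⁻¹ hg)
  have m : ι p ∈ ι.range := ⟨_, rfl⟩
  rwa [inv_inv, ι.range.mul_mem_cancel_right m, ι.range.mul_mem_cancel_left (inv_mem m)] at this

theorem S9Hyp.three {ι : U 2 →* G} (h : S9Hyp ι) : ι.range = ⊤ := by
  let v : Fin 4 → U 2 := fun i => ⟨mk 0 (Fin.ofNat 24 (6 * i.val), false), by revert i; decide⟩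
  have hc : ∀ x, x ≠ 0 → cz (ι (tau 2 x)) ≤ ι.range := fun x hx => by
    obtain ⟨i, j, rfl | rfl | rfl | rfl⟩ := (by decide +kernel : ∀ x, x ≠ 0 → ∃ i, ∃ j : Fin 3,
      act (v i * dd 2 ^ j.val) cc = x ∨ act (v i * dd 2 ^ j.val) (-cc) = x ∨
      act (v i * dd 2 ^ j.val) (0, 0, 1) = x ∨ act (v i * dd 2 ^ j.val) (1, 2, 0) = x) x hx <;>
      refine cz_act _ ?_
    · exact h.cent
    · rw [tau_neg, map_inv, A8.cz_inv]; exact h.cent
    · exact h.le_two' (v := (1, 2, 0)) (w := (1, 1, 0)) (l := (1, 1, 0)) (l' := (1, 2, 0))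
        (e := sw 2) (f := lin 2 1 true) ⟨by decide +kernel, by decide +kernel, by decide +kernel⟩
        ⟨by decide +kernel, by decide +kernel, by decide +kernel⟩
    · exact h.le_refl (J_le_cz _) (v := (1, 1, 0)) (by decide) fun p c => (by decide +kernel :
        ∀ w, inW 2 w → sg w (1, 2, 0) = (1, 2, 0) → Refl (1, 1, 0) w) _ p.2 (h.fix.mp c)
  have hs := h.cz_sw (fun x _ => hc x) (v := (1, 1, 0)) (by decide) (by decide) (by decide +kernel)
  have e2 : ι (v 1) * ι (v 1) = 1 := by rw [← map_mul, show v 1 * v 1 = 1 by decide, map_one]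
  have nE : ¬ IsConj (ι (v 1)) (ι (sw 2)) := fun c => by
    obtain ⟨g, hg⟩ := isConj_iff.mp c
    have m := hg ▸ conj_mem_cz g ((mem_cz_hom h.inj).mpr
      (show lin 2 13 true * v 1 = v 1 * lin 2 13 true by decide +kernel))
    obtain ⟨p, hp⟩ := hs m
    have := congrArg ι ((by decide +kernel : ∀ p, p * sw 2 = sw 2 * p → p ^ 6 = 1) p
      ((mem_cz_hom h.inj).mp (hp ▸ m)))
    rw [map_pow, hp, conj_pow, map_one, conj_eq_one_iff, ← map_pow, map_eq_one_iff _ h.inj] at this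
    exact absurd this (by decide +kernel)
  have nr : ∀ {x}, x = cc ∨ x = -cc → ¬ IsConj (ι (tau 2 x)) (ι (tau 2 x))⁻¹ := fun {x} e c => by
    rw [← map_inv, ← tau_neg] at c
    obtain ⟨p, a⟩ := h.fusion' c
    exact (by decide +kernel : ∀ w, inW 2 w → ∀ x, x = cc ∨ x = -cc → sg w x ≠ -x) _ p.2 x e a
  have sd : ι (sw 2) * ι (dd 2) * (ι (sw 2))⁻¹ = (ι (dd 2))⁻¹ := by
    simp only [← map_inv, ← map_mul]; exact congrArg ι (by decide)
  have nd : ∀ x, ¬ IsConj (ι (dd 2)) (ι (tau 2 x)) := fun x c => by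
    obtain ⟨i, j, e⟩ := (by decide +kernel : ∀ x, ∃ i, ∃ j : Fin 3, (act (v i * dd 2 ^ j.val) x).2.2 = 0 ∨
      act (v i * dd 2 ^ j.val) x = cc ∨ act (v i * dd 2 ^ j.val) x = -cc) x
    replace c := c.trans (isConj_iff.mpr ⟨_, tau_conj' (v i * dd 2 ^ j.val) x⟩)
    refine e.elim (h.not_dd · c) fun e => nr e (c.symm.trans ((isConj_iff.mpr ⟨_, sd⟩).trans ?_))
    obtain ⟨g, hg⟩ := isConj_iff.mp c
    exact isConj_iff.mpr ⟨g, by rw [← hg]; group⟩
  have ty : ∀ p ∈ S3 2, p ∈ Js 2 0 ∨ (∃ x, (x = cc ∨ x = -cc) ∧ p ^ 3 = tau 2 x) ∨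
      ∃ x, ∃ j : Fin 2, tau 2 x * sw 2 ^ j.val * dd 2 * (tau 2 x * sw 2 ^ j.val)⁻¹ = p := by
    decide +kernel
  obtain ⟨N, hN, hE, hS⟩ := theta_top h.pS h.iS (Subgroup.map_mono J_le_S) (by
    rw [h.card_J, Subgroup.card_map_of_injective h.inj, card_S3]; rfl) (fun q hq g a => by
      obtain ⟨x, -, rfl⟩ := mem_Js.mp hq
      obtain ⟨p, hp, e⟩ := a
      rcases ty p hp with a | ⟨y, a, b⟩ | ⟨y, j, rfl⟩
      · exact ⟨p, a, e⟩
      · refine (h.tau_ne (x := y) (by rcases a with rfl | rfl <;> decide) ?_).elim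
        rw [← b, map_pow, e, conj_pow, tau_cube']; simp
      · rw [map_mul, map_mul, map_inv] at e
        exact (nd x ((isConj_iff.mpr ⟨_, e⟩).trans (isConj_iff.mpr ⟨g, rfl⟩).symm)).elim) e2
    fun g s hs' e => by
      obtain ⟨p, hp, rfl⟩ := hs'
      rcases ty p hp with a | ⟨y, a, b⟩ | ⟨y, j, rfl⟩
      · exact ⟨p, a, rfl⟩
      · exact (nr a (isConj_iff.mpr ⟨g * ι (v 1) * g⁻¹, by
          rw [← b, map_pow, ← conj_pow, e, inv_pow]⟩)).elim
      rw [map_mul, map_mul, map_inv] at e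
      generalize ι (tau 2 y * sw 2 ^ j.val) = k at e
      have e' : k⁻¹ * g * ι (v 1) * (k⁻¹ * g)⁻¹ * ι (dd 2) * (k⁻¹ * g * ι (v 1) * (k⁻¹ * g)⁻¹)⁻¹ =
          (ι (dd 2))⁻¹ := by
        calc _ = k⁻¹ * (g * ι (v 1) * g⁻¹ * (k * ι (dd 2) * k⁻¹) * (g * ι (v 1) * g⁻¹)⁻¹) * k := by
              group
          _ = _ := by rw [e]; group
      generalize k⁻¹ * g = g at e'
      rcases CL.TwoInv.isConj_or_exists_commute (x := g * ι (v 1) * g⁻¹) (by
        rw [conj_mul, e2]; simp) (sw_sq (ι := ι)) with c | ⟨z, a, b, -, c⟩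
      · exact (nE ((isConj_iff.mpr ⟨g, rfl⟩).trans c)).elim
      obtain ⟨p, rfl⟩ := hs (mem_cz'.mpr c.eq)
      rw [(by decide +kernel : ∀ p, p * sw 2 = sw 2 * p → p * dd 2 = dd 2 * p → p * p = 1 → p = 1) p
        (h.inj (by rw [map_mul, map_mul, c.eq])) ((mem_cz_hom h.inj).mp
          (Subgroup.zpowers_le.mpr (mem_cz.mpr (by
            rw [mul_inv_rev, mul_assoc _ (ι (sw 2)), mul_assoc, ← mul_assoc (ι (sw 2) * _), sd,
              ← mul_assoc, ← conj_inv, e', inv_inv])) a))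
        (h.inj (by rw [map_mul, ← pow_two, ← b, pow_orderOf_eq_one, map_one])), map_one,
        orderOf_one] at b
      omega
  have cj : ∀ a {p}, ι p ∈ N → ι (a * p * a⁻¹) ∈ N := fun a p hp => by
    rw [map_mul, map_mul, map_inv]; exact hN.conj_mem _ hp _
  have cm : ∀ a {p}, ι p ∈ N → ι (a * p * a⁻¹ * p⁻¹) ∈ N := fun a p hp => by
    rw [map_mul, map_inv]; exact mul_mem (cj a hp) (inv_mem hp)
  have h0 : ∀ i, ι (v i) ∈ N := fun i => by
    obtain rfl | ⟨j, e⟩ := (by decide +kernel : ∀ i, i = 0 ∨ ∃ j : Fin 3,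
      v i = dd 2 ^ j.val * v 1 * (dd 2 ^ j.val)⁻¹) i
    exacts [(map_one ι).symm ▸ one_mem N, e ▸ cj _ hE]
  have h1 : ∀ x, ι (tau 2 x) ∈ N := fun x => by
    rw [(by decide +kernel : ∀ x : V3, tau 2 x = tau 2 (-x) * v 1 * (tau 2 (-x))⁻¹ * (v 1)⁻¹ *
      (tau 2 (0, 0, -x.2.2) * v 2 * (tau 2 (0, 0, -x.2.2))⁻¹ * (v 2)⁻¹)) x, map_mul]
    exact mul_mem (cm _ hE) (cm _ (h0 2))
  let F : Frame N V3 (Fin 4) :=
    { τ := fun x => ⟨ι (tau 2 x), h1 x⟩
      N := ι.range.subgroupOf N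
      r := fun i => ⟨ι (v i), h0 i⟩
      σ := sgn4
      τ_add := fun x y => Subtype.ext ((congrArg ι (tau_add x y)).trans (map_mul ι _ _))
      τ_inj := fun x y e => tau_inj (h.inj (congrArg Subtype.val e))
      τ_mem := fun x => ⟨_, rfl⟩
      r_mem := fun i => ⟨_, rfl⟩
      rconj := fun i x => Subtype.ext ((tau_conj' _ x).trans (by
        rw [(by decide +kernel : ∀ i x, act (v i) x = sgn4 i x)]))
      cover := by
        rintro ⟨g, hg⟩ ⟨p, rfl : ι p = g⟩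
        have k : ∀ q i, ι q ∈ N → q * v i ∈ S3 2 → q * v i ∈ Js 2 0 := fun q i a b => by
          obtain ⟨r, c, e⟩ := hS ⟨(map_mul ι _ _).symm ▸ N.mul_mem a (h0 i), _, b, rfl⟩
          exact h.inj e ▸ c
        obtain ⟨i, e | e | e⟩ := (by decide +kernel : ∀ p : U 2, ∃ i, p = tau 2 p.1.1 * v i ∨
          (p * v i ∈ S3 2 ∧ p * v i ∉ Js 2 0) ∨ dd 2 * p * (dd 2)⁻¹ * p⁻¹ * v i ∈ S3 2 ∧
          dd 2 * p * (dd 2)⁻¹ * p⁻¹ * v i ∉ Js 2 0) p
        · exact ⟨i, p.1.1, Subtype.ext ((congrArg ι e).trans (map_mul ι _ _))⟩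
        · exact (e.2 (k _ i hg e.1)).elim
        · exact (e.2 (k _ i (cm _ hg) e.1)).elim
      σ_inj := sgn4_inj
      ti := fun x y g hx e => h.ti le_top trivial (inf_le_right.trans (hc y (by
        rintro rfl
        exact h.tau_ne hx (by simpa [tau_zero] using congrArg Subtype.val e))))
        (congrArg Subtype.val e) }
  have hF : ι.range.subgroupOf N = ⊤ := three_cubed F rfl
  exact eq_top_iff.mpr fun g _ => h.mem_of_conj fun x =>
    Subgroup.subgroupOf_eq_top.mp hF (hN.conj_mem _ (h1 x) g)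

end CL.Odd
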