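import Mathlib
import Cfsg.Agent.PERM.S9Three
import Cfsg.Agent.PERM.A9Main
import Cfsg.Agent.INV.IndexTwo

/-! The case in which the automizer of `3^3` is the full monomial group. -/

set_option autoImplicit false
set_option maxRecDepth 100000
set_option synthInstance.maxSize 2000
open Cfsg

namespace CL.Odd

namespace MO

/-- the reflection in the first coordinate -/
def rho1 : U 3 := lin 3 18 true
/-- the reflection in the third coordinate -/
def rho3 : U 3 := lin 3 6 true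
/-- the product of the first two reflections -/
def eE : U 3 := lin 3 6 false
/-- minus one -/
def nN : U 3 := lin 3 0 true
/-- a rotation of order two -/
def wW : U 3 := lin 3 1 false
/-- the third basis vector -/
def zv : V3 := (0, 0, 1)

/-- the stabilizer of the third basis vector -/
def d8' : D8 →* U 3 := MonoidHom.mk' (fun d => match d with
  | DihedralGroup.r k => lin 3 13 false ^ k.val
  | DihedralGroup.sr k => sw 3 * lin 3 13 false ^ k.val) (by decide +kernel)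

theorem g_d8' : (∀ d, act (d8' d) zv = zv) ∧ (∀ d, d8' d ∈ Js 3 0 → d = 1) ∧
    ∀ p : U 3, act p zv = zv → ∃ d, p * (d8' d)⁻¹ ∈ Js 3 0 := by decide +kernel

/-- the rotations -/
def rot : M648 →* U 3 := MonoidHom.mk' (fun p => ⟨mk p.1 (p.2, false), rfl⟩) fun _ _ => rfl

theorem g_sw : ∀ p : U 3, p * sw 3 = sw 3 * p → (p * p ∈ Js 3 (1, 2, 0) ∧
    ((∀ y, dot (1, 2, 0) y = 0 → y - act p y ∈ [0, zv, -zv]) ∨ act p (1, 1, 0) = -(1, 1, 0)) ∧
    (act p zv = zv → (∃ j : Fin 2, p * sw 3 ^ j.val ∈ Js 3 (1, 2, 0)) ∨ act p (1, 1, 0) = -(1, 1, 0))) ∧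
    (p * p = 1 → ∀ x, dot (1, 2, 0) x = 0 → act p x = -x → x ∈ [0, zv, -zv] ∨
      ∃ y, ∃ j : Fin 2, tau 3 y * rho1 ^ j.val * p * (tau 3 y * rho1 ^ j.val)⁻¹ ∈
        [eE, nN, sw 3, wW]) := by decide +kernel

theorem g_T : ∀ p : U 3, p * eE = eE * p → p * nN = nN * p → p * p = 1 → p = sw 3 ∨
    p = rho1 * sw 3 * rho1⁻¹ ∨ (∀ q, q * eE = eE * q → q * nN = nN * q → q * p = p * q) ∨
    ∃ i : Fin 3, ∃ j : Fin 2, dd 3 ^ i.val * rho1 ^ j.val * p * (dd 3 ^ i.val * rho1 ^ j.val)⁻¹ ∈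
      [rho3, eE, wW] := by decide +kernel

theorem g_M : ∀ p : U 3, p * eE = eE * p → p * nN = nN * p → p * p = 1 → p.1.2.2 = false → p = 1 ∨
    ∃ i : Fin 3, ∃ j : Fin 2, dd 3 ^ i.val * rho1 ^ j.val * p * (dd 3 ^ i.val * rho1 ^ j.val)⁻¹ ∈
      [eE, wW] := by decide +kernel

end MO

open MO

variable {G : Type*} [Group G] [Finite G] {ι : U 3 →* G}

namespace S9Hyp
variable (h : S9Hyp ι)
include h

theorem good {x : V3} (hx : ∃ w, sg w (1, 2, 0) = x ∨ sg w cc = x) : cz (ι (tau 3 x)) ≤ ι.range := by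
  obtain ⟨w, rfl | rfl⟩ := hx <;> refine cz_act (⟨mk 0 w, rfl⟩ : U 3) ?_
  · exact h.le_two' (v := zv) (w := (1, 1, 0)) (l := (1, 1, 0)) (l' := zv) (e := rho3)
      (f := lin 3 1 true) ⟨by decide +kernel, by decide +kernel, by decide +kernel⟩
      ⟨by decide +kernel, by decide +kernel, by decide +kernel⟩
  · exact h.cent

theorem six : cz (ι (tau 3 zv)) ≤ ι.range ∨ ∃ π : cz (ι (tau 3 zv)) →* S6,
    Function.Surjective π ∧ ∀ n, π n = 1 ↔ (n : G) ∈ Subgroup.zpowers (ι (tau 3 zv)) := by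
  set Z := Subgroup.zpowers (ι (tau 3 zv))
  set N := cz (ι (tau 3 zv))
  have z3 := tau_cube' (ι := ι) zv
  have z1 := h.tau_ne (x := zv) (by decide)
  have JN : (Js 3 0).map ι ≤ N := J_le_cz _
  have ZJ : Z ≤ (Js 3 0).map ι := Subgroup.zpowers_le.mpr (tau_memJ _)
  have : (Z.subgroupOf N).Normal := ⟨by
    rintro ⟨_, _⟩ ⟨k, rfl⟩ g
    exact ⟨k, by simp only [Subgroup.subtype_apply, Subgroup.coe_mul, Subgroup.coe_inv,
      ← conj_zpow, mem_cz.mp g.2]⟩⟩
  let π := QuotientGroup.mk' (Z.subgroupOf N)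
  have πs := QuotientGroup.mk'_surjective (Z.subgroupOf N)
  let S := (((Js 3 0).map ι).subgroupOf N).map π
  have mS : ∀ {n}, π n ∈ S ↔ (n : G) ∈ (Js 3 0).map ι := fun {n} => by
    rw [← Subgroup.mem_comap, Subgroup.comap_map_eq_self (by
      rw [QuotientGroup.ker_mk']; exact fun _ a => ZJ a)]; rfl
  have nS : ∀ {n : N}, (n : G) ∈ ι.range → π n ∈ Subgroup.normalizer (S : Set _) := by
    rintro n ⟨p, hp⟩
    refine Subgroup.mem_normalizer_fintype ?_
    rintro _ ⟨⟨_, _⟩, hq, rfl⟩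
    obtain ⟨x, -, rfl⟩ := mem_Js.mp hq
    rw [← map_inv, ← map_mul, ← map_mul]
    exact mS.mpr (by simpa [← hp, tau_conj'] using tau_memJ _)
  have nS' : ∀ {n : N}, π n ∈ Subgroup.normalizer (S : Set _) → (n : G) ∈ ι.range := fun {n} e =>
    h.mem_of_norm fun a ha => (mS (n := n * ⟨a, JN ha⟩ * n⁻¹)).mp (by
      rw [map_mul, map_mul, map_inv]; exact (Subgroup.mem_normalizer_iff.mp e _).mp (mS.mpr ha))
  have Sc : S ≤ Subgroup.centralizer (S : Set _) := by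
    rintro _ ⟨a, ha, rfl⟩ _ ⟨b, hb, rfl⟩
    rw [← map_mul, ← map_mul]
    exact congrArg π (Subtype.ext (Js_comm _ hb _ ha))
  let φ : D8 →* N := (ι.comp d8').codRestrict N fun d => h.fix.mpr (g_d8'.1 d)
  rcases d8_main (S := S) (by
    have a := Subgroup.card_eq_card_quotient_mul_card_subgroup
      (π.comp (((Js 3 0).map ι).subgroupOf N).subtype).ker
    rw [Nat.card_congr (QuotientGroup.quotientKerEquivRange _).toEquiv, MonoidHom.range_comp,
      Subgroup.range_subtype, ← MonoidHom.comap_ker, QuotientGroup.ker_mk',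
      Nat.card_congr (Subgroup.subgroupOfEquivOfLe JN).toEquiv, Subgroup.comap_subtype,
      Nat.card_congr (Subgroup.subgroupOfEquivOfLe (H := Z.subgroupOf N) (fun _ a => ZJ a)).toEquiv,
      Nat.card_congr (Subgroup.subgroupOfEquivOfLe (ZJ.trans JN)).toEquiv,
      card_zpowers_three z1 z3, h.card_J, if_pos rfl] at a
    show Nat.card (Subgroup.map _ _) = 9
    omega) (le_antisymm (fun g hg => by
      obtain ⟨n, rfl⟩ := πs g
      obtain ⟨p, hp⟩ := nS' (Subgroup.centralizer_le_normalizer _ hg)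
      refine mS.mpr ⟨p, mem_J.mpr ((by decide +kernel : ∀ w, sg w zv = zv →
        (∀ x, -x + sg w x = 0 ∨ -x + sg w x = zv ∨ -x + sg w x = -zv) → w = (0, false)) _
        (h.fix.mp (hp ▸ n.2)) fun x => ?_), hp⟩
      have := hg _ (mS.mpr (tau_memJ x) : π ⟨ι (tau 3 x), JN (tau_memJ x)⟩ ∈ S)
      rw [eq_comm, ← mul_inv_eq_iff_eq_mul, ← map_inv, ← map_mul, ← map_mul, eq_comm] at this
      have : (ι (tau 3 x))⁻¹ * (n * ι (tau 3 x) * (n : G)⁻¹) ∈ Z :=
        (QuotientGroup.eq (s := Z.subgroupOf N)).mp this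
      have := (mem_zpowers_three z3).mp this
      rw [← hp, tau_conj', ← map_inv, ← map_inv, ← map_mul, ← tau_neg, ← tau_neg, ← tau_add,
        ← map_one ι, ← tau_zero] at this
      exact this.imp (tau_inj <| h.inj ·) (·.imp (tau_inj <| h.inj ·) (tau_inj <| h.inj ·))) Sc)
    (π.comp φ) (fun d => nS ⟨_, rfl⟩) (fun d e => by
      obtain ⟨p, hp, e⟩ := mS.mp e
      exact g_d8'.2.1 d (h.inj e ▸ hp)) (fun g hg => by
      obtain ⟨n, rfl⟩ := πs g
      obtain ⟨p, hp⟩ := nS' hg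
      obtain ⟨d, hd⟩ := g_d8'.2.2 p (h.fix.mp (hp ▸ n.2))
      exact ⟨d, by
        rw [MonoidHom.comp_apply, ← map_inv, ← map_mul]
        exact mS.mpr ⟨_, hd, by simp [hp, φ]⟩⟩) (by
      rintro _ ⟨⟨_, m⟩, hp, rfl⟩ x1 g hg
      obtain ⟨x, -, rfl⟩ := mem_Js.mp hp
      obtain ⟨n, rfl⟩ := πs g
      have k : ∀ u, π ⟨ι (tau 3 u), JN (tau_memJ u)⟩ = π ⟨_, m⟩ → cz (ι (tau 3 u)) ≤ ι.range →
          π n ∈ Subgroup.normalizer (S : Set _) := fun u e c => nS (h.mem_of_conj fun y => by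
        have a := (mS (n := n⁻¹ * ⟨_, JN (tau_memJ u)⟩ * n⁻¹⁻¹)).mp (by
          rw [map_mul, map_mul, map_inv π n⁻¹, map_inv, e, mem_cz.mp (inv_mem hg)]
          exact mS.mpr hp)
        exact c (by simpa [mul_assoc] using
          conj_mem_cz (n : G) (mem_cz'.mpr (Js_comm _ (tau_memJ y) _ a))))
      rcases (by decide +kernel : ∀ x : V3, x ∈ [0, zv, -zv] ∨
        (∃ w, sg w (1, 2, 0) = x ∨ sg w cc = x) ∨ ∃ w, sg w (1, 2, 0) = x + zv ∨ sg w cc = x + zv) x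
        with a | a | a
      · refine (x1 ((QuotientGroup.eq_one_iff _).mpr ((mem_zpowers_three z3).mpr ?_))).elim
        simp only [List.mem_cons, List.not_mem_nil, or_false] at a
        rcases a with rfl | rfl | rfl <;> simp [tau_zero, tau_neg]
      · exact k x rfl (h.good a)
      · exact k _ (QuotientGroup.eq.mpr (by simp [Subgroup.mem_subgroupOf, Z, tau_add])).symm
          (h.good a)) with e | ⟨⟨ε⟩⟩
  · exact Or.inl fun g hg => nS' (n := ⟨g, hg⟩) (by rw [Subgroup.normalizer_eq_top]; trivial)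
  · exact Or.inr ⟨ε.toMonoidHom.comp π, ε.surjective.comp πs, fun n =>
      (map_eq_one_iff _ ε.injective).trans (QuotientGroup.eq_one_iff _)⟩

theorem conj_P {s y : G} (c : IsConj (ι rho3) s) (hy : y ∈ cz s) (y3 : y ^ 3 = 1) :
    ∃ x : V3, x.2.2 = 0 ∧ IsConj y (ι (tau 3 x)) := by
  obtain ⟨g, hg⟩ := isConj_iff.mp c.symm
  obtain ⟨k, -, x, a, e⟩ := h.conj_Js (l := zv) (fun g hg => h.le_refl
    (le_inf (J_le_cz (1, 0, 0)) (J_le_cz (0, 1, 0))) (v := zv) (by decide) (fun p a =>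
      (by decide +kernel : ∀ w, sg w (1, 0, 0) = (1, 0, 0) → sg w (0, 1, 0) = (0, 1, 0) → Refl zv w)
      _ (h.fix.mp a.1) (h.fix.mp a.2)) ⟨mem_cz'.mpr (hg _ (mem_Js.mpr ⟨_, by decide, rfl⟩)).symm,
      mem_cz'.mpr (hg _ (mem_Js.mpr ⟨_, by decide, rfl⟩)).symm⟩) (X := cz (ι rho3)) (fun a ha => by
      obtain ⟨x, b, rfl⟩ := mem_Js.mp ha
      exact mem_cz_comm.mp (h.fix.mpr ((by decide : ∀ x, dot zv x = 0 → act rho3 x = x) x b)))
    (fun p a => (by decide +kernel : ∀ p, p * rho3 = rho3 * p → T3 p.1.2 → p ∈ Js 3 zv) p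
      ((mem_cz_hom h.inj).mp a)) (hg ▸ conj_mem_cz g hy) (by rw [conj_pow, y3]; simp)
  exact ⟨x, by simpa [dot, zv] using a, isConj_iff.mpr ⟨k * g, by rw [← e]; group⟩⟩

theorem not_W {s : G} {x : V3} (c : IsConj s (ι wW)) (hx : ι (tau 3 x) ∈ cz s) (x0 : x ≠ 0)
    (hw : ∀ w, sg w x ≠ (1, 1, 0) ∧ sg w x ≠ -(1, 1, 0)) : False := by
  rcases conj_zp (x := (1, 1, 0)) c hx (tau_cube' _) (h.tau_ne x0) (h.tau_ne (by decide))
    (mem_cz_comm.mp (h.fix.mpr (by decide))) (fun g hg e ⟨k, hk⟩ => by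
      obtain ⟨p, rfl⟩ := h.good ⟨(12, true), by decide +kernel⟩ (mem_cz'.mpr e)
      obtain ⟨i, rfl⟩ := (by decide +kernel : ∀ p, p * wW = wW * p → act p (1, 1, 0) = (1, 1, 0) →
        T3 p.1.2 → ∃ i : Fin 3, p = tau 3 (1, 1, 0) ^ i.val) p ((mem_cz_hom h.inj).mp hg)
        (h.fix.mp (mem_cz'.mpr e)) (t3_of (h.inj (by rw [map_pow, hk, map_one])))
      rw [map_pow]; exact Subgroup.npow_mem_zpowers _ _) with a | a <;>
    obtain ⟨p, a⟩ := h.fusion' a
  exacts [(hw _).1 a, (hw _).2 a]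

variable (hE : ∀ g ∈ cz (ι eE), g * ι (tau 3 zv) = ι (tau 3 zv) * g → (∃ k, g ^ 3 ^ k = 1) →
  g ∈ Subgroup.zpowers (ι (tau 3 zv)))
include hE

theorem not_E {s : G} {x : V3} (c : IsConj s (ι eE)) (hx : ι (tau 3 x) ∈ cz s) (x0 : x ≠ 0)
    (hw : ∀ w, sg w x ≠ zv ∧ sg w x ≠ -zv) : False := by
  rcases conj_zp c hx (tau_cube' _) (h.tau_ne x0) (h.tau_ne (by decide))
    (mem_cz_comm.mp (h.fix.mpr (by decide))) hE with a | a <;> obtain ⟨p, a⟩ := h.fusion' a
  exacts [(hw _).1 a, (hw _).2 a]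

theorem sep {p : U 3} (hp : p ∈ [eE, nN, sw 3, wW]) : ¬ IsConj (ι rho3) (ι p) := fun c => by
  simp only [List.mem_cons, List.not_mem_nil, or_false] at hp
  rcases hp with rfl | rfl | rfl | rfl
  · exact h.not_E hE (x := (1, 1, 0)) c (mem_cz_comm.mp (h.fix.mpr (by decide))) (by decide)
      (by decide +kernel)
  · obtain ⟨x, a, b⟩ := h.conj_P c (y := ι (dd 3)) ((mem_cz_hom h.inj).mpr (by decide +kernel))
      (by rw [← map_pow, show dd 3 ^ 3 = 1 by decide +kernel, map_one])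
    exact h.not_dd a b
  · obtain ⟨x, a, b⟩ := h.conj_P c (mem_cz_comm.mp (h.fix.mpr (show act _ cc = cc by decide)))
      (tau_cube' _)
    obtain ⟨p, rfl⟩ := h.fusion' b
    exact (by decide +kernel : ∀ w, (sg w cc).2.2 ≠ 0) _ a
  · exact h.not_W (x := (1, 0, 0)) c (mem_cz_comm.mp (h.fix.mpr (by decide))) (by decide)
      (by decide +kernel)

omit hE in
theorem sign_a (hz : cz (ι (tau 3 zv)) ≤ ι.range) :
    ∃ χ : G →* ℤˣ, χ (ι rho3) = -1 ∧ χ (ι (sw 3)) = -1 := by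
  have hE : ∀ g ∈ cz (ι eE), g * ι (tau 3 zv) = ι (tau 3 zv) * g → (∃ k, g ^ 3 ^ k = 1) →
      g ∈ Subgroup.zpowers (ι (tau 3 zv)) := fun g hg e ⟨k, hk⟩ => by
    obtain ⟨p, rfl⟩ := hz (mem_cz'.mpr e)
    obtain ⟨i, rfl⟩ := (by decide +kernel : ∀ p, p * eE = eE * p → act p zv = zv →
      T3 p.1.2 → ∃ i : Fin 3, p = tau 3 zv ^ i.val) p ((mem_cz_hom h.inj).mp hg)
      (h.fix.mp (mem_cz'.mpr e)) (t3_of (h.inj (by rw [map_pow, hk, map_one])))
    rw [map_pow]; exact Subgroup.npow_mem_zpowers _ _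
  have hc : ∀ x, x ≠ 0 → cz (ι (tau 3 x)) ≤ ι.range := fun x hx => by
    rcases (by decide +kernel : ∀ x : V3, x ≠ 0 → (∃ w, sg w zv = x) ∨
      ∃ w, sg w (1, 2, 0) = x ∨ sg w cc = x) x hx with ⟨w, rfl⟩ | a
    exacts [cz_act (⟨mk 0 w, rfl⟩ : U 3) hz, h.good a]
  have mZ : ∀ {x}, x ∈ [0, zv, -zv] → ι (tau 3 x) ∈ Subgroup.zpowers (ι (tau 3 zv)) := fun a => by
    simp only [List.mem_cons, List.not_mem_nil, or_false] at a
    rcases a with rfl | rfl | rfl <;> simp [tau_zero, tau_neg]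
  have r2 : ι rho3 * ι rho3 = 1 := by rw [← map_mul, show rho3 * rho3 = 1 by decide +kernel, map_one]
  have iv : ∀ {p : U 3} {x}, act p x = -x → ι p * ι (tau 3 x) * (ι p)⁻¹ = (ι (tau 3 x))⁻¹ :=
    fun e => by rw [tau_conj', e, tau_neg, map_inv]
  have hs : cz (ι (sw 3)) ≤ ι.range := fun g hg => h.norm_cz h.cz_D ((h.sigD fun x _ => hc x).two
    (Q := Subgroup.zpowers (ι (tau 3 zv))) (v := ι (tau 3 zv)) (w := ι (tau 3 (1, 1, 0)))
    (e := ι rho3) (Subgroup.zpowers_le.mpr (mem_Js.mpr ⟨_, by decide, rfl⟩))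
    (by rw [h.card_J, card_zpowers_three (h.tau_ne (by decide)) (tau_cube' _)]; rfl)
    (mem_Js.mpr ⟨_, by decide, rfl⟩) (h.tau_ne (by decide)) (tau_cube' _)
    (mem_Js.mpr ⟨_, by decide, rfl⟩) (by
      simp only [mem_zpowers_three (tau_cube' _), ← map_inv, h.inj.eq_iff, map_eq_one_iff _ h.inj]
      decide +kernel) (tau_cube' _) ((mem_cz_hom h.inj).mpr (by decide +kernel)) r2 (iv (by decide))
    (fun q hq g _ a => by
      obtain ⟨y, b, e⟩ := mem_Js.mp a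
      obtain ⟨x, c, rfl⟩ : ∃ x ∈ [0, zv, -zv], q = ι (tau 3 x) := by
        simpa [tau_zero, tau_neg] using (mem_zpowers_three (tau_cube' _)).mp hq
      obtain ⟨p, -, rfl⟩ := h.fusion le_top trivial e.symm
      exact e ▸ mZ ((by decide +kernel : ∀ w, ∀ x ∈ [0, zv, -zv], dot (1, 2, 0) (sg w x) = 0 →
        sg w x ∈ [0, zv, -zv]) _ x c b))
    (fun g hg s a e => by
      obtain ⟨x, b, rfl⟩ := mem_Js.mp a
      by_cases x0 : x = 0
      · exact mZ (by simp [x0])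
      rw [← map_inv, ← tau_neg] at e
      obtain ⟨p, hp⟩ := h.ti le_top trivial (inf_le_right.trans (hc _ (neg_ne_zero.mpr x0))) e
      refine ((g_sw p ((mem_cz_hom h.inj).mp (hp ▸ mul_mem (mul_mem hg ((mem_cz_hom h.inj).mpr
        (by decide +kernel))) (inv_mem hg)))).2 (h.inj (by rw [map_mul, hp, conj_mul, r2]; simp)) x b
        (h.act_eq (hp ▸ e))).elim mZ fun ⟨y, j, c⟩ => (h.sep hE c ((isConj_iff.mpr ⟨g, hp.symm⟩).trans
          (ι.map_isConj (isConj_iff.mpr ⟨_, rfl⟩)))).elim)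
    (fun g hg e => by
      obtain ⟨p, rfl⟩ := h.norm_cz h.cz_D e
      obtain ⟨a, b, -⟩ := (g_sw p ((mem_cz_hom h.inj).mp hg)).1
      refine ⟨⟨_, a, map_mul ι _ _⟩, b.imp (fun b y hy => ?_) iv⟩
      obtain ⟨y, c, rfl⟩ := mem_Js.mp hy
      exact comm_mem (b y c))
    (fun g hg e => by
      obtain ⟨p, rfl⟩ := hz (mem_cz'.mpr e)
      exact ((g_sw p ((mem_cz_hom h.inj).mp hg)).1.2.2 (h.fix.mp (mem_cz'.mpr e))).imp
        (fun ⟨j, a⟩ => ⟨_, Subgroup.npow_mem_zpowers _ j.val, _, a, by simp⟩) iv) g hg)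
  have sp : ∀ {p}, p ∈ [rho3, eE, wW] → ¬ IsConj (ι (sw 3)) (ι p) := fun a c => by
    simp only [List.mem_cons, List.not_mem_nil, or_false] at a
    rcases a with rfl | rfl | rfl
    · exact h.sep hE (by simp) c.symm
    · exact h.not_E hE (x := cc) c (mem_cz_comm.mp (h.fix.mpr (by decide))) (by decide)
        (by decide +kernel)
    · exact h.not_W (x := zv) c (mem_cz_comm.mp (h.fix.mpr (by decide))) (by decide)
        (by decide +kernel)
  let T := cz eE ⊓ cz nN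
  have mT : ∀ {p}, p ∈ T ↔ p * eE = eE * p ∧ p * nN = nN * p := and_congr mem_cz' mem_cz'
  have odd : Odd (T.map ι).index := Nat.odd_iff.mpr (Nat.two_dvd_ne_zero.mp
    (not_dvd_index_of_normalizer_le' (n := 4) (M := ι.range) (by
      rw [Subgroup.card_map_of_injective h.inj, Nat.card_congr (Equiv.subtypeEquivRight fun _ => mT),
        Nat.card_eq_fintype_card, Fintype.card_subtype]
      decide +kernel) (fun g hg => by
      obtain ⟨p, a, hp⟩ := (Subgroup.mem_normalizer_iff.mp hg _).mp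
        ⟨sw 3, mT.mpr (by decide +kernel), rfl⟩
      rcases g_T p (mT.mp a).1 (mT.mp a).2 (h.inj (by rw [map_mul, hp, conj_mul, sw_sq]; simp))
        with rfl | rfl | e | ⟨i, j, e⟩
      · exact hs (mem_cz.mpr hp.symm)
      · refine (ι.range.mul_mem_cancel_left (inv_mem ⟨rho1, rfl⟩)).mp (hs (mem_cz.mpr ?_))
        calc _ = (ι rho1)⁻¹ * (g * ι (sw 3) * g⁻¹) * ι rho1 := by group
          _ = _ := by rw [← hp]; simp [mul_assoc]
      · obtain ⟨q, b, hq⟩ := (Subgroup.mem_normalizer_iff.mp hg _).mp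
          ⟨rho1, mT.mpr (by decide +kernel), rfl⟩
        have := congrArg ι (e q (mT.mp b).1 (mT.mp b).2)
        rw [map_mul, map_mul, hp, hq, conj_mul, conj_mul, mul_left_inj, mul_right_inj, ← map_mul,
          ← map_mul, h.inj.eq_iff] at this
        exact absurd this (by decide +kernel)
      · exact (sp e ((isConj_iff.mpr ⟨g, hp.symm⟩).trans
          (ι.map_isConj (isConj_iff.mpr ⟨_, rfl⟩)))).elim) (by
      rw [← Nat.card_congr (MonoidHom.ofInjective h.inj).toEquiv, card_U]; decide)))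
  have tr : ∀ x ∈ T, x * x = 1 → x ≠ 1 → (∀ p ∈ [eE, wW], ¬ IsConj (ι x) (ι p)) →
      ∃ χ : G →* ℤˣ, χ (ι x) = -1 := fun x a x2 x1 hx => by
    obtain ⟨K, hK, m⟩ := CL.Iso.thompson_transfer_inv (M := (T ⊓ rot.range).map ι) odd (by
      rw [Subgroup.relIndex_map_map_of_injective _ _ h.inj, Subgroup.inf_relIndex_left]
      refine Subgroup.index_eq_two_iff.mpr ⟨⟨nN, mT.mpr (by decide +kernel)⟩, fun p => ?_⟩
      have k : ∀ {p : U 3}, p ∈ rot.range ↔ p.1.2.2 = false := fun {p} => ⟨by rintro ⟨_, rfl⟩; rfl,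
        fun e => ⟨(p.1.1, p.1.2.1), Subtype.ext (Prod.ext rfl (Prod.ext rfl e.symm))⟩⟩
      simp only [Subgroup.mem_subgroupOf, k]
      show Xor (xor (p : U 3).1.2.2 true = false) (_ = false)
      cases (p : U 3).1.2.2 <;> simp) ⟨x, a, rfl⟩
      (by rw [orderOf_injective ι h.inj, orderOf_eq_prime ((pow_two _).trans x2) x1]) (by
        rintro g ⟨_, ⟨b, q, rfl⟩, hp⟩
        rcases g_M _ (mT.mp b).1 (mT.mp b).2 (h.inj (by
          rw [map_mul, hp, conj_mul, ← map_mul, x2]; simp)) rfl with e | ⟨i, j, e⟩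
        · rw [e, map_one, eq_comm, conj_eq_one_iff, map_eq_one_iff _ h.inj] at hp
          exact x1 hp
        · exact hx _ e ((isConj_iff.mpr ⟨g, hp.symm⟩).trans
            (ι.map_isConj (isConj_iff.mpr ⟨_, rfl⟩))))
    obtain ⟨χ, hχ⟩ := CL.Iso.exists_sign_hom hK
    exact ⟨χ, (Int.units_eq_one_or _).resolve_left (mt (hχ _).mp m)⟩
  obtain ⟨χ, a⟩ := tr rho3 (mT.mpr (by decide +kernel)) (by decide +kernel) (by decide)
    fun p hp => h.sep hE (by revert p; decide)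
  obtain ⟨ψ, b⟩ := tr (sw 3) (mT.mpr (by decide +kernel)) (by decide +kernel) (by decide)
    fun p hp => sp (List.mem_cons_of_mem _ hp)
  rcases Int.units_eq_one_or (χ (ι (sw 3))) with c | c
  · rcases Int.units_eq_one_or (ψ (ι rho3)) with d | d
    exacts [⟨χ * ψ, by simp [a, d], by simp [b, c]⟩, ⟨ψ, d, b⟩]
  · exact ⟨χ, a, c⟩

omit hE in
theorem of_sign {χ : G →* ℤˣ} (a : χ (ι rho3) = -1) (b : χ (ι (sw 3)) = -1) :
    ι.range = ⊤ ∨ Nonempty (G ≃* Equiv.Perm (Fin 9)) := by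
  have c3 : ∀ p, p ^ 3 = 1 → χ (ι p) = 1 := fun p e => by
    have := congrArg (fun p => χ (ι p)) e
    rwa [map_pow, map_pow, pow_succ, Int.units_sq, one_mul, map_one, map_one] at this
  have cj : ∀ p q, χ (ι (p * q * p⁻¹)) = χ (ι q) := fun p q => by
    rw [map_mul, map_mul, map_mul, map_mul, map_inv, map_inv, mul_right_comm, mul_inv_cancel, one_mul]
  have cE : ∀ p, χ (ι (p * eE * p⁻¹)) = 1 := fun p => by
    rw [cj, show eE = dd 3 * rho3 * (dd 3)⁻¹ * ((dd 3)⁻¹ * rho3 * (dd 3)⁻¹⁻¹) by decide +kernel,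
      map_mul, map_mul, cj, cj, a]; rfl
  have k : ∀ p, ι (rot p) ∈ χ.ker := fun p => by
    obtain ⟨i, j, l, m, e⟩ := (by decide +kernel : ∀ p, ∃ i j : Fin 3, ∃ l m : Fin 2,
      rot p = tau 3 p.1 * (dd 3 ^ i.val * eE * (dd 3 ^ i.val)⁻¹) ^ l.val * dd 3 ^ j.val *
        (sw 3 * rho3) ^ m.val) p
    rw [e, map_mul, map_mul, map_mul, map_pow, map_pow, map_pow]
    exact mul_mem (mul_mem (mul_mem (c3 _ (tau_cube _)) (pow_mem (cE _) _)) (pow_mem
      (c3 _ (by decide +kernel)) _)) (pow_mem (by rw [MonoidHom.mem_ker, map_mul, map_mul, a, b]; rfl) _)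
  let κ := (ι.comp rot).codRestrict χ.ker k
  have ri : Function.Injective rot := fun p q e =>
    Prod.ext (congrArg (·.1.1) e) (congrArg (·.1.2.1) e)
  have kr : ι rho3 ∉ χ.ker := fun e => by rw [MonoidHom.mem_ker, a] at e; cases e
  have kτ : ∀ x, ι (tau 3 x) ∈ χ.ker := fun x => c3 _ (tau_cube x)
  rcases A9Base.main (ι := κ) ⟨fun p q e => ri (h.inj (congrArg Subtype.val e)), fun g hg => by
    obtain ⟨p, hp⟩ := h.norm g fun x => (hg x).imp fun _ => congrArg Subtype.val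
    rcases (by decide +kernel : ∀ p : U 3, p = rot (p.1.1, p.1.2.1) ∨
      ∃ i, p = rot (p.1.1, i) * rho3) p with e | ⟨i, e⟩
    · exact ⟨_, Subtype.ext ((congrArg ι e.symm).trans hp)⟩
    · exact (kr ((χ.ker.mul_mem_cancel_left (k (p.1.1, i))).mp (by rw [← map_mul, ← e, hp]; exact g.2))).elim⟩
    (fun x _ => h.core (χ.ker.subtype.comp (cz _).subtype)
      (Subtype.val_injective.comp Subtype.val_injective) fun a ha => by
        obtain ⟨y, -, rfl⟩ := mem_Js.mp ha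
        exact ⟨⟨⟨_, kτ y⟩, mem_cz'.mpr (Subtype.ext (Js_comm _ (tau_memJ y) _ (tau_memJ x)))⟩, rfl⟩)
    with e | ⟨⟨e⟩⟩
  · refine Or.inl (eq_top_iff.mpr fun g _ => h.mem_of_conj fun x => ?_)
    obtain ⟨p, hp⟩ := e.ge (Subgroup.mem_top (⟨_, χ.normal_ker.conj_mem _ (kτ x) g⟩ : χ.ker))
    exact ⟨rot p, congrArg Subtype.val hp⟩
  · refine Or.inr (iso_perm_of_alt (by norm_num) (by norm_num) e (fun e => kr (e ▸ trivial))
      fun g hg => ?_)
    obtain ⟨p, rfl⟩ := h.cent (mem_cz.mpr (hg _ (kτ _)))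
    rw [(by decide +kernel : ∀ p : U 3, (∀ x, act p x = x) → p * eE = eE * p → p * dd 3 = dd 3 * p →
      p = 1) p (fun x => h.act_eq (hg _ (kτ x))) ((mem_cz_hom h.inj).mp (mem_cz.mpr
        (hg _ (k M648.E0)))) ((mem_cz_hom h.inj).mp (mem_cz.mpr (hg _ (k M648.D0)))), map_one]

end S9Hyp

end CL.Odd
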