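import Mathlib
import Cfsg.Agent.PERM.A9Six

/-! The two embeddings of `Sym(3) wr 2` in `Sym(6)`. -/

set_option autoImplicit false
set_option maxRecDepth 100000
set_option synthInstance.maxSize 2000

namespace CL.Odd.Six

open Equiv

/-- the element of order three -/
def e6 (b : Bool) : S6 := if b then swap 0 1 * swap 1 2 * swap 3 4 * swap 4 5 else swap 0 1 * swap 1 2
/-- the wreathing involution -/
def s6 (b : Bool) : S6 := if b then swap 4 5 else swap 0 3 * swap 1 4 * swap 2 5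
/-- the reflection -/
def r6 (b : Bool) : S6 := if b then swap 0 3 * swap 1 5 * swap 2 4 else swap 1 2
/-- three commuting conjugates of the reflection -/
def q6 (b : Bool) (i : Fin 3) : S6 :=
  if b then ![swap 0 3 * swap 1 2, swap 0 1 * swap 2 3, swap 0 2 * swap 1 3] i * swap 4 5
  else ![swap 0 3, swap 1 4, swap 2 5] i
/-- the diagonal element of order three -/
def a6 (b : Bool) : S6 := e6 b * (s6 b * e6 b * (s6 b)⁻¹)
/-- the product of the two reflections -/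
def f6 (b : Bool) : S6 := r6 b * (s6 b * r6 b * (s6 b)⁻¹)

theorem st2 : ∀ b s, s * s = 1 → s * e6 b * s⁻¹ * e6 b = e6 b * (s * e6 b * s⁻¹) →
    s * e6 b * s⁻¹ ≠ e6 b → s * e6 b * s⁻¹ ≠ (e6 b)⁻¹ → ∃ i j : Fin 3, ∃ k : Fin 2,
    e6 b ^ i.val * a6 b ^ j.val * (s6 b * r6 b * (s6 b)⁻¹) ^ k.val * s =
      s6 b * (e6 b ^ i.val * a6 b ^ j.val * (s6 b * r6 b * (s6 b)⁻¹) ^ k.val) := by decide +kernel

theorem st3 : ∀ b r, r * r = 1 → r * e6 b * r⁻¹ = (e6 b)⁻¹ →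
    r * (s6 b * e6 b * (s6 b)⁻¹) = s6 b * e6 b * (s6 b)⁻¹ * r →
    ∃ i : Fin 3, a6 b ^ i.val * r = r6 b * a6 b ^ i.val := by decide +kernel

theorem st0 : ∀ b, e6 b ^ 3 = 1 ∧ (e6 b).support.card = (if b then 6 else 3) ∧
    a6 b * e6 b = e6 b * a6 b ∧ a6 b * s6 b = s6 b * a6 b ∧
    s6 b * r6 b * (s6 b)⁻¹ * e6 b = e6 b * (s6 b * r6 b * (s6 b)⁻¹) := by decide +kernel

theorem norm {e s r : S6} (e3 : e ^ 3 = 1) (e1 : e ≠ 1) (s2 : s * s = 1)
    (c : s * e * s⁻¹ * e = e * (s * e * s⁻¹)) (n1 : s * e * s⁻¹ ≠ e) (n2 : s * e * s⁻¹ ≠ e⁻¹)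
    (r2 : r * r = 1) (re : r * e * r⁻¹ = e⁻¹) (rf : r * (s * e * s⁻¹) = s * e * s⁻¹ * r) :
    ∃ b g, g * e * g⁻¹ = e6 b ∧ g * s * g⁻¹ = s6 b ∧ g * r * g⁻¹ = r6 b := by
  obtain ⟨b, g, hg⟩ : ∃ b g, g * e6 b * g⁻¹ = e := by
    have k : ∀ {x : S6}, x ^ 3 = 1 → x.cycleType = Multiset.replicate (x.support.card / 3) 3 ∧
        3 ∣ x.support.card := fun {x} h => by
      rw [← Perm.sum_cycleType, Perm.cycleType_of_pow_prime_eq_one h]; simp
    have a := e.support.card_le_univ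
    have b := mt Perm.card_support_eq_zero.mp e1
    have c := (k e3).2
    rw [Fintype.card_fin] at a
    refine ⟨decide (e.support.card = 6), isConj_iff.mp (Perm.isConj_iff_cycleType_eq.mpr ?_)⟩
    rw [(k e3).1, (k (st0 _).1).1, (st0 _).2.1]
    congr 2
    split_ifs with h <;> simp at h <;> omega
  have cj : ∀ (g x : S6), ∃ y, g * y * g⁻¹ = x := fun g x => ⟨g⁻¹ * x * g, by group⟩
  obtain ⟨s, rfl⟩ := cj g s
  obtain ⟨r, rfl⟩ := cj g r
  subst hg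
  simp only [conj_inv, conj_mul, mul_left_inj, mul_right_inj, conj_eq_one_iff, ne_eq] at *
  obtain ⟨i, j, k, hs⟩ := st2 b s s2 c n1 n2
  obtain ⟨-, -, ae, as, we⟩ := st0 b
  have he := (((Commute.refl (e6 b)).pow_left i).mul_left ((show Commute _ _ from ae).pow_left j)).mul_left
    ((show Commute _ _ from we).pow_left k)
  generalize e6 b ^ i.val * a6 b ^ j.val * (s6 b * r6 b * (s6 b)⁻¹) ^ k.val = u at hs he
  have he' : u * e6 b * u⁻¹ = e6 b := mul_inv_eq_iff_eq_mul.mpr he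
  have hs' : u * s * u⁻¹ = s6 b := mul_inv_eq_iff_eq_mul.mpr hs
  obtain ⟨l, hr⟩ := st3 b (u * r * u⁻¹) (by rw [conj_mul, r2]; simp)
    (by rw [← he', conj_mul, conj_inv, conj_mul, re, conj_inv])
    (by rw [← he', ← hs']; simp only [conj_inv, conj_mul, rf])
  refine ⟨b, a6 b ^ l.val * u * g⁻¹, ?_, ?_, ?_⟩
  · calc _ = a6 b ^ l.val * (u * e6 b * u⁻¹) * (a6 b ^ l.val)⁻¹ := by group
      _ = _ := by rw [he', ((show Commute _ _ from ae).pow_left l).eq, mul_inv_cancel_right]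
  · calc _ = a6 b ^ l.val * (u * s * u⁻¹) * (a6 b ^ l.val)⁻¹ := by group
      _ = _ := by rw [hs', ((show Commute _ _ from as).pow_left l).eq, mul_inv_cancel_right]
  · calc _ = a6 b ^ l.val * (u * r * u⁻¹) * (a6 b ^ l.val)⁻¹ := by group
      _ = _ := by rw [hr, mul_inv_cancel_right]

theorem uniq : ∀ b g, g * g = 1 → g ≠ 1 → g * r6 b = r6 b * g →
    g * (s6 b * r6 b * (s6 b)⁻¹) = s6 b * r6 b * (s6 b)⁻¹ * g →
    a6 b * g * (a6 b)⁻¹ * g = g * (a6 b * g * (a6 b)⁻¹) → g = q6 b 0 := by decide +kernel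

theorem facts : ∀ b, (∀ i, q6 b i * q6 b i = 1 ∧ q6 b i ≠ 1 ∧
      a6 b * q6 b i * (a6 b)⁻¹ = q6 b (i + 1) ∧ (∀ j, q6 b i * q6 b j = q6 b j * q6 b i) ∧
      (r6 b).support.card = (q6 b i).support.card ∧ ∀ j, q6 b i = q6 b j → i = j) ∧
    r6 b * q6 b 0 = q6 b 0 * r6 b ∧
    s6 b * r6 b * (s6 b)⁻¹ * q6 b 0 = q6 b 0 * (s6 b * r6 b * (s6 b)⁻¹) ∧
    s6 b = q6 b 0 * q6 b 1 * q6 b 2 ∧ r6 b * r6 b = 1 ∧ f6 b * f6 b = 1 ∧ s6 b * s6 b = 1 := by
  decide +kernel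

theorem eq_top {b : Bool} {K : Subgroup S6} (he : e6 b ∈ K) (hs : s6 b ∈ K) (hr : r6 b ∈ K)
    (hq : q6 b 0 ∈ K) : K = ⊤ := by
  rw [eq_top_iff, ← Perm.closure_cycle_adjacent_swap (isCycle_finRotate (n := 4))
    support_finRotate 0, Subgroup.closure_le]
  rintro _ (rfl | rfl)
  · rw [(by decide +kernel : ∀ b, finRotate (4 + 2) = if b then
      s6 b * r6 b * s6 b * r6 b * q6 b 0 * e6 b else s6 b * q6 b 0 * e6 b * s6 b * e6 b) b]
    split_ifs <;> apply_rules [K.mul_mem]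
  · rw [(by decide +kernel : ∀ b, swap 0 (finRotate (4 + 2) 0) = if b then
      r6 b * e6 b * s6 b * r6 b * e6 b else e6 b * r6 b) b]
    split_ifs <;> apply_rules [K.mul_mem]

theorem cent_f : ∀ b g, g * f6 b = f6 b * g → g ^ 4 = 1 := by decide +kernel

theorem cent_q : ∀ b g, (∀ i, g * q6 b i = q6 b i * g) →
    ∃ i j k : Fin 2, g = q6 b 0 ^ i.val * q6 b 1 ^ j.val * q6 b 2 ^ k.val := by decide +kernel

theorem card_F (b : Bool) :
    Nat.card (cz (q6 b 0) ⊓ cz (q6 b 1) ⊓ cz (q6 b 2) : Subgroup S6) = 8 := by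
  rw [Nat.card_congr (Equiv.subtypeEquivRight (q := fun g => ∀ i, g * q6 b i = q6 b i * g)
    fun g => by simp [mem_cz', Fin.forall_fin_succ, and_assoc]), Nat.card_eq_fintype_card,
    Fintype.card_subtype]
  revert b; decide +kernel

theorem card_T (b : Bool) : Nat.card (cz (q6 b 1 * q6 b 2)) = 16 := by
  rw [Nat.card_congr (Equiv.subtypeEquivRight fun _ => mem_cz'), Nat.card_eq_fintype_card,
    Fintype.card_subtype]
  revert b; decide +kernel

theorem cent_T : ∀ b g, g * (q6 b 1 * q6 b 2) = q6 b 1 * q6 b 2 * g → g * g = 1 → g = 1 ∨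
    (∃ i, g = q6 b i) ∨ (f6 b).support.card = g.support.card ∨
    (s6 b).support.card = g.support.card := by decide +kernel

end CL.Odd.Six
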