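import Mathlib
import Cfsg.Agent.PERM.S9Four
import Cfsg.Agent.PERM.S9Six

/-! The case in which the centralizer of a basis vector is `3 × Sym(6)`. -/

set_option autoImplicit false
set_option maxRecDepth 100000
set_option synthInstance.maxSize 2000
open Cfsg

namespace CL.Odd

open MO Six

namespace MO

/-- the first basis vector -/
def ce : cz (tau 3 zv) := ⟨tau 3 (1, 0, 0), mem_cz'.mpr (by decide +kernel)⟩
/-- the transposition -/
def cs : cz (tau 3 zv) := ⟨sw 3, mem_cz'.mpr (by decide +kernel)⟩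
/-- the first reflection -/
def cr : cz (tau 3 zv) := ⟨rho1, mem_cz'.mpr (by decide +kernel)⟩

end MO

theorem Six.sq_F : ∀ b g, (∀ i, g * q6 b i = q6 b i * g) → g * g = 1 := by decide +kernel

variable {G : Type*} [Group G] [Finite G] {ι : U 3 →* G}

omit [Finite G] in
theorem zp_facts {z a : G} (z3 : z ^ 3 = 1) (ha : a ∈ Subgroup.zpowers z) :
    a ^ 3 = 1 ∧ ∀ g ∈ cz z, g * a = a * g := by
  obtain ⟨k, rfl⟩ := ha
  exact ⟨by rw [← zpow_natCast, ← zpow_mul, mul_comm, zpow_mul, zpow_natCast, z3, one_zpow],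
    fun g hg => ((show Commute g z from mem_cz'.mp hg).zpow_right k).eq⟩

namespace S9Hyp
variable (h : S9Hyp ι)
include h

theorem rho3_z : ι rho3 * ι (tau 3 zv) * (ι rho3)⁻¹ = (ι (tau 3 zv))⁻¹ ∧
    ι rho3 ∉ cz (ι (tau 3 zv)) ∧ ι rho3 * ι rho3 = 1 :=
  ⟨by rw [tau_conj', ← map_inv, ← tau_neg]; rfl, mt h.fix.mp (by decide),
    by rw [← map_mul, show rho3 * rho3 = 1 by decide +kernel, map_one]⟩

/-- the restriction to the centralizers -/
def jj : cz (tau 3 zv) →* cz (ι (tau 3 zv)) := (ι.comp (cz _).subtype).codRestrict _ fun p =>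
  (mem_cz_hom h.inj).mpr (mem_cz'.mp p.2)

theorem lift6 {b : Bool} (π : cz (ι (tau 3 zv)) →* S6) (πs : Function.Surjective π)
    (πk : ∀ n, π n = 1 ↔ (n : G) ∈ Subgroup.zpowers (ι (tau 3 zv))) (πe : π (h.jj ce) = e6 b)
    (πt : π (h.jj cs) = s6 b) (πr : π (h.jj cr) = r6 b) :
    ∃ φ : S6 →* G, Function.Injective φ ∧ φ (e6 b) = ι (tau 3 (1, 0, 0)) ∧ φ (s6 b) = ι (sw 3) ∧
      φ (r6 b) = ι rho1 ∧ (∀ g, φ g ∈ cz (ι (tau 3 zv)) ∧ φ g ∈ cz (ι rho3)) ∧
      ∀ x ∈ cz (ι (tau 3 zv)), ∃ g, x * (φ g)⁻¹ ∈ Subgroup.zpowers (ι (tau 3 zv)) := by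
  obtain ⟨fq, rq, wq, -⟩ := facts b
  obtain ⟨rz, rn, -⟩ := h.rho3_z
  have z3 := tau_cube' (ι := ι) zv
  have uq : ∀ {a b}, a * a = 1 → b * b = 1 → π a = π b → b = a := fun {a b} a2 b2 e => by
    obtain ⟨k1, k2⟩ := zp_facts z3 ((πk (b * a)).mp (by rw [map_mul, ← e, ← map_mul, a2, map_one]))
    have k1 : (b * a) ^ 3 = 1 := Subtype.ext k1
    have : a * (b * a) = b * a * a := Subtype.ext (k2 a a.2)
    rw [mul_assoc, a2, mul_one] at this
    rwa [pow_succ, pow_two, mul_assoc b, ← mul_assoc a, mul_assoc a, this, b2,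
      one_mul, mul_eq_one_iff_eq_inv, inv_eq_of_mul_eq_one_right a2] at k1
  obtain ⟨q, hq, q2⟩ : ∃ q, π q = q6 b 0 ∧ q * q = 1 := by
    obtain ⟨v, hv⟩ := πs (q6 b 0)
    refine ⟨v ^ 3, by rw [map_pow, pow_succ, pow_two, hv, (fq 0).1, one_mul], ?_⟩
    rw [← pow_add, show 3 + 3 = 2 * 3 from rfl, pow_mul, pow_two]
    exact Subtype.ext (zp_facts z3 ((πk _).mp (by rw [map_mul, hv, (fq 0).1]))).1
  have cm : ∀ {g}, π g * q6 b 0 = q6 b 0 * π g → q * g = g * q := fun {g} e =>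
    (mul_inv_eq_iff_eq_mul.mp (uq (b := g * q * g⁻¹) q2 (by rw [conj_mul, q2]; simp)
      (by rw [map_mul, map_mul, hq, e]; simp))).symm
  let c : cz (ι (tau 3 zv)) →* cz (ι (tau 3 zv)) :=
    ((MulAut.conj (ι rho3)).toMonoidHom.comp (cz _).subtype).codRestrict _ fun g => by
      have := conj_mem_cz (ι rho3) g.2
      rwa [rz, A8.cz_inv] at this
  have mc : ∀ {p : cz (tau 3 zv)}, p.1 * rho3 = rho3 * p.1 → (h.jj p : G) ∈ cz (ι rho3) :=
    fun e => (mem_cz_hom h.inj).mpr e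
  have cf : ∀ {p : cz (tau 3 zv)}, p.1 * rho3 = rho3 * p.1 → c (h.jj p) = h.jj p := fun e =>
    Subtype.ext (mem_cz.mp (mem_cz_comm.mp (mc e)))
  have ψe := (congrArg π (cf (p := ce) (by decide +kernel))).trans πe
  have ψt := (congrArg π (cf (p := cs) (by decide +kernel))).trans πt
  have ψr := (congrArg π (cf (p := cr) (by decide +kernel))).trans πr
  have c2 : c q * c q = 1 := by rw [← map_mul, q2, map_one]
  have cq : c q = q := uq q2 c2 (hq.trans (uniq b _ (by rw [← map_mul, c2, map_one]) (fun e =>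
    (fq 0).2.1 (by
      have := congrArg Subtype.val (uq (one_mul 1) c2 ((map_one π).trans e.symm))
      rw [← hq, show q = 1 from Subtype.ext (conj_eq_one_iff.mp this), map_one]))
    (by rw [← ψr, ← map_mul, ← map_mul, ← map_mul, ← map_mul, cm (πr ▸ rq)])
    (by
      rw [← ψr, ← ψt]
      simp only [← map_mul, ← map_inv]
      rw [cm (by simpa [πr, πt] using wq)])
    (by
      rw [a6, ← ψe, ← ψt]
      simp only [← map_mul, ← map_inv]
      rw [cm (by
        simp only [map_mul, map_inv, πe, πt, hq]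
        exact (fq 0).2.2.1.symm ▸ (fq (0 + 1)).2.2.2.1 0)])).symm)
  let Y := (cz (ι rho3)).subgroupOf (cz (ι (tau 3 zv)))
  have hb : Function.Bijective (π.comp Y.subtype) := ⟨(injective_iff_map_eq_one _).mpr fun y e => by
    rcases (mem_zpowers_three z3).mp ((πk y).mp e) with a | a | a
    · exact Subtype.ext (Subtype.ext a)
    · exact (rn (mem_cz_comm.mp (a ▸ y.2))).elim
    · exact (rn (mem_cz_comm.mp (inv_mem_iff.mp (a ▸ y.2)))).elim, by
    rw [← MonoidHom.range_eq_top, MonoidHom.range_comp, Subgroup.range_subtype]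
    exact eq_top ⟨_, mc (by decide +kernel), πe⟩ ⟨_, mc (by decide +kernel), πt⟩
      ⟨_, mc (by decide +kernel), πr⟩
      ⟨q, mem_cz_comm.mp (mem_cz.mpr (congrArg Subtype.val cq)), hq⟩⟩
  let ε := MulEquiv.ofBijective _ hb
  have k : ∀ y (hy : y ∈ Y), (ε.symm (π y) : G) = y := fun y hy =>
    congrArg (fun u : Y => (u : G)) (ε.symm_apply_apply ⟨y, hy⟩)
  exact ⟨(cz _).subtype.comp (Y.subtype.comp ε.symm.toMonoidHom),
    Subtype.val_injective.comp (Subtype.val_injective.comp ε.symm.injective),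
    πe ▸ k _ (mc (by decide +kernel)), πt ▸ k _ (mc (by decide +kernel)),
    πr ▸ k _ (mc (by decide +kernel)), fun g => ⟨(ε.symm g).1.2, (ε.symm g).2⟩, fun x hx =>
      ⟨π ⟨x, hx⟩, (πk (⟨x, hx⟩ * (ε.symm (π ⟨x, hx⟩)).1⁻¹)).mp (by
        rw [map_mul, map_inv, show π (ε.symm _).1 = _ from ε.apply_symm_apply _, mul_inv_cancel])⟩⟩

theorem sign_b {b : Bool} {φ : S6 →* G} (φi : Function.Injective φ)
    (φe : φ (e6 b) = ι (tau 3 (1, 0, 0))) (φs : φ (s6 b) = ι (sw 3)) (φr : φ (r6 b) = ι rho1)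
    (φz : ∀ g, φ g ∈ cz (ι (tau 3 zv)) ∧ φ g ∈ cz (ι rho3))
    (cov : ∀ x ∈ cz (ι (tau 3 zv)), ∃ g, x * (φ g)⁻¹ ∈ Subgroup.zpowers (ι (tau 3 zv)))
    (cN : Nat.card (cz (ι (tau 3 zv))) = 2160) :
    ∃ χ : G →* ℤˣ, χ (ι rho3) = -1 ∧ χ (ι (sw 3)) = -1 := by
  obtain ⟨fq, -, -, sq, r2, f2, s2⟩ := facts b
  obtain ⟨rz, rn, rr⟩ := h.rho3_z
  have z3 := tau_cube' (ι := ι) zv
  have z1 := h.tau_ne (x := zv) (by decide)
  have φf : φ (f6 b) = ι eE := by
    rw [f6, map_mul, map_mul, map_mul, map_inv, φr, φs, ← map_inv, ← map_mul, ← map_mul, ← map_mul]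
    exact congrArg ι (by decide +kernel)
  have φa : φ (a6 b) = ι (tau 3 (1, 1, 0)) := by
    rw [a6, map_mul, map_mul, map_mul, map_inv, φe, φs, ← map_inv, ← map_mul, ← map_mul, ← map_mul]
    exact congrArg ι (by decide +kernel)
  set z := ι (tau 3 zv) with hz
  set r := ι rho3 with hr
  have dec : ∀ x ∈ cz z, ∃ u ∈ Subgroup.zpowers z, ∃ g, x = u * φ g ∧
      ∀ k, x ∈ cz (φ k) → g * k = k * g := fun x hx => by
    obtain ⟨g, hg⟩ := cov x hx
    refine ⟨_, hg, g, by simp, fun k hk => φi ?_⟩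
    rw [map_mul, map_mul, ← mul_right_inj (x * (φ g)⁻¹), ← mul_assoc, ← mul_assoc,
      ← (zp_facts z3 hg).2 _ (φz k).1, inv_mul_cancel_right, mem_cz'.mp hk]
    group
  have hE : ∀ g ∈ cz (ι eE), g * z = z * g → (∃ k, g ^ 3 ^ k = 1) → g ∈ Subgroup.zpowers z :=
    fun g hg e ⟨k, hk⟩ => by
      obtain ⟨u, hu, w, rfl, hw⟩ := dec g (mem_cz'.mpr e)
      have a : φ w ^ 4 = 1 := by rw [← map_pow, cent_f b w (hw _ (φf ▸ hg)), map_one]
      have := pow_gcd_eq_one.mpr ⟨a, show φ w ^ 3 ^ (k + 1) = 1 by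
        have := (show Commute u (φ w) from ((zp_facts z3 hu).2 _ (φz w).1).symm).mul_pow (3 ^ k * 3)
        rwa [pow_mul, hk, one_pow, mul_comm, pow_mul, (zp_facts z3 hu).1, one_pow, one_mul,
          ← pow_succ', eq_comm] at this⟩
      rw [Nat.Coprime.pow_right _ (by norm_num : Nat.Coprime 4 3), pow_one] at this
      rwa [this, mul_one]
  have rq : ∀ i, IsConj r (φ (q6 b i)) := fun i =>
    (ι.map_isConj (isConj_iff.mpr ⟨dd 3, (by decide +kernel : _ = rho1)⟩)).trans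
      (φr ▸ φ.map_isConj (A8.isConj_of_support r2 (fq i).1 (fq i).2.2.2.2.1))
  let Y := cz (φ (q6 b 0)) ⊓ cz (φ (q6 b 1)) ⊓ cz (φ (q6 b 2))
  let F := cz (q6 b 0) ⊓ cz (q6 b 1) ⊓ cz (q6 b 2)
  have mY : ∀ {g}, g ∈ Y ↔ ∀ i, g ∈ cz (φ (q6 b i)) := by simp [Y, Fin.forall_fin_succ, and_assoc]
  have mF : ∀ {g}, g ∈ F ↔ ∀ i, g * q6 b i = q6 b i * g := by
    simp [F, Fin.forall_fin_succ, and_assoc, mem_cz']
  have h2 : ∀ a ∈ F.map φ, a * a = 1 := by
    rintro _ ⟨w, hw, rfl⟩; rw [← map_mul, sq_F b w (mF.mp hw), map_one]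
  have hc : ∀ a ∈ F.map φ, ∀ g ∈ Y, g * a = a * g := by
    rintro _ ⟨w, hw, rfl⟩ g hg
    obtain ⟨i, j, k, rfl⟩ := cent_q b w (mF.mp hw)
    have : ∀ i, Commute g (φ (q6 b i)) := fun i => mem_cz'.mp (mY.mp hg i)
    simp only [map_mul, map_pow]
    exact ((((this 0).pow_right _).mul_right ((this 1).pow_right _)).mul_right
      ((this 2).pow_right _)).eq
  have hK : ∀ g ∈ Y, g ∈ cz z → ∃ u ∈ Subgroup.zpowers z, ∃ a ∈ F.map φ, g = u * a ∧ g * g = u⁻¹ :=
    fun g hg e => by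
      obtain ⟨u, hu, w, rfl, hw⟩ := dec g e
      have m : φ w ∈ F.map φ := ⟨w, mF.mpr fun i => hw _ (mY.mp hg i), rfl⟩
      refine ⟨u, hu, _, m, rfl, ?_⟩
      rw [mul_assoc, ← mul_assoc (φ w), (zp_facts z3 hu).2 _ (φz w).1, mul_assoc, h2 _ m, mul_one,
        inv_eq_sq_of_cube (zp_facts z3 hu).1]
  have zY : z ∈ Y := mY.mpr fun i => mem_cz_comm.mp (φz _).1
  have nz := sc3_sig (Y := Y) (Z := F.map φ) (D := (Js 3 (1, 2, 0)).map ι) (by
      rintro _ ⟨w, hw, rfl⟩; exact mY.mpr fun i => (mem_cz_hom φi).mpr (mF.mp hw i)) hc h2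
    (by rw [Subgroup.card_map_of_injective φi, card_F]) zY z1 z3 (fun g hg e => by
      obtain ⟨u, hu, a, ha, rfl, -⟩ := hK g hg (mem_cz'.mpr e)
      rcases (mem_zpowers_three z3).mp hu with rfl | rfl | rfl <;> simp [ha]) (Js_p _)
    (fun a ha => by
      obtain ⟨x, e, rfl⟩ := mem_Js.mp ha
      obtain ⟨i, j, e⟩ := (by decide +kernel : ∀ x, dot (1, 2, 0) x = 0 → ∃ i j : Fin 3,
        tau 3 x = tau 3 (1, 1, 0) ^ i.val * tau 3 zv ^ j.val) x e
      rw [e, map_mul, map_pow, map_pow, ← φa]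
      refine mul_mem (pow_mem (Subgroup.mem_normalizer_fintype fun g hg => mY.mpr fun i => ?_) _)
        (pow_mem (Subgroup.le_normalizer zY) _)
      have := conj_mem_cz (φ (a6 b)) (mY.mp hg (i - 1))
      rwa [← map_inv φ, ← map_mul, ← map_mul, (fq _).2.2.1, sub_add_cancel, map_inv] at this)
    fun K hY h3 hn => h.sig_le (by decide) h3 hn (fun x e x0 g hg c => by
      have k : g ∈ cz z → g ∈ F.map φ := fun c => by
        obtain ⟨u, hu, a, ha, rfl, e⟩ := hK g (hY hg) c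
        rwa [inv_eq_one.mp (A8.eq_one_of_cube h3 (e ▸ K.mul_mem hg hg)
          (zp_facts z3 (inv_mem hu)).1), one_mul]
      rcases (by decide +kernel : ∀ x, dot (1, 2, 0) x = 0 → x ≠ 0 → x = zv ∨ x = -zv ∨
        ∃ w, sg w (1, 2, 0) = x ∨ sg w cc = x) x e x0 with rfl | rfl | a
      · exact Or.inl (k c)
      · exact Or.inl (k (by rwa [tau_neg, map_inv, A8.cz_inv] at c))
      · exact Or.inr (h.good a c)) fun p c d => by
      have m : ι (sw 3) ∈ F.map φ := ⟨s6 b, mF.mpr fun i => by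
        rw [sq]
        exact (((show Commute _ _ from (fq 0).2.2.2.1 i).mul_left ((fq 1).2.2.2.1 i)).mul_left
          ((fq 2).2.2.2.1 i)).eq, φs⟩
      rcases (by decide +kernel : ∀ p : U 3, p * sw 3 = sw 3 * p → act p cc = cc →
        act p zv = zv → p = 1 ∨ p = sw 3 ∨ p * p ≠ 1 ∧ (p * p) ^ 3 = 1) p
        ((mem_cz_hom h.inj).mp (mem_cz'.mpr (hc _ m _ (hY c)))) (d _ (by decide)) (d _ (by decide))
        with rfl | rfl | e
      exacts [Or.inl (by simp), Or.inl m, Or.inr e]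
  let T := (cz (q6 b 1 * q6 b 2)).map φ
  have hn : ∀ a ∈ T, r * a * r⁻¹ ∈ T := by
    rintro _ ⟨w, hw, rfl⟩; rw [mem_cz.mp (mem_cz_comm.mp (φz w).2)]; exact ⟨w, hw, rfl⟩
  have TC : T ≤ cz z := by rintro _ ⟨w, -, rfl⟩; exact (φz w).1
  have cT : Nat.card T = 16 := by rw [Subgroup.card_map_of_injective φi, card_T]
  let B := A8.extN T rr hn
  have cB : Nat.card B = 32 := by rw [A8.card_extN fun e => rn (TC e), cT]
  have pB : IsPGroup 2 B := IsPGroup.of_card (n := 5) cB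
  have rc : ∀ t ∈ B, t * r = r * t := A8.extN_ind (by
    rintro _ ⟨w, -, rfl⟩; exact mem_cz'.mp (φz w).2) (by
    rintro _ ⟨w, -, rfl⟩; rw [← mul_assoc, ← mem_cz'.mp (φz w).2])
  have cls : ∀ t ∈ B, IsConj r t → t = r ∨ ∃ i, t = φ (q6 b i) := fun t ht c => by
    have t2 : t * t = 1 := by
      obtain ⟨g, rfl⟩ := isConj_iff.mp c; rw [conj_mul, rr]; simp
    have sp : ∀ {p}, p ∈ [eE, nN, sw 3, wW] → ¬ IsConj (ι p) t := fun m e =>
      h.sep hE m (c.trans e.symm)
    rcases ht with ⟨w, hw, rfl⟩ | ⟨w, hw, e⟩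
    · have w2 : w * w = 1 := φi (by rw [map_mul, t2, map_one])
      rcases cent_T b w (mem_cz'.mp hw) w2 with rfl | ⟨i, rfl⟩ | a | a
      · exact Or.inl (by simpa using c.symm)
      · exact Or.inr ⟨i, rfl⟩
      · exact (sp (by simp) (φf ▸ φ.map_isConj (A8.isConj_of_support f2 w2 a))).elim
      · exact (sp (by simp) (φs ▸ φ.map_isConj (A8.isConj_of_support s2 w2 a))).elim
    · have w2 : w * w = 1 := φi (by
        rw [map_mul, e, mul_assoc, ← mul_assoc r, ← rc t (Or.inr ⟨w, hw, e⟩), mul_assoc, rr,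
          mul_one, t2, map_one])
      obtain rfl : t = φ w * r := by rw [e, mul_assoc, rr, mul_one]
      have k : ∀ {v}, v * v = 1 → v.support.card = w.support.card → IsConj (φ v * r) (φ w * r) :=
        fun v2 e => by
          obtain ⟨g, rfl⟩ := isConj_iff.mp (A8.isConj_of_support v2 w2 e)
          exact isConj_iff.mpr ⟨φ g, by
            rw [← conj_mul, mem_cz.mp (φz g).2, map_mul, map_mul, map_inv]⟩
      rcases cent_T b w (mem_cz'.mp hw) w2 with rfl | ⟨i, rfl⟩ | a | a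
      · exact Or.inl (by simp)
      · refine (sp (p := eE) (by simp) (IsConj.trans ?_ (k r2 (fq i).2.2.2.2.1))).elim
        rw [φr, hr, ← map_mul]
        exact ι.map_isConj (isConj_iff.mpr ⟨(dd 3)⁻¹, by decide +kernel⟩)
      · refine (sp (p := nN) (by simp) ?_).elim
        rw [show nN = eE * rho3 by decide +kernel, map_mul, ← φf]; exact k f2 a
      · refine (sp (p := wW) (by simp) ?_).elim
        rw [show wW = sw 3 * rho3 by decide +kernel, map_mul, ← φs]; exact k s2 a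
  obtain ⟨χ, hχ⟩ := exists_sign (C := cz z) pB A8.self_mem_extN rr rc rn
    (fun t ht => ht.imp (TC ·) fun a => rc t ht ▸ TC a) fun g g1 g2 => by
    set C := (cz z).map (MulAut.conj g).toMonoidHom
    have mC : ∀ {x}, x ∈ C → x ∈ cz (g * z * g⁻¹) := by
      rintro _ ⟨x, hx, rfl⟩; exact conj_mem_cz g hx
    obtain ⟨c, hc⟩ := exists_conj_le_of_isPGroup (S := B.subgroupOf C)
      (A := (T.map (MulAut.conj g).toMonoidHom).subgroupOf C) pB.comap_subtype (by
        have a := Subgroup.relIndex_mul_relIndex ⊥ (B ⊓ C) B bot_le inf_le_left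
        have e := Subgroup.relIndex_mul_relIndex ⊥ (B ⊓ C) C bot_le inf_le_right
        simp only [Subgroup.relIndex_bot_left, Subgroup.inf_relIndex_left,
          Subgroup.inf_relIndex_right, g2, cB] at a e
        rw [Subgroup.card_map_of_injective (MulAut.conj g).injective, cN,
          show Nat.card (B ⊓ C : Subgroup G) = 16 by omega] at e
        show ¬ 2 ∣ B.relIndex C
        omega) ((IsPGroup.of_card (n := 4) cT).map _).comap_subtype
    have : ∀ i, ∃ j, c * (g * φ (q6 b i) * g⁻¹) * (c : G)⁻¹ = φ (q6 b j) ∧ φ (q6 b j) ∈ C :=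
      fun i => by
        have m : g * φ (q6 b i) * g⁻¹ ∈ C := ⟨_, (φz _).1, rfl⟩
        have m' := C.mul_mem (C.mul_mem c.2 m) (C.inv_mem c.2)
        rcases cls _ (hc ⟨_, m⟩ ⟨_, ⟨_, mem_cz'.mpr (((show Commute _ _ from (fq i).2.2.2.1 1).mul_right
          ((fq i).2.2.2.1 2)).eq), rfl⟩, rfl⟩) (((rq i).trans (isConj_iff.mpr ⟨g, rfl⟩)).trans
            (isConj_iff.mpr ⟨(c : G), rfl⟩)) with e | ⟨j, e⟩
        · obtain ⟨x, hx, e'⟩ := (show c * (g * φ (q6 b i) * g⁻¹) * (c : G)⁻¹ = r from e) ▸ m'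
          exact (g1 (by rw [← e']; simpa [mul_assoc] using hx)).elim
        · exact ⟨j, e, e ▸ m'⟩
    choose f hf mf using this
    have fs : Function.Surjective f := Finite.surjective_of_injective fun i j e =>
      (fq i).2.2.2.2.2 j (φi (by simpa [← hf j] using (hf i).trans (congrArg (φ <| q6 b ·) e)))
    have yY : g * z * g⁻¹ ∈ Y := mY.mpr fun j => by
      obtain ⟨i, rfl⟩ := fs j; exact mem_cz_comm.mp (mC (mf i))
    have y3 : (g * z * g⁻¹) ^ 3 = 1 := by rw [conj_pow, z3]; simp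
    generalize hy : g * z * g⁻¹ = y at yY y3
    obtain ⟨u, hu, -, -, -, e⟩ := hK y yY (by
      rw [← inv_mem_iff, inv_eq_sq_of_cube y3, mem_cz]
      calc _ = y * (y * z * y⁻¹) * y⁻¹ := by group
        _ = z := by rcases nz y yY with a | a <;> rw [a]; exacts [a, by rw [← conj_inv, a, inv_inv]])
    rw [← inv_eq_sq_of_cube y3, inv_inj] at e
    rcases (mem_zpowers_three z3).mp (e ▸ hu) with a | a | a
    · exact (z1 (conj_eq_one_iff.mp (hy.trans a))).elim
    · exact Or.inl (mem_cz.mpr (hy.trans a))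
    · refine Or.inr (mem_cz.mpr ?_)
      calc _ = r * (g * z * g⁻¹) * r⁻¹ := by group
        _ = z := by rw [hy, a, ← conj_inv, rz, inv_inv]
  have k : ∀ i, χ (φ (q6 b i)) = -1 := fun i => (isConj_iff_eq.mp (χ.map_isConj (rq i))).symm.trans hχ
  exact ⟨χ, hχ, by rw [← φs, sq, map_mul, map_mul, map_mul, map_mul, k, k, k]; rfl⟩

theorem four : ι.range = ⊤ ∨ Nonempty (G ≃* Equiv.Perm (Fin 9)) := by
  obtain ⟨χ, a, b⟩ : ∃ χ : G →* ℤˣ, χ (ι rho3) = -1 ∧ χ (ι (sw 3)) = -1 := by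
    refine h.six.elim h.sign_a fun ⟨π, πs, πk⟩ => ?_
    have z3 := tau_cube' (ι := ι) zv
    let κ := π.comp h.jj
    have ne : ∀ {a b : cz (tau 3 zv)}, (a * b⁻¹).1 ∉ [1, tau 3 zv, (tau 3 zv)⁻¹] → κ a ≠ κ b :=
      fun {a b} m e => m (by
        have := (mem_zpowers_three z3).mp ((πk (h.jj (a * b⁻¹))).mp
          (show κ _ = 1 by rw [map_mul, map_inv, e, mul_inv_cancel]))
        rw [← map_inv, ← map_one ι] at this
        simpa using this.imp (h.inj ·) (·.imp (h.inj ·) (h.inj ·)))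
    obtain ⟨b, g, ge, gs, gr⟩ := Six.norm (e := κ ce) (s := κ cs) (r := κ cr)
      (by rw [← map_pow, ← map_one κ]; exact congrArg κ (by decide +kernel))
      (map_one κ ▸ ne (by decide +kernel))
      (by rw [← map_mul, ← map_one κ]; exact congrArg κ (by decide +kernel))
      (by simp only [← map_mul, ← map_inv]; exact congrArg κ (by decide +kernel))
      (by simp only [← map_mul, ← map_inv]; exact ne (by decide +kernel))
      (by simp only [← map_mul, ← map_inv]; exact ne (by decide +kernel))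
      (by rw [← map_mul, ← map_one κ]; exact congrArg κ (by decide +kernel))
      (by simp only [← map_mul, ← map_inv]; exact congrArg κ (by decide +kernel))
      (by simp only [← map_mul, ← map_inv]; exact congrArg κ (by decide +kernel))
    obtain ⟨φ, a1, a2, a3, a4, a5, a6⟩ := h.lift6 ((MulAut.conj g).toMonoidHom.comp π)
      ((MulAut.conj g).surjective.comp πs) (fun n => conj_eq_one_iff.trans (πk n)) ge gs gr
    refine h.sign_b a1 a2 a3 a4 a5 a6 ?_
    rw [Subgroup.card_eq_card_quotient_mul_card_subgroup π.ker,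
      Nat.card_congr (QuotientGroup.quotientKerEquivOfSurjective π πs).toEquiv, Nat.card_perm,
      Nat.card_fin, show π.ker = (Subgroup.zpowers _).subgroupOf _ from Subgroup.ext πk,
      Nat.card_congr (Subgroup.subgroupOfEquivOfLe
        (Subgroup.zpowers_le.mpr (mem_cz'.mpr rfl))).toEquiv,
      card_zpowers_three (h.tau_ne (by decide)) z3]
    rfl
  exact h.of_sign a b

end S9Hyp

end CL.Odd
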