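import Mathlib
import Cfsg.Agent.PERM.DerClass
import Cfsg.Agent.PERM.CentMax

/-!
Extremely primitive groups: exclusion of the non-affine, non-almost-simple O'Nan-Scott types.
-/

set_option autoImplicit false

namespace CL.ONS

open MulAction Subgroup CL.MSS CL.Perm CL.SPow
open scoped Pointwise

variable {G Ω : Type*} [Group G] [MulAction G Ω]

/-- If `H` is primitive on the orbit of `x`, the stabiliser of `x` in `H` is maximal in `H`
(or equal to `H`). -/
theorem eq_or_eq_of_primitive_orbit {H : Subgroup G} {x : Ω} (hp : IsPreprimitive H (orbit H x))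
    {Y : Subgroup G} (h1 : H ⊓ stabilizer G x ≤ Y) (h2 : Y ≤ H) :
    Y ≤ stabilizer G x ∨ Y = H := by
  rcases subsingleton_or_nontrivial (orbit H x) with h | h
  · left
    intro y hy
    exact congrArg Subtype.val (h.elim ⟨_, mem_orbit x (⟨y, h2 hy⟩ : H)⟩ ⟨x, mem_orbit_self x⟩)
  · have hc := IsPreprimitive.isCoatom_stabilizer_of_isPreprimitive H
      (⟨x, mem_orbit_self x⟩ : orbit H x)
    have h3 : stabilizer H (⟨x, mem_orbit_self x⟩ : orbit H x) ≤ Y.subgroupOf H :=
      fun g hg => h1 ⟨g.2, congrArg Subtype.val hg⟩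
    rcases h3.eq_or_lt with h4 | h4
    · left
      intro y hy
      have : (⟨y, h2 hy⟩ : H) ∈ stabilizer H (⟨x, mem_orbit_self x⟩ : orbit H x) := h4 ▸ hy
      exact congrArg Subtype.val this
    · exact Or.inr (le_antisymm h2 (subgroupOf_eq_top.mp (hc.2 _ h4)))

/-- The holomorph and simple diagonal cases. -/
theorem false_of_diagonal {T : Type*} [Group T] [Finite T] [IsSimpleGroup T]
    (hT : ¬ IsMulCommutative T) {H : Subgroup G} (hep : ∀ x : Ω, IsPreprimitive H (orbit H x))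
    (ε : T → Ω) (hε : Function.Injective ε)
    (h2 : ∀ s : T, ∃ d ∈ H, ∀ t, d • ε t = ε (s * t * s⁻¹))
    (h3 : ∀ h ∈ H, ∃ α : MulAut T, (∀ t, h • ε t = ε (α t)) ∨ ∀ t, h • ε t = ε (α t)⁻¹) :
    False := by
  apply CL.CentMax.not_forall_centralizer_max hT
  intro t _ X hCX hX
  let S : Set Ω := (fun x => ε (x * t * x⁻¹)) '' X
  have hS : S.Finite := Set.toFinite _
  have ht : ε t ∈ S := ⟨1, X.one_mem, by simp⟩
  rcases eq_or_eq_of_primitive_orbit (hep (ε t)) (Y := H ⊓ stabilizer G S) (by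
    intro h hh
    refine ⟨hh.1, (mem_stabilizer_set' hS).mpr ?_⟩
    rintro _ ⟨x, hx, rfl⟩
    obtain ⟨α, hα | hα⟩ := h3 h hh.1
    · have h4 : α t = t := hε ((hα t).symm.trans hh.2)
      exact ⟨α x, hX α (Or.inl h4) x hx, by simp [hα, h4]⟩
    · have h4 : α t = t⁻¹ := inv_eq_iff_eq_inv.mp (hε ((hα t).symm.trans hh.2))
      exact ⟨α x, hX α (Or.inr h4) x hx, by simp [hα, h4, mul_assoc]⟩) inf_le_left with h | h
  · left
    refine le_antisymm (fun x hx => ?_) hCX
    obtain ⟨d, hd, hd'⟩ := h2 x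
    have : d • ε t = ε t := h ⟨hd, (mem_stabilizer_set' hS).mpr (by
      rintro _ ⟨y, hy, rfl⟩
      exact ⟨x * y, X.mul_mem hx hy, by simp [hd', mul_assoc]⟩)⟩
    rw [hd'] at this
    exact mem_centralizer_singleton_iff.mpr (mul_inv_eq_iff_eq_mul.mp (hε this))
  · right
    rw [eq_top_iff]
    intro s _
    obtain ⟨d, hd, hd'⟩ := h2 s
    have h4 : d ∈ stabilizer G S := (h.ge hd).2
    obtain ⟨x, hx, hx'⟩ := (mem_stabilizer_set.mp h4 _).mpr ht
    rw [hd'] at hx'
    have h5 : x⁻¹ * s ∈ X := hCX (mem_centralizer_singleton_iff.mpr (by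
      calc x⁻¹ * s * t = x⁻¹ * (s * t * s⁻¹) * s := by group
        _ = _ := by rw [← hε hx']; group))
    simpa using X.mul_mem hx h5

section Pow

variable {T ι : Type*} [Group T] [IsSimpleGroup T] [Finite ι] (E : Emb (ι → T) G)

/-- A regular minimal normal subgroup with at least two factors is impossible. -/
theorem Emb.false_of_regular [FaithfulSMul G Ω] (hT : ¬ IsMulCommutative T)
    (hprim : IsPreprimitive G Ω) (a : Ω)
    (hmin : ∀ M : Subgroup G, M.Normal → M ≤ E.f.range → M = ⊥ ∨ M = E.f.range)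
    (hep : ∀ x : Ω, IsPreprimitive (stabilizer G a) (orbit (stabilizer G a) x))
    (hR : E.R a = ⊥) {i j : ι} (hij : i ≠ j) : False := by
  classical
  have : Nonempty ι := ⟨i⟩
  let Y : Subgroup G :=
    { carrier := {h | h • a = a ∧ ∀ x, E.ρ h x i = 1 ↔ x i = 1}
      one_mem' := ⟨one_smul _ _, by simp⟩
      mul_mem' := fun {g h} hg hh => ⟨by rw [mul_smul, hh.1, hg.1], fun x => by
        rw [E.ρ_mul, hg.2, hh.2]⟩
      inv_mem' := fun {g} hg => ⟨inv_smul_eq_iff.mpr hg.1.symm, fun x => by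
        rw [← hg.2, E.ρ_ρ_inv]⟩ }
  obtain ⟨t, ht⟩ := exists_ne (1 : T)
  have hfix : ∀ h : G, h • a = a → (h • E.f (Pi.mulSingle i t) • a = E.f (Pi.mulSingle i t) • a ↔
      E.ρ h (Pi.mulSingle i t) = Pi.mulSingle i t) := by
    intro h hh
    rw [E.smul_f, hh, E.f_smul_eq_iff, hR, mem_bot, inv_mul_eq_one, eq_comm]
  have hσ : ∀ (h : G) (σ : Equiv.Perm ι) (φ : ι → T ≃* T), (∀ x k, E.ρ h x (σ k) = φ k (x k)) →
      E.ρ h (Pi.mulSingle i t) i ≠ 1 → σ i = i := by
    intro h σ φ hσ h1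
    by_contra hne
    rw [aut_mulSingle hσ] at h1
    simp [Ne.symm hne] at h1
  rcases eq_or_eq_of_primitive_orbit (hep (E.f (Pi.mulSingle i t) • a)) (Y := Y) (by
    intro h hh
    refine ⟨hh.1, fun x => ?_⟩
    obtain ⟨σ, φ, h1⟩ := exists_perm_of_aut hT (E.ρ h)
    have h2 := hσ h σ φ h1 (by rw [(hfix h hh.1).mp hh.2]; simpa using ht)
    have h3 := h1 x i
    rw [h2] at h3
    rw [h3, map_eq_one_iff _ (φ i).injective]) (fun h hh => hh.1) with h | h
  · let X : Subgroup (ι → T) :=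
      { carrier := {x | ∀ h : G, h • a = a → E.ρ h x i ∈ zpowers t}
        one_mem' := fun h _ => by simp
        mul_mem' := fun hx hy h hh => by
          rw [map_mul]; exact mul_mem (hx h hh) (hy h hh)
        inv_mem' := fun hx h hh => by
          rw [map_inv]; exact inv_mem (hx h hh) }
    have h1 : Pi.mulSingle i t ∈ X := by
      intro g hg
      by_cases h2 : E.ρ g (Pi.mulSingle i t) i = 1
      · rw [h2]; exact one_mem _
      · obtain ⟨σ, φ, h3⟩ := exists_perm_of_aut hT (E.ρ g)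
        have h4 := hσ g σ φ h3 h2
        rw [(hfix g hg).mp (h ⟨hg, fun x => ?_⟩)]
        · simp
        · have h5 := h3 x i
          rw [h4] at h5
          rw [h5, map_eq_one_iff _ (φ i).injective]
    rcases E.R_max hprim a X (hR ▸ bot_le) (fun g hg x hx k hk => by
      rw [← E.ρ_mul]; exact hx _ (by rw [mul_smul, hg, hk])) with h2 | h2
    · rw [h2, hR, mem_bot] at h1
      exact ht (by simpa using congrFun h1 i)
    · apply ht
      apply eq_one_of_forall_comm hT
      intro s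
      have h3 : Pi.mulSingle i s ∈ X := h2 ▸ mem_top _
      obtain ⟨k, hk⟩ := h3 1 (one_smul _ _)
      simp only [map_one, MulAut.one_apply, Pi.mulSingle_eq_same] at hk
      rw [← hk]
      exact (Commute.refl t).zpow_left k
  · obtain ⟨g, hg, σ, φ, h1, h2⟩ := E.exists_stabilizer_move hT hprim a hmin i j
    have h3 : g ∈ Y := h ▸ hg
    exact hij ((hσ g σ φ h1 (by rw [Ne, h3.2]; simpa using ht)).symm.trans h2)

/-- If the stabiliser in the minimal normal subgroup is nontrivial it is transitive on the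
suborbits. -/
theorem Emb.exists_R_move [Finite G] [Finite Ω] [FaithfulSMul G Ω] [DecidableEq ι]
    (hT : ¬ IsMulCommutative T)
    (hprim : IsPreprimitive G Ω) (a : Ω)
    (hmin : ∀ M : Subgroup G, M.Normal → M ≤ E.f.range → M = ⊥ ∨ M = E.f.range)
    (hep : ∀ x : Ω, IsPreprimitive (stabilizer G a) (orbit (stabilizer G a) x))
    (hR : E.R a ≠ ⊥) (i j : ι) {t : T} (ht : Pi.mulSingle i t ∉ E.R a) :
    ∃ s : T, Pi.mulSingle j s ∉ E.R a ∧
      ∃ r ∈ E.R a, (Pi.mulSingle j s)⁻¹ * (r * Pi.mulSingle i t) ∈ E.R a := by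
  obtain ⟨g, hg, σ, φ, h1, rfl⟩ := E.exists_stabilizer_move hT hprim a hmin i j
  have h2 := manning_orbit_eq hprim hep (K := (E.R a).map E.f)
    (fun h => hR ((map_eq_bot_iff_of_injective _ E.inj).mp h)) (map_comap_le _ _)
    (E.le_normalizer_map _ _ fun g hg x hx => E.ρ_mem_R hg hx) (b := E.f (Pi.mulSingle i t) • a) ht
  obtain ⟨⟨_, r, hr, rfl⟩, h3⟩ : g • E.f (Pi.mulSingle i t) • a ∈
      orbit ((E.R a).map E.f) (E.f (Pi.mulSingle i t) • a) := h2 ▸ ⟨⟨g, hg⟩, rfl⟩
  refine ⟨φ i t, fun h => ht ?_, r, hr, ?_⟩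
  · rw [← aut_mulSingle h1] at h
    simpa using E.ρ_mem_R (inv_smul_eq_iff.mpr hg.symm) h
  · rw [← E.f_smul_eq_iff, ← aut_mulSingle h1, map_mul, mul_smul]
    rw [E.smul_f, hg] at h3
    exact h3

end Pow

theorem almost_simple_of_extremely_primitive [Finite G] [Finite Ω] [FaithfulSMul G Ω]
    [Nontrivial Ω] (hprim : IsPreprimitive G Ω) (a : Ω)
    (hep : ∀ x : Ω, IsPreprimitive (stabilizer G a) (orbit (stabilizer G a) x))
    (hna : ¬ ∃ N : Subgroup G, N.Normal ∧ N ≠ ⊥ ∧ IsMulCommutative N) :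
    ∃ T : Subgroup G, T.Normal ∧ IsSimpleGroup T ∧ ¬ IsMulCommutative T ∧
      centralizer (T : Set G) = ⊥ := by
  classical
  by_contra hnas
  obtain ⟨b, hab⟩ := exists_ne a
  have htop : (⊤ : Subgroup G) ≠ ⊥ := by
    intro h
    obtain ⟨g, hg⟩ := exists_smul_eq G a b
    have : g ∈ (⊥ : Subgroup G) := h ▸ mem_top g
    rw [mem_bot.mp this, one_smul] at hg
    exact hab hg.symm
  obtain ⟨N, hNn, hN, -, hmin⟩ := exists_minimal_normal_le (⊤ : Subgroup G) htop
  have hnab : ¬ IsMulCommutative N := fun h => hna ⟨N, hNn, hN, h⟩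
  obtain ⟨T, _, _, m, E, h1, hT, hm, rfl, h4⟩ := ons_core hprim a N hN hmin hnab
  let i : Fin m := ⟨0, hm⟩
  have : Nonempty (Fin m) := ⟨i⟩
  by_cases hm1 : m = 1
  · subst hm1
    have hC : centralizer (E.f.range : Set G) ≠ ⊥ :=
      fun hC => hnas ⟨_, hNn, E.isSimpleGroup_range, hnab, hC⟩
    have hR := E.R_eq_bot hprim hC a
    refine false_of_diagonal hT hep (fun t => E.f (fun _ => t) • a) (fun t u h => ?_)
      (fun s => ?_) (fun h hh => ?_)
    · rw [E.f_smul_eq_iff, hR, mem_bot, inv_mul_eq_one] at h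
      exact (congrFun h 0).symm
    · obtain ⟨c, hc⟩ := (isPretransitive_of_normal_of_ne_bot hprim _ hC).exists_smul_eq
        (E.f (fun _ => s) • a) a
      have hc' : (c : G) • E.f (fun _ => s) • a = a := hc
      refine ⟨c * E.f (fun _ => s), by rw [mem_stabilizer_iff, mul_smul, hc'], fun t => ?_⟩
      rw [mul_smul, E.smul_f (E.f _), E.ρ_f, ← mul_smul, ← mem_centralizer_iff.mp c.2 _ ⟨_, rfl⟩, mul_smul,
        hc']
      rfl
    · obtain ⟨σ, φ, h2⟩ := exists_perm_of_aut hT (E.ρ h)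
      refine ⟨φ 0, Or.inl fun t => ?_⟩
      rw [E.smul_f, hh]
      congr 2
      ext k
      rw [Subsingleton.elim k (σ 0), h2]
  let j₀ : Fin m := ⟨1, by omega⟩
  have hij : i ≠ j₀ := by simp [i, j₀]
  have hR : E.R a ≠ ⊥ := fun h => E.false_of_regular hT hprim a hmin hep h hij
  rcases h4 with ⟨K, hK, hK'⟩ | ⟨k, c, hk, -, hc, hc'⟩
  · obtain ⟨t, ht⟩ : ∃ t, t ∉ K i := by
      by_contra h
      push Not at h
      exact hK i (eq_top_iff.mpr fun t _ => h t)
    obtain ⟨s, hs, r, hr, h5⟩ := E.exists_R_move hT hprim a hmin hep hR i j₀ (t := t)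
      (fun h => ht (by simpa using (hK' _).mp h i))
    apply hs
    rw [hK']
    intro l
    by_cases hl : l = j₀
    · subst hl
      have h6 := (hK' _).mp h5 j₀
      simpa [hij.symm, mul_mem_cancel_right ((hK' _).mp hr j₀)] using h6
    · simp [hl]
  · obtain ⟨⟨j, hj⟩, hji⟩ : ∃ j : {j // c j = c i}, j ≠ ⟨i, rfl⟩ := by
      have : Nontrivial {j // c j = c i} := Finite.one_lt_card_iff_nontrivial.mp (by rw [hc]; omega)
      exact exists_ne _
    have hji' : j ≠ i := fun h => hji (Subtype.ext h)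
    have hall : ∀ l, l = i ∨ l = j := by
      intro l
      by_contra hl
      push Not at hl
      obtain ⟨t, ht⟩ := exists_ne (1 : T)
      obtain ⟨s, -, r, hr, h5⟩ := E.exists_R_move hT hprim a hmin hep hR i l (t := t)
        (fun h => ht (by simpa [hji'] using (hc' _).mp h i j hj.symm))
      have h6 := (hc' _).mp h5 i j hj.symm
      simp [hji', hl.1.symm, hl.2.symm, (hc' _).mp hr i j hj.symm] at h6
      exact ht h6
    have hR' : ∀ x, x ∈ E.R a ↔ x i = x j := by
      intro x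
      refine ⟨fun h => (hc' _).mp h i j hj.symm, fun h => (hc' _).mpr fun l l' _ => ?_⟩
      rcases hall l with rfl | rfl <;> rcases hall l' with rfl | rfl <;> simp [h]
    refine false_of_diagonal hT hep (fun t => E.f (Pi.mulSingle i t) • a) (fun t u h => ?_)
      (fun s => ?_) (fun h hh => ?_)
    · rw [E.f_smul_eq_iff, hR'] at h
      simpa [hji', inv_mul_eq_one, eq_comm] using h
    · have h5 : E.f (fun _ => s) • a = a := (hR' _).mpr rfl
      refine ⟨E.f (fun _ => s), h5, fun t => ?_⟩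
      rw [E.smul_f, h5, E.ρ_f, E.f_smul_eq_iff, hR']
      simp [hji', mul_assoc]
    · obtain ⟨σ, φ, h2⟩ := exists_perm_of_aut hT (E.ρ h)
      refine ⟨φ i, (hall (σ i)).imp (fun h3 t => ?_) (fun h3 t => ?_)⟩
      · rw [E.smul_f, hh, aut_mulSingle h2, h3]
      · rw [E.smul_f, hh, aut_mulSingle h2, h3, E.f_smul_eq_iff, hR']
        simp [hji', hji'.symm]

end CL.ONS
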