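import Mathlib
import Cfsg.Agent.PERM.Prim
import Cfsg.Agent.ODD.AbelemRep

/-!
Normal subgroups of the point stabiliser of an extremely primitive group.
-/

set_option autoImplicit false

namespace CL.Perm

open MulAction Subgroup CL.MSS

variable {G Ω : Type*} [Group G] [MulAction G Ω] [Finite G] [Finite Ω] [FaithfulSMul G Ω] {a : Ω}

theorem ep_exists_smul_eq (hprim : IsPreprimitive G Ω)
    (hep : ∀ x : Ω, IsPreprimitive (stabilizer G a) (orbit (stabilizer G a) x))
    (M : Subgroup (stabilizer G a)) [M.Normal] (hM : M ≠ ⊥) {b : Ω} (hb : b ≠ a)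
    (h : stabilizer G a) : ∃ m ∈ M, m • b = h • b := by
  have h1 := manning_orbit_eq hprim hep (K := M.map (stabilizer G a).subtype)
    (fun h => hM ((map_eq_bot_iff_of_injective _ (subtype_injective _)).mp h)) (map_subtype_le _)
    (by
      have := M.le_normalizer_map (stabilizer G a).subtype
      rwa [normalizer_eq_top, ← MonoidHom.range_eq_map, range_subtype] at this) hb
  obtain ⟨⟨_, m, hm, rfl⟩, h2⟩ : h • b ∈ orbit (M.map (stabilizer G a).subtype) b :=
    h1 ▸ mem_orbit b h
  exact ⟨m, hm, h2⟩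

theorem ep_eq_one_of_centralizer (hprim : IsPreprimitive G Ω)
    (hep : ∀ x : Ω, IsPreprimitive (stabilizer G a) (orbit (stabilizer G a) x))
    (M : Subgroup (stabilizer G a)) [M.Normal] (hM : M ≠ ⊥) {b : Ω} (hb : b ≠ a)
    {c : stabilizer G a} (hc : c ∈ centralizer (M : Set (stabilizer G a))) (hcb : c • b = b) :
    c = 1 := by
  have : (c : G) ∈ orbitKer (stabilizer G a) b := by
    refine ⟨c.2, fun h hh => ?_⟩
    obtain ⟨m, hm, h1⟩ := ep_exists_smul_eq hprim hep M hM hb ⟨h, hh⟩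
    change c • (⟨h, hh⟩ : stabilizer G a) • b = (⟨h, hh⟩ : stabilizer G a) • b
    rw [← h1, ← mul_smul, ← mem_centralizer_iff.mp hc m hm, mul_smul, hcb]
  rw [manning_orbitKer hprim hep hb, mem_bot] at this
  exact Subtype.ext this

theorem ep_centralizer_eq (hprim : IsPreprimitive G Ω)
    (hep : ∀ x : Ω, IsPreprimitive (stabilizer G a) (orbit (stabilizer G a) x))
    (M : Subgroup (stabilizer G a)) [M.Normal] (hM : M ≠ ⊥) [IsMulCommutative M] :
    centralizer (M : Set (stabilizer G a)) = M := by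
  refine le_antisymm (fun c hc => ?_) M.le_centralizer
  have := nontrivial_of_ne_bot (Ω := Ω) (M.map (stabilizer G a).subtype)
    fun h => hM ((map_eq_bot_iff_of_injective _ (subtype_injective _)).mp h)
  obtain ⟨b, hb⟩ := exists_ne a
  obtain ⟨m, hm, h1⟩ := ep_exists_smul_eq hprim hep M hM hb c
  have := ep_eq_one_of_centralizer hprim hep M hM hb
    (mul_mem (inv_mem (M.le_centralizer hm)) hc) (by rw [mul_smul, ← h1, inv_smul_smul])
  exact inv_mul_eq_one.mp this ▸ hm

theorem ep_ncard_orbit (hprim : IsPreprimitive G Ω)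
    (hep : ∀ x : Ω, IsPreprimitive (stabilizer G a) (orbit (stabilizer G a) x))
    (M : Subgroup (stabilizer G a)) [M.Normal] (hM : M ≠ ⊥) [IsMulCommutative M] {b : Ω}
    (hb : b ≠ a) : (orbit (stabilizer G a) b).ncard = Nat.card M := by
  have h1 : orbit (stabilizer G a) b = orbit M b := by
    apply Set.Subset.antisymm
    · rintro _ ⟨h, rfl⟩
      obtain ⟨m, hm, h1⟩ := ep_exists_smul_eq hprim hep M hM hb h
      exact ⟨⟨m, hm⟩, h1⟩
    · rintro _ ⟨m, rfl⟩
      exact ⟨m, rfl⟩
  have h2 : stabilizer M b = ⊥ := eq_bot_iff.mpr fun m hm =>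
    Subtype.ext (ep_eq_one_of_centralizer hprim hep M hM hb (M.le_centralizer m.2) hm)
  rw [h1, ← index_stabilizer, h2, index_bot]

theorem ep_card_dvd (hprim : IsPreprimitive G Ω)
    (hep : ∀ x : Ω, IsPreprimitive (stabilizer G a) (orbit (stabilizer G a) x))
    (M : Subgroup (stabilizer G a)) [M.Normal] (hM : M ≠ ⊥) [IsMulCommutative M] :
    Nat.card M ∣ Nat.card Ω - 1 := by
  have := dvd_ncard_of_dvd_orbits (H := stabilizer G a) ({a}ᶜ : Set Ω)
    (fun h x hx e => hx (smul_left_cancel (h : G) (e.trans h.2.symm))) (Nat.card M)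
    (fun x hx => (ep_ncard_orbit hprim hep M hM hx).symm ▸ dvd_rfl)
  rwa [Set.ncard_compl, Set.ncard_singleton] at this

omit [Finite G] in
theorem exists_hom_GL {p e : ℕ} [hp : Fact p.Prime] {W E : Subgroup G}
    (hW : Cfsg.IsElementaryAbelian p W) (hc : Nat.card W = p ^ e)
    (hE : E ≤ normalizer (W : Set G)) :
    ∃ φ : E →* GL (Fin e) (ZMod p), φ.ker = (centralizer (W : Set G)).subgroupOf E := by
  have : Finite W := Nat.finite_of_card_ne_zero (hc ▸ pow_ne_zero e hp.out.ne_zero)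
  let b := Module.finBasisOfFinrankEq (ZMod p) (Abelem.V hW) (Abelem.finrank_eq_of_card hc)
  refine ⟨((LinearMap.toMatrixAlgEquiv b : Module.End (ZMod p) (Abelem.V hW) →* _).comp
    (Abelem.rep hW hE)).toHomUnits, ?_⟩
  ext g
  rw [MonoidHom.mem_ker, mem_subgroupOf, ← Abelem.rep_eq_one_iff (hA := hE) (hE := hW),
    Units.ext_iff]
  exact (LinearMap.toMatrixAlgEquiv b).map_eq_one_iff

end CL.Perm
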