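import Cfsg.Agent.PERM.Hir2

/-! Automorphisms in the unitary case. -/

set_option autoImplicit false
set_option linter.unusedSectionVars false
open Cfsg MulAction Subgroup CL.MSS CL.SqField

namespace CL.Hir

theorem iso_norm {E : Type*} [Field E] [Fintype E] [CharP E 2] {q : ℕ}
    (hE : Fintype.card E = q ^ 2) (φ : E →+ E) (h : ∀ e, φ e ^ q * φ e = e ^ q * e) :
    ∃ c, c * c ^ q = 1 ∧ ((∀ e, φ e = c * e) ∨ ∀ e, φ e = c * e ^ q) := by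
  have two := CharTwo.two_eq_zero (R := E)
  have h1 : φ 1 * φ 1 ^ q = 1 := by simpa [mul_comm] using h 1
  refine ⟨φ 1, h1, ?_⟩
  have key : ∀ e, φ e = φ 1 * e ∨ φ e = φ 1 * e ^ q := fun e => by
    have e1 := h (e + 1)
    rw [map_add, add_pow_q hE, add_pow_q hE, one_pow] at e1
    have e2 := h e
    have : (φ e - φ 1 * e) * (φ e - φ 1 * e ^ q) = 0 := by
      linear_combination (φ 1 * φ e) * e1 - (φ 1 * φ e + φ 1 * φ 1) * e2 -
        (φ e * φ e + φ 1 * φ e) * h1 + (φ 1 ^ 2 * φ e ^ q * φ e -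
          φ 1 * φ e * (φ e ^ q * φ 1 + φ 1 ^ q * φ e - e ^ q - e) + φ e * φ e * φ 1 * φ 1 ^ q
            - φ 1 * φ e * (e + e ^ q)) * two
    exact (mul_eq_zero.1 this).imp sub_eq_zero.1 sub_eq_zero.1
  by_contra! hc
  obtain ⟨⟨a, ha⟩, b, hb⟩ := hc
  have ha' := (key a).resolve_left ha
  have hb' := (key b).resolve_right hb
  rcases key (a + b) with e | e <;> rw [map_add] at e
  · exact ha (by linear_combination e - hb')
  · exact hb (by rw [add_pow_q hE] at e; linear_combination e - ha')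

variable {G : Type*} [Group G]

/-- `g` acts trivially on `S` modulo the involutions. -/
def Triv (S : Subgroup G) (g : G) : Prop :=
  ∀ x ∈ S, x⁻¹ * (g * x * g⁻¹) * (x⁻¹ * (g * x * g⁻¹)) = 1

namespace U0

variable [Finite G] {N S : Subgroup G} {n j : ℕ} {z : GaloisField 2 n → G}
  {κ : (GaloisField 2 n)ˣ →* G} {t : G} (h : B0 N S n j z κ t)
  {E : Type} [Field E] [Fintype E] [CharP E 2] {X : G → E} {ι : GaloisField 2 n →+* E} {c₀ ω : E}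
  {χ : (GaloisField 2 n)ˣ → E} {ζ : G} (hE : Fintype.card E = (2 ^ n) ^ 2)
  (u : U0 N S t z κ (2 ^ n) X ι c₀ ω χ ζ)
include u

theorem X_inv {x : G} (hx : x ∈ S) : X x⁻¹ = X x := by
  have := u.add x hx _ (inv_mem hx)
  rw [mul_inv_cancel, (u.zero 1 (one_mem _)).2 (mul_one 1)] at this
  exact (CharTwo.add_eq_zero.1 this.symm).symm

theorem X_eq {x y : G} (hx : x ∈ S) (hy : y ∈ S) : X x = X y ↔ x⁻¹ * y * (x⁻¹ * y) = 1 := by
  rw [← u.zero _ (mul_mem (inv_mem hx) hy), u.add _ (inv_mem hx) _ hy, u.X_inv hx,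
    CharTwo.add_eq_zero]

theorem triv_iff {g : G} (hg : g ∈ normalizer (S : Set G)) :
    Triv S g ↔ ∀ x ∈ S, X (g * x * g⁻¹) = X x :=
  forall₂_congr fun _ hx => ((u.X_eq hx (conj_mem_nrm hg hx)).symm.trans eq_comm)

theorem X_S {s x : G} (hs : s ∈ S) (hx : x ∈ S) : X (s * x * s⁻¹) = X x := by
  rw [u.add _ (mul_mem hs hx) _ (inv_mem hs), u.add _ hs _ hx, u.X_inv hs]
  linear_combination X s * CharTwo.two_eq_zero (R := E)

theorem ω_ne : ω + ω ^ 2 ^ n ≠ 0 := fun e => u.hω1 (eq_one_of_pow_two_pow (k := 1) (by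
  rw [pow_one, pow_two]; nth_rewrite 2 [CharTwo.add_eq_zero.1 e]; exact u.hω))

theorem ζS : ζ ∈ normalizer (S : Set G) := u.ζD.1.2

theorem ζcz : CZ z ζ := fun x => by rw [u.ζz, mul_inv_cancel_right]

theorem hζ' {x : G} (hx : x ∈ S) : X (ζ⁻¹ * x * ζ) = ω ^ 2 ^ n * X x := by
  have := u.hζ _ (conj_mem_nrm' u.ζS hx)
  rw [show ζ * (ζ⁻¹ * x * ζ) * ζ⁻¹ = x by group] at this
  rw [this]
  linear_combination -X (ζ⁻¹ * x * ζ) * u.hω

theorem exists_phi {g : G} (hg : g ∈ normalizer (S : Set G)) :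
    ∃ φ : E →+ E, ∀ x ∈ S, X (g * x * g⁻¹) = φ (X x) := by
  choose s hs hs' using u.surj
  have key : ∀ x ∈ S, X (g * x * g⁻¹) = X (g * s (X x) * g⁻¹) := fun x hx => by
    rw [u.X_eq (conj_mem_nrm hg hx) (conj_mem_nrm hg (hs _))]
    calc _ = g * (x⁻¹ * s (X x) * (x⁻¹ * s (X x))) * g⁻¹ := by group
      _ = 1 := by rw [(u.X_eq hx (hs _)).1 (hs' _).symm]; group
  refine ⟨AddMonoidHom.mk' (fun e => X (g * s e * g⁻¹)) fun a b => ?_, key⟩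
  have := key _ (mul_mem (hs a) (hs b))
  rw [u.add _ (hs a) _ (hs b), hs', hs'] at this
  rw [← this, ← u.add _ (conj_mem_nrm hg (hs a)) _ (conj_mem_nrm hg (hs b))]
  congr 1
  group

theorem lin_mul {g k : G} (hk : k ∈ normalizer (S : Set G)) {f f' : E → E}
    (h1 : ∀ x ∈ S, X (g * x * g⁻¹) = f (X x)) (h2 : ∀ x ∈ S, X (k * x * k⁻¹) = f' (X x)) :
    ∀ x ∈ S, X (g * k * x * (g * k)⁻¹) = f (f' (X x)) := fun x hx => by
  rw [← h2 x hx, ← h1 _ (conj_mem_nrm hk hx)]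
  congr 1
  group

theorem lin_one {g : G} (hg : g ∈ normalizer (S : Set G)) {c : E}
    (h1 : ∀ x ∈ S, X (g * x * g⁻¹) = c * X x) {k : ℕ} (h2 : Triv S (g ^ 2 ^ k)) : Triv S g := by
  have key : ∀ m : ℕ, ∀ x ∈ S, X (g ^ m * x * (g ^ m)⁻¹) = c ^ m * X x := fun m => by
    induction m with
    | zero => simp
    | succ m ih =>
      intro x hx
      rw [pow_succ, u.lin_mul hg (f := fun e => c ^ m * e) (f' := fun e => c * e) ih h1 x hx]
      ring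
  obtain ⟨x, hx, e⟩ := u.surj 1
  have := key (2 ^ k) x hx
  rw [(u.triv_iff (pow_mem hg _)).1 h2 x hx, e, mul_one] at this
  refine (u.triv_iff hg).2 fun x hx => ?_
  rw [h1 x hx, eq_one_of_pow_two_pow this.symm, one_mul]

include h

theorem X_z (a : GaloisField 2 n) : X (z a) = 0 := (u.zero _ (h.z_mem a)).2 (h.z_sq a)

theorem exz_of_X {x y : G} (hx : x ∈ S) (hy : y ∈ S) (e : X x = X y) : ∃ a, y = x * z a := by
  obtain ⟨a, ha⟩ := h.exz (mul_mem (inv_mem hx) hy) ((u.X_eq hx hy).1 e)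
  exact ⟨a, by rw [ha]; group⟩

theorem c_ne : c₀ ≠ 0 := fun e => by
  obtain ⟨x, hx, e1⟩ := u.surj 1
  obtain ⟨a, h1, h2⟩ := u.sq x hx
  rw [e, zero_mul, map_eq_zero] at h2
  rw [h2, h.z_zero, eq_comm, ← u.zero x hx, e1] at h1
  exact one_ne_zero h1

theorem triv_of_sc {g : G} (hg : InSC N S g) : Triv S g := by
  obtain ⟨s, hs, c, hc, rfl⟩ := hg
  have hc' := centralizer_le h.syl.le hc
  refine (u.triv_iff (mul_mem (le_normalizer hs) (centralizer_le_normalizer _ hc'))).2 fun x hx => ?_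
  rw [← u.X_S hs hx]
  congr 1
  rw [mul_assoc s c, ← mem_centralizer_iff.1 hc' x hx]
  group

theorem D_triv {d : G} (hd : d ∈ Dt N S t) (h1 : CZ z d) (h2 : Triv S d) : d = 1 := by
  have e : d * d = 1 := h.disj (mul_mem hd.1.1 hd.1.1) (h.cenN (le_normalizer
    (mul_mem hd.1.1 hd.1.1)) (mem_centralizer_iff.2 fun x hx => ?_) (mul_mem hd.2 hd.2))
  · exact h.eq_one_of_nrm h.syl_t h.t_ne (h.mem_of_two h.syl hd.1.1 hd.1.2 (k := 1) (by
      rwa [pow_one, pow_two])) hd.2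
  obtain ⟨a, ha⟩ := u.exz_of_X h hx (conj_mem_nrm hd.1.2 hx) ((u.triv_iff hd.1.2).1 h2 x hx).symm
  rw [eq_comm, ← mul_inv_eq_iff_eq_mul]
  calc _ = d * (d * x * d⁻¹) * d⁻¹ := by group
    _ = (d * x * d⁻¹) * (d * z a * d⁻¹) := by nth_rewrite 1 [ha]; group
    _ = x := by rw [ha, h1, mul_assoc, h.z_sq, mul_one]

theorem u3c {g : G} (h1 : g ∈ normalizer (N : Set G)) (h2 : g ∈ normalizer (S : Set G))
    (h3 : CZ z g) (h4 : Triv S g) : InSC N S g := by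
  obtain ⟨s, hs, d, d1, d2, d3, rfl⟩ := h.dec h1 h2
  have d4 : CZ z d := by simpa using (h.cz_of_mem (inv_mem hs)).mul h3
  have d5 : ∀ x ∈ S, X (d * x * d⁻¹) = X x := fun x hx => by
    rw [← (u.triv_iff h2).1 h4 x hx, ← u.X_S hs (conj_mem_nrm d2 hx)]
    congr 1
    group
  have e : d * ζ * d⁻¹ * ζ⁻¹ = 1 := by
    have hD := mul_mem (B0.conj_D d1 d2 d3 u.ζD) (inv_mem u.ζD)
    refine u.D_triv h hD (((d4.mul u.ζcz).mul d4.inv).mul u.ζcz.inv)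
      ((u.triv_iff hD.1.2).2 fun x hx => ?_)
    have m1 := conj_mem_nrm' u.ζS hx
    have m2 := conj_mem_nrm' d2 m1
    calc _ = X (d * (ζ * (d⁻¹ * (ζ⁻¹ * x * ζ) * d) * ζ⁻¹) * d⁻¹) := by congr 1; group
      _ = ω * X (d * (d⁻¹ * (ζ⁻¹ * x * ζ) * d) * d⁻¹) := by
        rw [d5 _ (conj_mem_nrm u.ζS m2), u.hζ _ m2, d5 _ m2]
      _ = ω * X (ζ⁻¹ * x * ζ) := by congr 2; group
      _ = _ := by rw [u.hζ' hx, ← mul_assoc, u.hω, one_mul]
  refine ⟨s, hs, d, h.cenN d1 (mem_centralizer_iff.2 fun x hx => ?_) d3, rfl⟩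
  have h5 : 1 + ω ≠ 0 := fun e => u.hω1 (CharTwo.add_eq_zero.1 e).symm
  obtain ⟨y, hy, e1⟩ := u.surj (X x / (1 + ω))
  have hy' := conj_mem_nrm u.ζS hy
  obtain ⟨a, rfl⟩ := u.exz_of_X h (mul_mem hy hy') hx (by
    rw [u.add _ hy _ hy', u.hζ y hy, e1]; field_simp)
  obtain ⟨b, hb⟩ := u.exz_of_X h hy (conj_mem_nrm d2 hy) (d5 y hy).symm
  have e2 : d * ζ * d⁻¹ = ζ := by rwa [mul_inv_eq_one] at e
  rw [eq_comm, ← mul_inv_eq_iff_eq_mul]
  calc _ = (d * y * d⁻¹) * ((d * ζ * d⁻¹) * (d * y * d⁻¹) * (d * ζ * d⁻¹)⁻¹) * (d * z a * d⁻¹) := by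
        group
    _ = y * (z b * (ζ * y * ζ⁻¹)) * (ζ * z b * ζ⁻¹) * z a := by rw [hb, e2, d4]; group
    _ = y * (ζ * y * ζ⁻¹) * (z b * z b) * z a := by rw [h.cen b _ hy', u.ζcz]; group
    _ = _ := by rw [h.z_sq, mul_one]

include hE

theorem iso {g : G} (h2 : g ∈ normalizer (S : Set G)) (h3 : CZ z g) : ∃ c, c * c ^ 2 ^ n = 1 ∧
    ((∀ x ∈ S, X (g * x * g⁻¹) = c * X x) ∨ ∀ x ∈ S, X (g * x * g⁻¹) = c * X x ^ 2 ^ n) := by
  obtain ⟨φ, hφ⟩ := u.exists_phi h2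
  obtain ⟨c, h4, h5⟩ := iso_norm hE φ fun e => by
    obtain ⟨x, hx, rfl⟩ := u.surj e
    obtain ⟨a, a1, a2⟩ := u.sq x hx
    obtain ⟨b, b1, b2⟩ := u.sq _ (conj_mem_nrm h2 hx)
    rw [conj_sq, ← a1, h3] at b1
    rw [h.z_inj b1, a2, hφ x hx] at b2
    exact (mul_left_cancel₀ (u.c_ne h) b2).symm
  exact ⟨c, h4, h5.imp (fun e x hx => by rw [hφ x hx, e]) fun e x hx => by rw [hφ x hx, e]⟩

theorem anti_mul {g k : G} (hk : k ∈ normalizer (S : Set G)) {a b : E}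
    (h1 : ∀ x ∈ S, X (g * x * g⁻¹) = a * X x ^ 2 ^ n)
    (h2 : ∀ x ∈ S, X (k * x * k⁻¹) = b * X x ^ 2 ^ n) :
    ∀ x ∈ S, X (g * k * x * (g * k)⁻¹) = a * b ^ 2 ^ n * X x := fun x hx => by
  rw [u.lin_mul hk (f := fun e => a * e ^ 2 ^ n) (f' := fun e => b * e ^ 2 ^ n) h1 h2 x hx,
    mul_pow, pow_q_pow_q hE, mul_assoc]

theorem iso3 {g k : G} (h1 : g ∈ normalizer (S : Set G)) (h2 : CZ z g)
    (h3 : k ∈ normalizer (S : Set G)) (h4 : CZ z k) {a b c : ℕ} (h5 : Triv S (g ^ 2 ^ a))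
    (h6 : Triv S (k ^ 2 ^ b)) (h7 : Triv S ((g * k) ^ 2 ^ c)) :
    Triv S g ∨ Triv S k ∨ Triv S (g * k) := by
  obtain ⟨x, -, e | e⟩ := u.iso h hE h1 h2
  · exact Or.inl (u.lin_one h1 e h5)
  obtain ⟨y, -, e' | e'⟩ := u.iso h hE h3 h4
  · exact Or.inr (Or.inl (u.lin_one h3 e' h6))
  exact Or.inr (Or.inr (u.lin_one (mul_mem h1 h3) (u.anti_mul h hE h3 e e') h7))

theorem f3 {g : G} (h1 : g ∈ normalizer (N : Set G)) (h2 : g ∈ normalizer (S : Set G))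
    (h3 : InSC N S (g * g)) : CZ z g := by
  have two := CharTwo.two_eq_zero (R := E)
  obtain ⟨a, σ, hg⟩ := h.semi h1 h2
  obtain ⟨φ, hφ⟩ := u.exists_phi h2
  have φφ : ∀ e, φ (φ e) = e := fun e => by
    obtain ⟨x, hx, rfl⟩ := u.surj e
    rw [← u.lin_mul h2 hφ hφ x hx, (u.triv_iff (mul_mem h2 h2)).1 (u.triv_of_sc h h3) x hx]
  obtain ⟨s, hs, d, d1, d2, d3, rfl⟩ := h.dec h1 h2
  have hd : ∀ x ∈ S, X (d * x * d⁻¹) = φ (X x) := fun x hx => by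
    rw [← hφ x hx, ← u.X_S hs (conj_mem_nrm d2 hx)]
    congr 1
    group
  have sc : ∀ k ∈ normalizer (S : Set G), ∀ a b, (∀ x ∈ S, X (k * x * k⁻¹) = a * X x) →
      (∀ x ∈ S, X (d * k * d⁻¹ * x * (d * k * d⁻¹)⁻¹) = b * X x) → ∀ e, φ (a * e) = b * φ e :=
    fun k hk a b k1 k2 e => by
      obtain ⟨x, hx, rfl⟩ := u.surj e
      rw [← k1 x hx, ← hd _ (conj_mem_nrm hk hx), ← hd x hx, ← k2 _ (conj_mem_nrm d2 hx)]
      congr 1
      group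
  have s1 : ∀ c c', κ c' = d * κ c * d⁻¹ → ∀ e, φ (χ c * e) = χ c' * φ e := fun c c' e =>
    sc _ (h.κD c).1.2 _ _ (u.hκ c) (e ▸ u.hκ c')
  have s2 : ∀ l, l ^ 2 ^ n = l → ∃ b, ∀ e, φ (l * e) = b * φ e := fun l hl => by
    by_cases h0 : l = 0
    · exact ⟨0, fun e => by simp [h0]⟩
    obtain ⟨c, rfl⟩ := u.χ_surj l hl h0
    obtain ⟨c', e⟩ := h.conj_κ d1 d2 d3 c
    exact ⟨_, s1 c c' e⟩
  have s3 : ∃ b, ∀ e, φ (ω * e) = b * φ e := by
    have hD := B0.conj_D d1 d2 d3 u.ζD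
    obtain ⟨b, b1, e | e⟩ := u.iso h hE hD.1.2 fun x => by
      obtain ⟨y, hy⟩ := h.exz (conj_mem_nrm' d2 (h.z_mem x)) (by
        have := conj_sq d⁻¹ (z x)
        rw [inv_inv, h.z_sq] at this
        simpa using this)
      calc _ = d * (ζ * (d⁻¹ * z x * d) * ζ⁻¹) * d⁻¹ := by group
        _ = _ := by rw [← hy, u.ζcz, hy]; group
    · exact ⟨b, sc ζ u.ζS _ _ u.hζ e⟩
    · have e1 := sc (ζ * ζ) (mul_mem u.ζS u.ζS) (ω * ω) 1 (fun x hx => by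
        rw [u.lin_mul u.ζS (f := fun e => ω * e) (f' := fun e => ω * e) u.hζ u.hζ x hx, mul_assoc])
        (fun x hx => by
          rw [← b1, ← u.anti_mul h hE hD.1.2 e e x hx]
          congr 1
          group) 1
      have e2 := congrArg φ e1
      rw [φφ, one_mul, φφ, mul_one] at e2
      exact absurd (eq_one_of_pow_two_pow (k := 1) (by rwa [pow_one, pow_two])) u.hω1
  obtain ⟨τ, hτ⟩ := exists_semi φ (fun x y e => by rw [← φφ x, e, φφ]) fun e => by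
    have hne := u.ω_ne
    have m1 : ((e + e ^ 2 ^ n) / (ω + ω ^ 2 ^ n)) ^ 2 ^ n = (e + e ^ 2 ^ n) / (ω + ω ^ 2 ^ n) := by
      rw [div_pow, trace_pow_q hE, trace_pow_q hE]
    set μ := (e + e ^ 2 ^ n) / (ω + ω ^ 2 ^ n) with hμ
    have m2 : μ * (ω + ω ^ 2 ^ n) = e + e ^ 2 ^ n := div_mul_cancel₀ _ hne
    obtain ⟨b1, e1⟩ := s2 μ m1
    obtain ⟨b2, e2⟩ := s2 (e + μ * ω) (by
      rw [add_pow_q hE, mul_pow, m1]; linear_combination m2 + (e ^ 2 ^ n - μ * ω) * two)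
    obtain ⟨b3, e3⟩ := s3
    refine ⟨b2 + b1 * b3, fun x => ?_⟩
    rw [show e * x = (e + μ * ω) * x + μ * (ω * x) by linear_combination -μ * ω * x * two, map_add,
      e1, e2, e3]
    ring
  have h0 : φ 1 ≠ 0 := fun e => by simpa [e] using φφ 1
  have t1 : ∀ e, φ 1 * τ (φ 1) * τ (τ e) = e := fun e => by
    rw [mul_assoc, ← map_mul, ← hτ e, ← hτ, φφ]
  have t2 : τ * τ = 1 := RingEquiv.ext fun e => by
    have := t1 e
    rwa [show φ 1 * τ (φ 1) = 1 by simpa using t1 1, one_mul] at this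
  have t3 : ∀ c, τ (χ c) = χ c := fun c => by
    by_cases e : τ = 1
    · rw [e]; rfl
    rw [aut_eq_of_sq t2 e (RingEquiv.ext (conj_conj hE)) (conj_ne_refl hE), conj_apply, u.χ_pow]
  refine Act.cz h.z_inj (a := a) (k := 1) ?_ (by rw [pow_one, pow_two]; exact h.cz_of_sc h3)
  suffices σ = 1 from this ▸ hg
  refine RingEquiv.ext fun x => ?_
  by_cases hx : x = 0
  · simp [hx]
  obtain ⟨c', e⟩ := h.conj_κ d1 d2 d3 (Units.mk0 x hx)
  have e1 := s1 _ _ e 1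
  rw [mul_one, hτ, t3, mul_comm] at e1
  have e2 : c' = Units.mk0 x hx := Units.ext (ι.injective (by
    rw [← u.χ_sq, ← u.χ_sq, mul_right_cancel₀ h0 e1]))
  have := h.Act_κ hg (mul_mem hs (h.κ_conj c' (inv_mem hs))) (c := Units.mk0 x hx) (c' := c') (by
    rw [e]; group)
  rwa [e2] at this

theorem comm_of_X {c : E} {x y : G} (hx : x ∈ S) (hy : y ∈ S) (h1 : c * X x ^ 2 ^ n = X x)
    (h2 : c * X y ^ 2 ^ n = X y) : x * y = y * x := by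
  obtain ⟨a, a1, a2⟩ := u.sq x hx
  obtain ⟨b, b1, b2⟩ := u.sq y hy
  obtain ⟨d, d1, d2⟩ := u.sq _ (mul_mem hx hy)
  have e : d = a + b := ι.injective (by
    rw [map_add, a2, b2, d2, u.add x hx y hy, add_pow_q hE]
    linear_combination c₀ * (X y ^ 2 ^ n * h1 - X x ^ 2 ^ n * h2) * -1 +
      c₀ * X x ^ 2 ^ n * X y * CharTwo.two_eq_zero (R := E) + 0 * h1)
  rw [e, h.z_add, a1, b1] at d1
  exact (mul_left_cancel (a := x) (mul_right_cancel (b := y) (by simpa only [mul_assoc] using d1)))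

theorem c3 {w : G} (h1 : w ∈ normalizer (N : Set G)) (h2 : w ∈ normalizer (S : Set G))
    (h3 : w * w = 1) (h4 : ¬ InSC N S w) : (∀ x ∈ S, w * x * w⁻¹ = x → x * x = 1) ∧
      ∀ a, ∃ x ∈ S, z a = x⁻¹ * (w * x * w⁻¹) := by
  have two := CharTwo.two_eq_zero (R := E)
  have cz := u.f3 h hE h1 h2 (h3 ▸ InSC.one)
  obtain ⟨c, hc, e | e⟩ := u.iso h hE h2 cz
  · exact absurd (u.u3c h h1 h2 cz (u.lin_one h2 e (k := 1) (by
      rw [pow_one, pow_two, h3]; exact u.triv_of_sc h InSC.one))) h4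
  obtain ⟨s, hs, d, d1, d2, d3, rfl⟩ := h.dec h1 h2
  have d4 : CZ z d := by simpa using (h.cz_of_mem (inv_mem hs)).mul cz
  have hd : ∀ x ∈ S, X (d * x * d⁻¹) = c * X x ^ 2 ^ n := fun x hx => by
    rw [← e x hx, ← u.X_S hs (conj_mem_nrm d2 hx)]
    congr 1
    group
  have e1 : s * (d * s * d⁻¹) = (d * d)⁻¹ := by
    rw [eq_inv_iff_mul_eq_one, ← h3]; group
  have e2 : s * (d * s * d⁻¹) = 1 := h.eq_one_of_nrm h.syl_t h.t_ne
    (mul_mem hs (conj_mem_nrm d2 hs)) (e1 ▸ inv_mem (mul_mem d3 d3))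
  have e3 : c * X s ^ 2 ^ n = X s := by rw [← hd s hs, ← inv_eq_of_mul_eq_one_right e2, u.X_inv hs]
  have e4 : ∀ x ∈ S, c * X x ^ 2 ^ n = X x → s * d * x * (s * d)⁻¹ = d * x * d⁻¹ := fun x hx e => by
    have := u.comm_of_X h hE hs (conj_mem_nrm d2 hx) e3 (by rw [hd x hx, e, e])
    calc _ = s * (d * x * d⁻¹) * s⁻¹ := by group
      _ = _ := by rw [this, mul_inv_cancel_right]
  have e5 : d * ζ * d⁻¹ = ζ⁻¹ := by
    have hD := mul_mem (B0.conj_D d1 d2 d3 u.ζD) u.ζD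
    refine eq_inv_of_mul_eq_one_left (u.D_triv h hD (((d4.mul u.ζcz).mul d4.inv).mul u.ζcz)
      ((u.triv_iff hD.1.2).2 fun x hx => ?_))
    have m1 := conj_mem_nrm u.ζS hx
    have m2 := conj_mem_nrm' d2 m1
    calc _ = X (d * (ζ * (d⁻¹ * (ζ * x * ζ⁻¹) * d) * ζ⁻¹) * d⁻¹) := by congr 1; group
      _ = ω ^ 2 ^ n * X (d * (d⁻¹ * (ζ * x * ζ⁻¹) * d) * d⁻¹) := by
        rw [hd _ (conj_mem_nrm u.ζS m2), u.hζ _ m2, hd _ m2]; ring
      _ = ω ^ 2 ^ n * X (ζ * x * ζ⁻¹) := by congr 2; group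
      _ = _ := by rw [u.hζ x hx, ← mul_assoc, mul_comm _ ω, u.hω, one_mul]
  have key : ∀ x ∈ S, d * x * d⁻¹ = x → x * x = 1 := fun x hx e => by
    have m1 := conj_mem_nrm u.ζS hx
    have m2 := conj_mem_nrm' u.ζS hx
    have e6 : X (ζ * x * ζ⁻¹ * (ζ⁻¹ * x * ζ)) = (ω + ω ^ 2 ^ n) * X x := by
      rw [u.add _ m1 _ m2, u.hζ x hx, u.hζ' hx, add_mul]
    obtain ⟨a, ha⟩ := u.χ_surj _ (trace_pow_q hE ω) u.ω_ne
    obtain ⟨b, hb⟩ := u.exz_of_X h (h.κ_conj a hx) (mul_mem m1 m2) (by rw [u.hκ a x hx, e6, ha])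
    have e7 : ζ⁻¹ * x * ζ * (ζ * x * ζ⁻¹) = ζ * x * ζ⁻¹ * (ζ⁻¹ * x * ζ) := by
      calc _ = (d * ζ * d⁻¹) * (d * x * d⁻¹) * (d * ζ * d⁻¹)⁻¹ *
            ((d * ζ * d⁻¹)⁻¹ * (d * x * d⁻¹) * (d * ζ * d⁻¹)) := by rw [e5, e]; group
        _ = d * (ζ * x * ζ⁻¹ * (ζ⁻¹ * x * ζ)) * d⁻¹ := by group
        _ = (d * κ a * d⁻¹) * (d * x * d⁻¹) * (d * κ a * d⁻¹)⁻¹ * (d * z b * d⁻¹) := by
          rw [hb]; group
        _ = _ := by rw [h.comm_κ d1 d2 d3 d4, e, d4, hb]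
    obtain ⟨r, hr⟩ := h.exz_sq hx
    have e8 : ζ * x * ζ⁻¹ * (ζ⁻¹ * x * ζ) * (ζ * x * ζ⁻¹ * (ζ⁻¹ * x * ζ)) = 1 := by
      calc _ = ζ * x * ζ⁻¹ * (ζ⁻¹ * x * ζ * (ζ * x * ζ⁻¹)) * (ζ⁻¹ * x * ζ) := by group
        _ = (ζ * (x * x) * ζ⁻¹) * (ζ⁻¹ * (x * x) * ζ⁻¹⁻¹) := by rw [e7]; group
        _ = 1 := by rw [← hr, u.ζcz, u.ζcz.inv, h.z_sq]
    rw [← u.zero _ (mul_mem m1 m2), e6] at e8
    exact (u.zero x hx).1 ((mul_eq_zero.1 e8).resolve_left u.ω_ne)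
  refine ⟨fun x hx e6 => key x hx ((e4 x hx (by rw [← e x hx, e6])).symm.trans e6), fun a => ?_⟩
  by_cases ha : a = 0
  · exact ⟨1, one_mem _, by rw [ha, h.z_zero]; group⟩
  obtain ⟨e0, he0⟩ : ∃ e0, e0 + c * e0 ^ 2 ^ n ≠ 0 := by
    by_contra! hc'
    obtain ⟨y, hy⟩ := exists_pow_q_ne hE
    have := hc' 1
    rw [one_pow, mul_one, CharTwo.add_eq_zero] at this
    have e9 := hc' y
    rw [← this, one_mul, CharTwo.add_eq_zero] at e9
    exact hy e9.symm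
  obtain ⟨x, hx, e6⟩ := u.surj (e0 + c * e0 ^ 2 ^ n)
  have e7 : c * X x ^ 2 ^ n = X x := by
    rw [e6, add_pow_q hE, mul_pow, pow_q_pow_q hE]; linear_combination e0 * hc
  obtain ⟨b, hb⟩ := u.exz_of_X h hx (conj_mem_nrm d2 hx) (by rw [hd x hx, e7])
  have hb0 : b ≠ 0 := fun e => he0 (by
    rw [← e6, u.zero x hx]; exact key x hx (by rw [hb, e, h.z_zero, mul_one]))
  let k := Units.mk0 (a / b) (div_ne_zero ha hb0)
  refine ⟨_, h.κ_conj k hx, ?_⟩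
  rw [e4 _ (h.κ_conj k hx) (by rw [u.hκ k x hx, mul_pow, u.χ_pow]; linear_combination χ k * e7)]
  calc z a = z (k * b) := by rw [Units.val_mk0, div_mul_cancel₀ _ hb0]
    _ = (κ k * x * (κ k)⁻¹)⁻¹ * (κ k * (x * z b) * (κ k)⁻¹) := by rw [← h.conj_z]; group
    _ = (κ k * x * (κ k)⁻¹)⁻¹ * ((d * κ k * d⁻¹) * (d * x * d⁻¹) * (d * κ k * d⁻¹)⁻¹) := by
      rw [h.comm_κ d1 d2 d3 d4, hb]
    _ = _ := by group

theorem half {g : G} (h2 : g ∈ normalizer (S : Set G)) (h3 : g * g = 1) :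
    2 ^ n ≤ Nat.card (S ⊓ centralizer {g} : Subgroup G) := by
  obtain ⟨φ, hφ⟩ := u.exists_phi h2
  let ψ : E →+ E := φ + AddMonoidHom.id E
  have hψ : ∀ e, ψ e = φ e + e := fun _ => rfl
  have h4 : ψ.range ≤ ψ.ker := by
    rintro _ ⟨e, rfl⟩
    obtain ⟨x, hx, rfl⟩ := u.surj e
    rw [AddMonoidHom.mem_ker, hψ, hψ, map_add, ← u.lin_mul h2 hφ hφ x hx, h3]
    simpa [add_comm] using CharTwo.add_self_eq_zero (X x + φ (X x))
  have h5 : 2 ^ n ≤ Nat.card ψ.ker := by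
    have e := AddSubgroup.card_mul_index ψ.ker
    rw [AddSubgroup.index_ker, Nat.card_eq_fintype_card (α := E), hE] at e
    have := AddSubgroup.card_le_of_le h4
    nlinarith
  choose s hs hs' using u.surj
  have hx : ∀ p : ψ.ker × GaloisField 2 n, s p.1 * z p.2 ∈ S := fun p => mul_mem (hs _) (h.z_mem _)
  choose f hf using fun p : ψ.ker × GaloisField 2 n => u.exz_of_X h (hx p)
    (conj_mem_nrm h2 (hx p)) (by
      rw [hφ _ (hx p), u.add _ (hs _) _ (h.z_mem _), u.X_z h, add_zero, hs']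
      exact (CharTwo.add_eq_zero.1 (hψ _ ▸ p.1.2)).symm)
  let r := Function.invFun f
  have hr : ∀ p, f (r (f p)) = f p := fun p => Function.invFun_eq ⟨p, rfl⟩
  let F : ψ.ker × GaloisField 2 n → (S ⊓ centralizer {g} : Subgroup G) × GaloisField 2 n :=
    fun p => (⟨s p.1 * z p.2 * (s (r (f p)).1 * z (r (f p)).2)⁻¹,
      S.mul_mem (hx p) (S.inv_mem (hx _)), mem_centralizer_singleton_iff.2 (by
        rw [eq_comm, ← mul_inv_eq_iff_eq_mul]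
        calc _ = g * (s p.1 * z p.2) * g⁻¹ * (g * (s (r (f p)).1 * z (r (f p)).2) * g⁻¹)⁻¹ := by
              group
          _ = _ := by rw [hf, hf, hr]; group)⟩, f p)
  have hF : Function.Injective F := fun p p' e => by
    have e1 : f p = f p' := congrArg Prod.snd e
    have e2 : s p.1 * z p.2 * (s (r (f p)).1 * z (r (f p)).2)⁻¹ =
        s p'.1 * z p'.2 * (s (r (f p')).1 * z (r (f p')).2)⁻¹ := congrArg (fun y => (y.1 : G)) e
    rw [e1, mul_left_inj] at e2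
    have e3 := congrArg X e2
    rw [u.add _ (hs _) _ (h.z_mem _), u.add _ (hs _) _ (h.z_mem _), u.X_z h, u.X_z h, hs', hs',
      add_left_inj] at e3
    rw [e3, mul_right_inj] at e2
    exact Prod.ext (Subtype.ext e3) (h.z_inj e2)
  have := Nat.card_le_card_of_injective F hF
  rw [Nat.card_prod, Nat.card_prod, h.cardF] at this
  exact h5.trans (Nat.le_of_mul_le_mul_right this (by positivity))

theorem kq {g : G} (h1 : g ∈ normalizer (N : Set G)) (h2 : g ∈ normalizer (S : Set G))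
    (h3 : CZ z g) {k : ℕ} (h4 : InSC N S (g ^ 2 ^ k)) (h5 : g * ζ * g⁻¹ * ζ⁻¹ ∈ S) :
    InSC N S g := by
  obtain ⟨c, hc, e | e⟩ := u.iso h hE h2 h3
  · exact u.u3c h h1 h2 h3 (u.lin_one h2 e (u.triv_of_sc h h4))
  obtain ⟨x, hx, e1⟩ := u.surj 1
  have m1 := conj_mem_nrm h2 hx
  have e2 := u.X_S h5 (conj_mem_nrm u.ζS m1)
  rw [show g * ζ * g⁻¹ * ζ⁻¹ * (ζ * (g * x * g⁻¹) * ζ⁻¹) * (g * ζ * g⁻¹ * ζ⁻¹)⁻¹ =
    g * (ζ * x * ζ⁻¹) * g⁻¹ by group, e _ (conj_mem_nrm u.ζS hx), u.hζ x hx, u.hζ _ m1, e x hx,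
    e1] at e2
  refine absurd ?_ u.ω_ne
  have hc0 : c ≠ 0 := fun e => by simp [e] at hc
  refine mul_left_cancel₀ hc0 ?_
  simp only [mul_one, one_pow] at e2
  linear_combination e2 + c * ω * CharTwo.two_eq_zero (R := E)

end U0

end CL.Hir
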