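import Cfsg.Agent.PERM.Fix4A

/-! Two-groups with a small TI subgroup `T` whose normaliser acts on four points. -/

set_option autoImplicit false
set_option linter.unusedSectionVars false

namespace CL.Fix4

open Subgroup Cfsg CL CL.SR16 Pointwise

variable {G : Type*} [Group G] [Finite G] {T N : Subgroup G}

theorem card_cases (hG : IsPGroup 2 G) (H : Subgroup G) :
    Nat.card H = 1 ∨ Nat.card H = 2 ∨ Nat.card H = 4 ∨ 8 ≤ Nat.card H := by
  obtain ⟨k, hk⟩ := (hG.to_subgroup H).exists_card_eq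
  rw [hk]
  rcases k with _ | _ | _ | k
  · simp
  · simp
  · simp
  · have : 0 < 2 ^ k := by positivity
    simp only [pow_succ]
    omega

theorem two_mul_le {A B : Subgroup G} (h : A < B) : 2 * Nat.card A ≤ Nat.card B := by
  obtain ⟨k, hk⟩ := card_dvd_of_le h.le
  have h1 := card_lt_of_lt h
  have h2 : 0 < Nat.card A := Nat.card_pos
  rcases k with _ | _ | k
  · omega
  · omega
  · nlinarith

theorem mul_mem_of_card {A B : Subgroup G} (h : A ≤ B) (hc : Nat.card B ≤ 2 * Nat.card A) {x y : G}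
    (hx : x ∈ B) (hy : y ∈ B) (hx' : x ∉ A) (hy' : y ∉ A) : x * y ∈ A := by
  have h1 := two_mul_le (lt_of_le_of_ne h fun e => hx' (e ▸ hx))
  have h2 := card_mul_relIndex_of_le h
  have h3 : A.relIndex B = 2 :=
    Nat.eq_of_mul_eq_mul_left (Nat.card_pos (α := A)) (by omega)
  exact (mul_mem_iff_of_index_two h3 (a := ⟨x, hx⟩) (b := ⟨y, hy⟩)).2 (iff_of_false hx' hy')

theorem split (hG : IsPGroup 2 G) {U : Subgroup G} (hT4 : Nat.card T = 4) (hT2 : ∀ t ∈ T, t * t = 1)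
    (hU4 : Nat.card U = 4) (hU2 : ∀ t ∈ U, t * t = 1) (hd : T ⊓ U = ⊥)
    (hc : ∀ t ∈ T, ∀ u ∈ U, t * u = u * t) (hN : T ⊔ U ≤ N) (nT : N ≤ normalizer (T : Set G))
    (nU : N ≤ normalizer (U : Set G)) (hC : ∀ t ∈ T, t ≠ 1 → ∀ y, y * t = t * y → y ∈ N)
    (h32 : Nat.card N ≤ 32) (hs : ∀ s ∈ N, s ∉ T ⊔ U → s * s ∈ T ⊔ U →
      (∃ t ∈ T, s * t ≠ t * s) ∧ ∃ u ∈ U, s * u ≠ u * s) : R 16 G := by
  have : Fact (Nat.Prime 2) := ⟨Nat.prime_two⟩
  have hn : T ≤ normalizer (U : Set G) := (le_sup_left.trans hN).trans nU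
  set A := T ⊔ U
  have hA : E16 A := ⟨fun x hx => by
    obtain ⟨t, ht, u, hu, rfl⟩ := (mem_sup_of_le_normalizer hn).1 hx
    rw [mul_assoc, ← mul_assoc u, ← hc t ht u hu, mul_assoc, hU2 u hu, mul_one, hT2 t ht],
    by rw [card_sup_of_disjoint hn hd, hT4, hU4]⟩
  by_cases hNA : N ≤ A
  · exact Hyp.rank ⟨hG, hA, le_sup_left, hT4, fun b hb h1 y hy => hNA (hC b hb h1 y hy)⟩
  obtain ⟨s, hsN, hsA⟩ := SetLike.not_le_iff_exists.1 hNA
  have hm : ∀ {x y}, x ∈ N → y ∈ N → x ∉ A → y ∉ A → x * y ∈ A :=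
    mul_mem_of_card hN (by rw [hA.2]; exact h32)
  have hss := hm hsN hsN hsA hsA
  obtain ⟨⟨t₁, ht₁, e₁⟩, u₁, hu₁, e₂⟩ := hs s hsN hsA hss
  have cA : ∀ a ∈ A, s * a * s⁻¹ ∈ A := fun a ha =>
    Tr.conj_mem_of_mem_normalizer (le_normalizer_sup nT nU hsN) ha
  set F := A ⊓ centralizer ({s} : Set G)
  have hF : Nat.card F ≤ 4 := by
    have h1 := two_mul_le (inf_lt_left.2 fun h : T ≤ centralizer ({s} : Set G) =>
      e₁ (mem_centralizer_singleton_iff.1 (h ht₁)).symm)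
    have h2 := two_mul_le (inf_lt_left.2 fun h : U ≤ centralizer ({s} : Set G) =>
      e₂ (mem_centralizer_singleton_iff.1 (h hu₁)).symm)
    have h3 : T ⊓ centralizer ({s} : Set G) ≤
        normalizer ((U ⊓ centralizer ({s} : Set G) : Subgroup G) : Set G) :=
      le_normalizer_inf (inf_le_left.trans hn) (inf_le_right.trans le_normalizer)
    have h4 : F ≤ T ⊓ centralizer ({s} : Set G) ⊔ U ⊓ centralizer ({s} : Set G) := by
      rintro x ⟨hx, hxs⟩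
      obtain ⟨t, ht, u, hu, rfl⟩ := (mem_sup_of_le_normalizer hn).1 hx
      have e := mem_centralizer_singleton_iff.1 hxs
      have e3 : t⁻¹ * (s * t * s⁻¹) = u * (s * u * s⁻¹)⁻¹ := by
        calc _ = t⁻¹ * (s * (t * u)) * u⁻¹ * s⁻¹ := by group
          _ = _ := by rw [← e]; group
      have h5 : t⁻¹ * (s * t * s⁻¹) ∈ T ⊓ U := mem_inf.2
        ⟨mul_mem (inv_mem ht) (Tr.conj_mem_of_mem_normalizer (nT hsN) ht),
          e3 ▸ mul_mem hu (inv_mem (Tr.conj_mem_of_mem_normalizer (nU hsN) hu))⟩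
      rw [hd, mem_bot] at h5
      have h6 : t ∈ centralizer ({s} : Set G) := mem_centralizer_singleton_iff.2
        (mul_inv_eq_iff_eq_mul.1 (inv_mul_eq_one.1 h5).symm).symm
      exact mul_mem_sup ⟨ht, h6⟩ ⟨hu, (mul_mem_cancel_left h6).1 hxs⟩
    refine (card_le_of_le h4).trans ((Nat.le_of_dvd (Nat.mul_pos Nat.card_pos Nat.card_pos)
      (card_sup_dvd_mul_of_le_normalizer h3)).trans ?_)
    exact Nat.mul_le_mul (show _ ≤ 2 by omega) (show _ ≤ 2 by omega)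
  let φ : A →* G := MonoidHom.mk' (fun a => a * (s * a * s⁻¹)) fun a b => by
    have := comm_of_sq hA.1 b.2 (cA a a.2)
    simp only [coe_mul]
    calc (a : G) * b * (s * (a * b) * s⁻¹) = a * (b * (s * a * s⁻¹)) * (s * b * s⁻¹) := by group
      _ = _ := by rw [this]; group
  have hφ : φ.range ≤ F := by
    rintro _ ⟨a, rfl⟩
    refine ⟨mul_mem a.2 (cA a a.2), mem_centralizer_singleton_iff.2 ?_⟩
    change (a : G) * (s * a * s⁻¹) * s = s * (a * (s * a * s⁻¹))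
    calc (a : G) * (s * a * s⁻¹) * s = s * a * s⁻¹ * a * (s * s) * s⁻¹ := by
          rw [comm_of_sq hA.1 a.2 (cA a a.2)]; group
      _ = _ := by rw [mul_assoc _ (a : G), comm_of_sq hA.1 a.2 hss]; group
  have h16 := card_le_of_hom (C := F) (K := φ.range) φ (fun a => ⟨a, rfl⟩) fun a ha =>
    ⟨a.2, mem_centralizer_singleton_iff.2 (by
      have e : (a : G) * (s * a * s⁻¹) = a * a := by rw [hA.1 a a.2]; exact ha
      exact (mul_inv_eq_iff_eq_mul.1 (mul_left_cancel e)).symm)⟩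
  have h5 := card_le_of_le hφ
  rw [hA.2] at h16
  have h6 : Nat.card F = 4 := by nlinarith
  have h7 : φ.range = F := eq_of_le_of_card_ge hφ (by nlinarith)
  obtain ⟨a, ha⟩ : s * s ∈ φ.range := h7 ▸ ⟨hss, mem_centralizer_singleton_iff.2 (mul_assoc _ _ _)⟩
  replace ha : (a : G) * (s * a * s⁻¹) = s * s := ha
  have hF' : ∀ c ∈ A, c * (a * s) = a * s * c → c ∈ F := fun c hc e =>
    ⟨hc, mem_centralizer_singleton_iff.2 (mul_left_cancel (a := (a : G)) (by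
      rw [← mul_assoc, comm_of_sq hA.1 a.2 hc, mul_assoc, e, mul_assoc]))⟩
  have hsA' : (a : G) * s ∉ A := fun h => hsA ((mul_mem_cancel_left a.2).1 h)
  refine r_of_e8 hG h6 (fun f hf => hA.1 f hf.1) (s := a * s) ?_ (fun h => hsA' h.1)
    (fun f hf => ?_) fun c hc1 hc2 => ?_
  · calc (a : G) * s * (a * s) = a * (s * a * s⁻¹) * (s * s) := by group
      _ = 1 := by rw [ha, hA.1 _ hss]
  · rw [mul_assoc, ← mem_centralizer_singleton_iff.1 hf.2, ← mul_assoc,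
      comm_of_sq hA.1 a.2 hf.1, mul_assoc]
  obtain ⟨⟨t, ht⟩, h1⟩ := ne_bot_iff_exists_ne_one.1
    (PN.inf_centralizer_ne_bot_of_isPGroup (hG.to_subgroup T) (hG.to_subgroup (zpowers s))
      (zpowers_le.2 (nT hsN)) fun e => by simp [e] at hT4)
  have hcN := hC t ht.1 (fun e => h1 (Subtype.ext e)) c (hc1 t ⟨mem_sup_left ht.1,
    mem_centralizer_singleton_iff.2 (ht.2 s (mem_zpowers s)).symm⟩)
  by_cases hcA : c ∈ A
  · exact Or.inl (hF' c hcA hc2)
  · exact Or.inr (hF' _ (hm hcN (mul_mem (hN a.2) hsN) hcA hsA')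
      (by rw [← mul_assoc ((a : G) * s), ← hc2]))

theorem Four.b1 (hG : IsPGroup 2 G) (h : Four T N) (hT : T ≠ ⊥) (h4 : Nat.card T ≤ 4)
    (hC : ∀ t ∈ T, t ≠ 1 → ∀ y, y * t = t * y → y ∈ N) {V : Subgroup G} [hV : V.Normal]
    (hV2 : ∀ v ∈ V, v * v = 1) (hV8 : 8 ≤ Nat.card V) (hd : V ⊓ T = ⊥) : R 16 G := by
  have : Fact (Nat.Prime 2) := ⟨Nat.prime_two⟩
  set U := V ⊓ N
  have hc : ∀ t ∈ T, ∀ u ∈ U, t * u = u * t := fun t ht u hu => by
    have : t * u * t⁻¹ * u⁻¹ ∈ V ⊓ T := mem_inf.2 ⟨mul_mem (hV.conj_mem u hu.1 t) (inv_mem hu.1), by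
      rw [mul_assoc, mul_assoc, ← mul_assoc u]
      exact mul_mem ht (h.conj_mem hu.2 (inv_mem ht))⟩
    rwa [hd, mem_bot, mul_inv_eq_one, mul_inv_eq_iff_eq_mul] at this
  have hUT : U ⊓ T = ⊥ := eq_bot_iff.2 ((inf_le_inf_right _ inf_le_left).trans hd.le)
  have hU := h.q4 (A := U) (C := ⊥) inf_le_right (hG.to_subgroup _) bot_le hUT.le
    fun a ha => hV2 a ha.1
  have hk : ∀ t ∈ T, t * t = 1 → ∀ v ∈ V, v⁻¹ * (t * v * t⁻¹) ∈ U := fun t ht h2 v hv => by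
    by_cases h1 : t = 1
    · simp [h1]
    have h3 := hV.conj_mem v hv t
    refine mem_inf.2 ⟨mul_mem (inv_mem hv) h3, hC t ht h1 _ ?_⟩
    rw [inv_eq_of_mul_eq_one_right (hV2 v hv)]
    calc v * (t * v * t⁻¹) * t = t * v * t⁻¹ * v * (t * t) * t⁻¹ := by
          rw [comm_of_sq hV2 hv h3]; group
      _ = t * v * (t * t) * t⁻¹ * v * t⁻¹ := by rw [h2]; group
      _ = _ := by group
  obtain ⟨t, ht, ht2⟩ := PN.exists_orderOf_eq_prime (hG.to_subgroup T) hT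
  have ht1 : t ≠ 1 := fun e => by simp [e] at ht2
  replace ht2 : t * t = 1 := by rw [← sq, ← ht2, pow_orderOf_eq_one]
  have h1 := card_le_of_comm (H := V) (C := U) (K := U) (fun a ha b hb => comm_of_sq hV2 ha hb)
    (fun a ha => hV.conj_mem a ha t) (hk t ht ht2) fun a ha e => ⟨ha, hC t ht ht1 a e.symm⟩
  rw [card_bot] at hU
  have hU4 : Nat.card U = 4 := by
    rcases card_cases hG U with e | e | e | e <;> first | omega | (rw [e] at h1; omega)
  have hsc : ∀ c ∈ N, (∀ u ∈ U, c * u = u * c) → ∃ u ∈ U, c * u ∈ T := fun c hc e =>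
    h.sc inf_le_right (by rw [hUT, card_bot, hU4]) hc fun y hy => by rw [e y hy]; simp
  obtain ⟨v₀, hv₀, hv₀'⟩ : ∃ v ∈ V, v ∉ U := SetLike.not_le_iff_exists.1 fun e => by
    have := card_le_of_le e; omega
  rcases card_cases hG T with e | e | e | e
  · exact absurd (card_eq_one.1 e) hT
  · refine r_of_e8 hG hU4 (fun a ha => hV2 a ha.1) ht2
      (fun e => ht1 (mem_bot.1 (hUT.le ⟨e, ht⟩))) (hc t ht) fun c h2 h3 => ?_
    obtain ⟨u, hu, h5⟩ := hsc c (hC t ht ht1 c h3) h2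
    by_cases h6 : c * u = 1
    · exact Or.inl ((mul_mem_cancel_right hu).1 (h6 ▸ one_mem _))
    · have := mul_mem_of_card (bot_le : ⊥ ≤ T) (by simp [e]) h5 ht h6 ht1
      rw [mem_bot, mul_assoc, ← hc t ht u hu, ← mul_assoc] at this
      exact Or.inr ((mul_mem_cancel_right hu).1 (this ▸ one_mem _))
  swap
  · omega
  have hT2 : ∀ r ∈ T, r * r = 1 := fun r hr => by
    by_contra h2
    have h3 : r * r * (r * r) = 1 := by
      have := pow_card_eq_one' (x := (⟨r, hr⟩ : T))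
      rw [e] at this
      simpa [pow_succ, mul_assoc] using congrArg Subtype.val this
    let d : G → G := fun x => x⁻¹ * (r * x * r⁻¹)
    have d1 : ∀ x ∈ V, d x ∈ V := fun x hx => mul_mem (inv_mem hx) (hV.conj_mem x hx r)
    have d2 : ∀ x ∈ V, d (d x) = x⁻¹ * (r * r * x * (r * r)⁻¹) := fun x hx => by
      have := hV2 _ (hV.conj_mem _ (inv_mem hx) r)
      simp only [d]
      rw [inv_eq_of_mul_eq_one_right (hV2 _ (d1 x hx))]
      calc _ = x⁻¹ * (r * x * r⁻¹ * (r * x⁻¹ * r⁻¹)) * (r * r * x * (r * r)⁻¹) := by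
            simp only [d]; group
        _ = _ := by group
    have d3 : ∀ x ∈ U, d x = 1 := fun x hx => by simp [d, hc r hr x hx]
    have d4 : ∀ x ∈ V, d (d x) = 1 → x ∈ U := fun x hx e => ⟨hx, hC _ (mul_mem hr hr) h2 x (by
      rw [d2 x hx, inv_mul_eq_one, eq_mul_inv_iff_mul_eq] at e; exact e)⟩
    refine hv₀' (d4 _ hv₀ (d3 _ (d4 _ (d1 _ hv₀) (d3 _ ?_))))
    rw [d2 _ hv₀]
    exact hk _ (mul_mem hr hr) h3 _ hv₀
  have nU : N ≤ normalizer (U : Set G) :=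
    le_normalizer_inf (le_normalizer_of_normal) le_normalizer
  refine split hG e hT2 hU4 (fun a ha => hV2 a ha.1) (by rw [inf_comm, hUT]) hc
    (sup_le h.1 inf_le_right) h.norm nU hC ?_ fun s hs hs' hss => ?_
  · have := h.idx le_rfl (hG.to_subgroup N)
    have := card_le_of_le (inf_le_right : N ⊓ T ≤ T)
    omega
  have h2 : ∃ u ∈ U, s * u ≠ u * s := by
    by_contra! h2
    obtain ⟨u, hu, h3⟩ := hsc s hs h2
    exact hs' ((mul_mem_cancel_right (mem_sup_right hu)).1 (mem_sup_left h3))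
  refine ⟨?_, h2⟩
  by_contra! h3
  obtain ⟨v, hv, hv', hvs⟩ : ∃ v ∈ V, v ∉ U ∧ v⁻¹ * (s * v * s⁻¹) ∈ U := by
    by_cases h5 : v₀⁻¹ * (s * v₀ * s⁻¹) ∈ U
    · exact ⟨v₀, hv₀, hv₀', h5⟩
    have h6 := hV.conj_mem v₀ hv₀ s
    refine ⟨_, mul_mem (inv_mem hv₀) h6, h5, ?_⟩
    obtain ⟨r, hr, u, hu, h7⟩ := (mem_sup_of_le_normalizer (h.1.trans nU)).1 hss
    rw [inv_eq_of_mul_eq_one_right (hV2 _ (mul_mem (inv_mem hv₀) h6))]
    convert hk r hr (hT2 r hr) v₀ hv₀ using 1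
    calc _ = v₀⁻¹ * (s * s * v₀ * (s * s)⁻¹) := by group
      _ = v₀⁻¹ * (r * (u * v₀) * u⁻¹ * r⁻¹) := by rw [← h7]; group
      _ = _ := by rw [comm_of_sq hV2 hu.1 hv₀]; group
  obtain ⟨u, hu, h5⟩ := h2
  let ψ : T → U := fun r => ⟨_, hk r r.2 (hT2 r r.2) v hv⟩
  have hψ : Function.Injective ψ := fun a b e => by
    by_contra h6
    refine hv' ⟨hv, hC _ (b⁻¹ * a).2 (fun e => h6 (inv_mul_eq_one.1 (Subtype.ext e)).symm) v ?_⟩
    have e' : (a : G) * v * (a : G)⁻¹ = b * v * (b : G)⁻¹ := mul_left_cancel (congrArg Subtype.val e)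
    calc v * ((b : G)⁻¹ * a) = (b : G)⁻¹ * (b * v * (b : G)⁻¹) * a := by group
      _ = _ := by rw [← e']; simp [mul_assoc]
  obtain ⟨r, hr⟩ := ((Nat.bijective_iff_injective_and_card ψ).2 ⟨hψ, by rw [e, hU4]⟩).2 ⟨u, hu⟩
  replace hr : v⁻¹ * (r * v * (r : G)⁻¹) = u := congrArg Subtype.val hr
  refine h5 (mul_inv_eq_iff_eq_mul.1 ?_)
  set w := v⁻¹ * (s * v * s⁻¹) with hw
  calc s * u * s⁻¹ = (v * w)⁻¹ * (s * r * s⁻¹) * (v * w) * (s * r * s⁻¹)⁻¹ := by
        rw [← hr, hw]; group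
    _ = w⁻¹ * (v⁻¹ * (r * v * (r : G)⁻¹)) * (r * w * (r : G)⁻¹) := by rw [h3 r r.2]; group
    _ = _ := by rw [hr, hc r r.2 w hvs, mul_assoc, mul_inv_cancel_right,
      comm_of_sq hV2 hu.1 hvs.1, inv_mul_cancel_left]

/-- Lemma B. -/
theorem Four.b (hG : IsPGroup 2 G) (h : Four T N) (hT : T ≠ ⊥) (hN : N ≠ ⊤) (h4 : Nat.card T ≤ 4)
    (ti : ∀ s, s ∉ N → ∀ t ∈ T, s * t * s⁻¹ ∈ T → t = 1) : R 16 G := by
  have : Fact (Nat.Prime 2) := ⟨Nat.prime_two⟩
  have hC : ∀ t ∈ T, t ≠ 1 → ∀ y, y * t = t * y → y ∈ N := fun t ht h1 y e => by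
    by_contra h2
    exact h1 (ti y h2 t ht (by rwa [e, mul_inv_cancel_right]))
  obtain ⟨V, ⟨hV, hV2⟩, hmax⟩ := Set.exists_max_image
    {V : Subgroup G | V.Normal ∧ ∀ v ∈ V, v * v = 1} (fun V => Nat.card V) (Set.toFinite _)
    ⟨⊥, inferInstance, fun v hv => by simp [mem_bot.1 hv]⟩
  by_cases hV4 : Nat.card V ≤ 4
  · exact r_of_sec (Agent.S0501.result hG fun A hA _ h2 =>
      (hmax A ⟨hA, fun v hv => by rw [← sq, h2 v hv]⟩).trans hV4)
  have hV8 : 8 ≤ Nat.card V := by rcases card_cases hG V with e | e | e | e <;> omega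
  by_cases hd : V ⊓ T = ⊥
  · exact h.b1 hG hT h4 hC hV2 hV8 hd
  obtain ⟨⟨v, hv⟩, hv1⟩ := ne_bot_iff_exists_ne_one.1 hd
  replace hv1 : v ≠ 1 := fun e => hv1 (Subtype.ext e)
  have hVN : V ≤ N := fun y hy => hC v hv.2 hv1 y (comm_of_sq hV2 hy hv.1)
  have h1 := h.q4 (C := V ⊓ T) hVN (hG.to_subgroup _) inf_le_left le_rfl
    fun a ha => hV2 a ha ▸ one_mem _
  have h2 := card_le_of_le (inf_le_right : V ⊓ T ≤ T)
  rcases card_cases hG (V ⊓ T) with e | e | e | e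
  · omega
  · have hcV : ∀ c ∈ centralizer (V : Set G), ∃ y ∈ V, c * y ∈ T := fun c hc =>
      h.sc hVN (by omega) (hC v hv.2 hv1 c (hc v hv.1).symm) fun y hy => by
        rw [← hc y hy]; simp
    have hVC : V ≤ centralizer (V : Set G) := fun a ha b hb => comm_of_sq hV2 hb ha
    by_cases h3 : centralizer (V : Set G) ≤ V
    · exact r_of_sec (Agent.S1232.result hG V ⟨⟨⟨fun a b => Subtype.ext (comm_of_sq hV2 a.2 b.2)⟩⟩,
        fun a ha => by rw [sq, hV2 a ha]⟩ (by omega) (le_antisymm h3 hVC))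
    have hsq : ∀ c ∈ centralizer (V : Set G), ∃ r ∈ T, r ∈ centralizer (V : Set G) ∧
        c * c = r * r := fun c hc => by
      obtain ⟨y, hy, h5⟩ := hcV c hc
      refine ⟨_, h5, mul_mem hc (hVC hy), ?_⟩
      rw [mul_assoc, ← mul_assoc y, hc y hy, mul_assoc, hV2 y hy, mul_one]
    by_cases h5 : ∀ c ∈ centralizer (V : Set G), c * c = 1
    · exact absurd (hmax _ ⟨inferInstance, h5⟩)
        (not_le.2 (card_lt_of_lt (lt_of_le_not_ge hVC h3)))
    push Not at h5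
    obtain ⟨c, hc, h5⟩ := h5
    obtain ⟨r, hr, hr', h6⟩ := hsq c hc
    refine absurd (eq_top_iff.2 fun g _ => ?_) hN
    by_contra hg
    obtain ⟨r', h7, -, h8⟩ := hsq _ ((inferInstance : (centralizer (V : Set G)).Normal).conj_mem r hr' g)
    refine h5 (h6 ▸ ti g hg _ (mul_mem hr hr) ?_)
    rw [← conj_mul, h8]
    exact mul_mem h7 h7
  swap
  · omega
  have hTV : T ≤ V := inf_eq_right.1 (eq_of_le_of_card_ge inf_le_right (by omega))
  have hT4 : Nat.card T = 4 := by omega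
  obtain ⟨s, -, hs, hs'⟩ := PN.exists_mem_normalizer_not_mem (H := N) (K := ⊤)
    (hG.to_subgroup ⊤).isNilpotent le_top fun h0 => hN (top_le_iff.1 h0)
  set U := MulAut.conj s • T
  have hUV : U ≤ V := conj_smul_le_of_mem_normalizer hTV (le_normalizer_of_normal (mem_top s))
  have hU4 : Nat.card U = 4 := by rw [card_conj_smul, hT4]
  have hd' : T ⊓ U = ⊥ := eq_bot_iff.2 fun x hx => ti s⁻¹ (by simpa using hs') x hx.1
    (by simpa using mem_conj_smul_iff.1 hx.2)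
  have nU : N ≤ normalizer (U : Set G) := fun n hn => by
    rw [normalizer_conj_smul, mem_conj_smul_iff]
    exact h.norm (Tr.inv_conj_mem_of_mem_normalizer hs hn)
  have hV' : T ⊔ U = V := eq_of_le_of_card_ge (sup_le hTV hUV) (by
    rw [card_sup_of_disjoint (h.1.trans nU) hd', hT4, hU4]; omega)
  have key : ∀ x ∈ N, x ∉ V → ∃ u ∈ U, x * u ≠ u * x := fun x hx hx' => by
    by_contra! h3
    obtain ⟨u, hu, h5⟩ := h.sc (hUV.trans hVN) (by rw [inf_comm, hd', card_bot, hU4]) hx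
      fun y hy => by rw [h3 y hy]; simp
    exact hx' ((mul_mem_cancel_right (hUV hu)).1 (hTV h5))
  refine split hG hT4 (fun a ha => hV2 a (hTV ha)) hU4 (fun a ha => hV2 a (hUV ha)) hd'
    (fun a ha b hb => comm_of_sq hV2 (hTV ha) (hUV hb)) (hV' ▸ hVN) h.norm nU hC ?_
    fun x hx hx' _ => ⟨?_, key x hx (hV' ▸ hx')⟩
  · have := h.idx le_rfl (hG.to_subgroup N)
    have := card_le_of_le (inf_le_right : N ⊓ T ≤ T)
    omega
  obtain ⟨u, hu, h3⟩ := key _ (Tr.conj_mem_of_mem_normalizer hs hx) fun e =>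
    hx' (hV' ▸ by simpa [mul_assoc] using hV.conj_mem _ e s⁻¹)
  refine ⟨_, mem_conj_smul_iff.1 hu, fun e => h3 ?_⟩
  calc s * x * s⁻¹ * u = s * (x * (s⁻¹ * u * s)) * s⁻¹ := by group
    _ = _ := by rw [e]; group

end CL.Fix4
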