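import Cfsg.Agent.PERM.Fix4B

/-! Two-groups acting on four points with kernel `T` and a regular subgroup `Y` of order four all
of whose nontrivial elements have exactly four fixed points in `T`. -/

set_option autoImplicit false
set_option linter.unusedSectionVars false

namespace CL.Fix4

open Subgroup Cfsg CL CL.SR16 Pointwise

variable {G : Type*} [Group G] [Finite G] {T Y Q : Subgroup G}

structure HA (T Y Q : Subgroup G) : Prop where
  two : IsPGroup 2 G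
  four : Four T ⊤
  y4 : Nat.card Y = 4
  yt : Y ⊓ T = ⊥
  q4 : Nat.card Q = 4
  cen : ∀ r ∈ Y, r ≠ 1 → T ⊓ centralizer ({r} : Set G) = Q

namespace HA

variable (h : HA T Y Q)
include h

theorem cT {x : G} (hx : x ∈ T) (g : G) : g * x * g⁻¹ ∈ T := h.four.conj_mem trivial hx

theorem normal : T.Normal := ⟨fun _ hx g => h.cT hx g⟩

theorem le : Q ≤ T := by
  obtain ⟨a, ha, -, -, h1, -⟩ := exists_two (H := Y) (by rw [h.y4]; norm_num)
  exact h.cen a ha h1 ▸ inf_le_left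

theorem comm {r c : G} (hr : r ∈ Y) (hc : c ∈ Q) : r * c = c * r := by
  by_cases h1 : r = 1
  · simp [h1]
  · exact (mem_centralizer_singleton_iff.1 (h.cen r hr h1 ▸ hc : c ∈ T ⊓ centralizer {r}).2).symm

theorem mem {x r : G} (hx : x ∈ T) (hr : r ∈ Y) (h1 : r ≠ 1) (e : x * r * x⁻¹ * r⁻¹ = 1) : x ∈ Q :=
  h.cen r hr h1 ▸ ⟨hx, mem_centralizer_singleton_iff.2
    (mul_inv_eq_iff_eq_mul.1 (mul_inv_eq_one.1 e))⟩

theorem nQ : Y ≤ normalizer (Q : Set G) :=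
  le_trans (fun _ hr => mem_centralizer_iff.2 fun _ hc => (h.comm hr hc).symm)
    (centralizer_le_normalizer _)

theorem nT (A : Subgroup G) : A ≤ normalizer (T : Set G) := le_top.trans h.four.norm

theorem inf {X : Subgroup G} (hX : X ≤ T) (hn : Y ≤ normalizer (X : Set G)) {p : G}
    (hp : p ∈ Y ⊔ X) (hT : p ∈ T) : p ∈ X := by
  obtain ⟨y, hy, x, hx, rfl⟩ := (mem_sup_of_le_normalizer hn).1 hp
  rwa [mem_bot.1 (h.yt.le ⟨hy, (mul_mem_cancel_right (hX hx)).1 hT⟩), one_mul]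

theorem w16 : Nat.card ↥(Y ⊔ Q) = 16 := by
  rw [card_sup_of_disjoint h.nQ (eq_bot_iff.2 ((inf_le_inf_left _ h.le).trans h.yt.le)), h.y4, h.q4]

theorem cardU : Nat.card ↥(Y ⊔ T) = 4 * Nat.card T := by
  rw [card_sup_of_disjoint (h.nT _) h.yt, h.y4]

theorem mulU {x y : G} (hx : x ∉ Y ⊔ T) (hy : y ∉ Y ⊔ T) : x * y ∈ Y ⊔ T :=
  mul_mem_of_card le_top (by
    have := h.four.idx le_rfl (h.two.to_subgroup ⊤)
    rw [top_inf_eq] at this
    rw [h.cardU]; omega) trivial trivial hx hy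

theorem cU {x : G} (hx : x ∈ Y ⊔ T) (g : G) : g * x * g⁻¹ ∈ Y ⊔ T := by
  by_cases hg : g ∈ Y ⊔ T
  · exact mul_mem (mul_mem hg hx) (inv_mem hg)
  · exact h.mulU (fun e => hg ((mul_mem_cancel_right hx).1 e)) (by simpa using hg)

theorem sc {c : G} (hc : ∀ y ∈ Y, c * y * c⁻¹ * y⁻¹ ∈ T) : c ∈ Y ⊔ T := by
  obtain ⟨y, hy, e⟩ := h.four.sc le_top (by rw [h.yt, card_bot, h.y4]) trivial hc
  exact (mul_mem_cancel_right (mem_sup_left hy)).1 (mem_sup_right e)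

theorem le_of_norm {P : Subgroup G} (h1 : Y ≤ P) (h2 : P ≤ Y ⊔ T)
    (h3 : ∀ n ∈ T, n ∈ normalizer (P : Set G) → n ∈ P) : T ≤ P := by
  have : Fact (Nat.Prime 2) := ⟨Nat.prime_two⟩
  by_contra h4
  obtain ⟨u, hu, hu'⟩ := SetLike.exists_of_lt (Tr.lt_inf_normalizer_of_lt (h.two.to_subgroup _)
    (lt_of_le_not_ge h2 fun e => h4 (le_sup_right.trans e)))
  obtain ⟨y, hy, t, ht, rfl⟩ := (mem_sup_of_le_normalizer (h.nT Y)).1 hu.1
  exact hu' (mul_mem (h1 hy) (h3 t ht ((mul_mem_cancel_left (le_normalizer (h1 hy))).1 hu.2)))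

theorem phi {x r : G} (hx : x ∈ T ⊓ normalizer ((Y ⊔ Q : Subgroup G) : Set G)) (hr : r ∈ Y) :
    x * r * x⁻¹ * r⁻¹ ∈ Q :=
  h.inf h.le h.nQ (mul_mem (Tr.conj_mem_of_mem_normalizer hx.2 (mem_sup_left hr))
    (inv_mem (mem_sup_left hr))) (by
      rw [mul_assoc, mul_assoc, ← mul_assoc r]
      exact mul_mem hx.1 (h.cT (inv_mem hx.1) r))

theorem phi_mul {x a b : G} (hx : x ∈ T ⊓ normalizer ((Y ⊔ Q : Subgroup G) : Set G)) (ha : a ∈ Y)
    (hb : b ∈ Y) : x * (a * b) * x⁻¹ * (a * b)⁻¹ = x * a * x⁻¹ * a⁻¹ * (x * b * x⁻¹ * b⁻¹) := by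
  rw [mul_assoc _ a⁻¹, h.comm (inv_mem ha) (h.phi hx hb)]
  group

theorem cQ {x c : G} (hx : x ∈ T ⊓ normalizer ((Y ⊔ Q : Subgroup G) : Set G)) (hc : c ∈ Q) :
    x * c * x⁻¹ ∈ Q :=
  h.inf h.le h.nQ (Tr.conj_mem_of_mem_normalizer hx.2 (mem_sup_right hc)) (h.cT (h.le hc) x)

theorem small (hX : T ⊓ normalizer ((Y ⊔ Q : Subgroup G) : Set G) ≤ Q) : R 16 G :=
  h.four.add h.two (r4_of_card (h.q4 ▸ card_le_of_le fun _ ht => h.inf h.le h.nQ
    (h.le_of_norm le_sup_left (sup_le_sup_left h.le _)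
      (fun _ h1 h2 => mem_sup_right (hX ⟨h1, h2⟩)) ht) ht))

theorem cyc {r : G} (hr : r ∈ Y) (hr2 : r * r ≠ 1) : R 16 G := by
  set X := T ⊓ normalizer ((Y ⊔ Q : Subgroup G) : Set G) with hXd
  by_cases hX : X ≤ Q
  · exact h.small hX
  have h4 : ∀ {H : Subgroup G}, Nat.card H = 4 → ∀ a ∈ H, a * a * (a * a) = 1 := fun {H} e a ha => by
    have := pow_card_eq_one' (x := (⟨a, ha⟩ : H))
    rw [e] at this
    simpa [pow_succ, mul_assoc] using congrArg Subtype.val this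
  have hz : ∀ {H : Subgroup G}, Nat.card H = 4 → ∀ a ∈ H, a * a ≠ 1 → zpowers a = H :=
    fun e a ha h2 => eq_of_le_of_card_ge (zpowers_le.2 ha) (by
      rw [e, Nat.card_zpowers, orderOf_eq_prime_pow (p := 2) (n := 1) (by simpa [sq] using h2)
        (by simpa [pow_succ, mul_assoc] using h4 e a ha)]
      norm_num)
  have h1 : ∀ x ∈ X, x ∉ Q → x * r * x⁻¹ * r⁻¹ * (x * r * x⁻¹ * r⁻¹) ≠ 1 := fun x hx hx' e =>
    hx' (h.mem hx.1 (mul_mem hr hr) hr2 (by rw [h.phi_mul hx hr hr, e]))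
  have h2 : ∀ x ∈ X, x ∉ Q → ∀ y ∈ X, y ∉ Q → x * y ∈ Q := fun x hx hx' y hy hy' => by
    by_contra h3
    refine h1 _ (mul_mem hx hy) h3 ?_
    have ha := h.cQ hx (h.phi hy hr)
    have hb := h.phi hx hr
    have ha2 : x * (y * r * y⁻¹ * r⁻¹) * x⁻¹ * (x * (y * r * y⁻¹ * r⁻¹) * x⁻¹) ≠ 1 := fun e =>
      h1 y hy hy' (by rwa [conj_mul, conj_eq_one_iff] at e)
    rw [show x * y * r * (x * y)⁻¹ * r⁻¹ = x * (y * r * y⁻¹ * r⁻¹) * x⁻¹ * (x * r * x⁻¹ * r⁻¹) by group]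
    have hb2 := h1 x hx hx'
    generalize x * (y * r * y⁻¹ * r⁻¹) * x⁻¹ = a at ha ha2
    generalize x * r * x⁻¹ * r⁻¹ = b at hb hb2
    have e := Agent.S0213.inv_unique_zpowers (x := a) (Agent.S1235.ord2 (h4 h.q4 a ha) ha2)
      (Agent.S1235.ord2 (h4 h.q4 b hb) hb2) ((hz h.q4 a ha ha2).ge (mul_mem ha ha))
      ((hz h.q4 a ha ha2).ge (mul_mem hb hb))
    rw [mul_assoc, ← mul_assoc b, comm_of_card_four h.q4 hb ha, mul_assoc, ← mul_assoc a, e]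
    exact h4 h.q4 b hb
  have h3 : ∀ x ∈ X, x ∉ Q → ∀ a ∈ Q, x * a * x⁻¹ = a⁻¹ := fun x hx hx' a ha => by
    obtain ⟨i, rfl⟩ := (hz h.q4 _ (h.phi hx hr) (h1 x hx hx')).ge ha
    have e := h.comm hr (h2 x hx hx' x hx hx')
    simp only
    rw [← conj_zpow, ← inv_zpow]
    congr 1
    calc _ = x * x * r * x⁻¹ * r⁻¹ * x⁻¹ := by group
      _ = _ := by rw [← e]; group
  obtain ⟨x₀, hx₀, hx₀'⟩ := SetLike.not_le_iff_exists.1 hX
  have hc := h.phi hx₀ hr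
  have hc2 := h1 x₀ hx₀ hx₀'
  generalize x₀ * r * x₀⁻¹ * r⁻¹ = c at hc hc2
  have nX : Y ≤ normalizer (X : Set G) := le_normalizer_inf (h.nT Y)
    ((le_sup_left.trans le_normalizer).trans le_normalizer)
  have hT : T ≤ Y ⊔ X := h.le_of_norm le_sup_left (sup_le_sup_left inf_le_left _) fun n hn hn' => by
    have hQX : Q ≤ X := le_inf h.le (le_sup_right.trans le_normalizer)
    have hy : n * c * n⁻¹ ∈ X := h.inf inf_le_left nX
      (Tr.conj_mem_of_mem_normalizer hn' (mem_sup_right (hQX hc))) (h.cT (h.le hc) n)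
    have hx : n * r * n⁻¹ * r⁻¹ ∈ X := h.inf inf_le_left nX
      (mul_mem (Tr.conj_mem_of_mem_normalizer hn' (mem_sup_left hr)) (inv_mem (mem_sup_left hr)))
      (by rw [mul_assoc, mul_assoc, ← mul_assoc r]; exact mul_mem hn (h.cT (inv_mem hn) r))
    have hy2 : n * c * n⁻¹ * (n * c * n⁻¹) ≠ 1 := by rwa [conj_mul, Ne, conj_eq_one_iff]
    have e : n * c * n⁻¹ * (n * r * n⁻¹ * r⁻¹ * r) = n * r * n⁻¹ * r⁻¹ * r * (n * c * n⁻¹) := by
      rw [inv_mul_cancel_right, conj_mul, conj_mul, h.comm hr hc]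
    have key : n * c * n⁻¹ ∈ Q ∧ n * r * n⁻¹ * r⁻¹ ∈ Q := by
      generalize n * c * n⁻¹ = y at hy hy2 e
      generalize n * r * n⁻¹ * r⁻¹ = x at hx e
      have e' : y * r * y⁻¹ * r⁻¹ = (y * x * y⁻¹)⁻¹ * x := by
        calc _ = (y * x * y⁻¹)⁻¹ * (y * (x * r)) * y⁻¹ * r⁻¹ := by group
          _ = _ := by rw [e]; group
      have hyQ : y ∈ Q := by
        by_contra h5
        refine h1 y hy h5 ?_
        rw [e']
        by_cases h6 : x ∈ Q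
        · rw [h3 y hy h5 x h6, inv_inv]
          exact h4 h.q4 x h6
        · have h7 := h2 _ (inv_mem hx) (by simpa using h6) y hy h5
          have e2 : (y * x * y⁻¹)⁻¹ * x = (x⁻¹ * y)⁻¹ * (x⁻¹ * y)⁻¹ := by
            calc _ = x * (x⁻¹ * y) * x⁻¹ * (x⁻¹ * y)⁻¹ := by group
              _ = _ := by rw [h3 x hx h6 _ h7]
          rw [e2]
          exact h4 h.q4 _ (inv_mem h7)
      refine ⟨hyQ, ?_⟩
      by_contra h6
      refine hy2 (mul_eq_one_iff_eq_inv.2 ?_)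
      rw [← h3 x hx h6 y hyQ, eq_mul_inv_iff_mul_eq]
      rw [mul_assoc, h.comm hr hyQ, ← mul_assoc, ← mul_assoc] at e
      exact mul_right_cancel e
    refine mem_sup_right ⟨hn, Tr.mem_normalizer_of_conj_mem fun w hw => ?_⟩
    obtain ⟨a, ha, b, hb, rfl⟩ := (mem_sup_of_le_normalizer h.nQ).1 hw
    obtain ⟨i, rfl⟩ := (hz h.y4 r hr hr2).ge ha
    obtain ⟨j, rfl⟩ := (hz h.q4 c hc hc2).ge hb
    simp only
    rw [← conj_mul, ← conj_zpow, ← conj_zpow]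
    exact mul_mem (zpow_mem ((mul_mem_cancel_right (inv_mem (mem_sup_left hr))).1
      (mem_sup_right key.2)) _) (zpow_mem (mem_sup_right key.1) _)
  refine h.four.add h.two (r4_of_cyc (c := c) fun x hx y hy hx' hy' => ?_)
  rw [hz h.q4 c hc hc2] at hx' hy' ⊢
  exact h2 x (h.inf inf_le_left nX (hT hx) hx) hx' y (h.inf inf_le_left nX (hT hy) hy) hy'

section elem

variable (h2 : ∀ r ∈ Y, r * r = 1)
include h2

theorem surj {x : G} (hx : x ∈ T ⊓ normalizer ((Y ⊔ Q : Subgroup G) : Set G)) (hx' : x ∉ Q)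
    {c : G} (hc : c ∈ Q) : ∃ r ∈ Y, x * r * x⁻¹ * r⁻¹ = c := by
  let ψ : Y → Q := fun r => ⟨_, h.phi hx r.2⟩
  have hψ : Function.Injective ψ := fun a b e => by
    by_contra h6
    refine hx' (h.mem hx.1 (a * b).2 (fun e => h6 (Subtype.ext ?_)) ?_)
    · exact mul_right_cancel (e.trans (h2 b b.2).symm)
    · rw [coe_mul, h.phi_mul hx a.2 b.2, show x * a * x⁻¹ * (a : G)⁻¹ = _ from congrArg Subtype.val e,
        ← h.phi_mul hx b.2 b.2, h2 b b.2]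
      simp
  obtain ⟨r, hr⟩ := ((Nat.bijective_iff_injective_and_card ψ).2 ⟨hψ, by rw [h.y4, h.q4]⟩).2 ⟨c, hc⟩
  exact ⟨r, r.2, congrArg Subtype.val hr⟩

theorem q2 (hX : ¬ T ⊓ normalizer ((Y ⊔ Q : Subgroup G) : Set G) ≤ Q) : ∀ c ∈ Q, c * c = 1 := by
  obtain ⟨x, hx, hx'⟩ := SetLike.not_le_iff_exists.1 hX
  intro c hc
  obtain ⟨r, hr, rfl⟩ := h.surj h2 hx hx' hc
  rw [← h.phi_mul hx hr hr, h2 r hr]
  simp

variable (q2 : ∀ c ∈ Q, c * c = 1)
include q2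

theorem e16 : E16 (Y ⊔ Q) := ⟨fun x hx => by
  obtain ⟨t, ht, u, hu, rfl⟩ := (mem_sup_of_le_normalizer h.nQ).1 hx
  rw [mul_assoc, ← mul_assoc u, ← h.comm ht hu, mul_assoc, q2 u hu, mul_one, h2 t ht], h.w16⟩

theorem cenQ {x c : G} (hx : x ∈ T ⊓ normalizer ((Y ⊔ Q : Subgroup G) : Set G)) (hc : c ∈ Q) :
    x * c = c * x := by
  have : Fact (Nat.Prime 2) := ⟨Nat.prime_two⟩
  by_cases hx' : x ∈ Q
  · exact comm_of_sq q2 hx' hc
  have e : ∀ r, x * x * r * (x * x)⁻¹ * r⁻¹ = x * (x * r * x⁻¹ * r⁻¹) * x⁻¹ * (x * r * x⁻¹ * r⁻¹) :=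
    fun r => by group
  obtain ⟨⟨d, hd⟩, h1⟩ := ne_bot_iff_exists_ne_one.1
    (PN.inf_centralizer_ne_bot_of_isPGroup (h.two.to_subgroup Q) (h.two.to_subgroup (zpowers x))
      (zpowers_le.2 (Tr.mem_normalizer_of_conj_mem fun _ => h.cQ hx)) fun e => by
        simpa [e] using h.q4)
  obtain ⟨r, hr, rfl⟩ := h.surj h2 hx hx' hd.1
  have h3 := h.mem (mul_mem hx.1 hx.1) hr (fun e => h1 (Subtype.ext (by simp [e])))
    (by rw [e, hd.2 x (mem_zpowers x), mul_inv_cancel_right, q2 _ hd.1])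
  obtain ⟨r, hr, rfl⟩ := h.surj h2 hx hx' hc
  have h4 := e r
  rw [← h.comm hr h3, mul_inv_cancel_right, mul_inv_cancel, ← q2 _ hc] at h4
  exact mul_inv_eq_iff_eq_mul.1 (mul_right_cancel h4).symm

/-- commutators of elements of `U ∩ N(W)` with `W`. -/
theorem psi {p w : G} (hp : p ∈ Y ⊔ T) (hp' : p ∈ normalizer ((Y ⊔ Q : Subgroup G) : Set G))
    (hw : w ∈ Y ⊔ Q) : p * w * p⁻¹ * w⁻¹ ∈ Q ∧ (∀ c ∈ Q, p * c = c * p) ∧
      (w ∉ Q → p * w = w * p → p ∈ Y ⊔ Q) := by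
  obtain ⟨y, hy, x, hx, rfl⟩ := (mem_sup_of_le_normalizer (h.nT Y)).1 hp
  have hx' : x ∈ T ⊓ normalizer ((Y ⊔ Q : Subgroup G) : Set G) :=
    ⟨hx, (mul_mem_cancel_left (le_normalizer (mem_sup_left hy))).1 hp'⟩
  have e : y * x * w * (y * x)⁻¹ = x * w * x⁻¹ := by
    calc _ = y * (x * w * x⁻¹) * y⁻¹ := by group
      _ = _ := by rw [comm_of_sq (h.e16 h2 q2).1 (mem_sup_left hy)
        (Tr.conj_mem_of_mem_normalizer hx'.2 hw), mul_inv_cancel_right]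
  obtain ⟨r, hr, c, hc, rfl⟩ := (mem_sup_of_le_normalizer h.nQ).1 hw
  have e2 : y * x * (r * c) * (y * x)⁻¹ * (r * c)⁻¹ = x * r * x⁻¹ * r⁻¹ := by
    calc _ = x * r * (c * x⁻¹) * c⁻¹ * r⁻¹ := by rw [e]; group
      _ = _ := by rw [← h.cenQ h2 q2 (inv_mem hx') hc]; group
  refine ⟨e2 ▸ h.phi hx' hr, fun d hd => ?_, fun h3 h4 => mul_mem_sup hy
    (h.mem hx hr (fun e => h3 (by simpa [e] using hc)) (by rw [← e2, h4]; group))⟩
  rw [mul_assoc, h.cenQ h2 q2 hx' hd, ← mul_assoc, h.comm hy hd, mul_assoc]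

theorem cardP : Nat.card ↥((Y ⊔ T) ⊓ normalizer ((Y ⊔ Q : Subgroup G) : Set G)) ≤ 64 := by
  obtain ⟨r, hr, -, -, h1, -⟩ := exists_two (H := Y) (by rw [h.y4]; norm_num)
  let φ : ↥((Y ⊔ T) ⊓ normalizer ((Y ⊔ Q : Subgroup G) : Set G)) →* G :=
    MonoidHom.mk' (fun a => a * r * (a : G)⁻¹ * r⁻¹) fun a b => by
      have := (h.psi h2 q2 a.2.1 a.2.2 (mem_sup_left hr)).2.1 _
        (h.psi h2 q2 b.2.1 b.2.2 (mem_sup_left hr)).1
      simp only [coe_mul]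
      calc _ = a * (b * r * (b : G)⁻¹ * r⁻¹) * r * (a : G)⁻¹ * r⁻¹ := by group
        _ = b * r * (b : G)⁻¹ * r⁻¹ * (a * r * (a : G)⁻¹ * r⁻¹) := by rw [this]; group
        _ = _ := comm_of_sq q2 (h.psi h2 q2 b.2.1 b.2.2 (mem_sup_left hr)).1
          (h.psi h2 q2 a.2.1 a.2.2 (mem_sup_left hr)).1
  have := card_le_of_hom (C := Y ⊔ Q) (K := Q) φ
    (fun a => (h.psi h2 q2 a.2.1 a.2.2 (mem_sup_left hr)).1) fun a ha =>
      (h.psi h2 q2 a.2.1 a.2.2 (mem_sup_left hr)).2.2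
        (fun e => h1 (mem_bot.1 (h.yt.le ⟨hr, h.le e⟩)))
        (mul_inv_eq_iff_eq_mul.1 (mul_inv_eq_one.1 ha))
  rwa [h.w16, h.q4] at this

theorem beta (hN : normalizer ((Y ⊔ Q : Subgroup G) : Set G) ≠ ⊤) : R 16 G := by
  have : Fact (Nat.Prime 2) := ⟨Nat.prime_two⟩
  have hW := h.e16 h2 q2
  have hP := h.cardP h2 q2
  have psi := @h.psi _ _ _ _ _ _ h2 q2
  set W := Y ⊔ Q
  set N := normalizer (W : Set G)
  set P := (Y ⊔ T) ⊓ N
  obtain ⟨x, -, hxN, hxT⟩ := PN.exists_mem_normalizer_not_mem (H := N) (K := ⊤)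
    (h.two.to_subgroup ⊤).isNilpotent le_top fun h0 => hN (top_le_iff.1 h0)
  obtain ⟨m, hn', hn2⟩ := Agent.S1235.exists_sq_mem h.two hxT
  have hn := pow_mem hxN m
  generalize x ^ m = n at hn hn' hn2
  have nP : n ∈ normalizer (P : Set G) := Tr.mem_normalizer_of_conj_mem fun p hp =>
    ⟨h.cU hp.1 n, Tr.conj_mem_of_mem_normalizer hn hp.2⟩
  have hWP : W ≤ P := le_inf (sup_le_sup_left h.le _) le_normalizer
  set W' := MulAut.conj n • W with hW'd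
  have hW' : E16 W' := hW.conj n
  have hW'P : W' ≤ P := conj_smul_le_of_mem_normalizer hWP nP
  have h1 : W' ⊓ W ≤ Q := fun w hw => by
    by_contra h3
    refine hn' (conj_smul_eq_iff_mem_normalizer.1 (eq_of_le_of_card_ge (fun p hp => ?_)
      (by rw [hW.2, hW'.2])))
    exact (psi (hW'P hp).1 (hW'P hp).2 hw.2).2.2 h3 (comm_of_sq hW'.1 hp hw.1)
  have h3 := card_sup_mul_card_inf_of_le_normalizer (hW'P.trans inf_le_right)
  have h4 := card_le_of_le h1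
  have h5 := card_le_of_le (sup_le hW'P hWP)
  rw [hW.2, hW'.2] at h3
  rw [h.q4] at h4
  have h6 : W' ⊔ W = P := eq_of_le_of_card_ge (sup_le hW'P hWP) (by nlinarith)
  have h7 : W' ⊓ W = Q := eq_of_le_of_card_ge h1 (by rw [h.q4]; nlinarith)
  have h8 : ∀ p ∈ P, p * p = 1 → p ∈ W ∨ p ∈ W' := fun p hp e => by
    obtain ⟨a, ha, b, hb, rfl⟩ := (mem_sup_of_le_normalizer (hW'P.trans inf_le_right)).1 (h6.ge hp)
    by_cases h9 : b ∈ Q
    · exact Or.inr (mul_mem ha (h7.ge h9).1)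
    · refine Or.inl (mul_mem ((psi (hW'P ha).1 (hW'P ha).2 hb).2.2 h9 ?_) hb)
      rw [eq_inv_of_mul_eq_one_left e, mul_inv_rev, inv_eq_of_mul_eq_one_right (hW.1 b hb),
        inv_eq_of_mul_eq_one_right (hW'.1 a ha)]
  refine r_of_sec (Agent.S0501.result h.two fun V hV _ hV2 => ?_)
  have h9 : V ⊓ P ≤ Q := h7 ▸ le_inf_of_swap (T := W) hW'd.symm
    (by rw [hW'd, conj_smul_conj_smul, conj_smul_eq_iff_mem_normalizer.2 hn2])
    (fun p hp => ⟨by simpa using hV.conj_mem p hp.1 n⁻¹, Tr.inv_conj_mem_of_mem_normalizer nP hp.2⟩)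
    (le_or_le fun p hp => h8 p hp.2 (by rw [← sq, hV2 p hp.1]))
  refine h.q4 ▸ card_le_of_le (le_trans (le_inf le_rfl ?_) h9)
  by_contra h10
  obtain ⟨u, hu, hu'⟩ := SetLike.exists_of_lt (Tr.lt_inf_normalizer_of_lt
    (h.two.to_subgroup (P ⊔ V)) (lt_of_le_not_ge le_sup_left fun e => h10 (le_sup_right.trans e)))
  obtain ⟨p, hp, v, hv, rfl⟩ := (mem_sup_of_le_normalizer le_normalizer_of_normal).1 hu.1
  have h11 := (mul_mem_cancel_left (le_normalizer hp)).1 hu.2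
  have h12 : ∀ w ∈ W, v * w * v⁻¹ * w⁻¹ ∈ Q := fun w hw => h9 (mem_inf.2 ⟨by
    rw [mul_assoc, mul_assoc, ← mul_assoc w]
    exact mul_mem hv (hV.conj_mem _ (inv_mem hv) w),
    mul_mem (Tr.conj_mem_of_mem_normalizer h11 (hWP hw)) (inv_mem (hWP hw))⟩)
  exact hu' (mul_mem hp ⟨h.sc fun y hy => h.le (h12 y (mem_sup_left hy)),
    Tr.mem_normalizer_of_conj_mem fun w hw =>
      (mul_mem_cancel_right (inv_mem hw)).1 (mem_sup_right (h12 w hw))⟩)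

theorem alpha (hN : normalizer ((Y ⊔ Q : Subgroup G) : Set G) = ⊤) : R 16 G := by
  have hW := h.e16 h2 q2
  have hP := h.cardP h2 q2
  have hn : ∀ g, g ∈ normalizer ((Y ⊔ Q : Subgroup G) : Set G) := fun g => hN ▸ mem_top g
  have psi := fun {p w : G} (hp : p ∈ Y ⊔ T) => h.psi h2 q2 (w := w) hp (hn p)
  rw [hN, inf_top_eq] at hP
  have h0 := h.four.idx le_rfl (h.two.to_subgroup ⊤)
  have hU := h.cardU
  rw [top_inf_eq] at h0
  set W := Y ⊔ Q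
  set U := Y ⊔ T
  have hWU : W ≤ U := sup_le_sup_left h.le _
  have cW : ∀ w ∈ W, ∀ g, g * w * g⁻¹ ∈ W := fun w hw g => Tr.conj_mem_of_mem_normalizer (hn g) hw
  have hs : ∀ s, s ∉ U → ∃ r ∈ Y, s * r * s⁻¹ * r⁻¹ ∉ Q := fun s hs => by
    by_contra! h3
    exact hs (h.sc fun y hy => h.le (h3 y hy))
  have hrel : ∀ A K : Subgroup G, W ≤ K → Nat.card A * 16 ≤ Nat.card ↥(A ⊓ W) * Nat.card ↥(A ⊔ W) :=
    fun A K _ => by rw [mul_comm _ (Nat.card ↥(A ⊔ W)),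
      card_sup_mul_card_inf_of_le_normalizer fun g _ => hn g, hW.2]
  have key : ∀ A : Subgroup G, (∀ a ∈ A, a * a ∈ W) → Nat.card A ≤ 4 * Nat.card ↥(A ⊓ W) := by
    intro A hA
    by_cases h1 : A ≤ U
    · have := hrel A W le_rfl
      have := card_le_of_le (sup_le h1 hWU)
      nlinarith
    obtain ⟨s, hsA, hsU⟩ := SetLike.not_le_iff_exists.1 h1
    have h3 := card_le_two_mul (E := A) (N := U) fun x _ y _ => h.mulU
    have h4 := card_le_two_mul (E := A ⊓ U) (N := W) fun x hx y hy hx' hy' => by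
      by_contra h5
      obtain ⟨r, hr, h6⟩ := hs s hsU
      have hw : s * r * s⁻¹ * r⁻¹ ∈ W := mul_mem (cW r (mem_sup_left hr) s) (inv_mem (mem_sup_left hr))
      have eqv : ∀ a ∈ A, ∀ w ∈ W, s * (a * w * a⁻¹ * w⁻¹) * s⁻¹ =
          a * (s * w * s⁻¹) * a⁻¹ * (s * w * s⁻¹)⁻¹ := fun a ha w hw => by
        calc _ = a * (a⁻¹ * (s * a * s⁻¹) * (s * w * s⁻¹)) * (a⁻¹ * (s * a * s⁻¹))⁻¹ * a⁻¹ *
            (s * w * s⁻¹)⁻¹ := by group
          _ = _ := by rw [comm_of_sq hW.1 (comm_mem hA ha hsA) (cW w hw s)]; group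
      have e0 : s * (s * r * s⁻¹ * r⁻¹) * s⁻¹ = s * r * s⁻¹ * r⁻¹ := by
        calc _ = s * s * r * (s * s)⁻¹ * (s * r * s⁻¹)⁻¹ := by group
          _ = (s * r * s⁻¹ * r⁻¹)⁻¹ := by rw [comm_of_sq hW.1 (hA s hsA) (mem_sup_left hr)]; group
          _ = _ := inv_eq_of_mul_eq_one_right (hW.1 _ hw)
      generalize hw0 : s * r * s⁻¹ * r⁻¹ = w at hw h6 e0
      have nz : ∀ a ∈ U, a ∉ W → a * w * a⁻¹ * w⁻¹ ≠ 1 := fun a ha ha' e =>
        ha' ((psi ha hw).2.2 h6 (mul_inv_eq_iff_eq_mul.1 (mul_inv_eq_one.1 e)))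
      have h7 : Q ⊓ centralizer ({s} : Set G) = Q := by
        by_contra h8
        have h9 := two_mul_le (lt_of_le_of_ne inf_le_left h8)
        have mem : ∀ a ∈ A ⊓ U, a * w * a⁻¹ * w⁻¹ ∈ Q ⊓ centralizer ({s} : Set G) := fun a ha =>
          ⟨(psi ha.2 hw).1, mem_centralizer_singleton_iff.2 (by
            have := eqv a ha.1 w hw
            rw [e0] at this
            exact (mul_inv_eq_iff_eq_mul.1 this).symm)⟩
        have := mul_mem_of_card (bot_le : ⊥ ≤ Q ⊓ centralizer ({s} : Set G))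
          (by rw [h.q4] at h9; rw [card_bot]; omega) (mem y hy) (mem x hx) (nz y hy.2 hy') (nz x hx.2 hx')
        refine nz _ (mul_mem hx.2 hy.2) h5 ?_
        rw [← mem_bot.1 this]
        calc _ = x * (y * w * y⁻¹ * w⁻¹) * w * x⁻¹ * w⁻¹ := by group
          _ = _ := by rw [(psi hx.2 hw).2.1 _ (psi hy.2 hw).1]; group
      have h8 := mem_centralizer_singleton_iff.1 (h7.ge (psi hx.2 (mem_sup_left hr)).1).2
      have h9 := eqv x hx.1 r (mem_sup_left hr)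
      rw [← h8, mul_inv_cancel_right, show s * r * s⁻¹ = w * r by rw [← hw0]; group] at h9
      refine nz x hx.2 hx' ?_
      calc _ = x * (w * r) * x⁻¹ * (x * r * x⁻¹)⁻¹ * w⁻¹ := by group
        _ = x * (w * r) * x⁻¹ * (w⁻¹ * (x * r * x⁻¹)⁻¹) := by
          rw [mul_assoc _ _ w⁻¹, comm_of_sq hW.1 (inv_mem (cW r (mem_sup_left hr) x)) (inv_mem hw)]
        _ = x * (w * r) * x⁻¹ * (r⁻¹ * w⁻¹) * (w * r * w⁻¹) * (x * r * x⁻¹)⁻¹ := by group
        _ = 1 := by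
          rw [← mul_inv_rev, ← h9, comm_of_sq hW.1 hw (mem_sup_left hr)]; group
    rw [inf_assoc, inf_of_le_right hWU] at h4
    omega
  intro A B hB hsq
  have hB0 : 0 < Nat.card B := Nat.card_pos
  by_cases h1 : A ⊓ U ≤ W
  · have h3 := card_le_two_mul (E := A) (N := U) fun x _ y _ => h.mulU
    have h4 := card_le_of_le h1
    rw [hW.2] at h4
    by_cases h5 : A ≤ U
    · rw [inf_of_le_left h5] at h4; omega
    by_cases h6 : A ⊓ U = W
    · obtain ⟨s, hsA, hsU⟩ := SetLike.not_le_iff_exists.1 h5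
      obtain ⟨r, hr, h7⟩ := hs s hsU
      have h8 := comm_mem hsq (inv_mem (h6.ge (mem_sup_left hr)).1) hsA
      have : B ≠ ⊥ := fun e => h7 (by
        rw [e, mem_bot] at h8
        rw [show s * r * s⁻¹ * r⁻¹ = (r⁻¹⁻¹ * (s * r⁻¹ * s⁻¹))⁻¹ by group, h8]; simp)
      have := (one_lt_card_iff_ne_bot _).2 this
      omega
    · have := two_mul_le (lt_of_le_of_ne h1 h6)
      rw [hW.2] at this
      omega
  obtain ⟨a, ha, ha'⟩ := SetLike.not_le_iff_exists.1 h1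
  refine glue (m := 4) (n := 4) (W := W) hB (fun g _ => hn g) ?_ ?_
  · by_cases h3 : B ≤ W
    · exact (key A fun x hx => h3 (hsq x hx)).trans
        (Nat.mul_le_mul_left _ (card_le_of_le le_sup_right))
    have h4 := two_mul_le (lt_of_le_not_ge (le_sup_right : A ⊓ W ≤ B ⊔ A ⊓ W)
      fun e => h3 ((le_sup_left.trans e).trans inf_le_right))
    have := hrel A W le_rfl
    have := card_le_of_le (le_top : A ⊔ W ≤ ⊤)
    nlinarith
  · rw [← h.q4]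
    refine card_le_of_comm (y := a) (fun x hx y hy => comm_of_sq hW.1 hx.2 hy.2)
      (fun x hx => mem_inf.2 ⟨mul_mem (mul_mem (mem_inf.1 ha).1 (mem_inf.1 hx).1)
        (inv_mem (mem_inf.1 ha).1), cW x hx.2 a⟩)
      (fun x hx => mem_inf.2 ⟨comm_mem hsq hx.1 ha.1, mul_mem (inv_mem hx.2) (cW x hx.2 a)⟩)
      fun x hx e => ?_
    by_contra h3
    exact ha' ((psi ha.2 hx.2).2.2 h3 e)

end elem

/-- Lemma A. -/
theorem rank : R 16 G := by
  by_cases h2 : ∀ r ∈ Y, r * r = 1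
  · by_cases hX : T ⊓ normalizer ((Y ⊔ Q : Subgroup G) : Set G) ≤ Q
    · exact h.small hX
    by_cases hN : normalizer ((Y ⊔ Q : Subgroup G) : Set G) = ⊤
    exacts [h.alpha h2 (h.q2 h2 hX) hN, h.beta h2 (h.q2 h2 hX) hN]
  · push Not at h2
    obtain ⟨r, hr, h2⟩ := h2
    exact h.cyc hr h2

end HA

end CL.Fix4
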