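import Mathlib

/-!
A linear group over a prime field with an irreducible abelian normal subgroup is semilinear of
dimension one.
-/

set_option autoImplicit false

namespace CL.GammaL1

universe u in
theorem exists_structure {p : ℕ} [hp : Fact p.Prime] {V : Type u} [AddCommGroup V]
    [Module (ZMod p) V] [Finite V] [Nontrivial V] {H : Type*} [Group H]
    (ρ : H →* Module.End (ZMod p) V) (M : Subgroup H) [hM : M.Normal]
    (hc : ∀ m ∈ M, ∀ n ∈ M, ρ m * ρ n = ρ n * ρ m)
    (hirr : ∀ W : Submodule (ZMod p) V, (∀ m ∈ M, ∀ w ∈ W, ρ m w ∈ W) → W = ⊥ ∨ W = ⊤) :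
    (∃ (C : Type u) (_ : CommGroup C) (χ : M →* C), IsCyclic C ∧ ∀ m : M, χ m = 1 → ρ m = 1) ∧
    (∀ i, 0 < i → (∀ m ∈ M, ρ m ^ p ^ i = ρ m) → Module.finrank (ZMod p) V ≤ i) ∧
    ∃ (C : Type u) (_ : Group C) (ψ : H →* C), IsCyclic C ∧
      Nat.card C = Module.finrank (ZMod p) V ∧
      (∀ h, ψ h = 1 → ∀ m ∈ M, ρ h * ρ m = ρ m * ρ h) ∧ ∀ m ∈ M, ψ m = 1 := by
  classical
  let K := Algebra.adjoin (ZMod p) (ρ '' M)
  have hKinv : ∀ W : Submodule (ZMod p) V, (∀ m ∈ M, ∀ w ∈ W, ρ m w ∈ W) →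
      ∀ x ∈ K, ∀ w ∈ W, x w ∈ W := by
    intro W hW x hx
    induction hx using Algebra.adjoin_induction with
    | mem x hx => obtain ⟨m, hm, rfl⟩ := hx; exact hW m hm
    | algebraMap r => intro w hw; simpa using W.smul_mem r hw
    | add x y _ _ hx hy => intro w hw; exact W.add_mem (hx w hw) (hy w hw)
    | mul x y _ _ hx hy => intro w hw; exact hx _ (hy w hw)
  have hcomm : ∀ x ∈ K, ∀ y ∈ K, x * y = y * x := by
    intro x hx y hy
    refine Algebra.commute_of_mem_adjoin_of_forall_mem_commute hy fun z hz => ?_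
    refine (Algebra.commute_of_mem_adjoin_of_forall_mem_commute hx fun w hw => ?_).symm
    obtain ⟨m, hm, rfl⟩ := hz
    obtain ⟨n, hn, rfl⟩ := hw
    exact hc m hm n hn
  have hρK : ∀ m ∈ M, ρ m ∈ K := fun m hm => Algebra.subset_adjoin ⟨m, hm, rfl⟩
  have hinj : ∀ x ∈ K, ∀ v, v ≠ 0 → x v = 0 → x = 0 := by
    intro x hx v hv h
    rcases hirr (LinearMap.ker x) (fun m hm w hw => by
      rw [LinearMap.mem_ker] at hw ⊢
      rw [← Module.End.mul_apply, hcomm x hx _ (hρK m hm), Module.End.mul_apply, hw, map_zero])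
      with h1 | h1
    · exact absurd ((Submodule.mem_bot _).mp (h1 ▸ (LinearMap.mem_ker.mpr h))) hv
    · exact LinearMap.ker_eq_top.mp h1
  obtain ⟨v, hv⟩ := exists_ne (0 : V)
  let ev : K →ₗ[ZMod p] V := (LinearMap.applyₗ v).comp K.val.toLinearMap
  have hev : ∀ x : K, ev x = x.1 v := fun _ => rfl
  have hbij : Function.Bijective ev := by
    constructor
    · rw [injective_iff_map_eq_zero]
      exact fun x hx => Subtype.ext (hinj x x.2 v hv hx)
    · rw [← LinearMap.range_eq_top]
      refine (hirr _ ?_).resolve_left fun h => hv ?_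
      · rintro m hm _ ⟨x, rfl⟩
        exact ⟨⟨ρ m, hρK m hm⟩ * x, rfl⟩
      · have : v ∈ LinearMap.range ev := ⟨1, rfl⟩
        rwa [h, Submodule.mem_bot] at this
  have hfin : Finite K := Finite.of_injective _ hbij.1
  have hrank : Module.finrank (ZMod p) K = Module.finrank (ZMod p) V :=
    (LinearEquiv.ofBijective ev hbij).finrank_eq
  have hK : IsField K :=
    { exists_pair_ne := ⟨0, 1, fun h => hv (by simpa [hev] using (congrArg ev h).symm)⟩
      mul_comm := fun x y => Subtype.ext (hcomm x x.2 y y.2)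
      mul_inv_cancel := fun {x} hx => by
        have h1 : Function.Injective fun y : K => x * y := by
          intro y z h
          have h2 : x.1 (ev (y - z)) = 0 := by
            have : x * (y - z) = 0 := by rw [mul_sub]; exact sub_eq_zero.mpr h
            exact congrArg (fun u : K => u.1 v) this
          by_contra hne
          exact hx (Subtype.ext (hinj x x.2 _
            (fun h3 => hne (sub_eq_zero.mp (hbij.1 (h3.trans (map_zero ev).symm)))) h2))
        exact Finite.surjective_of_injective h1 1 }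
  let _ : Field K := hK.toField
  refine ⟨⟨(↥K)ˣ, inferInstance, MonoidHom.toHomUnits
    { toFun := fun m => ⟨ρ m, hρK m m.2⟩
      map_one' := Subtype.ext (map_one ρ)
      map_mul' := fun m n => Subtype.ext (map_mul ρ _ _) }, inferInstance, fun m h => ?_⟩,
    fun i hi h => ?_, ?_⟩
  · exact congrArg (fun u : (↥K)ˣ => (u : K).1) h
  · have : CharP K p := charP_of_injective_algebraMap (algebraMap (ZMod p) K).injective p
    have h1 : ∀ x : K, x ^ p ^ i = x := by
      rintro ⟨x, hx⟩
      induction hx using Algebra.adjoin_induction with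
      | mem x hx => obtain ⟨m, hm, rfl⟩ := hx; exact Subtype.ext (h m hm)
      | algebraMap r =>
        change algebraMap (ZMod p) K r ^ p ^ i = algebraMap (ZMod p) K r
        rw [← map_pow, ZMod.pow_card_pow]
      | add x y hx' hy' hx hy =>
        change ((⟨x, hx'⟩ : K) + ⟨y, hy'⟩) ^ p ^ i = (⟨x, hx'⟩ : K) + ⟨y, hy'⟩
        rw [add_pow_char_pow, hx, hy]
      | mul x y hx' hy' hx hy =>
        change ((⟨x, hx'⟩ : K) * ⟨y, hy'⟩) ^ p ^ i = (⟨x, hx'⟩ : K) * ⟨y, hy'⟩
        rw [mul_pow, hx, hy]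
    have := Fintype.ofFinite K
    have h2 := Polynomial.card_le_degree_of_subset_roots (Z := (Finset.univ : Finset K))
      (p := (Polynomial.X ^ p ^ i - Polynomial.X : Polynomial K)) (fun x _ => by
        rw [Polynomial.mem_roots (FiniteField.X_pow_card_pow_sub_X_ne_zero K hi.ne' hp.out.one_lt)]
        simp [h1])
    rw [FiniteField.X_pow_card_pow_sub_X_natDegree_eq K hi.ne' hp.out.one_lt, Finset.card_univ,
      Module.card_eq_pow_finrank (K := ZMod p), ZMod.card, hrank] at h2
    exact (Nat.pow_le_pow_iff_right hp.out.one_lt).mp h2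
  · have h1 : ∀ h : H, ρ h⁻¹ * ρ h = 1 := fun h => by rw [← map_mul, inv_mul_cancel, map_one]
    have h2 : ∀ (h : H) (x : Module.End (ZMod p) V), ρ h⁻¹ * (ρ h * x) = x := fun h x => by
      rw [← mul_assoc, h1, one_mul]
    have h1' : ∀ h : H, ρ h * ρ h⁻¹ = 1 := fun h => by rw [← map_mul, mul_inv_cancel, map_one]
    let c₀ : H → Module.End (ZMod p) V →ₐ[ZMod p] Module.End (ZMod p) V := fun h =>
      { toFun := fun x => ρ h * x * ρ h⁻¹
        map_one' := by rw [mul_one, h1']
        map_mul' := fun x y => by simp only [mul_assoc, h2]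
        map_zero' := by simp
        map_add' := fun x y => by simp [mul_add, add_mul]
        commutes' := fun r => by rw [← Algebra.commutes, mul_assoc, h1', mul_one] }
    have hc₀ : ∀ h, ∀ x : K, ((c₀ h).comp K.val) x ∈ K := by
      intro h x
      have : K.map (c₀ h) ≤ K := by
        rw [AlgHom.map_adjoin]
        apply Algebra.adjoin_mono
        rintro _ ⟨_, ⟨m, hm, rfl⟩, rfl⟩
        exact ⟨h * m * h⁻¹, hM.conj_mem m hm h, by simp [c₀]⟩
      exact this ⟨x, x.2, rfl⟩
    let c : H →* (K →ₐ[ZMod p] K) :=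
      { toFun := fun h => ((c₀ h).comp K.val).codRestrict K (hc₀ h)
        map_one' := by ext1 x; apply Subtype.ext; simp [c₀]
        map_mul' := fun g h => by ext1 x; apply Subtype.ext; simp [c₀, mul_assoc] }
    refine ⟨K ≃ₐ[ZMod p] K, inferInstance,
      (AlgEquiv.algHomUnitsEquiv (ZMod p) K).toMonoidHom.comp c.toHomUnits, inferInstance,
      by rw [IsGalois.card_aut_eq_finrank, hrank], fun h hh m hm => ?_, fun m hm => ?_⟩
    swap
    · ext1 x
      apply Subtype.ext
      change ρ m * x * ρ m⁻¹ = x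
      rw [hcomm _ (hρK m hm) x x.2, mul_assoc, h1', mul_one]
    have h3 : ρ h * ρ m * ρ h⁻¹ = ρ m :=
      congrArg (fun u : K ≃ₐ[ZMod p] K => (u ⟨ρ m, hρK m hm⟩).1) hh
    calc ρ h * ρ m = ρ h * ρ m * ρ h⁻¹ * ρ h := by rw [mul_assoc _ (ρ h⁻¹), h1, mul_one]
      _ = _ := by rw [h3]

end CL.GammaL1
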