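import Mathlib
import Cfsg.Agent.PERM.McL3D
import Cfsg.Agent.SPOR.HU.P12
import Cfsg.Agent.SPOR.HK.Defs

/-!
The three-local characterization of the Harada–Norton group: codes in `A₁₂` and interfaces.
Blocks `B0 = {0,1,2}`, `B1 = {3,4,5}`, `B2 = {6,7,8}`, `B3 = {9,10,11}`; hex digit `p` of a code is the image of `p`.
-/

set_option autoImplicit false
set_option maxRecDepth 100000

namespace CL.HN3

open CL.K CL.HU CL.McL3

/-- the element with a given code -/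
noncomputable def el (c : ℕ) : A12 := CG.elt cd c

/-- `(0 1 2)` -/ def kc0 : ℕ := 0xba9876543021
/-- `(3 4 5)` -/ def kc1 : ℕ := 0xba9876354210
/-- `(6 7 8)` -/ def kc2 : ℕ := 0xba9687543210
/-- `(9 10 11)` -/ def kc3 : ℕ := 0x9ba876543210
/-- `(0 3)(1 4)(2 5)(9 10)` -/ def kt : ℕ := 0xb9a876210543
/-- `(6 7)(9 10)` -/ def ks1 : ℕ := 0xb9a867543210
/-- `(0 1)(3 4)` -/ def ks2 : ℕ := 0xba9876534201
/-- `s1 s2` -/ def kw : ℕ := 0xb9a867534201
/-- `c0 c1` -/ def ky : ℕ := 0xba9876354021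
/-- `c0 c1 c2` -/ def kz : ℕ := 0xba9687354021
/-- `c0 c1 c2⁻¹` -/ def ks : ℕ := 0xba9768354021
/-- `c0 c1⁻¹` -/ def kx : ℕ := 0xba9876435021
/-- `c2⁻¹ c3` -/ def ki0 : ℕ := 0x9ba768543210
/-- `c2⁻¹ c3⁻¹` -/ def ki1 : ℕ := 0xa9b768543210
/-- `(6 7)(8 11)` -/ def kv1 : ℕ := 0x8a9b67543210
/-- `c2 v1 c2⁻¹` -/ def kv2 : ℕ := 0x6a978b543210
/-- `c2 v2 c2⁻¹` -/ def kv3 : ℕ := 0x7a96b8543210
/-- `(0 3)(1 4)` -/ def ku1 : ℕ := 0xba9876510243
/-- `y u1 y⁻¹` -/ def ku2 : ℕ := 0xba9876213540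
/-- `y u2 y⁻¹` -/ def ku3 : ℕ := 0xba9876240513

theorem el_cd (σ : A12) : el (cd σ) = σ := isCode.elt_code σ
theorem ev_cd (σ : A12) : Ev (cd σ) := CG.mem_top σ
theorem cd_el {a : ℕ} (h : Ev a) : cd (el a) = a := h.code_elt
theorem el_one : el c1 = 1 := isCode.elt_one
theorem el_cm {a b : ℕ} (ha : Ev a) (hb : Ev b) : el (cm a b) = el a * el b := isCode.elt_mul ha hb
theorem el_inj {a b : ℕ} (ha : Ev a) (hb : Ev b) (h : el a = el b) : a = b := CG.elt_inj ha hb h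
theorem cd_mul (σ ρ : A12) : cd (σ * ρ) = cm (cd σ) (cd ρ) := (isCode.map_mul σ ρ).symm
theorem cd_one : cd 1 = c1 := isCode.map_one

theorem el_ci {a : ℕ} (ha : Ev a) : el (ci a) = (el a)⁻¹ := by
  obtain ⟨σ, -, rfl⟩ := ha
  rw [ci_cd, el_cd, el_cd]

theorem cj_eq (k c : ℕ) : cj k c = cm (cm k c) (ci k) := force_eq _ _
theorem ev_cj {k c : ℕ} (hk : Ev k) (hc : Ev c) : Ev (cj k c) := cj_eq k c ▸ (hk.mul hc).mul hk.inv
theorem el_cj {k c : ℕ} (hk : Ev k) (hc : Ev c) : el (cj k c) = el k * el c * (el k)⁻¹ := by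
  rw [cj_eq, el_cm (hk.mul hc) hk.inv, el_cm hk hc, el_ci hk]

/-- use as `el_mul (by decide +kernel)` -/
theorem el_mul {a b c : ℕ} (h : (evB a && evB b && Nat.beq (cm a b) c) = true) :
    el a * el b = el c := by
  simp only [Bool.and_eq_true, Nat.beq_eq] at h
  rw [← h.2, el_cm (ev_of h.1.1) (ev_of h.1.2)]

theorem el_sq {a : ℕ} (h : (evB a && evB a && Nat.beq (cm a a) c1) = true) : el a * el a = 1 :=
  (el_mul h).trans el_one

theorem el_conj {k a b : ℕ} (h : (evB k && evB a && Nat.beq (cj k a) b) = true) :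
    el k * el a * (el k)⁻¹ = el b := by
  simp only [Bool.and_eq_true, Nat.beq_eq] at h
  rw [← h.2, el_cj (ev_of h.1.1) (ev_of h.1.2)]

theorem el_comm {a b : ℕ} (h : (evB a && evB b && Nat.beq (cm a b) (cm b a)) = true) :
    el a * el b = el b * el a := by
  simp only [Bool.and_eq_true, Nat.beq_eq] at h
  rw [← el_cm (ev_of h.1.1) (ev_of h.1.2), h.2, el_cm (ev_of h.1.2) (ev_of h.1.1)]

theorem el_inv {a b : ℕ} (h : (evB a && evB b && Nat.beq (cm a b) c1) = true) : (el a)⁻¹ = el b :=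
  inv_eq_of_mul_eq_one_right ((el_mul h).trans el_one)

theorem el_cube {a : ℕ} (h : (evB a && Nat.beq (cm (cm a a) a) c1) = true) : el a ^ 3 = 1 := by
  simp only [Bool.and_eq_true, Nat.beq_eq] at h
  have := ev_of h.1
  rw [pow_three', ← el_cm this this, ← el_cm (this.mul this) this, h.2, el_one]

theorem el_ne {a b : ℕ} (h : (evB a && evB b && !Nat.beq a b) = true) : el a ≠ el b := by
  simp only [Bool.and_eq_true, Bool.not_eq_true'] at h
  exact fun e => Nat.ne_of_beq_eq_false h.2 (el_inj (ev_of h.1.1) (ev_of h.1.2) e)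

/-- the search through all `σ` with `σ a = b σ` for `(a, b) ∈ cons` -/
theorem el_solve {cons : List (ℕ × ℕ)} {P : ℕ → Bool}
    (h : (solve cons P && cons.all fun ab => evB ab.1 && evB ab.2) = true) {σ : A12}
    (H : ∀ ab ∈ cons, σ * el ab.1 = el ab.2 * σ) : P (cd σ) = true := by
  simp only [Bool.and_eq_true, List.all_eq_true] at h
  refine solve_spec h.1 (ev_cd σ) fun ab hab => ?_
  have := congrArg cd (H ab hab)
  rwa [cd_mul, cd_mul, cd_el (ev_of (h.2 ab hab).1), cd_el (ev_of (h.2 ab hab).2)] at this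

variable {G : Type*} [Group G]

/-- `Φ` maps the normaliser of `⟨c⟩` in `A₁₂` isomorphically onto the normaliser of `⟨Φ c⟩` -/
structure N9 (c : A12) (Φ : A12 → G) : Prop where
  mul : ∀ a b, NZ c a → NZ c b → Φ (a * b) = Φ a * Φ b
  inj : ∀ a, NZ c a → Φ a = 1 → a = 1
  all : ∀ g, NZ (Φ c) g → ∃ a, NZ c a ∧ Φ a = g

theorem NZ.cj {z g : G} (h : NZ z g) (k : G) : NZ (k * z * k⁻¹) (k * g * k⁻¹) := by
  have e : k * g * k⁻¹ * (k * z * k⁻¹) * (k * g * k⁻¹)⁻¹ = k * (g * z * g⁻¹) * k⁻¹ := by group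
  rcases h with h | h
  · exact .inl (by rw [e, h])
  · exact .inr (by rw [e, h, conj_inv])

theorem N9.cj {c : A12} {Φ : A12 → G} (h : N9 c Φ) (ρ : A12) (g : G) :
    N9 (ρ * c * ρ⁻¹) fun a => g * Φ (ρ⁻¹ * a * ρ) * g⁻¹ := by
  have k : ∀ {a}, NZ (ρ * c * ρ⁻¹) a → NZ c (ρ⁻¹ * a * ρ) := fun e => by
    simpa [mul_assoc] using NZ.cj e ρ⁻¹
  refine ⟨fun a b ha hb => ?_, fun a ha e => ?_, fun x e => ?_⟩
  · rw [conj_mul, ← h.mul _ _ (k ha) (k hb)]; congr 3; group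
  · have := h.inj _ (k ha) (conj_eq_one_iff.1 e)
    simpa [mul_assoc] using congrArg (fun x => ρ * x * ρ⁻¹) this
  · obtain ⟨a, ha, e'⟩ := h.all (g⁻¹ * x * g) (by simpa [mul_assoc] using NZ.cj e g⁻¹)
    exact ⟨_, NZ.cj ha ρ, by simp [mul_assoc, e']⟩

/-- the alternating group `Λ`, and the elements `i`, `r` of the centraliser of `t` and `z` -/
structure Li (Λ : A12 →* G) (i r : G) : Prop where
  inj : Function.Injective Λ
  nz : ∀ g, NZ (Λ (el kc0)) g → g ∈ Λ.range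
  nzy : ¬ IsConj (Λ (el kz)) (Λ (el kc0))
  nut : ¬ IsConj (Λ (el kt)) (Λ (el kv1))
  ii : i * i = Λ (el kt)
  i0 : i * Λ (el kc0) * i⁻¹ = Λ (el ki0)
  i1 : i * Λ (el kc1) * i⁻¹ = Λ (el ki1)
  i2 : i * Λ (el kc2) * i⁻¹ = Λ (el ky)
  i3 : i * Λ (el kc3) * i⁻¹ = Λ (el kx)
  is2 : i * Λ (el ks2) * i⁻¹ = Λ (el ks1)
  z1 : ∀ g, g * Λ (el kz) = Λ (el kz) * g → g ^ 3 = 1 → g * i * g⁻¹ = i ∨ g * i * g⁻¹ = i⁻¹ →
    g ∈ Subgroup.zpowers (Λ (el kz))
  rr : r * r = Λ (el kt)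
  rz : r * Λ (el kz) = Λ (el kz) * r
  rs : (r * Λ (el ks)) ^ 9 = 1 ∨ (r * Λ (el ks)) ^ 9 = Λ (el kt)
  ri : (r * i) ^ 15 = 1 ∨ (r * i) ^ 15 = Λ (el kt)
  rx : r * Λ (el kx) * r⁻¹ * Λ (el kc3) = Λ (el kc3) * (r * Λ (el kx) * r⁻¹)
  rx' : r * Λ (el kx) * r⁻¹ * Λ (el kx) ≠ Λ (el kx) * (r * Λ (el kx) * r⁻¹)
  rc' : r * Λ (el kc3) * r⁻¹ * Λ (el kc3) ≠ Λ (el kc3) * (r * Λ (el kc3) * r⁻¹)
  rc : r * Λ (el kc3) * r⁻¹ * Λ (el kx) = Λ (el kx) * (r * Λ (el kc3) * r⁻¹)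

namespace Li
variable {Λ : A12 →* G} {i r : G} (h : Li Λ i r)
include h

theorem nz' {k c : ℕ} (e : (evB k && evB kc0 && Nat.beq (cj k kc0) c) = true) {g : G}
    (hg : NZ (Λ (el c)) g) : g ∈ Λ.range := by
  rw [← el_conj e, map_mul, map_mul, map_inv] at hg
  have := h.nz ((Λ (el k))⁻¹ * g * Λ (el k)) (by simpa [mul_assoc] using NZ.cj hg (Λ (el k))⁻¹)
  exact (Λ.range.mul_mem_cancel_left (Λ.range.inv_mem ⟨_, rfl⟩)).1
    ((Λ.range.mul_mem_cancel_right ⟨_, rfl⟩).1 this)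

theorem nz1 {g : G} (hg : NZ (Λ (el kc1)) g) : g ∈ Λ.range := h.nz' (k := kt) (by decide +kernel) hg
theorem nz2 {g : G} (hg : NZ (Λ (el kc2)) g) : g ∈ Λ.range :=
  h.nz' (k := 0xb9a210543876) (by decide +kernel) hg
theorem nz3 {g : G} (hg : NZ (Λ (el kc3)) g) : g ∈ Λ.range :=
  h.nz' (k := 0x210876534ba9) (by decide +kernel) hg

omit h in
theorem tt : Λ (el kt) * Λ (el kt) = 1 := by rw [← map_mul, el_sq (by decide +kernel), map_one]

theorem it : i * Λ (el kt) = Λ (el kt) * i := by rw [← h.ii, mul_assoc]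

/-- if `i a i⁻¹ = b` then `i b i⁻¹ = t a t⁻¹` -/
theorem flip {a b c : ℕ} (e : i * Λ (el a) * i⁻¹ = Λ (el b))
    (e' : (evB kt && evB a && Nat.beq (cj kt a) c) = true) : i * Λ (el b) * i⁻¹ = Λ (el c) := by
  rw [← e, ← el_conj e', map_mul, map_mul, map_inv, ← h.ii]; group

theorem iy : i * Λ (el ky) * i⁻¹ = Λ (el kc2) := h.flip h.i2 (by decide +kernel)
theorem is1 : i * Λ (el ks1) * i⁻¹ = Λ (el ks2) := h.flip h.is2 (by decide +kernel)
theorem ix : i * Λ (el kx) * i⁻¹ = (Λ (el kc3))⁻¹ := by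
  rw [h.flip h.i3 (c := 0xa9b876543210) (by decide +kernel), ← map_inv,
    el_inv (b := 0xa9b876543210) (by decide +kernel)]

omit h in
theorem mul {a b c : ℕ} (e : (evB a && evB b && Nat.beq (cm a b) c) = true) :
    Λ (el a) * Λ (el b) = Λ (el c) := by rw [← map_mul, el_mul e]

omit h in
theorem comm {a b : ℕ} (e : (evB a && evB b && Nat.beq (cm a b) (cm b a)) = true) :
    Λ (el a) * Λ (el b) = Λ (el b) * Λ (el a) := by rw [← map_mul, el_comm e, map_mul]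

omit h in
theorem conj {k a b : ℕ} (e : (evB k && evB a && Nat.beq (cj k a) b) = true) :
    Λ (el k) * Λ (el a) * (Λ (el k))⁻¹ = Λ (el b) := by rw [← el_conj e, map_mul, map_mul, map_inv]

theorem iz : i * Λ (el kz) * i⁻¹ = Λ (el kz) := by
  rw [← mul (a := ky) (b := kc2) (by decide +kernel), ← conj_mul, h.iy, h.i2,
    comm (by decide +kernel)]

theorem iw : i * Λ (el kw) * i⁻¹ = Λ (el kw) := by
  rw [← mul (a := ks1) (b := ks2) (by decide +kernel), ← conj_mul, h.is1, h.is2,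
    comm (by decide +kernel)]

theorem iu1 : i * Λ (el ku1) * i⁻¹ = Λ (el kv1) := by
  have k : ∀ {a b}, i * Λ (el a) * i⁻¹ = Λ (el b) → Λ (el ku1) * Λ (el a) = Λ (el a) * Λ (el ku1) →
      i * Λ (el ku1) * i⁻¹ * Λ (el b) = Λ (el b) * (i * Λ (el ku1) * i⁻¹) := fun e e' => by
    rw [← e, conj_mul, conj_mul, e']
  have a1 := k h.i2 (comm (by decide +kernel))
  have a2 := k h.i3 (comm (by decide +kernel))
  have a3 := k h.is2 (comm (by decide +kernel))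
  have a4 := k (a := kt) (b := kt) (by rw [h.it]; simp) (comm (by decide +kernel))
  have a5 : i * Λ (el ku1) * i⁻¹ * Λ (el kc0) = Λ (el kc0) * (i * Λ (el ku1) * i⁻¹) := by
    have : (Λ (el ky) * Λ (el kx))⁻¹ = Λ (el kc0) := by
      rw [mul (c := 0xba9876543102) (by decide +kernel), ← map_inv, el_inv (b := kc0) (by decide +kernel)]
    exact this ▸ ((show Commute _ _ from a1).mul_right a2).inv_right
  obtain ⟨σ, e⟩ := h.nz _ (.of_comm a5)
  have a6 : σ * (el kc2 * σ * (el kc2)⁻¹) * (el kc2 * (el kc2 * σ * (el kc2)⁻¹) * (el kc2)⁻¹) = 1 :=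
    h.inj (by
      simp only [map_mul, map_inv, map_one, e, ← h.iy, conj_inv, conj_mul]
      rw [conj (b := ku2) (by decide +kernel), conj (b := ku3) (by decide +kernel),
        mul (c := ku3) (by decide +kernel), ← map_mul, el_sq (by decide +kernel)]
      simp)
  have a7 : σ ≠ 1 := fun e' => by
    rw [e', map_one, eq_comm, conj_eq_one_iff, map_eq_one_iff _ h.inj, ← el_one] at e
    exact el_ne (by decide +kernel) e
  have a9 : cm (cd σ) (cd σ) = c1 := by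
    rw [← cd_mul, ← cd_one]
    exact congrArg cd (h.inj (by
      rw [map_mul, e, conj_mul, ← map_mul, el_sq (by decide +kernel)]; simp))
  rw [← e] at a1 a2 a3 a4 ⊢
  have := el_solve (cons := [(ky, ky), (kx, kx), (ks1, ks1), (kt, kt)]) (σ := σ)
    (P := fun c => Nat.beq c c1 || Nat.beq c kv1 || !Nat.beq (cm c c) c1 ||
      !Nat.beq (cm (cm c (cj kc2 c)) (cj kc2 (cj kc2 c))) c1) (by decide +kernel) (by
      simp only [List.mem_cons, List.not_mem_nil, or_false, forall_eq_or_imp, forall_eq]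
      exact ⟨h.inj (by simpa using a1), h.inj (by simpa using a2), h.inj (by simpa using a3),
        h.inj (by simpa using a4)⟩)
  have c2 : Ev kc2 := ev_of (by decide +kernel)
  have a8 := congrArg cd a6
  rw [← el_cd σ, ← el_cj c2 (ev_cd σ), ← el_cj c2 (ev_cj c2 (ev_cd σ)), cd_mul, cd_mul, cd_one,
    cd_el (ev_cd σ), cd_el (ev_cj c2 (ev_cd σ)), cd_el (ev_cj c2 (ev_cj c2 (ev_cd σ)))] at a8
  simp only [a8, a9, Nat.beq_refl, Bool.not_true, Bool.or_false, Bool.or_eq_true, Nat.beq_eq] at this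
  rcases this with e' | e'
  · exact absurd (by rw [← el_cd σ, e', el_one]) a7
  · rw [← e', el_cd]

theorem iu2 : i * Λ (el ku2) * i⁻¹ = Λ (el kv2) := by
  rw [← conj (k := ky) (a := ku1) (by decide +kernel), ← conj_mul, ← conj_mul, ← conj_inv, h.iy, h.iu1,
    conj (b := kv2) (by decide +kernel)]

theorem iu3 : i * Λ (el ku3) * i⁻¹ = Λ (el kv3) := by
  rw [← conj (k := ky) (a := ku2) (by decide +kernel), ← conj_mul, ← conj_mul, ← conj_inv, h.iy, h.iu2,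
    conj (b := kv3) (by decide +kernel)]

theorem iv1 : i * Λ (el kv1) * i⁻¹ = Λ (el ku1) := h.flip h.iu1 (by decide +kernel)
theorem iv2 : i * Λ (el kv2) * i⁻¹ = Λ (el ku2) := h.flip h.iu2 (by decide +kernel)
theorem iv3 : i * Λ (el kv3) * i⁻¹ = Λ (el ku3) := h.flip h.iu3 (by decide +kernel)

end Li

/-- `g` normalises `E`, centralises `t` and acts on the codes by `f` -/
def NA (t : G) (E : Subgroup G) (κ : G → ℕ) (g : G) (f : ℕ → ℕ) : Prop :=
  (∀ y ∈ E, g * y * g⁻¹ ∈ E) ∧ HK.Ac t E κ g f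

/-- elements of `E ∩ A₁₂` of type `2⁶` and their codes -/
def LF : List (ℕ × ℕ) := [(0x852b67a34901, 21), (0x830b6745a129, 22), (0x841b673a5092, 23), (0x65278ba34901, 45), (0x63078b45a129, 46), (0x64178b3a5092, 47), (0x7526b8a34901, 57), (0x7306b845a129, 58), (0x7416b83a5092, 59), (0x825b67934a01, 84), (0x62578b934a01, 108), (0x7256b8934a01, 120), (0x814b673950a2, 148), (0x61478b3950a2, 172), (0x7146b83950a2, 184), (0x803b6745912a, 212), (0x60378b45912a, 236), (0x7036b845912a, 248)]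

/-- the extraspecial group `E` -/
structure Ex (Λ : A12 →* G) (i r : G) (E : Subgroup G) (κ : G → ℕ) : Prop
    extends Li Λ i r, HK.EK (Λ (el kt)) E κ where
  aI : NA (Λ (el kt)) E κ i (HK.mm 20)
  aS : NA (Λ (el kt)) E κ (Λ (el ks)) (HK.mm 194)
  aZ : NA (Λ (el kt)) E κ (Λ (el kz)) (HK.mm · 194)
  aC : NA (Λ (el kt)) E κ (Λ (el kc2)) (HK.act 194 131 0)
  a2 : NA (Λ (el kt)) E κ (Λ (el ks2)) (HK.fe 1)
  aW : NA (Λ (el kt)) E κ (Λ (el kw)) (HK.act 20 20 0)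
  v1 : Λ (el kv1) ∈ E ∧ κ (Λ (el kv1)) = 20
  v2 : Λ (el kv2) ∈ E ∧ κ (Λ (el kv2)) = 44
  u1 : Λ (el ku1) ∈ E ∧ κ (Λ (el ku1)) = 65
  kF : ∀ p ∈ LF, Λ (el p.1) ∈ E ∧ κ (Λ (el p.1)) = p.2
  cV : ∀ g, g * Λ (el kt) = Λ (el kt) * g → g * Λ (el kv1) = Λ (el kv1) * g →
    g * Λ (el kv2) = Λ (el kv2) * g → ∃ a b e, HK.SL a ∧ HK.SL b ∧ e < 2 ∧
      NA (Λ (el kt)) E κ g (HK.act a b e) ∧ ((∀ X < 256, HK.act a b e X = X) → g ∈ E)
  d1 : ∃ g, g * Λ (el kt) * g⁻¹ ∈ E ∧ κ (g * Λ (el kt) * g⁻¹) = 1 ∧ g⁻¹ * Λ (el kt) * g ∈ E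

end CL.HN3
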