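import Mathlib
import Cfsg.Agent.PERM.McL3D
import Cfsg.Agent.INV.SylowRel

/-! The three-local characterization of the Harada–Norton group: the Thompson subgroup. -/

set_option autoImplicit false
set_option linter.unusedSectionVars false
open Subgroup CL.Odd Equiv CL.McL3

namespace CL.HN3

variable {G : Type*} [Group G]

theorem three_mul_le [Finite G] {A B : Subgroup G} (hB : IsPGroup 3 B) (h : A ≤ B) {x : G} (hx : x ∈ B)
    (hx' : x ∉ A) : 3 * Nat.card A ≤ Nat.card B := by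
  obtain ⟨n, hn⟩ := hB.index (A.subgroupOf B)
  have e := (A.subgroupOf B).card_mul_index
  rw [Nat.card_congr (subgroupOfEquivOfLe h).toEquiv, hn] at e
  obtain _ | n := n
  · exact absurd (relIndex_eq_one.1 hn hx) hx'
  · rw [← e, mul_comm 3]
    exact Nat.mul_le_mul_left _ (Nat.le_of_dvd (by positivity) (dvd_pow_self 3 n.succ_ne_zero))

section L

variable {S Q L : Subgroup G} {z t : G} {π : L →* SL5} (h : HypL S Q L z π) [Finite G]
include h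

theorem cent3 {q : G} (hq : q ∈ Q) (hq' : q ∉ zpowers z) : IsPGroup 3 (L ⊓ cz q : Subgroup G) := by
  refine IsPGroup.of_card (n := (Nat.card (L ⊓ cz q : Subgroup G)).primeFactorsList.length) ?_
  refine (Nat.prod_primeFactorsList Nat.card_pos.ne').symm.trans (List.prod_eq_pow_card _ _
    fun p hp => ?_)
  have pp := Nat.prime_of_mem_primeFactorsList hp
  have := Fact.mk pp
  obtain ⟨⟨x, hx⟩, ho⟩ := exists_prime_orderOf_dvd_card' p (Nat.dvd_of_mem_primeFactorsList hp)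
  rw [orderOf_mk] at ho
  have x1 : x ≠ 1 := fun e => pp.one_lt.ne (by rw [← ho, e, orderOf_one])
  have d : p ∣ 2 ^ 3 * 3 ^ 6 * 5 := (Nat.dvd_of_mem_primeFactorsList hp).trans
    ((card_dvd_of_le inf_le_left).trans (by rw [h.cL]; norm_num))
  rcases pp.dvd_mul.1 d with d | d
  · rcases pp.dvd_mul.1 d with d | d
    · obtain rfl := (Nat.prime_dvd_prime_iff_eq pp Nat.prime_two).1 (pp.dvd_of_dvd_pow d)
      obtain ⟨y, hy⟩ := rel_of_mem π hx.1
      have x2 : x ^ 2 = 1 := ho ▸ pow_orderOf_eq_one x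
      rcases sl_inv (a := y) ((pow_two y).symm.trans (hy.pow_eq_one x2)) with rfl | rfl
      · exact absurd (by rw [show x = x ^ 3 * (x ^ 2)⁻¹ by group, h.Q3 x ((h.kL x).1 hy), x2]; simp) x1
      · exact absurd (h.neg hy hq (Stb.of_comm (h.Lz x hx.1) (mem_cz'.1 hx.2))) hq'
    · exact (Nat.prime_dvd_prime_iff_eq pp Nat.prime_three).1 (pp.dvd_of_dvd_pow d)
  · obtain rfl := (Nat.prime_dvd_prime_iff_eq pp Nat.prime_five).1 d
    exact absurd ((h.five (h.Lz x hx.1) (ho ▸ pow_orderOf_eq_one x) x1 le_rfl h.zQ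
      (h.nQ x (.of_comm (h.Lz x hx.1)))).2 ⟨hq, mem_cz_comm.1 hx.2⟩) hq'

theorem pQ : IsPGroup 3 Q := h.pS.to_le h.QS

theorem lift (ht : Rel π t (-1)) (tt : t * t = 1) {g : G} (hg : g ∈ L) :
    ∃ q ∈ Q, q * g * t = t * (q * g) := by
  obtain ⟨x, hx⟩ := rel_of_mem π hg
  exact exists_mul_comm (pQ h) tt ((h.kL _).1 ((((hx.mul ht).mul hx.inv).mul ht.inv).congr (by simp)))

theorem lift' (ht : Rel π t (-1)) (tt : t * t = 1) (x : SL5) : ∃ g, Rel π g x ∧ g * t = t * g := by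
  obtain ⟨l, hl⟩ := h.sL x
  obtain ⟨q, hq, e⟩ := lift h ht tt hl.mem
  exact ⟨_, (((h.kL q).2 hq).mul hl).congr (one_mul x), e⟩

theorem ker (ht : Rel π t (-1)) {g : G} (hg : g ∈ Q) (e : g * t = t * g) : g ∈ zpowers z :=
  h.neg ht hg (Stb.of_comm (h.Lz t ht.mem) e.symm)

/-- all of the coset `q Z` is conjugate to `q` -/
theorem coset {q c : G} (hq : q ∈ Q) (hq' : q ∉ zpowers z) (hc : c ∈ zpowers z) :
    ∃ a ∈ Q, a * q * a⁻¹ = c * q := by
  obtain ⟨a, ha, n⟩ : ∃ a ∈ Q, a * q * a⁻¹ * q⁻¹ ≠ 1 := by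
    by_contra! k
    exact hq' (h.CQ q fun a ha => (mul_inv_eq_iff_eq_mul.1 (mul_inv_eq_one.1 (k a ha))).symm)
  have m := h.Qc a ha q hq
  generalize hd : a * q * a⁻¹ * q⁻¹ = d at m n
  have e1 : a * q * a⁻¹ = d * q := by rw [← hd]; group
  have e2 : a⁻¹ * q * a⁻¹⁻¹ = d⁻¹ * q := by
    obtain ⟨k, rfl⟩ := m
    have c := ((show Commute a z from h.zS a (h.QS ha)).zpow_right k).inv_inv.eq
    calc _ = a⁻¹ * (z ^ k)⁻¹ * (z ^ k * q) * a := by group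
      _ = _ := by rw [← e1, c]; group
  rcases (mem_zpowers_three h.z3).1 hc with rfl | rfl | rfl
  · exact ⟨1, one_mem _, by simp⟩
  · rcases (mem_zpowers_three h.z3).1 m with e | e | e
    exacts [absurd e n, ⟨a, ha, e ▸ e1⟩, ⟨_, inv_mem ha, by rw [e2, e, inv_inv]⟩]
  · rcases (mem_zpowers_three h.z3).1 m with e | e | e
    exacts [absurd e n, ⟨_, inv_mem ha, e ▸ e2⟩, ⟨a, ha, e ▸ e1⟩]

end L

/-- the hypotheses, with the subgroup `J` -/
structure HJ (S Q L J : Subgroup G) (z : G) (π : L →* SL5) : Prop extends HypL S Q L z π where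
  cL : ∀ g, g * z = z * g → g ∈ L
  JS : J ≤ S
  Jc : ∀ a ∈ J, ∀ b ∈ J, a * b = b * a
  J3 : ∀ a ∈ J, a ^ 3 = 1
  cJ : Nat.card J = 81

namespace HJ

variable {S Q L J : Subgroup G} {z : G} {π : L →* SL5} (h : HJ S Q L J z π) [Finite G]
include h

theorem pJ : IsPGroup 3 J := h.pS.to_le h.JS

theorem fixJ {q : G} (hq : q ∈ Q) : q ∈ J ↔ S ≤ Stb z q := (h.ab_fix h.JS h.Jc h.cJ).2.2 q hq

theorem zJ : z ∈ J := (h.fixJ h.zQ).2 fun s hs => Stb.of_comm (h.zS s hs) (h.zS s hs)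

theorem weakS {g : G} (hg : ∀ x ∈ J, g * x * g⁻¹ ∈ S) : g ∈ Nm J := by
  have hA : J.map (MulAut.conj g).toMonoidHom ≤ S := by rintro _ ⟨x, hx, rfl⟩; exact hg x hx
  have hc : ∀ a ∈ J.map (MulAut.conj g).toMonoidHom, ∀ b ∈ J.map (MulAut.conj g).toMonoidHom,
      a * b = b * a := by
    rintro _ ⟨x, hx, rfl⟩ _ ⟨y, hy, rfl⟩; rw [← map_mul, h.Jc x hx y hy, map_mul]
  have := (h.ab_fix hA hc ((Tr.card_map_conj J g).trans h.cJ)).2.2
  exact Tr.mem_normalizer_of_conj_mem fun x hx => h.ab_cent h.JS h.Jc h.cJ (hg x hx) fun e he hq =>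
    hc e ((this e hq).2 ((h.fixJ hq).1 he)) _ ⟨x, hx, rfl⟩

theorem SN : S ≤ Nm J := fun _ hs => h.weakS fun _ hx => mul_mem (mul_mem hs (h.JS hx)) (inv_mem hs)

theorem JN : J ≤ Nm J := h.JS.trans h.SN

theorem exists_conj_S {R : Subgroup G} (hR : IsPGroup 3 R) (hN : R ≤ Nm J) :
    ∃ n ∈ Nm J, ∀ x ∈ R, n * x * n⁻¹ ∈ S :=
  Tr.exists_conj_le_sylowIn h.pS (fun d => h.iS (d.trans (relIndex_dvd_index_of_le h.SN))) hR hN

theorem weak {g : G} (hg : ∀ x ∈ J, g * x * g⁻¹ ∈ Nm J) : g ∈ Nm J := by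
  obtain ⟨n, hn, hn'⟩ := h.exists_conj_S (h.pJ.map (MulAut.conj g).toMonoidHom)
    (by rintro _ ⟨x, hx, rfl⟩; exact hg x hx)
  exact (mul_mem_cancel_left hn).1 (h.weakS fun x hx => by
    simpa [mul_assoc] using hn' _ ⟨x, hx, rfl⟩)

theorem le_N {R : Subgroup G} (hR : IsPGroup 3 R) (hJ : J ≤ R) : R ≤ Nm J := fun r hr => by
  obtain ⟨k, hk⟩ := exists_conj_le_of_isPGroup h.pS h.iS hR
  exact (mul_mem_cancel_left (h.weakS fun x hx => hk x (hJ hx))).1 (h.weakS fun x hx => by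
    simpa [mul_assoc] using hk _ (mul_mem (mul_mem hr (hJ hx)) (inv_mem hr)))

theorem fusion {x g : G} (hx : x ∈ J) (hg : g * x * g⁻¹ ∈ J) :
    ∃ n ∈ Nm J, n * x * n⁻¹ = g * x * g⁻¹ := by
  obtain ⟨R, h1, h2, h3, h4⟩ := Tr.exists_sylowIn_ge (H := cz (g * x * g⁻¹)) h.pJ
    fun y hy => mem_cz'.2 (h.Jc y hy _ hg)
  obtain ⟨c, hc, hc'⟩ := Tr.exists_conj_le_sylowIn h3 h4 (h.pJ.map (MulAut.conj g).toMonoidHom)
    (by rintro _ ⟨y, hy, rfl⟩; exact conj_mem_cz g (mem_cz'.2 (h.Jc y hy x hx)))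
  refine ⟨c * g, h.weak fun y hy => ?_, by rw [← mem_cz.1 hc]; group⟩
  simpa [mul_assoc] using h.le_N h3 h1 (hc' _ ⟨y, hy, rfl⟩)

theorem nzS {g x : G} (hg : NZ z g) (hx : x ∈ J) (hx' : x ∉ zpowers z) (hgx : g * x * g⁻¹ ∈ J) :
    ∀ s ∈ S, g * s * g⁻¹ ∈ S := fun s hs => by
  by_cases hq : x ∈ Q
  · obtain ⟨a, ha, ha'⟩ := (h.ab_fix h.JS h.Jc h.cJ).2.1
    obtain ⟨k, hk⟩ := h.S3 hs
    have hq' := h.nQ g hg x hq
    exact h.uniq (k := k) (h.JS ha) ha' (by rw [conj_pow, hk]; simp) hq'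
      (fun e => hx' (by simpa [mul_assoc] using hg.inv.conj_mem e)) ((h.fixJ hq').1 hgx (h.JS ha))
      (Stb.conj ((h.fixJ hq).1 hx hs) hg)
  · exact h.S_le (h.JS hx) hq (K := S.comap (MulAut.conj g).toMonoidHom)
      (fun q hq => h.QS (h.nQ g hg q hq)) (h.JS hgx) hs

theorem nS_N {g : G} (hg : ∀ s ∈ S, g * s * g⁻¹ ∈ S) : g ∈ Nm J := h.weakS fun x hx => hg x (h.JS hx)

theorem nS_Z {g : G} (hg : ∀ s ∈ S, g * s * g⁻¹ ∈ S) : NZ z g :=
  h.nZ_of_nS fun _ hs => Tr.inv_conj_mem_of_mem_normalizer (Tr.mem_normalizer_of_conj_mem hg) hs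

/-- `J` is self-centralizing -/
theorem CJ {g : G} (hg : ∀ x ∈ J, g * x = x * g) : g ∈ J := by
  have gz := hg z h.zJ
  have n := NZ.of_comm gz
  have g3 := h.CQ (g ^ 3) fun q hq => by
    have hj : q⁻¹ * (g * q * g⁻¹) ∈ J := h.ab_cent h.JS h.Jc h.cJ
      (h.QS (mul_mem (inv_mem hq) (h.nQ g n q hq))) fun e he he' => by
        obtain ⟨k, hk⟩ := h.Qc q hq e he'
        have e1 : q * e * q⁻¹ = z ^ k * e := by rw [show z ^ k = _ from hk]; group
        have e2 : g * q * g⁻¹ * e * (g * q * g⁻¹)⁻¹ = z ^ k * e := by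
          calc _ = g * (q * (g⁻¹ * (e * g)) * q⁻¹) * g⁻¹ := by group
            _ = g * z ^ k * (e * g⁻¹) := by rw [← hg e he, inv_mul_cancel_left, e1]; group
            _ = _ := by
              rw [((show Commute g z from gz).zpow_right k).eq, mul_assoc, ← mul_assoc g, hg e he]
              group
        calc _ = q⁻¹ * (q * e * q⁻¹) * (g * q * g⁻¹) := by group
          _ = _ := by rw [e1, ← e2]; group
    set j := q⁻¹ * (g * q * g⁻¹)
    have e : g * q * g⁻¹ = q * j := by simp [j]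
    have c : g * j * g⁻¹ = j := by rw [hg j hj]; simp
    refine mul_inv_eq_iff_eq_mul.1 ?_
    calc _ = g * (g * (g * q * g⁻¹) * g⁻¹) * g⁻¹ := by rw [pow_three]; group
      _ = q * j ^ 3 := by
        have e' : ∀ a b, g * (a * b) * g⁻¹ = g * a * g⁻¹ * (g * b * g⁻¹) := fun a b => by group
        rw [e, e' q, c, e, e' (q * j), e' q, c, e, pow_three']; group
      _ = q := by rw [h.J3 j hj, mul_one]
  have g9 : g ^ 3 ^ 2 = 1 := by rw [pow_two, pow_mul, h.Q3 _ (h.ZQ g3)]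
  have gN : g ∈ Nm J := Tr.mem_normalizer_of_conj_mem fun x hx => by rwa [hg x hx, mul_inv_cancel_right]
  obtain ⟨n, hn, hn'⟩ := h.exists_conj_S (R := zpowers g) (by
    obtain ⟨j, -, hj⟩ := (Nat.dvd_prime_pow Nat.prime_three).mp (orderOf_dvd_of_pow_eq_one g9)
    exact IsPGroup.of_card (by rw [Nat.card_zpowers, hj])) (zpowers_le.2 gN)
  have := h.ab_cent h.JS h.Jc h.cJ (hn' g (mem_zpowers g)) fun e he _ => by
    calc _ = n * (n⁻¹ * e * n * g) * n⁻¹ := by group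
      _ = _ := by rw [← hg _ (Tr.inv_conj_mem_of_mem_normalizer hn he)]; group
  simpa [mul_assoc] using Tr.inv_conj_mem_of_mem_normalizer hn this

theorem stabS {g : G} (hg : g ∈ Nm J) (e : NZ z g) : ∀ s ∈ S, g * s * g⁻¹ ∈ S := by
  obtain ⟨a, ha, ha'⟩ := (h.ab_fix h.JS h.Jc h.cJ).2.1
  exact h.nzS e ha (fun c => ha' (h.ZQ c)) (Tr.conj_mem_of_mem_normalizer hg ha)

theorem memS {g : G} {k : ℕ} (hg : g ∈ Nm J) (e : g * z = z * g) (h3 : g ^ 3 ^ k = 1) : g ∈ S :=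
  SylowRel.mem_of_not_dvd_relIndex h.pS le_top (by rw [relIndex_top_right]; exact h.iS) trivial h3
    (Tr.mem_normalizer_of_conj_mem (h.stabS hg (.of_comm e)))

/-- a `3`-element of `N(J)` which centralises a conjugate `x` of `z` has `[J, a, a] ≤ ⟨x⟩` -/
theorem NS {x a j : G} (hx : x ∈ J) (c : IsConj z x) (ha : a ∈ S) (e : a * x = x * a) (hj : j ∈ J) :
    a * (a * j * a⁻¹ * j⁻¹) * a⁻¹ * (a * j * a⁻¹ * j⁻¹)⁻¹ ∈ zpowers x := by
  obtain ⟨g, rfl⟩ := isConj_iff.1 c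
  obtain ⟨n, hn, e'⟩ := h.fusion h.zJ hx
  rw [← e'] at e ⊢
  obtain ⟨k, hk⟩ := h.S3 ha
  have a1 : n⁻¹ * a * n ∈ Nm J := mul_mem (mul_mem (inv_mem hn) (h.SN ha)) hn
  have a2 : n⁻¹ * a * n ∈ S := h.memS (k := k) a1 (by
    calc _ = n⁻¹ * (a * (n * z * n⁻¹)) * n := by group
      _ = _ := by rw [e]; group) (by
    have := conj_pow (a := n⁻¹) (b := a) (i := 3 ^ k)
    rw [inv_inv] at this
    rw [this, hk]; simp)
  have j1 := Tr.inv_conj_mem_of_mem_normalizer hn hj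
  obtain ⟨m, hm⟩ := ((h.fixJ (h.comm_Q a2 (h.JS j1))).1
    (mul_mem (Tr.conj_mem_of_mem_normalizer a1 j1) (inv_mem j1)) a2).2
  refine ⟨m, ?_⟩
  show (n * z * n⁻¹) ^ m = _
  rw [conj_zpow, show z ^ m = _ from hm]; group

end HJ

end CL.HN3
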