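import Mathlib
import Cfsg.Agent.PERM.McL3D

/-! The three-local characterization of the Harada–Norton group: finite computations. -/

set_option autoImplicit false
set_option synthInstance.maxSize 8192
set_option synthInstance.maxHeartbeats 200000
open CL.McL3

namespace CL.HN3

/-- the symmetric form of plus type -/
def bp (x y : V4) : ZMod 3 := x.1 * y.1 + x.2.1 * y.2.1 + x.2.2.1 * y.2.2.1 + x.2.2.2 * y.2.2.2

def zv : V4 := (1, 1, 1, 0)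
def sv : V4 := (1, 1, 2, 0)
def wv : V4 := (1, 2, 0, 1)
def uv : V4 := (1, 2, 0, 2)
def xv : V4 := (1, 2, 0, 0)

/-- the map with the given images of `zv`, `wv`, `uv`, `sv` -/
def fq (a b c d : V4) : Mt := (a + b + c + d, a + d - b - c, d - a, c - b)

def AI : Mt := ((0, 0, 2, 1), (0, 0, 2, 2), (1, 1, 0, 0), (1, 2, 0, 0))
def TT : Mt := ((0, 1, 0, 0), (1, 0, 0, 0), (0, 0, 1, 0), (0, 0, 0, 2))
def NN : Mt := ((0, 2, 0, 0), (1, 0, 0, 0), (0, 0, 0, 1), (0, 0, 2, 0))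
def HH : Mt := ((1, 2, 2, 2), (1, 1, 1, 2), (1, 2, 1, 1), (1, 1, 2, 1))
def DD : Mt := fq zv wv uv (-sv)

/-- the action of the Sylow subgroup -/
def Um (i j : ZMod 3) : Mt := fq zv (wv + i • zv) (uv + j • zv) (sv - j • wv - i • uv - (i * j) • zv)

theorem ap_sub (A : Mt) (x y : V4) : ap A (x - y) = ap A x - ap A y := by
  rw [sub_eq_add_neg, ap_add, ap_neg, ← sub_eq_add_neg]

theorem eq_fq (A : Mt) : A = fq (ap A zv) (ap A wv) (ap A uv) (ap A sv) := by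
  obtain ⟨h0, h1, h2, h3⟩ := ap_e A
  simp only [fq, ← ap_add, ← ap_sub]
  rw [show zv + wv + uv + sv = e0 by decide, show zv + sv - wv - uv = e1 by decide,
    show sv - zv = e2 by decide, show uv - wv = e3 by decide, h0, h1, h2, h3]

theorem ap_fq (a b c d x : V4) :
    ap (fq a b c d) x = bp sv x • a + bp uv x • b + bp wv x • c + bp zv x • d := by
  have : ∀ x : V4, bp sv x = x.1 + x.2.1 - x.2.2.1 ∧ bp uv x = x.1 - x.2.1 - x.2.2.2 ∧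
    bp wv x = x.1 - x.2.1 + x.2.2.2 ∧ bp zv x = x.1 + x.2.1 + x.2.2.1 := by decide +kernel
  obtain ⟨h1, h2, h3, h4⟩ := this x
  rw [h1, h2, h3, h4]
  simp only [ap, fq]
  module

theorem ap_fq' (a b c d : V4) : ap (fq a b c d) zv = a ∧ ap (fq a b c d) wv = b ∧
    ap (fq a b c d) uv = c ∧ ap (fq a b c d) sv = d := by
  simp only [ap_fq]
  refine ⟨?_, ?_, ?_, ?_⟩
  · rw [show bp sv zv = 1 by decide, show bp uv zv = 0 by decide, show bp wv zv = 0 by decide,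
      show bp zv zv = 0 by decide]; simp
  · rw [show bp sv wv = 0 by decide, show bp uv wv = 1 by decide, show bp wv wv = 0 by decide,
      show bp zv wv = 0 by decide]; simp
  · rw [show bp sv uv = 0 by decide, show bp uv uv = 0 by decide, show bp wv uv = 1 by decide,
      show bp zv uv = 0 by decide]; simp
  · rw [show bp sv sv = 0 by decide, show bp uv sv = 0 by decide, show bp wv sv = 0 by decide,
      show bp zv sv = 1 by decide]; simp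

/-- similarities whose multiplier is the determinant -/
def SimP (A : Mt) : Prop := dt A ≠ 0 ∧ ∀ x y, bp (ap A x) (ap A y) = dt A * bp x y

abbrev GramP (A : Mt) (d : ZMod 3) : Prop :=
  d ≠ 0 ∧ bp A.1 A.1 = d ∧ bp A.2.1 A.2.1 = d ∧ bp A.2.2.1 A.2.2.1 = d ∧ bp A.2.2.2 A.2.2.2 = d ∧
    bp A.1 A.2.1 = 0 ∧ bp A.1 A.2.2.1 = 0 ∧ bp A.1 A.2.2.2 = 0 ∧ bp A.2.1 A.2.2.1 = 0 ∧
    bp A.2.1 A.2.2.2 = 0 ∧ bp A.2.2.1 A.2.2.2 = 0

theorem simP_iff {A : Mt} : SimP A ↔ GramP A (dt A) := by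
  refine and_congr_right fun _ => ⟨fun h => ?_, fun ⟨h1, h2, h3, h4, h5, h6, h7, h8, h9, h10⟩ x y => ?_⟩
  · obtain ⟨a0, a1, a2, a3⟩ := ap_e A
    refine ⟨?_, ?_, ?_, ?_, ?_, ?_, ?_, ?_, ?_, ?_⟩ <;>
      simp only [← a0, ← a1, ← a2, ← a3] <;> rw [h] <;> simp [bp, e0, e1, e2, e3]
  · simp only [bp, ap, Prod.fst_add, Prod.snd_add, Prod.smul_fst, Prod.smul_snd,
      smul_eq_mul] at h1 h2 h3 h4 h5 h6 h7 h8 h9 h10 ⊢
    linear_combination x.1 * y.1 * h1 + x.2.1 * y.2.1 * h2 + x.2.2.1 * y.2.2.1 * h3 +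
      x.2.2.2 * y.2.2.2 * h4 + (x.1 * y.2.1 + x.2.1 * y.1) * h5 + (x.1 * y.2.2.1 + x.2.2.1 * y.1) * h6 +
      (x.1 * y.2.2.2 + x.2.2.2 * y.1) * h7 + (x.2.1 * y.2.2.1 + x.2.2.1 * y.2.1) * h8 +
      (x.2.1 * y.2.2.2 + x.2.2.2 * y.2.1) * h9 + (x.2.2.1 * y.2.2.2 + x.2.2.2 * y.2.2.1) * h10

instance (A : Mt) : Decidable (SimP A) := decidable_of_iff _ simP_iff.symm

theorem SimP.mm {A B : Mt} (hA : SimP A) (hB : SimP B) : SimP (mm A B) :=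
  ⟨by rw [dt_mm]; exact mul_ne_zero hA.1 hB.1, fun x y => by rw [ap_mm, ap_mm, hA.2, hB.2, dt_mm, mul_assoc]⟩

theorem SimP.sing {A : Mt} (h : SimP A) {x : V4} : bp (ap A x) (ap A x) = 0 ↔ bp x x = 0 := by
  rw [h.2, mul_eq_zero, or_iff_right h.1]

theorem kerQ : ∀ x : V4, x = 0 ∨ ∃ c, ap (x, ap AI x, ap AI (ap AI x), ap AI (ap AI (ap AI x))) c ∈
    [zv, wv, sv] := by decide +kernel

theorem solveQ : ∀ f, bp zv f = 0 → ∀ c : ZMod 3, c ≠ 0 →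
    mm (mm (mm TT (fq zv (wv + c • zv) uv (sv + f))) TT) (fq zv (wv + c • zv) uv (sv + f)) = I4 →
    (∃ k : ZMod 3, ap (mm (mm AI (fq zv (wv + c • zv) uv (sv + f))) (mp AI 3))
      (ap (mm (mm AI (fq zv (wv + c • zv) uv (sv + f))) (mp AI 3)) sv - sv) -
      (ap (mm (mm AI (fq zv (wv + c • zv) uv (sv + f))) (mp AI 3)) sv - sv) = k • wv) →
    f = 0 ∨ fq zv (wv + c • zv) uv (sv + f) = Um c 0 ∨
      mm (mm DD (fq zv (wv + c • zv) uv (sv + f))) DD = Um c 0 := by decide +kernel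

theorem Um_mul : ∀ i j k l, mm (Um i j) (Um k l) = Um (i + k) (j + l) := by decide +kernel

theorem Um_ap (i j : ZMod 3) : ap (Um i j) zv = zv ∧ ap (Um i j) wv = wv + i • zv ∧
    ap (Um i j) uv = uv + j • zv := ⟨(ap_fq' ..).1, (ap_fq' ..).2.1, (ap_fq' ..).2.2.1⟩

theorem mc1 : fq zv uv (-wv) (-sv) = AI ∧ mm AI AI = TT ∧ mm AI (mp AI 3) = I4 ∧ mm DD DD = I4 ∧
    mm (mm DD AI) DD = AI ∧ Um 0 0 = I4 ∧ mm (mm AI (Um 1 0)) (mp AI 3) = Um 0 1 ∧ mm TT TT = I4 ∧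
    ap DD zv = zv ∧ ap DD wv = wv ∧ (∀ x, bp zv (ap DD x) = 0 ↔ bp zv x = 0) ∧
    (∀ i j, ∃ k l : Fin 3, mm (mp (Um 1 0) k) (mp (Um 0 1) l) = Um i j) ∧
    (∀ c, c ≠ 0 → Um c 0 = Um 1 0 ∨ mm (Um c 0) (Um c 0) = Um 1 0) ∧
    SimP AI ∧ SimP HH ∧ SimP I4 ∧ ∀ i j, SimP (Um i j) := by decide +kernel

/-- the classes of vectors -/
def pc (a b : Bool) (v : V4) : ℕ :=
  if v = 0 then 0 else if bp zv v = 0 then (if bp v v = 0 then 1 else 2) else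
    if bp v v = 0 then cond a 1 2 else cond b 1 2

theorem reps : ∀ v, v = 0 ∨ ∃ i j, ∃ r ∈ [zv, wv, wv + uv, sv, sv + zv], (∀ a b, pc a b v = pc a b r) ∧
    (r ∈ [ap (Um i j) v, ap AI (ap (Um i j) v)] ∨ -r ∈ [ap (Um i j) v, ap AI (ap (Um i j) v)]) := by
  decide +kernel

theorem solveN : ∀ a b x, (∀ c d : ZMod 3, pc a b (c • wv + d • x) = pc a b (c • zv + d • wv)) →
    ∀ y, (∀ c d : ZMod 3, pc a b (c • wv + d • x + y) = pc a b (c • zv + d • wv + uv)) →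
    ∀ u, (∀ c d e : ZMod 3, pc a b (c • wv + d • x + e • y + u) = pc a b (c • zv + d • wv + e • uv + sv)) →
    a = true ∧ b = false ∧ ∃ i j, mm (fq wv x y u) (Um i j) = mm HH (fq wv x y u) := by
  decide +kernel

/-- a word applied to a vector -/
def aw (l : List (Fin 3)) (v : V4) : V4 := l.foldr (fun k x => ap (![Um 1 0, AI, HH] k) x) v

def WL : List (List (Fin 3)) := [[], [2], [0, 2], [1, 2], [2, 2], [0, 0, 2], [1, 0, 2], [2, 1, 2],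
  [0, 2, 2], [1, 2, 2], [1, 0, 0, 2], [2, 0, 0, 2], [1, 1, 0, 2], [2, 1, 0, 2], [0, 2, 1, 2], [1, 2, 1, 2],
  [1, 0, 2, 2], [2, 1, 2, 2], [2, 1, 0, 0, 2], [1, 1, 1, 0, 2], [0, 2, 1, 0, 2], [1, 2, 1, 0, 2],
  [2, 2, 1, 0, 2], [0, 0, 2, 1, 2], [0, 1, 2, 1, 2], [1, 1, 2, 1, 2], [0, 2, 1, 2, 2], [0, 2, 1, 0, 0, 2],
  [2, 2, 1, 0, 0, 2], [2, 1, 1, 1, 0, 2], [0, 0, 2, 1, 0, 2], [1, 0, 2, 1, 0, 2]]

theorem words : ∀ v, v ≠ 0 → bp v v = 0 → ∃ l ∈ WL, aw l zv = v := by decide +kernel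

theorem pc_one : ∀ v, pc true false v = 1 ↔ v ≠ 0 ∧ bp v v = 0 := by decide +kernel

theorem stab_aux : ∀ b, bp zv b = 0 → bp b b = 0 → ∀ c, bp zv c = 0 → bp c c = 0 → bp b c ≠ 0 →
    ∀ d, bp d d = 0 → bp b d = 0 → bp c d = 0 → bp zv d = bp b c → dt (fq zv b c d) = bp b c →
    ∃ k : Fin 4, ∃ i j, fq zv b c d = mm (Um i j) (mp AI k) := by decide +kernel

theorem SimP.stab {A : Mt} (h : SimP A) (e : ap A zv = zv) :
    ∃ k : Fin 4, ∃ i j, A = McL3.mm (Um i j) (mp AI k) := by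
  have k := h.2
  have d : bp (ap A wv) (ap A uv) = dt A := by rw [k, show bp wv uv = 1 by decide, mul_one]
  have := stab_aux (ap A wv) (by rw [← e, k]; exact mul_zero _) (by rw [k]; exact mul_zero _) (ap A uv)
    (by rw [← e, k]; exact mul_zero _) (by rw [k]; exact mul_zero _) (d ▸ h.1) (ap A sv)
    (by rw [k]; exact mul_zero _) (by rw [k]; exact mul_zero _) (by rw [k]; exact mul_zero _)
    (by rw [d, ← e, k]; exact mul_one _) (by rw [d, ← e, ← eq_fq])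
  rwa [← e, ← eq_fq] at this

theorem rot_aux : ∀ a, bp a a = 1 → bp e0 a = 0 → ∀ b, bp b b = 1 → bp e0 b = 0 → bp a b = 0 →
    ∀ c, bp c c = 1 → bp e0 c = 0 → bp a c = 0 → bp b c = 0 → dt (e0, a, b, c) = 1 →
    ∃ i, (e0, a, b, c) = Rm i := by decide +kernel

theorem SimP.rot {A : Mt} (h : SimP A) (h0 : ap A e0 = e0) : ∃ i, A = Rm i := by
  obtain ⟨a0, a, b, c⟩ := A
  obtain rfl : a0 = e0 := (ap_e _).1.symm.trans h0
  obtain ⟨-, h1, h2, h3, h4, h5, h6, h7, h8, h9, h10⟩ := simP_iff.1 h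
  have hd : dt (e0, a, b, c) = 1 := h1.symm.trans (show bp e0 e0 = 1 by decide)
  rw [hd] at h2 h3 h4
  exact rot_aux a h2 h5 b h3 h6 h8 c h4 h7 h9 h10 hd

/-! ### `SL(2, 5)` -/

def i5 (x : T5) : T5 := (x.2.2.2, -x.2.1, -x.2.2.1, x.1)

theorem tt_inv (x : SL5) : tt x⁻¹ = i5 (tt x) := by
  rw [Matrix.SpecialLinearGroup.SL2_inv_expl]; rfl

theorem t5_r : ∀ a : T5, D5 a → m5 (m5 a a) a = o5 → a ≠ o5 → ∀ b : T5, D5 b → m5 b a = m5 (m5 a a) b →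
    ∃ r, D5 r ∧ m5 r r = -o5 ∧ m5 r a ≠ m5 a r ∧ m5 r a ≠ m5 (m5 a a) r ∧
      (m5 (m5 (m5 r a) (m5 r a)) (m5 r a) = o5 ∨ m5 (m5 (m5 r a) (m5 r a)) (m5 r a) = -o5) ∧
      (m5 (m5 (m5 (m5 (m5 r b) (m5 r b)) (m5 r b)) (m5 r b)) (m5 r b) = o5 ∨
        m5 (m5 (m5 (m5 (m5 r b) (m5 r b)) (m5 r b)) (m5 r b)) (m5 r b) = -o5) := by decide +kernel

theorem sl_r {a b : SL5} (h3 : a * a * a = 1) (h1 : a ≠ 1) (h : b * a = a * a * b) : ∃ r : SL5,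
    r * r = -1 ∧ r * a ≠ a * r ∧ r * a ≠ a * a * r ∧ ((r * a) ^ 3 = 1 ∨ (r * a) ^ 3 = -1) ∧
      ((r * b) ^ 5 = 1 ∨ (r * b) ^ 5 = -1) := by
  simp only [ne_eq, tt_eq, tt_mul, tt_one] at h3 h1 h
  obtain ⟨x, hd, h⟩ := t5_r _ (tt_det a) h3 h1 _ (tt_det b) h
  obtain ⟨r, rfl⟩ := tt_surj hd
  exact ⟨r, by simpa only [pow_succ, pow_zero, one_mul, ne_eq, tt_eq, tt_mul, tt_neg, tt_one] using h⟩

theorem t5_z : ∀ b : T5, D5 b → m5 b b = -o5 → ∀ y : T5, D5 y → m5 (m5 y y) y = o5 →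
    m5 y b = m5 b y ∨ m5 y b = m5 (i5 b) y → y = o5 := by decide +kernel

theorem sl_z {b y : SL5} (h : b * b = -1) (h3 : y * y * y = 1) (e : y * b = b * y ∨ y * b = b⁻¹ * y) :
    y = 1 := by
  simp only [tt_eq, tt_mul, tt_neg, tt_one, tt_inv] at h h3 e ⊢
  exact t5_z _ (tt_det b) h _ (tt_det y) h3 e

theorem t5_two : ∀ a : T5, D5 a → m5 (m5 a a) a = o5 → a ≠ o5 → ∀ b : T5, D5 b →
    m5 b a = m5 (m5 a a) b → ∀ y : T5, D5 y → m5 y a ≠ m5 a y → m5 y a ≠ m5 (m5 a a) y →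
    m5 (m5 (m5 (i5 y) b) y) a = m5 a (m5 (m5 (i5 y) b) y) ∨
      m5 (m5 (m5 (i5 y) b) y) a = m5 (m5 a a) (m5 (m5 (i5 y) b) y) →
    ∃ c ∈ [o5, a, m5 a a], m5 (m5 y c) (m5 y c) = -o5 ∧ ∀ u, m5 (m5 y c) a = u →
      m5 (m5 (m5 u u) u) (m5 (m5 u u) u) ≠ o5 ∧
      m5 (m5 (m5 (m5 (m5 u u) u) u) u) (m5 (m5 (m5 (m5 u u) u) u) u) = o5 := by decide +kernel

theorem sl_two {a b y : SL5} (h3 : a * a * a = 1) (h1 : a ≠ 1) (h : b * a = a * a * b)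
    (n1 : y * a ≠ a * y) (n2 : y * a ≠ a * a * y)
    (e : y⁻¹ * b * y * a = a * (y⁻¹ * b * y) ∨ y⁻¹ * b * y * a = a * a * (y⁻¹ * b * y)) :
    ∃ k : ℕ, y * a ^ k * (y * a ^ k) = -1 ∧ (y * a ^ k * a) ^ 6 ≠ 1 ∧ (y * a ^ k * a) ^ 10 = 1 := by
  simp only [ne_eq, tt_eq, tt_mul, tt_one, tt_inv] at h3 h1 h n1 n2 e
  obtain ⟨c, hc, e1, e2⟩ := t5_two _ (tt_det a) h3 h1 _ (tt_det b) h _ (tt_det y) n1 n2 e
  obtain ⟨k, rfl⟩ : ∃ k : ℕ, tt (a ^ k) = c := by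
    simp only [List.mem_cons, List.not_mem_nil, or_false] at hc
    rcases hc with rfl | rfl | rfl
    exacts [⟨0, rfl⟩, ⟨1, by rw [pow_one]⟩, ⟨2, by rw [pow_two, tt_mul]⟩]
  refine ⟨k, by simpa only [tt_eq, tt_mul, tt_neg, tt_one] using e1, ?_⟩
  have := e2 (tt (y * a ^ k * a)) (by rw [tt_mul, tt_mul])
  generalize y * a ^ k * a = u at this
  rw [show 6 = 3 + 3 from rfl, show 10 = 5 + 5 from rfl, pow_add, pow_add]
  simpa only [pow_succ, pow_zero, one_mul, ne_eq, tt_eq, tt_mul, tt_one] using this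

end CL.HN3
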