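import Mathlib
import Cfsg.Agent.PERM.HN3B
import Cfsg.Agent.PERM.HN3C

/-! The three-local characterization of the Harada–Norton group: coordinates on `J`. -/

set_option autoImplicit false
set_option linter.unusedSectionVars false
open Subgroup CL.McL3
open CL.Odd hiding e3

namespace CL.HN3

variable {G : Type*} [Group G]

theorem bp_add (x y w : V4) : bp x (y + w) = bp x y + bp x w := by
  simp only [bp, Prod.fst_add, Prod.snd_add]; ring

theorem act_of_q {τ : V4 → G} (h : ∀ x y, τ (x + y) = τ x * τ y) {g : G} {a b c d : V4}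
    (h0 : g * τ zv * g⁻¹ = τ a) (h1 : g * τ wv * g⁻¹ = τ b) (h2 : g * τ uv * g⁻¹ = τ c)
    (h3 : g * τ sv * g⁻¹ = τ d) : Act τ g (fq a b c d) := fun x => by
  conv_lhs => rw [← ap_I4 x, show I4 = fq zv wv uv sv by decide]
  simp only [ap_fq, h, add_smul' h, ← h0, ← h1, ← h2, ← h3, conj_pow, conj_mul]

theorem zp_comm {z c g : G} (hc : c ∈ zpowers z) (h : g * z = z * g) : g * c = c * g :=
  hc.elim fun k e => e ▸ ((show Commute g z from h).zpow_right k).eq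

section L

variable {S Q L : Subgroup G} {z t : G} {π : L →* SL5} (h : HypL S Q L z π) [Finite G]
include h

theorem exists_t : ∃ t, Rel π t (-1) ∧ t * t = 1 := by
  obtain ⟨t, ht⟩ := h.sL (-1)
  exact ⟨t ^ 3, (ht.pow 3).congr (Odd.neg_one_pow (by decide)), by
    rw [← (Commute.refl t).mul_pow, h.Q3 _ ((h.kL _).1 ((ht.mul ht).congr (by simp)))]⟩

theorem inverter (ht : Rel π t (-1)) (tt : t * t = 1) {g : G} {x : SL5} (hg : Rel π g x)
    (x3 : x * x * x = 1) (x1 : x ≠ 1) (e : g * t = t * g) :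
    ∃ i, Rel π (i * i) (-1) ∧ i ∈ L ∧ i * t = t * i ∧ i * g * i⁻¹ * g ∈ zpowers z := by
  obtain ⟨b, hb⟩ := sl_f x3 x1
  obtain ⟨i, hi, it⟩ := lift' h ht tt b
  exact ⟨i, (hi.mul hi).congr ((sl_pair x3 x1 b).2.2 hb), hi.mem, it, ker h ht ((h.kL _).1
    ((((hi.mul hg).mul hi.inv).mul hg).congr (by rw [hb, mul_inv_cancel_right, x3])))
    ((((show Commute i t from it).mul_left e).mul_left (show Commute i t from it).inv_left).mul_left e)⟩

theorem cube (ht : Rel π t (-1)) (tt : t * t = 1) {g : G} {x : SL5} (hg : Rel π g x)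
    (x3 : x * x * x = 1) (e : g * t = t * g) : g ^ 3 = 1 := by
  by_cases x1 : x = 1
  · exact h.Q3 g ((h.kL g).1 (hg.congr x1))
  obtain ⟨i, -, iL, -, m⟩ := inverter h ht tt hg x3 x1 e
  have c := ker h ht ((h.kL _).1 ((hg.pow 3).congr (by rw [pow_three', x3])))
    ((show Commute g t from e).pow_left 3)
  have e1 : i * g ^ 3 * i⁻¹ = (g ^ 3)⁻¹ := by
    rw [← conj_pow, ← mul_inv_cancel_right (i * g * i⁻¹) g,
      (show Commute _ g from (zp_comm m (h.Lz g hg.mem)).symm).inv_right.mul_pow, h.Q3 _ (h.ZQ m),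
      one_mul, inv_pow]
  rw [zp_comm c (h.Lz i iL), mul_inv_cancel_right] at e1
  have := h.Q3 _ (h.ZQ c)
  generalize g ^ 3 = d at e1 this
  rwa [pow_three', mul_eq_one_iff_eq_inv.2 e1, one_mul] at this

theorem comm_of_inv {g w : G} (hg : g ∈ Stb z w) (tz : t * z = z * t) (e : g * t = t * g)
    (hw : t * w * t⁻¹ = w⁻¹) (wz : w * z = z * w) : g * w = w * g := by
  have m := hg.2
  generalize hd : g * w * g⁻¹ * w⁻¹ = d at m
  have e1 : g * w * g⁻¹ = d * w := by rw [← hd]; group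
  have e2 : d * w⁻¹ = (d * w)⁻¹ := by
    calc _ = t * (d * w) * t⁻¹ := by rw [← hw, ← mul_assoc t, zp_comm m tz]; group
      _ = t * g * w * (t * g)⁻¹ := by rw [← e1]; group
      _ = g * (t * w * t⁻¹) * g⁻¹ := by rw [← e]; group
      _ = _ := by rw [hw, ← e1]; group
  rw [← zp_comm m wz, mul_inv_rev, mul_left_inj] at e2
  have := h.Q3 _ (h.ZQ m)
  rw [pow_three', mul_eq_one_iff_eq_inv.2 e2, one_mul] at this
  rw [this, one_mul] at e1
  exact mul_inv_eq_iff_eq_mul.1 e1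

/-- the fixed points of `s` on `Q / Z` form an abelian group -/
theorem fix_comm {s w u : G} (hs : s ∈ S) (hs' : s ∉ Q) (s3 : s ^ 3 = 1) (hw : w ∈ Q) (hu : u ∈ Q)
    (sw : s * w = w * s) (su : s * u = u * s) : w * u = u * w := by
  have n := fun {x} (hx : x ∈ Q) => h.nQS hs hx
  have c : ∀ {x}, x ∈ Q → x⁻¹ * (s * x * s⁻¹) ∈ Q := fun hx => mul_mem (inv_mem hx) (n hx)
  have st : ∀ {x}, x ∈ Q → x⁻¹ * (s * x * s⁻¹) ∈ zpowers z → x ∈ Stb z s := fun {x} hx e =>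
    Stb.symm ⟨h.zS s hs, by
      have := (NZ.of_comm (h.zS x (h.QS hx))).conj_mem e
      rwa [show x * (x⁻¹ * (s * x * s⁻¹)) * x⁻¹ = s * x * s⁻¹ * x⁻¹ by group] at this⟩ (h.zS x (h.QS hx))
  obtain ⟨x, hx, y1, y2⟩ : ∃ x ∈ Q, x⁻¹ * (s * x * s⁻¹) ∉ zpowers z ∧ x⁻¹ * (s * x * s⁻¹) ∈ Stb z s := by
    by_contra! k
    obtain ⟨x, hx, x1⟩ : ∃ x ∈ Q, x⁻¹ * (s * x * s⁻¹) ∉ zpowers z := by
      by_contra! k
      exact hs' (h.triv (h.zS s hs) fun x hx => st hx (k x hx))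
    have x2 := fun e => k x hx x1 (st (c hx) e)
    refine k _ (c hx) x2 (st (c (c hx)) ?_)
    have e3 : s * (s * (s * x * s⁻¹) * s⁻¹) * s⁻¹ = x := by
      rw [show s * (s * (s * x * s⁻¹) * s⁻¹) * s⁻¹ = s ^ 3 * x * (s ^ 3)⁻¹ by rw [pow_three]; group, s3]
      simp
    have cm : ∀ a b, s * (a⁻¹ * b) * s⁻¹ = (s * a * s⁻¹)⁻¹ * (s * b * s⁻¹) := fun a b => by group
    rw [cm (x⁻¹ * _), cm x, cm (s * x * s⁻¹), e3]
    have q1 := n hx
    have q2 := n q1
    generalize s * (s * x * s⁻¹) * s⁻¹ = b at q2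
    generalize s * x * s⁻¹ = a at q1
    have k : commutator Q ≤ (zpowers z).subgroupOf Q := commutator_le.2 fun a _ b _ => h.Qc a a.2 b b.2
    have o : ∀ y : Q, Abelianization.of y ^ 3 = 1 := fun y => by
      rw [← map_pow, show y ^ 3 = 1 from Subtype.ext (h.Q3 y y.2), map_one]
    let X : Q := ⟨x, hx⟩
    let A : Q := ⟨a, q1⟩
    let B : Q := ⟨b, q2⟩
    refine k (x := ((X⁻¹ * A)⁻¹ * (A⁻¹ * B))⁻¹ * ((A⁻¹ * B)⁻¹ * (B⁻¹ * X))) ?_
    rw [← Abelianization.ker_of, MonoidHom.mem_ker]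
    simp only [map_mul, map_inv]
    have a3 := o A
    have b3 := o B
    generalize Abelianization.of A = a at a3
    generalize Abelianization.of B = b at b3
    generalize Abelianization.of X = x
    calc _ = a ^ 3 * (b ^ 3)⁻¹ * (x * x⁻¹) := by
          simp only [pow_three, mul_inv_rev, inv_inv, mul_comm, mul_left_comm, mul_assoc]
      _ = 1 := by simp [a3, b3]
  have yc : ∀ {f}, f ∈ Q → s * f = f * s → x⁻¹ * (s * x * s⁻¹) ∈ cz f := fun {f} hf e => by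
    have m := h.Qc x hx f hf
    generalize hd : x * f * x⁻¹ * f⁻¹ = d at m
    have e1 : x * f * x⁻¹ = d * f := by rw [← hd]; group
    refine mem_cz.2 ?_
    calc _ = x⁻¹ * (s * (x * (s⁻¹ * (f * s)) * x⁻¹) * s⁻¹) * x := by group
      _ = x⁻¹ * (s * d * (f * s⁻¹)) * x := by rw [← e, inv_mul_cancel_left, e1]; group
      _ = x⁻¹ * (d * f) * x := by rw [zp_comm m (h.zS s hs), mul_assoc d, ← mul_assoc s, e]; group
      _ = f := by rw [← e1]; group
  by_contra ne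
  have p := (pQ h).to_le (inf_le_left : Q ⊓ Stb z s ≤ Q)
  have zz := fun {f} (hf : f ∈ Q) => h.zS f (h.QS hf)
  have wF : w ∈ Q ⊓ Stb z s := ⟨hw, Stb.of_comm (zz hw) sw.symm⟩
  have h1 := three_mul_le p (inf_le_left : _ ⊓ cz w ≤ _) ⟨hu, Stb.of_comm (zz hu) su.symm⟩
    fun e => ne (mem_cz'.1 e.2).symm
  have h2 := three_mul_le (p.to_le (inf_le_left : _ ⊓ cz w ≤ _)) (inf_le_left : _ ⊓ cz u ≤ _)
    ⟨wF, mem_cz'.2 rfl⟩ fun e => ne (mem_cz'.1 e.2)
  have h3 := three_mul_le (p.to_le (inf_le_left.trans inf_le_left : _ ⊓ cz w ⊓ cz u ≤ _))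
    (zpowers_le.2 ⟨⟨⟨h.zQ, Stb.of_comm rfl (h.zS s hs).symm⟩, mem_cz'.2 (zz hw).symm⟩, mem_cz'.2 (zz hu).symm⟩)
    ⟨⟨⟨c hx, y2⟩, yc hw sw⟩, yc hu su⟩ y1
  have h4 := h.card_fix hs hs'
  rw [h.cZ] at h3
  omega

end L

/-- the first frame -/
structure F1 (S Q L J : Subgroup G) (z : G) (π : L →* SL5) (τ : V4 → G) (i : G) : Prop
    extends HJ S Q L J z π, Co J τ where
  τz : τ zv = z
  τQ : ∀ x, τ x ∈ Q ↔ bp zv x = 0
  aI : Act τ i AI
  πt : Rel π (i * i) (-1)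
  zw : IsConj z (τ wv)

theorem exists_F1 [Finite G] {S Q L : Subgroup G} {z g : G} {π : L →* SL5} (h : HypL S Q L z π)
    (cL : ∀ g, g * z = z * g → g ∈ L) (g1 : g * z * g⁻¹ ∈ Q) (g2 : g * z * g⁻¹ ∉ zpowers z) :
    ∃ J τ i, F1 S Q L J z π τ i := by
  obtain ⟨t, ht, tt⟩ := exists_t h
  have tz := h.Lz t ht.mem
  obtain ⟨s, i, hs, hs', s3, st, hi, iL, it, is⟩ : ∃ s i, s ∈ S ∧ s ∉ Q ∧ s ^ 3 = 1 ∧ s * t = t * s ∧
      Rel π (i * i) (-1) ∧ i ∈ L ∧ i * t = t * i ∧ i * s * i⁻¹ = s⁻¹ := by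
    obtain ⟨a, ha, ha'⟩ : ∃ a ∈ S, a ∉ Q := by
      by_contra! c
      have := card_le_of_le (show S ≤ Q from c)
      rw [h.cS, h.cQ] at this; omega
    obtain ⟨q, hq, e⟩ := lift h ht tt (h.SL ha)
    have s1 := mul_mem (h.QS hq) ha
    have s2 : q * a ∉ Q := fun c => ha' ((Q.mul_mem_cancel_left hq).1 c)
    generalize q * a = s at e s1 s2
    obtain ⟨x, hx, x3, x1⟩ := h.relS s1 s2
    obtain ⟨i, h1, h2, h3, m⟩ := inverter h ht tt hx x3 x1 e
    generalize hd : i * s * i⁻¹ * s = d at m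
    have d3 := h.Q3 d (h.ZQ m)
    have c : Commute s d := zp_comm m (h.zS s s1)
    refine ⟨s * d, i, mul_mem s1 (h.QS (h.ZQ m)), fun c => s2 ((Q.mul_mem_cancel_right (h.ZQ m)).1 c),
      by rw [c.mul_pow, cube h ht tt hx x3 e, d3, one_mul],
      Commute.mul_left e (zp_comm m tz).symm, h1, h2, h3, ?_⟩
    rw [← conj_mul, zp_comm m (h.Lz i h2), mul_inv_cancel_right, eq_mul_inv_of_mul_eq hd, mul_assoc,
      c.inv_left.eq, mul_inv_rev, inv_eq_sq_of_cube d3, mul_assoc]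
  obtain ⟨w, hw, w1, ws, zw, tw⟩ : ∃ w ∈ Q, w ∉ zpowers z ∧ S ≤ Stb z w ∧ IsConj z w ∧
      t * w * t⁻¹ = w⁻¹ := by
    obtain ⟨l, hl, e⟩ := h.exists_conj_fix g1
    have n := NZ.of_comm (h.Lz l hl)
    have q1 := h.nQ l n _ g1
    have q2 : l * (g * z * g⁻¹) * l⁻¹ ∉ zpowers z := fun c =>
      g2 (by simpa [mul_assoc] using n.inv.conj_mem c)
    have q3 : IsConj z (l * (g * z * g⁻¹) * l⁻¹) := isConj_iff.2 ⟨l * g, by group⟩
    generalize l * (g * z * g⁻¹) * l⁻¹ = w at e q1 q2 q3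
    have m := h.inv_mod ht q1
    generalize hd : t * w * t⁻¹ * w = d at m
    obtain ⟨a, ha, e'⟩ := coset h q1 q2 m
    have c : Commute w d := zp_comm m (h.zS w (h.QS q1))
    refine ⟨d * w, mul_mem (h.ZQ m) q1, fun c => q2 (((zpowers z).mul_mem_cancel_left m).1 c),
      fun s hs => ⟨h.zS s hs, ?_⟩, q3.trans (isConj_iff.2 ⟨a, e'⟩), ?_⟩
    · rw [← conj_mul, zp_comm m (h.zS s hs), mul_inv_cancel_right, mul_inv_rev,
        show d * (s * w * s⁻¹) * (w⁻¹ * d⁻¹) = d * (s * w * s⁻¹ * w⁻¹) * d⁻¹ by group]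
      exact mul_mem (mul_mem m (e hs).2) (inv_mem m)
    · rw [← conj_mul, zp_comm m tz, mul_inv_cancel_right, eq_mul_inv_of_mul_eq hd, ← c.eq, mul_inv_rev,
        inv_eq_sq_of_cube (h.Q3 d (h.ZQ m)), mul_assoc]
  have zz := fun {f} (hf : f ∈ Q) => h.zS f (h.QS hf)
  have iz := h.Lz i iL
  have sw := comm_of_inv h (ws hs) tz st tw (zz hw)
  obtain ⟨u, hu⟩ : ∃ u, i * w * i⁻¹ = u := ⟨_, rfl⟩
  have uQ : u ∈ Q := hu ▸ h.nQ i (.of_comm iz) w hw
  have su : s * u = u * s := by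
    have : Commute (i * s * i⁻¹) u := by
      show _ * _ = _ * _
      rw [← hu, conj_mul, conj_mul, sw]
    exact (by simpa [is] using this : Commute s u)
  have iu : i * u * i⁻¹ = w⁻¹ := by
    have m := ker h ht (h.mem_Q hi ht) (((show Commute i t from it).mul_left it).mul_left
      (Commute.refl t).inv_left)
    calc _ = i * i * t⁻¹ * (t * w * t⁻¹) * (i * i * t⁻¹)⁻¹ := by rw [← hu]; group
      _ = _ := by rw [tw, ← zp_comm m (zz (inv_mem hw)), mul_inv_cancel_right]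
  have wu := fix_comm h hs hs' s3 hw uQ sw su
  let τ : V4 → G := fun x => co2 z w (bp sv x, bp uv x) * co2 u s (bp wv x, bp zv x)
  have add : ∀ x y, τ (x + y) = τ x * τ y := fun x y => by
    simp only [τ, bp_add, ← Prod.mk_add_mk]
    rw [co2_add h.z3 (h.Q3 w hw) (zz hw).symm, co2_add (h.Q3 u uQ) s3 su.symm]
    exact Commute.mul_mul_mul_comm (Commute.mul_left
      (Commute.mul_right (Commute.pow_pow (zz uQ).symm _ _) (Commute.pow_pow (h.zS s hs).symm _ _))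
      (Commute.mul_right (Commute.pow_pow wu _ _) (Commute.pow_pow sw.symm _ _))) _ _
  have v : ∀ {x : V4} {a b c d : ℕ}, ((bp sv x).val, (bp uv x).val, (bp wv x).val, (bp zv x).val) =
      (a, b, c, d) → τ x = z ^ a * w ^ b * (u ^ c * s ^ d) := fun e => by
    simp only [Prod.mk.injEq] at e
    simp only [τ, co2, e]
  have τ0 : τ zv = z := (v (a := 1) (b := 0) (c := 0) (d := 0) (by decide)).trans (by simp)
  have τ1 : τ wv = w := (v (a := 0) (b := 1) (c := 0) (d := 0) (by decide)).trans (by simp)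
  have τ2 : τ uv = u := (v (a := 0) (b := 0) (c := 1) (d := 0) (by decide)).trans (by simp)
  have τ3 : τ sv = s := (v (a := 0) (b := 0) (c := 0) (d := 1) (by decide)).trans (by simp)
  have aI : Act τ i AI := (act_of_q add (by rw [τ0, iz, mul_inv_cancel_right]) (by rw [τ1, τ2, hu])
    (by rw [add_neg' add, τ1, τ2, iu]) (by rw [add_neg' add, τ3, is])).congr mc1.1
  have inj : Function.Injective τ := fun x y e => by
    have e' : τ (x - y) = 1 := by rw [sub_eq_add_neg, add, add_neg' add, e, mul_inv_cancel]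
    rw [← sub_eq_zero]
    generalize x - y = p at e'
    have k : ∀ {x}, τ x = 1 → τ (ap AI x) = 1 := fun e => by rw [← aI, e]; simp
    refine (kerQ p).resolve_right fun ⟨c, hc⟩ => ?_
    have : τ (ap (p, ap AI p, ap AI (ap AI p), ap AI (ap AI (ap AI p))) c) = 1 := by
      rw [ap]
      simp only [add, add_smul' add, e', k e', k (k e'), k (k (k e')), one_pow, one_mul]
    simp only [List.mem_cons, List.not_mem_nil, or_false] at hc
    rcases hc with hc | hc | hc <;> rw [hc] at this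
    exacts [h.z1 (τ0 ▸ this), w1 (τ1 ▸ this ▸ one_mem _), hs' (τ3 ▸ this ▸ one_mem _)]
  let J : Subgroup G :=
    { carrier := Set.range τ
      one_mem' := ⟨0, add_zero' add⟩
      mul_mem' := by rintro _ _ ⟨x, rfl⟩ ⟨y, rfl⟩; exact ⟨_, add x y⟩
      inv_mem' := by rintro _ ⟨x, rfl⟩; exact ⟨_, add_neg' add x⟩ }
  have co : Co J τ := ⟨add, inj, fun _ => Iff.rfl⟩
  have m : ∀ x, co2 z w (bp sv x, bp uv x) * u ^ (bp wv x).val ∈ Q := fun x =>
    mul_mem (mul_mem (pow_mem h.zQ _) (pow_mem hw _)) (pow_mem uQ _)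
  have e : ∀ x, τ x = co2 z w (bp sv x, bp uv x) * u ^ (bp wv x).val * s ^ (bp zv x).val := fun x =>
    (mul_assoc _ _ _).symm
  refine ⟨J, τ, i, ⟨h, cL, ?_, ?_, ?_, ?_⟩, co, τ0, fun x => ?_, aI, hi, τ1 ▸ zw⟩
  · rintro _ ⟨x, rfl⟩
    exact e x ▸ mul_mem (h.QS (m x)) (pow_mem hs _)
  · rintro _ ⟨x, rfl⟩ _ ⟨y, rfl⟩
    exact co.comm x y
  · rintro _ ⟨x, rfl⟩
    rw [pow_three', ← add, ← add, three_x, co.zero]
  · exact (Nat.card_range_of_injective inj).trans (by simp)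
  · rw [e, Q.mul_mem_cancel_left (m x)]
    generalize bp zv x = c
    refine ⟨fun e => by_contra fun c0 => hs' ?_, fun e => by rw [e]; simp⟩
    rcases (by decide : ∀ c : ZMod 3, c ≠ 0 → c.val = 1 ∨ c.val = 2) c c0 with f | f <;> rw [f] at e
    · simpa using e
    · rw [show s = s ^ 3 * (s ^ 2)⁻¹ by group, s3, one_mul]; exact inv_mem e

end CL.HN3
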