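import Mathlib
import Cfsg.Agent.PERM.HN3A
import Cfsg.Agent.PERM.A8Main

/-!
Tools for S3340: a convenient form of the three-local characterization of `A₈`, and sifting of codes of `A₁₂`.
-/

set_option autoImplicit false

namespace CL.HN3

open CL.K CL.HU CL.McL3 CL.Odd CL.Odd.A8 Equiv

section A8

variable {X : Type*} [Group X]

theorem swap_star : ∀ x y : Fin 5, x = y ∨ (∃ i : Fin 4, swap x y = swap 0 i.succ) ∨
    ∃ i j : Fin 4, swap x y = swap 0 i.succ * swap 0 j.succ * swap 0 i.succ := by decide +kernel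

theorem mkZ5 [Finite X] {z : X} {f : S5 →* X} (z3 : z ^ 3 = 1) (z1 : z ≠ 1) (hc : f c5 ≠ 1)
    (hs : ∀ i : Fin 4, f (swap 0 i.succ) * z * (f (swap 0 i.succ))⁻¹ = z⁻¹)
    (all : ∀ K : Subgroup X, z ∈ K → (∀ ρ, f ρ ∈ K) → ∀ g, NZ z g → g ∈ K) : Z5 z f := by
  have cm' : ∀ a b : S5, f (a * b) * z * (f (a * b))⁻¹ = f a * (f b * z * (f b)⁻¹) * (f a)⁻¹ :=
    fun a b => by rw [map_mul]; group
  have key : ∀ ρ : S5, (Perm.sign ρ = 1 → f ρ * z * (f ρ)⁻¹ = z) ∧
      (Perm.sign ρ = -1 → f ρ * z * (f ρ)⁻¹ = z⁻¹) := fun ρ => by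
    induction ρ using Perm.swap_induction_on with
    | one => exact ⟨fun _ => by simp, fun e => absurd e (by decide)⟩
    | swap_mul ρ x y hxy ih =>
      have s : f (swap x y) * z * (f (swap x y))⁻¹ = z⁻¹ := by
        rcases swap_star x y with e | ⟨i, e⟩ | ⟨i, j, e⟩
        · exact absurd e hxy
        · rw [e, hs]
        · rw [e, cm', hs, ← conj_inv, cm', hs, ← conj_inv, hs, inv_inv]
      rw [Perm.sign_mul, Perm.sign_swap hxy, cm']
      refine ⟨fun e => ?_, fun e => ?_⟩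
      · rw [ih.2 (by rw [← neg_inj, neg_neg, ← e]; simp), ← conj_inv, s, inv_inv]
      · rw [ih.1 (by rw [← neg_inj, ← e]; simp), s]
  have nz : ∀ ρ, NZ z (f ρ) := fun ρ => (Int.units_eq_one_or (Perm.sign ρ)).imp (key ρ).1 (key ρ).2
  have inj : Function.Injective f := by
    rw [← MonoidHom.ker_eq_bot_iff]
    by_contra e
    exact hc (Perm.alternatingGroup_le_of_normal (by simp) ((Subgroup.nontrivial_iff_ne_bot _).2 e)
      (show c5 ∈ alternatingGroup (Fin 5) from Perm.mem_alternatingGroup.2 (by decide)))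
  refine ⟨inj, z3, fun ⟨b, e⟩ => z1 ?_, fun ρ => (key ρ).1, fun ρ => (key ρ).2, fun g hg => ?_⟩
  · rw [← e, eq_one_of_normal b (inj (by rw [map_pow, e, z3, map_one])) fun ρ => .inr
      ((nz ρ).imp (fun e' => inj (by simpa [e] using e')) fun e' => inj (by simpa [e] using e')), map_one]
  · have := all (Subgroup.zpowers z ⊔ f.range) (Subgroup.mem_sup_left (Subgroup.mem_zpowers z))
      (fun ρ => Subgroup.mem_sup_right ⟨ρ, rfl⟩) g hg
    rw [← SetLike.mem_coe, Subgroup.coe_mul_of_right_le_normalizer_left _ _ (by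
      rintro _ ⟨ρ, rfl⟩
      exact Subgroup.mem_normalizer_fintype fun c hc => (nz ρ).conj_mem hc)] at this
    obtain ⟨a, ha, b, hb, rfl⟩ := this
    rcases (mem_zpowers_three z3).1 ha with rfl | rfl | rfl
    · exact .inl (by simpa using hb)
    · exact .inr (.inr (by simpa using hb))
    · exact .inr (.inl (by simpa using hb))

theorem aut4 (φ : X ≃* X) {a b : X} (h1 : a ≠ b) (h2 : a ≠ b⁻¹)
    (ha : (φ a = a ∨ φ a = a⁻¹) ∨ φ a = b ∨ φ a = b⁻¹)
    (hb : (φ b = a ∨ φ b = a⁻¹) ∨ φ b = b ∨ φ b = b⁻¹) : φ (φ (φ (φ a))) = a := by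
  rcases ha with (e | e) | e | e
  · simp [e]
  · simp [e]
  all_goals rcases hb with (e' | e') | e' | e'
  · simp [e, e']
  · simp [e, e']
  · exact absurd (φ.injective (e.trans e'.symm)) h1
  · exact absurd (φ.injective (by simp [e, e'])) h2
  · simp [e, e']
  · simp [e, e']
  · exact absurd (φ.injective (by simp [e, e'])) h2
  · exact absurd (φ.injective (e.trans e'.symm)) h1

theorem iso_t [Finite X] {z t : X} {f : S5 →* X} (Z : Z5 z f) (tt : t * t = 1)
    (h1 : t * z * t⁻¹ = f c5) (h3 : t * f s5 * t⁻¹ = f (s5 * w5))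
    (cy : ∀ K : Subgroup X, z ∈ K → f c5 ∈ K → t ∈ K → cz (z * f c5) ≤ K) :
    Nonempty (X ≃* Alt8) := by
  have fl : ∀ {a b : X}, t * a * t⁻¹ = b → t * b * t⁻¹ = a := fun e => by
    rw [← e, show ∀ a : X, t * (t * a * t⁻¹) * t⁻¹ = (t * t) * a * (t * t)⁻¹ from fun a => by group, tt]
    simp
  have Z' := Z.conj t
  rw [h1] at Z'
  obtain ⟨z', fc⟩ : ∃ z', f c5 = z' := ⟨_, rfl⟩
  have zz : Commute z z' := fc ▸ (Z.comm (by decide)).symm
  have n1 : z' ≠ z := fun e => Z.nm ⟨c5, fc.trans e⟩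
  have n2 : z' ≠ z⁻¹ := fun e => Z.inv.nm ⟨c5, fc.trans e⟩
  have sz := Z.od s5 (by decide)
  have sz' : f s5 * z' * (f s5)⁻¹ = z' := by
    rw [← fc, ← map_inv, ← map_mul, ← map_mul]; exact congrArg f (by decide)
  have h2 := fl h1
  rw [fc] at h1 h2 cy Z'
  have add := co2_add Z.z3 Z'.z3 zz
  have inj := co2_inj Z.z3 Z'.z3 zz Z.z1 Z'.z1 n1 n2
  let c : Multiplicative V2 →* X := MonoidHom.mk' (fun v => co2 z z' v.toAdd) fun u v => add _ _
  have cinj : Function.Injective c := inj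
  obtain ⟨D, hD⟩ : ∃ D, c.range = D := ⟨_, rfl⟩
  have mD : ∀ d, d ∈ D ↔ ∃ v, co2 z z' v = d := fun d => hD ▸ Iff.rfl
  have zD : z ∈ D := (mD _).2 ⟨(1, 0), by simp [co2, ZMod.val_one]⟩
  have zD' : z' ∈ D := (mD _).2 ⟨(0, 1), by simp [co2, ZMod.val_one]⟩
  have gen : ∀ K : Subgroup X, z ∈ K → z' ∈ K → D ≤ K := fun K a b d hd => by
    obtain ⟨v, rfl⟩ := (mD _).1 hd
    exact K.mul_mem (K.pow_mem a _) (K.pow_mem b _)
  have card : Nat.card D = 9 := by
    rw [← hD, ← Nat.card_congr (MonoidHom.ofInjective cinj).toEquiv]; simp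
  have comm : IsMulCommutative D := hD ▸ inferInstance
  have cD : ∀ a ∈ D, ∀ b ∈ D, a * b = b * a := fun a ha b hb =>
    congrArg Subtype.val (comm.is_comm.comm ⟨a, ha⟩ ⟨b, hb⟩)
  have exp : ∀ d ∈ D, d ^ 3 = 1 := fun d hd => by
    obtain ⟨v, rfl⟩ := (mD _).1 hd
    rw [co2, ((zz.pow_left _).pow_right _).mul_pow, ← pow_mul, ← pow_mul, mul_comm _ 3, mul_comm _ 3,
      pow_mul, pow_mul, Z.z3, Z'.z3]
    simp
  have nD : ∀ {n : X}, n * z * n⁻¹ ∈ D → n * z' * n⁻¹ ∈ D → n ∈ Subgroup.normalizer (D : Set X) :=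
    fun {n} h1 h2 => Subgroup.mem_normalizer_fintype
      (gen (D.comap (MulAut.conj n).toMonoidHom) h1 h2)
  have tN := nD (h1 ▸ zD') (h2 ▸ zD)
  have tD : ∀ d ∈ D, d * t * z ≠ z * (d * t) := fun d hd e => n1 (by
    rw [← h1, mul_inv_eq_iff_eq_mul, ← mul_right_inj d, ← mul_assoc, e, ← mul_assoc, ← mul_assoc,
      cD _ hd _ zD])
  have yD := D.mul_mem zD zD'
  have cy' : ∀ g ∈ cz (z * z'), g ∈ D ∨ ∃ d ∈ D, g = d * t := fun g hg => by
    have := cy (D ⊔ Subgroup.zpowers t) (Subgroup.mem_sup_left zD) (Subgroup.mem_sup_left zD')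
      (Subgroup.mem_sup_right (Subgroup.mem_zpowers t)) hg
    rw [← SetLike.mem_coe, Subgroup.coe_mul_of_right_le_normalizer_left _ _
      (Subgroup.zpowers_le.2 tN)] at this
    obtain ⟨a, ha, b, hb, rfl⟩ := this
    rcases (mem_zpowers_two tt).1 hb with rfl | rfl
    · exact .inl (by simpa using ha)
    · exact .inr ⟨a, ha, rfl⟩
  have cent : Subgroup.centralizer (D : Set X) ≤ D := fun g hg =>
    (cy' g (mem_cz'.2 (hg _ yD).symm)).resolve_right fun ⟨d, hd, e⟩ => tD d hd (e ▸ (hg _ zD).symm)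
  have y1 : cz (z * z') ≤ Subgroup.normalizer (D : Set X) := fun g hg => by
    rcases cy' g hg with e | ⟨d, hd, rfl⟩
    · exact Subgroup.le_normalizer e
    · exact mul_mem (Subgroup.le_normalizer hd) tN
  have Dy : D ≤ cz (z * z') := fun d hd => mem_cz'.2 (cD _ hd _ yD)
  have ty : t ∈ cz (z * z') := mem_cz.2 (by rw [← conj_mul, h1, h2, zz.eq])
  have y2 : Nat.card (cz (z * z')) = 18 := by
    have : (D.subgroupOf (cz (z * z'))).index = 2 := Subgroup.index_eq_two_iff.2 ⟨⟨t, ty⟩, fun g => by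
      have tD' : t ∉ D := fun e => tD 1 D.one_mem (by rw [one_mul, cD _ e _ zD])
      simp only [Subgroup.mem_subgroupOf, Subgroup.coe_mul]
      rcases cy' g g.2 with e | ⟨d, hd, e⟩
      · exact .inr ⟨e, fun e' => tD' ((D.mul_mem_cancel_left e).1 e')⟩
      · rw [e, mul_assoc, tt, mul_one]
        exact .inl ⟨hd, fun e' => tD' ((D.mul_mem_cancel_left hd).1 e')⟩⟩
    rw [← (D.subgroupOf (cz (z * z'))).card_mul_index, this,
      Nat.card_congr (Subgroup.subgroupOfEquivOfLe Dy).toEquiv, card]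
  have sN := nD (sz ▸ D.inv_mem zD) (sz'.symm ▸ zD')
  have szz : f s5 * (z * z') * (f s5)⁻¹ = z⁻¹ * z' := by rw [← conj_mul, sz, sz']
  have y3 : cz (z⁻¹ * z') ≤ Subgroup.normalizer (D : Set X) := szz ▸ fun g hg => by
    have := y1 (show (f s5)⁻¹ * g * (f s5)⁻¹⁻¹ ∈ _ by simpa [mul_assoc] using conj_mem_cz (f s5)⁻¹ hg)
    rwa [Subgroup.mul_mem_cancel_right _ (inv_mem (inv_mem sN)),
      Subgroup.mul_mem_cancel_left _ (inv_mem sN)] at this
  have y4 : Nat.card (cz (z⁻¹ * z')) = 18 := (card_cz_of_isConj (isConj_iff.mpr ⟨_, szz⟩)).trans y2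
  have cases : ∀ d ∈ D, d ≠ 1 → (d = z ∨ d = z⁻¹) ∨ (d = z' ∨ d = z'⁻¹) ∨
      (cz d ≤ Subgroup.normalizer (D : Set X) ∧ Nat.card (cz d) = 18) := fun d hd d1 => by
    obtain ⟨⟨i, j⟩, rfl⟩ := (mD _).1 hd
    have i1 : z ^ 2 = z⁻¹ := by rw [CL.AltPres.inv_eq_sq_of_cube Z.z3, pow_two]
    have i2 : z' ^ 2 = z'⁻¹ := by rw [CL.AltPres.inv_eq_sq_of_cube Z'.z3, pow_two]
    have v : ∀ i : ZMod 3, i.val = 0 ∨ i.val = 1 ∨ i.val = 2 := by decide
    rcases v i with a | a | a <;> rcases v j with b | b | b <;>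
      simp only [co2, a, b, pow_zero, pow_one, one_mul, mul_one, i1, i2] at d1 ⊢
    · exact absurd rfl d1
    · simp
    · simp
    · simp
    · exact .inr (.inr ⟨y1, y2⟩)
    · refine .inr (.inr ?_)
      rw [← cz_inv, mul_inv_rev, inv_inv, ← zz.inv_left.eq]
      exact ⟨y3, y4⟩
    · simp
    · exact .inr (.inr ⟨y3, y4⟩)
    · refine .inr (.inr ?_)
      rw [← cz_inv, mul_inv_rev, inv_inv, inv_inv, ← zz.eq]
      exact ⟨y1, y2⟩
  have idx : ¬ 3 ∣ D.index := not_dvd_index_of_normalizer_le' (n := 2) card le_rfl fun h27 => by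
    have p4 : ∀ g ∈ Subgroup.normalizer (D : Set X), g ^ 4 ∈ D := fun g hg => by
      have k : ∀ {a : X}, a ∈ D → a ≠ 1 → 5 ∣ Nat.card (cz a) →
          (MulAut.conj g a = z ∨ MulAut.conj g a = z⁻¹) ∨ MulAut.conj g a = z' ∨ MulAut.conj g a = z'⁻¹ :=
        fun {a} ha a1 a5 => (cases _ ((Subgroup.mem_normalizer_iff.1 hg a).1 ha)
          fun e => a1 (conj_eq_one_iff.1 e)).imp_right fun e => e.resolve_right fun e => by
            rw [← card_cz_of_isConj (isConj_iff.2 ⟨g, rfl⟩), e.2] at a5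
            omega
      have a := k zD Z.z1 Z.five_dvd
      have b := k zD' Z'.z1 Z'.five_dvd
      have r : ∀ {a : X}, MulAut.conj g (MulAut.conj g (MulAut.conj g (MulAut.conj g a))) = a →
          a ∈ cz (g ^ 4) := fun {a} e => mem_cz_comm.1 (mem_cz.2 (Eq.trans (by
            simp only [MulAut.conj_apply, pow_succ, pow_zero]; group) e))
      exact cent fun d hd => mem_cz'.1 (gen _
        (r (aut4 _ n1.symm (fun e => n2 (by rw [e, inv_inv])) a b)) (r (aut4 _ n1 n2 b.symm a.symm)) hd)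
    rw [← (D.subgroupOf (Subgroup.normalizer (D : Set X))).card_mul_index,
      Nat.card_congr (Subgroup.subgroupOfEquivOfLe Subgroup.le_normalizer).toEquiv, card] at h27
    obtain ⟨q, hq⟩ := exists_prime_orderOf_dvd_card' (G := Subgroup.normalizer (D : Set X) ⧸
      D.subgroupOf (Subgroup.normalizer (D : Set X))) 3 (by
        rw [← Subgroup.index_eq_card]; omega)
    obtain ⟨g, rfl⟩ := QuotientGroup.mk_surjective q
    refine absurd (hq.symm.dvd.trans (orderOf_dvd_of_pow_eq_one (n := 4) ?_)) (by decide)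
    rw [← QuotientGroup.mk_pow, QuotientGroup.eq_one_iff]
    exact p4 g g.2
  exact Hyp.iso ⟨Z, Z', fc, by simpa [fc] using h2, by simpa using h3, by simpa using fl h3, card, idx,
    comm, exp, cent, gen, fun d hd d1 => (cases d hd d1).imp_right (.imp_right And.left), y2⟩

end A8

theorem cw_mem {K : Subgroup A12} {L : List ℕ} (h : ∀ c ∈ L, Ev c ∧ el c ∈ K) (w : List ℕ) :
    Ev (cw L w) ∧ el (cw L w) ∈ K := by
  induction w with
  | nil => exact ⟨ev_one, el_one ▸ K.one_mem⟩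
  | cons a w ih =>
    have : Ev (L.getD a c1) ∧ el (L.getD a c1) ∈ K := by
      rw [List.getD_eq_getElem?_getD]
      cases e : L[a]? with
      | none => exact ⟨ev_one, el_one ▸ K.one_mem⟩
      | some c => exact h c (List.mem_of_getElem? e)
    exact ⟨this.1.mul ih.1, el_cm this.1 ih.1 ▸ K.mul_mem this.2 ih.2⟩

/-- for each step `(p, w)`: if `p` is moved, multiply by the word `w`; the result must be the identity -/
noncomputable def sift (L : List ℕ) (S : List (ℕ × List ℕ)) : ℕ → Bool :=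
  List.rec (motive := fun _ => ℕ → Bool) (fun c => Nat.beq c c1)
    (fun s _ ih c => Bool.rec (motive := fun _ => Bool) (force (cm (cw L s.2) c) ih) (ih c)
      (Nat.beq (ap c s.1) s.1)) S

theorem sift_mem {K : Subgroup A12} {L : List ℕ} (h : ∀ c ∈ L, Ev c ∧ el c ∈ K) {S : List (ℕ × List ℕ)}
    {σ : A12} (e : sift L S (cd σ) = true) : σ ∈ K := by
  induction S generalizing σ with
  | nil => rw [← el_cd σ, Nat.eq_of_beq_eq_true e, el_one]; exact K.one_mem
  | cons s S ih =>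
    change Bool.rec (motive := fun _ => Bool) (force _ (sift L S)) (sift L S _) _ = true at e
    cases b : Nat.beq (ap (cd σ) s.1) s.1 <;> rw [b] at e
    · have w := cw_mem h s.2
      rw [← K.mul_mem_cancel_left w.2]
      exact ih (by rw [cd_mul, cd_el w.1]; exact (force_eq _ _).symm.trans e)
    · exact ih e

end CL.HN3
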