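import Mathlib
import Cfsg.Agent.PERM.HN3A
import Cfsg.Agent.PERM.A8Main
import Cfsg.Agent.PERM.HN3V1

/-!
(S3340): the centraliser of the four-group `V = ⟨v1, v2⟩` (on the points `6, 7, 8, 11`) lies in `A₁₂`.
API: PERM/HN3A.  `H = C(v1) ⊓ C(v2)`, `V` is central in `H`, `H̄ = H / V`.  For a 3-element `d ∈ H`, `g d g⁻¹ = d' v` with
`d'³ = 1`, `v ∈ V` forces `v = 1` (cube), so centralisers and normalisers of 3-subgroups in `H̄` are images.
Apply `CL.Odd.A8.iso_alt8` (or `CL.Odd.A8.Hyp.iso`) to `H̄` with `z = c0`, `y = c0 c1`, `D = ⟨c0, c1⟩`: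
* `Z5 c0 f`: `N_H(⟨c0⟩) ≤ range` (`nz`); `f : S5 →* H̄`, `σ ↦ σ` on the points `3, 4, 5, 9, 10` times `(0 1)^(sign σ)`;
  an element of `A₁₂` normalising `⟨c0⟩` and centralising `V` is `v c0^k f(σ)`.  (`exists_Z5` in PERM/A8Loc builds `f` from an
  isomorphism of the normaliser.)
* `C_H(y) ≤ range`: for `g ∈ C_H(y)`, `i⁻¹ g i` centralises `c2, u1, u2` (`i2`, `iu1`, `iu2`), so it is `Λ σ` (`nz2`) with `σ` in the
  group of order 72 generated by `c2, u1, u2, c3, t` (`el_solve` with a list of words), and `i` maps these to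
  `y, v1, v2, x, t`.  Then `C_H(y) = Λ(C(y, V))`, 72 elements `v c0^a c1^b t^ε c..` (`el_solve`), so `|C_H̄(y)| = 18` and it normalises `D`.
* `N_H(D) ≤ range`: `c0` is not conjugate in `H` to `(c0 c1^±1)^±1` (`C_H(c0)` contains an element of order 5, or compare
  orders; `x = c0 c1⁻¹` is conjugate to `y` by `Λ (3 4)(9 10)`), so `n c0 n⁻¹ ∈ {c0^±1, c1^±1}`; use `nz`, and `t`.
  `N_H̄(D) / D ≅ D₈`, `C_H̄(D) = D`, and `D` is Sylow (`CL.Odd.not_dvd_index_of_normalizer_le'` in PERM/A8Cent, or the normaliser condition in `p`-groups).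
Then `|H| = 4 · 20160`, and `Λ(V × A₈) ≤ H` has the same order (or: the image of `A₈ → H̄` is injective, so onto).
It may be convenient to define `θ : alternatingGroup (Fin 8) →* H̄` first (points `0,1,2,3,4,5,9,10`), and to prove: every
element of `A₁₂` centralising `v1, v2` is `v · ε(a)`; then all local data are pulled back from `A₈`.
-/

set_option autoImplicit false

namespace CL.HN3

open CL.HU CL.McL3

namespace CV

open CL.Odd CL.Odd.A8 Equiv

/-- the centraliser of `V` in `A₁₂` -/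
noncomputable def C : Subgroup A12 := cz (el kv1) ⊓ cz (el kv2)

/-- test for codes of elements of `C` -/
noncomputable def cB (c : ℕ) : Bool :=
  (evB c && evB kv1 && Nat.beq (cm c kv1) (cm kv1 c)) && (evB c && evB kv2 && Nat.beq (cm c kv2) (cm kv2 c))

theorem mem {c : ℕ} (h : cB c = true) : Ev c ∧ el c ∈ C := by
  rw [cB, Bool.and_eq_true] at h
  exact ⟨ev_of (Bool.and_eq_true_iff.1 (Bool.and_eq_true_iff.1 h.1).1).1,
    Subgroup.mem_inf.2 ⟨mem_cz'.2 (el_comm h.1), mem_cz'.2 (el_comm h.2)⟩⟩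

open Classical in
/-- the element of `C` with a given code -/
noncomputable def m (c : ℕ) : C := if h : el c ∈ C then ⟨el c, h⟩ else 1

theorem m_val {c : ℕ} (h : cB c = true) : (m c).1 = el c := by rw [m, dif_pos (mem h).2]

theorem m_one : m c1 = 1 := Subtype.ext ((m_val (by decide +kernel)).trans el_one)

theorem m_cm {a b : ℕ} (ha : cB a = true) (hb : cB b = true) : m a * m b = m (cm a b) := by
  have := el_cm (mem ha).1 (mem hb).1
  refine Subtype.ext ?_
  rw [Subgroup.coe_mul, m_val ha, m_val hb, m, dif_pos (this ▸ mul_mem (mem ha).2 (mem hb).2)]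
  exact this.symm

theorem m3 {a b c d : ℕ} (h : (cB a && cB b && cB c && cB (cm a b) && Nat.beq (cm (cm a b) c) d) = true) :
    m a * m b * m c = m d := by
  simp only [Bool.and_eq_true, Nat.beq_eq] at h
  rw [m_cm h.1.1.1.1 h.1.1.1.2, m_cm h.1.2 h.1.1.2, h.2]

theorem m2 {a b c : ℕ} (h : (cB a && cB b && Nat.beq (cm a b) c) = true) : m a * m b = m c := by
  simp only [Bool.and_eq_true, Nat.beq_eq] at h
  rw [m_cm h.1.1 h.1.2, h.2]

theorem m4 {a b c d e : ℕ} (h : (cB a && cB b && cB c && cB d && cB (cm a b) && cB (cm (cm a b) c) &&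
    Nat.beq (cm (cm (cm a b) c) d) e) = true) : m a * m b * m c * m d = m e := by
  simp only [Bool.and_eq_true, Nat.beq_eq] at h
  rw [m_cm h.1.1.1.1.1.1 h.1.1.1.1.1.2, m_cm h.1.1.2 h.1.1.1.1.2, m_cm h.1.2 h.1.1.1.2, h.2]

theorem mj {a b c : ℕ} (h : (cB a && cB b && cB c && Nat.beq (cm a b) (cm c a)) = true) :
    m a * m b * (m a)⁻¹ = m c := by
  simp only [Bool.and_eq_true, Nat.beq_eq] at h
  rw [m_cm h.1.1.1 h.1.1.2, h.2, ← m_cm h.1.2 h.1.1.1, mul_inv_cancel_right]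

/-- `(9 p)(0 1)` -/
def ks : Fin 4 → ℕ := ![0xb9a876543201, 0xba3876549201, 0xba4876593201, 0xba5876943201]

/-- `(0 1 p)` -/
def kg : Fin 6 → ℕ :=
  ![0xba9876543021, 0xba9876540231, 0xba9876503241, 0xba9876043251, 0xba0876543291, 0xb098765432a1]

theorem exists_f : ∃ f : S5 →* C, ∀ i : Fin 4, f (swap 0 i.succ) = m (ks i) := by
  have b : ∀ i, cB (ks i) = true := by decide +kernel
  have b2 : ∀ i j, cB (cm (ks i) (ks j)) = true ∧ cB (cm (cm (ks i) (ks j)) (ks i)) = true := by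
    decide +kernel
  refine CL.AltPres.exists_perm_hom_of_star 4 _ (fun i => ?_) (fun i j _ => ?_) fun i j l a1 a2 a3 => ?_
  · rw [m_cm (b i) (b i), (by decide +kernel : ∀ i, cm (ks i) (ks i) = c1), m_one]
  · rw [m_cm (b i) (b j), m_cm (b j) (b i), m_cm (b2 i j).1 (b i), m_cm (b2 j i).1 (b j),
      (by decide +kernel : ∀ i j, cm (cm (ks i) (ks j)) (ks i) = cm (cm (ks j) (ks i)) (ks j))]
  · rw [Commute, SemiconjBy, m_cm (b i) (b j), m_cm (b2 i j).1 (b i), m_cm (b2 i j).2 (b l),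
      m_cm (b l) (b2 i j).2]
    exact congrArg m ((by decide +kernel : ∀ i j l, i = j ∨ i = l ∨ j = l ∨
      cm (cm (cm (ks i) (ks j)) (ks i)) (ks l) = cm (ks l) (cm (cm (ks i) (ks j)) (ks i))) i j l
      |>.resolve_left a1 |>.resolve_left a2 |>.resolve_left a3)

theorem exists_ψ : ∃ ψ : Alt8 →* C, ψ (CL.AltPres.gen (0 : Fin 6)) = m kc0 := by
  have b : ∀ i, cB (kg i) = true := by decide +kernel
  have b2 : ∀ i j, cB (cm (kg i) (kg j)) = true := by decide +kernel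
  obtain ⟨ψ, h⟩ := CL.AltPres.exists_alt_hom 6 (fun i => m (kg i)) (fun i => by
    rw [pow_three', m_cm (b i) (b i), m_cm (b2 i i) (b i),
      (by decide +kernel : ∀ i, cm (cm (kg i) (kg i)) (kg i) = c1), m_one]) fun i j e => by
    rw [pow_two, m_cm (b i) (b j), m_cm (b2 i j) (b2 i j), (by decide +kernel : ∀ i j, i = j ∨
      cm (cm (kg i) (kg j)) (cm (kg i) (kg j)) = c1) i j |>.resolve_left e, m_one]
  exact ⟨ψ, h 0⟩

variable {X : Type*} [Group X]

theorem sift_m (θ : C →* X) {K : Subgroup X} {L : List ℕ} (hL : ∀ c ∈ L, cB c = true ∧ θ (m c) ∈ K)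
    {S : List (ℕ × List ℕ)} {σ : C} (e : sift L S (cd σ.1) = true) : θ σ ∈ K := by
  obtain ⟨ρ, h1, h2⟩ := sift_mem (K := (K.comap θ).map C.subtype)
    (fun c hc => ⟨(mem (hL c hc).1).1, m c, (hL c hc).2, m_val (hL c hc).1⟩) e
  exact (Subtype.ext h2 : ρ = σ) ▸ h1

theorem surj [Finite X] (θ : C →* X) (k1 : θ (m kv1) = 1) (k2 : θ (m kv2) = 1) (z1 : θ (m kc0) ≠ 1)
    (n0 : ∀ g, NZ (θ (m kc0)) g → ∃ σ : C, NZ (el kc0) σ.1 ∧ θ σ = g)
    (ny : ∀ g, g * θ (m ky) = θ (m ky) * g → ∃ σ : C, σ.1 * el ky = el ky * σ.1 ∧ θ σ = g) :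
    Function.Surjective θ := by
  obtain ⟨f, hf⟩ := exists_f
  have f1 : f (swap 0 1) = m 0xb9a876543201 := hf 0
  have f2 : f (swap 0 2) = m 0xba3876549201 := hf 1
  have f3 : f (swap 0 3) = m 0xba4876593201 := hf 2
  have f4 : f (swap 0 4) = m 0xba5876943201 := hf 3
  have fc : f c5 = m kc1 := by
    rw [show c5 = swap 0 2 * swap 0 4 * swap 0 3 * swap 0 2 by decide, map_mul, map_mul, map_mul, f2, f3, f4]
    exact m4 (by decide +kernel)
  have fw : f (s5 * w5) = m 0xb9a876534210 := by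
    rw [show s5 * w5 = swap 0 1 * swap 0 2 * swap 0 3 * swap 0 2 by decide, map_mul, map_mul, map_mul, f1,
      f2, f3]
    exact m4 (by decide +kernel)
  have tj : ∀ {a b c : ℕ}, (cB a && cB b && cB c && Nat.beq (cm a b) (cm c a)) = true →
      θ (m a) * θ (m b) * (θ (m a))⁻¹ = θ (m c) := fun e => by rw [← mj e, map_mul, map_mul, map_inv]
  have h1 : θ (m kt) * θ (m kc0) * (θ (m kt))⁻¹ = θ (m kc1) := tj (by decide +kernel)
  have ci : (m kc0)⁻¹ = m 0xba9876543102 := inv_eq_of_mul_eq_one_right ((m2 (by decide +kernel)).trans m_one)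
  have cv : ∀ σ : C, σ.1 * el kv1 = el kv1 * σ.1 ∧ σ.1 * el kv2 = el kv2 * σ.1 := fun σ =>
    ⟨mem_cz'.1 (Subgroup.mem_inf.1 σ.2).1, mem_cz'.1 (Subgroup.mem_inf.1 σ.2).2⟩
  have Z : Z5 (θ (m kc0)) (θ.comp f) := mkZ5
    (by rw [← map_pow, pow_three', m3 (d := c1) (by decide +kernel), m_one, map_one]) z1
    (by rw [MonoidHom.comp_apply, fc, ← h1, Ne, conj_eq_one_iff]; exact z1)
    (fun i => by
      rw [MonoidHom.comp_apply, hf, ← map_inv θ (m kc0), ci]
      exact tj ((by decide +kernel : ∀ i, (cB (ks i) && cB kc0 && cB 0xba9876543102 &&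
        Nat.beq (cm (ks i) kc0) (cm 0xba9876543102 (ks i))) = true) i))
    fun K a b g hg => by
      obtain ⟨σ, e, rfl⟩ := n0 g hg
      refine sift_m θ (L := [kv1, kv2, kc0, 0xb9a876543201, 0xba3876549201, 0xba4876593201, 0xba5876943201])
        (S := [(6, [0]), (6, [1]), (6, [0]), (2, [2]), (2, [2]), (9, [3, 4, 5, 6]), (9, [3, 4, 5, 6]),
          (9, [3, 4, 5, 6]), (9, [3, 4, 5, 6]), (10, [3, 4, 5, 6, 3]), (10, [3, 4, 5, 6, 3]),
          (10, [3, 4, 5, 6, 3]), (3, [4, 6, 5, 4]), (3, [4, 6, 5, 4]), (4, [5, 6, 5])]) ?_ ?_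
      · simp only [List.mem_cons, List.not_mem_nil, or_false, forall_eq_or_imp, forall_eq]
        exact ⟨⟨by decide +kernel, k1 ▸ K.one_mem⟩, ⟨by decide +kernel, k2 ▸ K.one_mem⟩,
          ⟨by decide +kernel, a⟩, ⟨by decide +kernel, f1 ▸ b _⟩, ⟨by decide +kernel, f2 ▸ b _⟩,
          ⟨by decide +kernel, f3 ▸ b _⟩, ⟨by decide +kernel, f4 ▸ b _⟩⟩
      rcases e with e | e
      · refine el_solve (cons := [(kc0, kc0), (kv1, kv1), (kv2, kv2)]) (by decide +kernel) ?_
        simp only [List.mem_cons, List.not_mem_nil, or_false, forall_eq_or_imp, forall_eq]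
        exact ⟨mul_inv_eq_iff_eq_mul.1 e, cv σ⟩
      · refine el_solve (cons := [(kc0, 0xba9876543102), (kv1, kv1), (kv2, kv2)]) (by decide +kernel) ?_
        simp only [List.mem_cons, List.not_mem_nil, or_false, forall_eq_or_imp, forall_eq]
        exact ⟨mul_inv_eq_iff_eq_mul.1 (e.trans (el_inv (by decide +kernel))), cv σ⟩
  obtain ⟨e⟩ := iso_t Z (t := θ (m kt)) (by rw [← map_mul, m2 (c := c1) (by decide +kernel), m_one, map_one])
    (by rw [MonoidHom.comp_apply, fc, h1])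
    (by rw [MonoidHom.comp_apply, MonoidHom.comp_apply, fw, s5, f1]; exact tj (by decide +kernel))
    fun K a b c g hg => by
      rw [MonoidHom.comp_apply, fc] at b hg
      rw [← map_mul, m2 (c := ky) (by decide +kernel)] at hg
      obtain ⟨σ, e, rfl⟩ := ny g (mem_cz'.1 hg)
      refine sift_m θ (L := [kv1, kv2, kc0, kc1, kt]) (S := [(6, [0]), (6, [1]), (6, [0]), (9, [4]),
        (0, [2]), (0, [2]), (3, [3]), (3, [3])]) ?_
        (el_solve (cons := [(ky, ky), (kv1, kv1), (kv2, kv2)]) (by decide +kernel) ?_) <;>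
        simp only [List.mem_cons, List.not_mem_nil, or_false, forall_eq_or_imp, forall_eq]
      · exact ⟨⟨by decide +kernel, k1 ▸ K.one_mem⟩, ⟨by decide +kernel, k2 ▸ K.one_mem⟩,
          ⟨by decide +kernel, a⟩, ⟨by decide +kernel, b⟩, ⟨by decide +kernel, c⟩⟩
      · exact ⟨e, cv σ⟩
  obtain ⟨ψ, hψ⟩ := exists_ψ
  have inj : Function.Injective (θ.comp ψ) := by
    have := alternatingGroup.isSimpleGroup (α := Fin 8) (by simp)
    rw [← MonoidHom.ker_eq_bot_iff]
    refine (θ.comp ψ).normal_ker.eq_bot_or_eq_top.resolve_right fun e => z1 ?_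
    rw [← hψ]; exact e.ge (Subgroup.mem_top _)
  exact Function.Surjective.of_comp (g := ψ)
    ((Finite.injective_iff_surjective_of_equiv e.toEquiv.symm).1 inj)

end CV

theorem Li.cy {G : Type*} [Group G] {Λ : A12 →* G} {i r : G} (h : Li Λ i r) {g : G}
    (h0 : g * Λ (el ky) = Λ (el ky) * g) (h1 : g * Λ (el kv1) = Λ (el kv1) * g)
    (h2 : g * Λ (el kv2) = Λ (el kv2) * g) : g ∈ Λ.range := by
  have k : ∀ {a b : G}, i * a * i⁻¹ = b → g * b = b * g → i⁻¹ * g * i * a = a * (i⁻¹ * g * i) :=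
    fun {a b} e e' => by
      calc _ = i⁻¹ * (g * (i * a * i⁻¹)) * i := by group
        _ = _ := by rw [e, e', ← e]; group
  obtain ⟨σ, e⟩ := h.nz2 (.of_comm (k h.i2 h0))
  have := sift_mem (K := (Λ.range.comap (MulAut.conj i).toMonoidHom).comap Λ) (σ := σ)
    (L := [kc2, ku1, ku2, kc3, kt])
    (S := [(6, [0]), (6, [0]), (11, [3]), (11, [3]), (9, [4]), (0, [1]), (1, [2])]) (by
      simp only [List.mem_cons, List.not_mem_nil, or_false, forall_eq_or_imp, forall_eq]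
      exact ⟨⟨ev_of (by decide +kernel), _, h.i2.symm⟩, ⟨ev_of (by decide +kernel), _, h.iu1.symm⟩,
        ⟨ev_of (by decide +kernel), _, h.iu2.symm⟩, ⟨ev_of (by decide +kernel), _, h.i3.symm⟩,
        ⟨ev_of (by decide +kernel), _, (mul_inv_eq_iff_eq_mul.2 h.it).symm⟩⟩)
    (el_solve (cons := [(kc2, kc2), (ku1, ku1), (ku2, ku2)]) (by decide +kernel) (by
      simp only [List.mem_cons, List.not_mem_nil, or_false, forall_eq_or_imp, forall_eq]
      exact ⟨h.inj (by simpa [e] using k h.i2 h0), h.inj (by simpa [e] using k h.iu1 h1),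
        h.inj (by simpa [e] using k h.iu2 h2)⟩))
  simpa [e, mul_assoc] using this

theorem Li.cV0 {G : Type*} [Group G] [Finite G] {Λ : A12 →* G} {i r : G} (h : Li Λ i r) {g : G}
    (h1 : g * Λ (el kv1) = Λ (el kv1) * g) (h2 : g * Λ (el kv2) = Λ (el kv2) * g) : g ∈ Λ.range := by
  let H : Subgroup G := CL.Odd.cz (Λ (el kv1)) ⊓ CL.Odd.cz (Λ (el kv2))
  have mH : ∀ {g}, g ∈ H ↔ g * Λ (el kv1) = Λ (el kv1) * g ∧ g * Λ (el kv2) = Λ (el kv2) * g := by
    simp only [H, Subgroup.mem_inf, CL.Odd.mem_cz', implies_true]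
  have mC : ∀ {σ}, σ ∈ CV.C ↔ Λ σ ∈ H := by
    simp only [mH, CV.C, Subgroup.mem_inf, CL.Odd.mem_cz', ← map_mul, h.inj.eq_iff, implies_true]
  let φ : CV.C →* H := (Λ.comp CV.C.subtype).codRestrict H fun σ => mC.1 σ.2
  have φv : ∀ σ, (φ σ).1 = Λ σ.1 := fun _ => rfl
  have hφ : ∀ {c}, CV.cB c = true → (φ (CV.m c)).1 = Λ (el c) := fun e => congrArg Λ (CV.m_val e)
  let V : Subgroup H := Subgroup.closure {φ (CV.m kv1), φ (CV.m kv2)}
  have hV : ∀ v ∈ V, (∀ g, g * v = v * g) ∧ v * v = 1 ∧ v.1 ∈ Λ.range := fun v hv => by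
    induction hv using Subgroup.closure_induction with
    | mem x hx =>
      rcases hx with rfl | rfl
      · exact ⟨fun g => Subtype.ext (by simpa [hφ (c := kv1) (by decide +kernel)] using (mH.1 g.2).1), by
          rw [← map_mul, CV.m2 (c := c1) (by decide +kernel), CV.m_one, map_one], _, rfl⟩
      · exact ⟨fun g => Subtype.ext (by simpa [hφ (c := kv2) (by decide +kernel)] using (mH.1 g.2).2), by
          rw [← map_mul, CV.m2 (c := c1) (by decide +kernel), CV.m_one, map_one], _, rfl⟩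
    | one => simp
    | mul x y _ _ hx hy =>
      exact ⟨fun g => by rw [← mul_assoc, hx.1, mul_assoc, hy.1, mul_assoc], by
        rw [mul_assoc, ← mul_assoc y, hx.1 y, mul_assoc, hy.2.1, mul_one, hx.2.1], mul_mem hx.2.2 hy.2.2⟩
    | inv x _ hx => rwa [inv_eq_of_mul_eq_one_right hx.2.1]
  have : V.Normal := ⟨fun v hv g => by rwa [(hV v hv).1, mul_inv_cancel_right]⟩
  have cube : ∀ {a b : H}, (a : H ⧸ V) = b → a ^ 3 = 1 → b ^ 3 = 1 → a = b := fun {a b} e ha hb => by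
    obtain ⟨e1, e2, -⟩ := hV _ (QuotientGroup.eq.1 e)
    have : (a * (a⁻¹ * b)) ^ 3 = 1 := by rwa [mul_inv_cancel_left]
    rwa [(show Commute _ _ from e1 a).mul_pow, ha, one_mul, pow_three', e2, one_mul, inv_mul_eq_one] at this
  have c3 : ∀ {c}, CV.cB c = true → (evB c && Nat.beq (cm (cm c c) c) c1) = true → φ (CV.m c) ^ 3 = 1 :=
    fun e e' => Subtype.ext (by rw [Subgroup.coe_pow, hφ e, ← map_pow, el_cube e', map_one]; rfl)
  have z3 := c3 (c := kc0) (by decide +kernel) (by decide +kernel)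
  have y3 := c3 (c := ky) (by decide +kernel) (by decide +kernel)
  have lift : ∀ g : H, g.1 ∈ Λ.range → ∃ σ, φ σ = g := fun g ⟨σ, e⟩ =>
    ⟨⟨σ, mC.2 (e ▸ g.2)⟩, Subtype.ext e⟩
  obtain ⟨σ, e⟩ := CV.surj ((QuotientGroup.mk' V).comp φ)
    ((QuotientGroup.eq_one_iff _).2 (Subgroup.subset_closure (by simp)))
    ((QuotientGroup.eq_one_iff _).2 (Subgroup.subset_closure (by simp)))
    (fun e => el_ne (a := kc0) (b := c1) (by decide +kernel) (h.inj (by
      rw [← hφ (by decide +kernel), cube e z3 (one_pow _), el_one, map_one]; rfl)))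
    (fun x hx => by
      obtain ⟨g, rfl⟩ := QuotientGroup.mk_surjective x
      have : NZ (Λ (el kc0)) g := by
        rw [← hφ (by decide +kernel)]
        exact hx.imp (fun e => congrArg Subtype.val (cube (a := g * _ * g⁻¹) e (by simp [z3]) z3))
          fun e => congrArg Subtype.val (cube (a := g * _ * g⁻¹) (b := _⁻¹) e (by simp [z3]) (by simp [z3]))
      obtain ⟨σ, rfl⟩ := lift g (h.nz _ this)
      exact ⟨σ, this.imp (fun e => h.inj (by simpa [φv] using e)) fun e => h.inj (by simpa [φv] using e), rfl⟩)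
    (fun x hx => by
      obtain ⟨g, rfl⟩ := QuotientGroup.mk_surjective x
      have : g * Λ (el ky) = Λ (el ky) * g := by
        rw [← hφ (by decide +kernel), ← mul_inv_eq_iff_eq_mul]
        exact congrArg Subtype.val (cube (a := g * _ * g⁻¹) (mul_inv_eq_iff_eq_mul.2 hx) (by simp [y3]) y3)
      obtain ⟨σ, rfl⟩ := lift g (h.cy this (mH.1 g.2).1 (mH.1 g.2).2)
      exact ⟨σ, h.inj (by simpa [φv] using this), rfl⟩)
    ((⟨g, mH.2 ⟨h1, h2⟩⟩ : H) : H ⧸ V)
  exact (Λ.range.mul_mem_cancel_left (Λ.range.inv_mem ⟨σ.1, rfl⟩)).1 (hV _ (QuotientGroup.eq.1 e)).2.2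

end CL.HN3
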