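import Mathlib
import Cfsg.Agent.PERM.HN3V

/-!
The extraspecial group `E = E₁ E₂`, `E₂ = i E₁ i⁻¹`.
-/

set_option autoImplicit false
set_option maxRecDepth 100000
set_option synthInstance.maxSize 2000

namespace CL.HN3

open CL.K CL.HU CL.McL3

namespace E8

variable {G : Type*} [Group G]

/-- equal modulo `t` -/
def Rt (t x y : G) : Prop := x = y ∨ x = y * t

theorem Rt.mul {t x y x' y' : G} (tt : t * t = 1) (c : y' * t = t * y') (h : Rt t x y) (h' : Rt t x' y') :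
    Rt t (x * x') (y * y') := by
  rcases h with rfl | rfl <;> rcases h' with rfl | rfl
  exacts [.inl rfl, .inr (mul_assoc ..).symm, .inr (by rw [mul_assoc, ← c, mul_assoc]),
    .inl (by rw [c, mul_assoc, ← mul_assoc t, tt, one_mul])]

theorem Rt.symm {t x y : G} (tt : t * t = 1) (h : Rt t x y) : Rt t y x :=
  h.imp Eq.symm fun e => by rw [e, mul_assoc, tt, mul_one]

theorem Rt.trans {t x y w : G} (tt : t * t = 1) (h : Rt t x y) (h' : Rt t y w) : Rt t x w := by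
  rcases h with rfl | rfl
  · exact h'
  · rcases h' with rfl | rfl
    exacts [.inr rfl, .inl (by rw [mul_assoc, tt, mul_one])]

theorem Rt.cj {t x y g : G} (c : g * t * g⁻¹ = t) (h : Rt t x y) : Rt t (g * x * g⁻¹) (g * y * g⁻¹) :=
  h.imp (fun e => by rw [e]) fun e => by rw [e, ← conj_mul, c]

theorem exists_ek {t : G} {ε : ℕ → G} (tt : t * t = 1) (t1 : t ≠ 1) (c : ∀ X, ε X * t = t * ε X)
    (m : ∀ X < 256, ∀ Y < 256, Rt t (ε X * ε Y) (ε (X ^^^ Y))) (e0 : ε 0 = 1)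
    (z : ∀ X < 256, Rt t (ε X) 1 → X = 0) (sq : ∀ X < 256, ε X * ε X = bif HK.q X then t else 1) :
    ∃ E κ, HK.EK t E κ ∧ ∀ X < 256, ∀ x, Rt t x (ε X) → x ∈ E ∧ κ x = X := by
  classical
  have mm : ∀ {X Y x y}, X < 256 → Y < 256 → Rt t x (ε X) → Rt t y (ε Y) → Rt t (x * y) (ε (X ^^^ Y)) :=
    fun hX hY a b => (a.mul tt (c _) b).trans tt (m _ hX _ hY)
  have iv : ∀ {X x}, X < 256 → Rt t x (ε X) → Rt t x⁻¹ (ε X) := fun {X x} hX a => by
    have := mm hX hX a (.inl rfl)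
    rw [Nat.xor_self, e0] at this
    rcases this with e | e
    · exact .inl (inv_eq_of_mul_eq_one_right e)
    · exact .inr (inv_eq_of_mul_eq_one_right (by rw [← mul_assoc, e, one_mul, tt]))
  let E : Subgroup G :=
    { carrier := {x | ∃ X < 256, Rt t x (ε X)}
      mul_mem' := fun ⟨_, a, b⟩ ⟨_, a', b'⟩ => ⟨_, HK.xor_lt a a', mm a a' b b'⟩
      one_mem' := ⟨0, by norm_num, .inl e0.symm⟩
      inv_mem' := fun ⟨_, a, b⟩ => ⟨_, a, iv a b⟩ }
  let κ : G → ℕ := fun x => if h : x ∈ E then h.choose else 0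
  have k : ∀ X < 256, ∀ x, Rt t x (ε X) → κ x = X := fun X hX x a => by
    have h : x ∈ E := ⟨X, hX, a⟩
    have := mm h.choose_spec.1 hX (iv h.choose_spec.1 h.choose_spec.2) a
    rw [inv_mul_cancel] at this
    exact (dif_pos h).trans (Nat.xor_eq_zero_iff.1 (z _ (HK.xor_lt h.choose_spec.1 hX) (this.symm tt)))
  refine ⟨E, κ, ⟨tt, t1, ⟨0, by norm_num, .inr (by rw [e0, one_mul])⟩, ?_, fun y ⟨X, a, b⟩ => k X a y b ▸ a,
    fun x ⟨X, a, b⟩ y ⟨Y, a', b'⟩ => by rw [k X a x b, k Y a' y b', k _ (HK.xor_lt a a') _ (mm a a' b b')],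
    fun v hv => ⟨ε v, ⟨v, hv, .inl rfl⟩, k v hv _ (.inl rfl)⟩, fun y ⟨X, a, b⟩ => ?_, fun y ⟨X, a, b⟩ => ?_⟩,
    fun X hX x a => ⟨⟨X, hX, a⟩, k X hX x a⟩⟩
  · rintro _ ⟨X, -, rfl | rfl⟩
    exacts [c X, by rw [← mul_assoc, c X]]
  · refine ⟨fun e => ?_, fun e => k 0 (by norm_num) y (by rwa [e0, Rt, one_mul])⟩
    rw [k X a y b] at e
    rwa [e, e0, Rt, one_mul] at b
  · rw [k X a y b, ← sq X a]
    rcases b with rfl | rfl
    exacts [rfl, by rw [mul_assoc, ← mul_assoc t, ← c, mul_assoc, tt, mul_one]]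

theorem na_of {t g : G} {ε : ℕ → G} {E : Subgroup G} {κ : G → ℕ} {f : ℕ → ℕ} (h : HK.EK t E κ)
    (k : ∀ X < 256, ∀ x, Rt t x (ε X) → x ∈ E ∧ κ x = X) (c : g * t = t * g)
    (a : ∀ X < 256, f X < 256 ∧ Rt t (g * ε X * g⁻¹) (ε (f X))) : NA t E κ g f := by
  have : ∀ y ∈ E, g * y * g⁻¹ ∈ E ∧ κ (g * y * g⁻¹) = f (κ y) := fun y hy => by
    have l := h.lt y hy
    have := k _ l _ (.inl rfl)
    exact k _ (a _ l).1 _ (Rt.trans h.tt (Rt.cj (mul_inv_eq_iff_eq_mul.2 c) (h.eq_or hy this.1 this.2.symm))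
      (a _ l).2)
  exact ⟨fun y hy => (this y hy).1, c, fun y hy => (this y hy).2⟩

/-- `A[α] B[β]` -/
def L (v : ℕ) : ℕ := [0xba9876543210, 0xb52876a34901, 0xb3087645a129, 0xb418763a5092, 0xb25876934a01,
  0xb9a876243510, 0xb148760a5392, 0xb0387615a429, 0xb148763950a2, 0xb0387642a159, 0xb25876a04931,
  0xb9a876513240, 0xb0387645912a, 0xb148763a2095, 0xb9a876540213, 0xb25876a31904].getD v c1

/-- equal modulo `t` -/
noncomputable def rk (a b : ℕ) : Bool := force a fun a => Nat.beq a b || Nat.beq a (cm b kt)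

/-- `(α, β)` -/
def pa (X : ℕ) : ℕ := HK.en X 0 + 4 * HK.en X 3

/-- `(δ, γ)` -/
def pb (X : ℕ) : ℕ := HK.en X 2 + 4 * HK.en X 1

theorem ev_L (v : ℕ) : Ev (L v) := by
  by_cases h : v < 16
  · exact ev_of ((by decide +kernel : ∀ v < 16, evB (L v) = true) v h)
  · rw [L, List.getD_eq_default _ _ (by simpa using h)]; exact ev_one

theorem evt : Ev kt := ev_of (by decide +kernel)

variable {Λ : A12 →* G} {i r : G}

theorem rt_of {a b : ℕ} (hb : Ev b) (h : rk a b = true) : Rt (Λ (el kt)) (Λ (el a)) (Λ (el b)) := by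
  simp only [rk, force_eq, Bool.or_eq_true, Nat.beq_eq] at h
  exact h.imp (fun e => by rw [e]) fun e => by rw [e, el_cm hb evt, map_mul]

theorem cmL {a : ℕ} (ha : (evB a && allLt (fun v => Nat.beq (cm (L v) a) (cm a (L v))) 16) = true) (v : ℕ) :
    Commute (Λ (el (L v))) (Λ (el a)) := by
  simp only [Bool.and_eq_true, allLt_iff, Nat.beq_eq] at ha
  by_cases h : v < 16
  · exact (show Commute _ _ from by
      rw [Commute, SemiconjBy, ← el_cm (ev_L v) (ev_of ha.1), ha.2 v h, el_cm (ev_of ha.1) (ev_L v)]).map Λ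
  · rw [L, List.getD_eq_default _ _ (by simpa using h), el_one, map_one]; exact .one_left _

/-- `σ σ^y σ^(y²)` -/
noncomputable def tr (c : ℕ) : ℕ := force c fun c => force (cj ky c) fun d => cm (cm c d) (cj ky d)

theorem evy : Ev ky := ev_of (by decide +kernel)

theorem el_tr {c : ℕ} (h : Ev c) : el (tr c) =
    el c * (el ky * el c * (el ky)⁻¹) * (el ky * (el ky * el c * (el ky)⁻¹) * (el ky)⁻¹) := by
  rw [tr, force_eq, force_eq, el_cm (h.mul (ev_cj evy h)) (ev_cj evy (ev_cj evy h)), el_cm h (ev_cj evy h),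
    el_cj evy (ev_cj evy h), el_cj evy h]

variable [Finite G] (h : Li Λ i r)
include h

theorem step (b : ℕ) (hb : b < 16) {a : ℕ} (ha : a ∈ [1, 2, 3, 4, 8, 12]) : ∃ v < 16, ∃ c, Ev c ∧
    rk c (L v) = true ∧ tr c = c1 ∧
      i * Λ (el (L b)) * i⁻¹ * Λ (el (L a)) * (i * Λ (el (L b)) * i⁻¹)⁻¹ = Λ (el c) := by
  obtain ⟨e, he⟩ : ∃ e, e = i * Λ (el (L b)) * i⁻¹ := ⟨_, rfl⟩
  have it : i * Λ (el kt) * i⁻¹ = Λ (el kt) := mul_inv_eq_iff_eq_mul.2 h.it
  have ct := cmL (Λ := Λ) (a := kt) (by decide +kernel)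
  have k : ∀ {x}, Commute (Λ (el (L a))) (e⁻¹ * x * e) → Commute (e * Λ (el (L a)) * e⁻¹) x := fun c => by
    simpa [mul_assoc] using c.conj e
  have kv : ∀ {u v}, i * Λ (el u) * i⁻¹ = Λ (el v) → (evB u && evB v &&
      allLt (fun b => rk (cj (ci (L b)) u) u && Nat.beq (cm (L b) v) (cm v (L b))) 16) = true →
      Commute (e * Λ (el (L a)) * e⁻¹) (Λ (el v)) := fun {u v} q ok => by
    simp only [Bool.and_eq_true, allLt_iff] at ok
    have a1 := (rt_of (Λ := Λ) (ev_of ok.1.1) (ok.2 b hb).1).cj it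
    have a2 := cmL (Λ := Λ) (a := v) (by simpa [ok.1.2, allLt_iff] using fun b hb => (ok.2 b hb).2) a
    rw [el_cj (ev_L b).inv (ev_of ok.1.1), el_ci (ev_L b), map_mul, map_mul, map_inv, map_inv, map_inv,
      inv_inv, ← conj_mul, ← conj_mul, ← conj_inv, ← he, q] at a1
    refine k ?_
    rcases a1 with a1 | a1 <;> rw [a1]
    exacts [a2, a2.mul_right (ct a)]
  have et : Commute e (Λ (el kt)) := he ▸ it ▸ (ct b).conj i
  have ey : Commute e (Λ (el ky)) := he ▸ h.i2 ▸ (cmL (a := kc2) (by decide +kernel) b).conj i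
  have a1 := kv h.iu1 (by decide +kernel)
  have a2 := kv h.iu2 (by decide +kernel)
  have a3 : Commute (e * Λ (el (L a)) * e⁻¹) (Λ (el kt)) := (et.mul_left (ct a)).mul_left et.inv_left
  obtain ⟨σ, hσ⟩ := h.cV0 a1 a2
  have a4 : ∀ x, e * (Λ (el ky) * x * (Λ (el ky))⁻¹) * e⁻¹ = Λ (el ky) * (e * x * e⁻¹) * (Λ (el ky))⁻¹ :=
    fun x => by
    rw [← mul_assoc, ← mul_assoc, ey.eq, mul_assoc, ← mul_inv_rev, ey.eq, mul_inv_rev]
    simp only [mul_assoc]
  have a5 : tr (cd σ) = c1 := el_inj ((ev_cd σ).mul (ev_cj evy (ev_cd σ)) |>.mul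
    (ev_cj evy (ev_cj evy (ev_cd σ))) |> fun x => by rwa [tr, force_eq, force_eq]) ev_one (h.inj (by
      have := congrArg Λ (el_tr (ev_L a))
      rw [(by decide +kernel : ∀ a ∈ [1, 2, 3, 4, 8, 12], tr (L a) = c1) a ha, el_one, map_one] at this
      rw [el_tr (ev_cd σ), el_cd, el_one, map_one]
      simp only [map_mul, map_inv, hσ, ← a4, conj_mul] at this ⊢
      rw [← this, mul_one, mul_inv_cancel]))
  have a6 : cm (cd σ) (cd σ) = c1 := by
    rw [← cd_mul, ← cd_one]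
    refine congrArg cd (h.inj ?_)
    rw [map_mul, hσ, conj_mul, ← map_mul, ← el_cm (ev_L a) (ev_L a),
      (by decide +kernel : ∀ a ∈ [1, 2, 3, 4, 8, 12], cm (L a) (L a) = c1) a ha, el_one]
    simp
  rw [← hσ] at a1 a2 a3
  have := el_solve (cons := [(kt, kt), (kv1, kv1), (kv2, kv2)]) (σ := σ)
    (P := fun c => !Nat.beq (cm c c) c1 || !Nat.beq (tr c) c1 || anyLt (fun v => rk c (L v)) 16)
    (by decide +kernel) (by
      simp only [List.mem_cons, List.not_mem_nil, or_false, forall_eq_or_imp, forall_eq]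
      exact ⟨h.inj (by simpa using a3.eq), h.inj (by simpa using a1.eq), h.inj (by simpa using a2.eq)⟩)
  simp only [a5, a6, Nat.beq_refl, Bool.not_true, Bool.false_or, anyLt_iff] at this
  obtain ⟨v, hv, q⟩ := this
  exact ⟨v, hv, _, ev_cd σ, q, a5, by rw [← he, el_cd, hσ]⟩

theorem comm0 {a b : ℕ} (ha : a ∈ [1, 2, 3, 4, 8, 12]) (hb : b ∈ [1, 2, 3, 4, 8, 12]) :
    Commute (i * Λ (el (L b)) * i⁻¹) (Λ (el (L a))) := by
  have l : ∀ a ∈ [1, 2, 3, 4, 8, 12], a < 16 := by decide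
  obtain ⟨v, hv, c, c0, c2, c3, e⟩ := step h b (l b hb) ha
  obtain ⟨w, hw, d, d0, d2, -, e'⟩ := step h a (l a ha) hb
  have ct := cmL (Λ := Λ) (a := kt) (by decide +kernel)
  have cc := cmL (Λ := Λ) (a := kc2) (by decide +kernel)
  have a1 : Commute (Λ (el d)) (Λ (el kc2)) := by
    rcases rt_of (Λ := Λ) (ev_L w) d2 with q | q <;> rw [q]
    exacts [cc w, (cc w).mul_left (Li.comm (by decide +kernel))]
  have a2 := a1.conj i
  have a3 : i * (i * Λ (el (L a)) * i⁻¹) * i⁻¹ = Λ (el (L a)) := by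
    rw [show ∀ x, i * (i * x * i⁻¹) * i⁻¹ = (i * i) * x * (i * i)⁻¹ from fun x => by group, h.ii, ← (ct a).eq,
      mul_inv_cancel_right]
  rw [← e', ← conj_mul, ← conj_mul, ← conj_inv, a3, h.i2] at a2
  have a4 := a2.mul_left (h.i2 ▸ (cc b).conj i).inv_left
  rw [mul_assoc, mul_assoc, ← mul_assoc (i * _ * _), ← conj_inv, e, ← map_inv, ← map_mul, ← el_ci c0,
    ← el_cm (ev_L a) c0.inv, Commute, SemiconjBy, ← map_mul, ← map_mul, ← el_cm ((ev_L a).mul c0.inv) evy,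
    ← el_cm evy ((ev_L a).mul c0.inv)] at a4
  have a5 := el_inj (((ev_L a).mul c0.inv).mul evy) (evy.mul ((ev_L a).mul c0.inv)) (h.inj a4)
  have k : ∀ a ∈ [1, 2, 3, 4, 8, 12], ∀ v < 16, ∀ c ∈ [L v, cm (L v) kt], tr c = c1 →
      cm (cm (L a) (ci c)) ky = cm ky (cm (L a) (ci c)) → c = L a := by decide +kernel
  rw [k a ha v hv c (by simpa [rk, force_eq] using c2) c3 a5] at e
  exact mul_inv_eq_iff_eq_mul.1 e

theorem comm1 {a b : ℕ} (ha : a < 16) (hb : b < 16) :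
    Commute (i * Λ (el (L b)) * i⁻¹) (Λ (el (L a))) := by
  have k : ∀ a < 16, ∃ x ∈ [0, 1, 2, 3], ∃ y ∈ [0, 4, 8, 12], L a = cm (L x) (L y) := by decide +kernel
  have k' : ∀ {P : G → Prop}, P 1 → (∀ x y, P x → P y → P (x * y)) →
      (∀ a ∈ [1, 2, 3, 4, 8, 12], P (Λ (el (L a)))) → ∀ a < 16, P (Λ (el (L a))) := fun h1 h2 h3 a ha => by
    obtain ⟨x, hx, y, hy, e⟩ := k a ha
    have h0 := (map_one Λ).symm ▸ h1
    rw [← el_one] at h0
    rw [e, el_cm (ev_L x) (ev_L y), map_mul]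
    refine h2 _ _ ?_ ?_
    · rcases List.mem_cons.1 hx with rfl | q
      exacts [h0, h3 x (by simp at q ⊢; omega)]
    · rcases List.mem_cons.1 hy with rfl | q
      exacts [h0, h3 y (by simp at q ⊢; omega)]
  exact k' (P := fun x => Commute (i * Λ (el (L b)) * i⁻¹) x) (.one_right _) (fun _ _ => Commute.mul_right)
    (fun a ha => k' (P := fun x => Commute (i * x * i⁻¹) (Λ (el (L a)))) (by simp)
      (fun x y p q => by rw [← conj_mul]; exact p.mul_left q) (fun b hb => comm0 h ha hb) b hb) a ha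

omit h [Finite G] in
theorem pab (X : ℕ) : pa X < 16 ∧ pb X < 16 := by
  have : ∀ j, HK.en X j < 4 := fun j => Nat.lt_succ_of_le Nat.and_le_right
  have a := this 0; have b := this 1; have c := this 2; have d := this 3
  rw [pa, pb]; omega

/-- the element with code `X` -/
noncomputable def ee (Λ : A12 →* G) (i : G) (X : ℕ) : G :=
  Λ (el (L (pa X))) * (i * Λ (el (L (pb X))) * i⁻¹)

theorem exists_E : ∃ E κ, HK.EK (Λ (el kt)) E κ ∧
    ∀ X < 256, ∀ x, Rt (Λ (el kt)) x (ee Λ i X) → x ∈ E ∧ κ x = X := by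
  have it : i * Λ (el kt) * i⁻¹ = Λ (el kt) := mul_inv_eq_iff_eq_mul.2 h.it
  have ct := cmL (Λ := Λ) (a := kt) (by decide +kernel)
  have ct' : ∀ v, Commute (i * Λ (el (L v)) * i⁻¹) (Λ (el kt)) := fun v => it ▸ (ct v).conj i
  have t1 : Λ (el kt) ≠ 1 := fun e => el_ne (a := kt) (b := c1) (by decide +kernel)
    (h.inj (by rw [e, el_one, map_one]))
  have sw : ∀ X Y, ee Λ i X * ee Λ i Y = Λ (el (cm (L (pa X)) (L (pa Y)))) *
      (i * Λ (el (cm (L (pb X)) (L (pb Y)))) * i⁻¹) := fun X Y => by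
    rw [ee, ee, (comm1 h (pab Y).1 (pab X).2).mul_mul_mul_comm, conj_mul, el_cm (ev_L _) (ev_L _),
      el_cm (ev_L _) (ev_L _), map_mul, map_mul]
  have k1 : ∀ u < 16, ∀ v < 16, rk (cm (L u) (L v)) (L (u ^^^ v)) = true := by decide +kernel
  refine exists_ek Li.tt t1 (fun X => (ct _).mul_left (ct' _)) (fun X hX Y hY => ?_)
    (by rw [ee]; change Λ (el c1) * (i * Λ (el c1) * i⁻¹) = 1; simp [el_one]) (fun X hX e => ?_) fun X hX => ?_
  · have := HK.all2 (P := fun X Y => Nat.beq (pa (X ^^^ Y)) (pa X ^^^ pa Y) &&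
      Nat.beq (pb (X ^^^ Y)) (pb X ^^^ pb Y)) (by decide +kernel) hX hY
    simp only [Bool.and_eq_true, Nat.beq_eq] at this
    rw [sw, ee, this.1, this.2]
    exact (rt_of (ev_L _) (k1 _ (pab X).1 _ (pab Y).1)).mul Li.tt (ct' _)
      ((rt_of (ev_L _) (k1 _ (pab X).2 _ (pab Y).2)).cj it)
  · have a1 : Commute (i * Λ (el (L (pb X))) * i⁻¹) (Λ (el ky)) :=
      h.i2 ▸ (cmL (a := kc2) (by decide +kernel) _).conj i
    have a2 : Commute (ee Λ i X) (Λ (el ky)) := by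
      rcases e with e | e <;> rw [e]
      exacts [.one_left _, (Commute.one_left _).mul_left (Li.comm (by decide +kernel))]
    have a3 := a2.mul_left a1.inv_left
    rw [ee, mul_inv_cancel_right, Commute, SemiconjBy, ← map_mul, ← map_mul, ← el_cm (ev_L _) evy,
      ← el_cm evy (ev_L _)] at a3
    have a4 := (by decide +kernel : ∀ v < 16, cm (L v) ky = cm ky (L v) → v = 0) _ (pab X).1
      (el_inj ((ev_L _).mul evy) (evy.mul (ev_L _)) (h.inj a3))
    rw [ee, a4, show L 0 = c1 from rfl, el_one, map_one, one_mul, Rt, one_mul, conj_eq_one_iff,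
      ← it, mul_left_inj, mul_right_inj, ← map_one Λ, ← el_one] at e
    have a5 := (by decide +kernel : ∀ v < 16, L v = c1 ∨ L v = kt → v = 0) _ (pab X).2
      (e.imp (fun e => el_inj (ev_L _) ev_one (h.inj e)) fun e => el_inj (ev_L _) evt (h.inj e))
    exact (by decide +kernel : ∀ X < 256, pa X = 0 → pb X = 0 → X = 0) X hX a4 a5
  · have k : ∀ X < 256, ∃ a ∈ [false, true], ∃ b ∈ [false, true],
        cm (L (pa X)) (L (pa X)) = (bif a then kt else c1) ∧
        cm (L (pb X)) (L (pb X)) = (bif b then kt else c1) ∧ HK.q X = xor a b := by decide +kernel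
    obtain ⟨a, -, b, -, e1, e2, e3⟩ := k X hX
    rw [sw, e1, e2, e3]
    cases a <;> cases b <;> simp [el_one, it, Li.tt]

omit [Finite G] in
theorem na {E : Subgroup G} {κ : G → ℕ} (k : HK.EK (Λ (el kt)) E κ)
    (k' : ∀ X < 256, ∀ x, Rt (Λ (el kt)) x (ee Λ i X) → x ∈ E ∧ κ x = X) {a b : ℕ} {f : ℕ → ℕ}
    (e : i * Λ (el b) * i⁻¹ = Λ (el a)) (ok : (evB a && evB b && Nat.beq (cm a kt) (cm kt a) &&
      allLt (fun X => force X fun X => force (f X) fun Y => Nat.blt Y 256 &&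
        rk (cj a (L (pa X))) (L (pa Y)) && rk (cj b (L (pb X))) (L (pb Y))) 256) = true) :
    NA (Λ (el kt)) E κ (Λ (el a)) f := by
  simp only [Bool.and_eq_true, allLt_iff, force_eq, Nat.blt_eq] at ok
  obtain ⟨⟨⟨p1, p2⟩, p3⟩, p4⟩ := ok
  have it : i * Λ (el kt) * i⁻¹ = Λ (el kt) := mul_inv_eq_iff_eq_mul.2 h.it
  refine na_of k k' (Li.comm (by rw [p1, p3]; decide +kernel)) fun X hX => ⟨(p4 X hX).1.1, ?_⟩
  have a1 := rt_of (Λ := Λ) (ev_L _) (p4 X hX).1.2
  have a2 := (rt_of (Λ := Λ) (ev_L _) (p4 X hX).2).cj it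
  rw [el_cj (ev_of p1) (ev_L _), map_mul, map_mul, map_inv] at a1
  rw [el_cj (ev_of p2) (ev_L _), map_mul, map_mul, map_inv, ← conj_mul, ← conj_mul, ← conj_inv, e] at a2
  rw [ee, ← conj_mul]
  exact a1.mul Li.tt (it ▸ (cmL (a := kt) (by decide +kernel) _).conj i) a2

/-- `1, v1, v2, v3` -/
def vv (j : ℕ) : ℕ := [c1, kv1, kv2, kv3].getD j c1

omit [Finite G] in
theorem rt_ee {c X j : ℕ} (hj : j < 4) (e : pb X = [0, 5, 14, 11].getD j 0)
    (ok : rk c (cm (L (pa X)) (vv j)) = true) : Rt (Λ (el kt)) (Λ (el c)) (ee Λ i X) := by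
  have it : i * Λ (el kt) * i⁻¹ = Λ (el kt) := mul_inv_eq_iff_eq_mul.2 h.it
  have v : Ev (vv j) := ev_of ((by decide +kernel : ∀ j < 4, evB (vv j) = true) j hj)
  have a1 := rt_of (Λ := Λ) ((ev_L _).mul v) ok
  have a2 : Rt (Λ (el kt)) (Λ (el (vv j))) (i * Λ (el (L (pb X))) * i⁻¹) := by
    rw [e]
    interval_cases j
    · exact .inl (by change Λ (el c1) = i * Λ (el c1) * i⁻¹; simp [el_one])
    · exact h.iu1 ▸ (rt_of (ev_L _) (by decide +kernel)).cj it
    · exact h.iu2 ▸ (rt_of (ev_L _) (by decide +kernel)).cj it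
    · exact h.iu3 ▸ (rt_of (ev_L _) (by decide +kernel)).cj it
  rw [el_cm (ev_L _) v, map_mul] at a1
  exact a1.trans Li.tt (Rt.mul Li.tt (it ▸ (cmL (a := kt) (by decide +kernel) _).conj i) (.inl rfl) a2)

end E8

open E8 in
theorem Li.exists_Ex {G : Type*} [Group G] [Finite G] {Λ : A12 →* G} {i r : G} (h : Li Λ i r) :
    ∃ E κ, Ex Λ i r E κ := by
  obtain ⟨E, κ, k, k'⟩ := exists_E h
  have m : ∀ {c X} j, (Nat.blt X 256 && Nat.blt j 4 && Nat.beq (pb X) ([0, 5, 14, 11].getD j 0) &&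
      rk c (cm (L (pa X)) (vv j))) = true → Λ (el c) ∈ E ∧ κ (Λ (el c)) = X := fun j e => by
    simp only [Bool.and_eq_true, Nat.blt_eq, Nat.beq_eq] at e
    exact k' _ e.1.1.1 _ (rt_ee h e.1.1.2 e.1.2 e.2)
  have cj2 : ∀ {a b a' b' c c'}, i * Λ (el a) * i⁻¹ = Λ (el a') → i * Λ (el b) * i⁻¹ = Λ (el b') →
      (evB a && evB b && Nat.beq (cm a b) c) = true → (evB a' && evB b' && Nat.beq (cm a' b') c') = true →
      i * Λ (el c) * i⁻¹ = Λ (el c') := fun p q e e' => by rw [← mul e, ← mul e', ← conj_mul, p, q]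
  have c22 := cj2 (c := 0xba9768543210) (c' := 0xba9876435102) h.i2 h.i2 (by decide +kernel)
    (by decide +kernel)
  have yy := cj2 (c := 0xba9876435102) (c' := 0xba9768543210) h.iy h.iy (by decide +kernel)
    (by decide +kernel)
  refine ⟨E, κ, h, k, na_of k k' h.it fun X hX => ⟨HK.mm_lt _ _, .inl ?_⟩,
    na h k k' (b := 0xba9687435102) (cj2 h.i2 yy (by decide +kernel) (by decide +kernel))
      (by decide +kernel), na h k k' h.iz (by decide +kernel), na h k k' h.iy (by decide +kernel),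
    na h k k' h.is1 (by decide +kernel), na h k k' h.iw (by decide +kernel), m 1 (by decide +kernel),
    m 2 (by decide +kernel), m 0 (by decide +kernel), fun p hp => ?_, fun g g0 g1 g2 => ?_,
    Λ (el 0xba5876941230), ?_⟩
  · have := HK.all256 (P := fun X => Nat.beq (pa (HK.mm 20 X)) (pb X) && Nat.beq (pb (HK.mm 20 X)) (pa X))
      (by decide +kernel) hX
    simp only [Bool.and_eq_true, Nat.beq_eq] at this
    rw [ee, ee, this.1, this.2, ← (comm1 h (pab X).2 (pab X).1).eq, ← conj_mul,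
      show ∀ x, i * (i * x * i⁻¹) * i⁻¹ = (i * i) * x * (i * i)⁻¹ from fun x => by group, h.ii,
      ← (cmL (a := kt) (by decide +kernel) _).eq, mul_inv_cancel_right]
  · obtain ⟨j, e⟩ := (by decide +kernel : ∀ p ∈ LF, ∃ j < 4, (Nat.blt p.2 256 && Nat.blt j 4 &&
      Nat.beq (pb p.2) ([0, 5, 14, 11].getD j 0) && rk p.1 (cm (L (pa p.2)) (vv j))) = true) p hp
    exact m j e.2
  · obtain ⟨σ, rfl⟩ := h.cV0 g1 g2
    have := el_solve (cons := [(kt, kt), (kv1, kv1), (kv2, kv2)]) (σ := σ)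
      (P := fun c => lany (fun w => force (cm (ci w) c) fun d => anyLt (fun j => force (cm d (vv j)) fun d =>
        anyLt (fun v => rk d (L v)) 16) 4) [c1, ks2, ky, 0xba9876345012, 0xba9876435102, 0xba9876453120])
      (by decide +kernel) (by
        simp only [List.mem_cons, List.not_mem_nil, or_false, forall_eq_or_imp, forall_eq]
        exact ⟨h.inj (by simpa using g0), h.inj (by simpa using g1), h.inj (by simpa using g2)⟩)
    simp only [lany_iff, force_eq, anyLt_iff] at this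
    obtain ⟨w, hw, j, hj, v, hv, e⟩ := this
    have ew : Ev w := ev_of ((by decide +kernel : ∀ w ∈ [c1, ks2, ky, 0xba9876345012, 0xba9876435102,
      0xba9876453120], evB w = true) w hw)
    have ej : Ev (vv j) := ev_of ((by decide +kernel : ∀ j < 4, evB (vv j) = true) j hj)
    have mE : ∀ v < 16, Λ (el (L v)) ∈ E := fun v hv => (m (X := v % 4 + 64 * (v / 4)) 0
      (by revert v; decide +kernel)).1
    have mV : Λ (el (vv j)) ∈ E := (m (X := [0, 20, 44, 56].getD j 0) j (by clear e ej; revert j; decide +kernel)).1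
    have a1 : (Λ (el w))⁻¹ * Λ σ ∈ E := by
      have := rt_of (Λ := Λ) (ev_L v) e
      rw [el_cm (ew.inv.mul (ev_cd σ)) ej, el_cm ew.inv (ev_cd σ), el_ci ew, el_cd, map_mul, map_mul,
        map_inv] at this
      refine (E.mul_mem_cancel_right mV).1 ?_
      rcases this with q | q <;> rw [q]
      exacts [mE v hv, mul_mem (mE v hv) k.tE]
    have fin : ∀ a b e, (HK.SL a ∧ HK.SL b ∧ e < 2) → NA (Λ (el kt)) E κ (Λ (el w)) (HK.act a b e) →
        (w = c1 ∨ ∃ X < 256, HK.act a b e X ≠ X) → ∃ a b e, HK.SL a ∧ HK.SL b ∧ e < 2 ∧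
          NA (Λ (el kt)) E κ (Λ σ) (HK.act a b e) ∧ ((∀ X < 256, HK.act a b e X = X) → Λ σ ∈ E) :=
      fun a b e p q s => by
      have n : ∀ y ∈ E, (Λ (el w))⁻¹ * Λ σ * y * ((Λ (el w))⁻¹ * Λ σ)⁻¹ ∈ E := fun y hy =>
        mul_mem (mul_mem a1 hy) (inv_mem a1)
      refine ⟨a, b, e, p.1, p.2.1, p.2.2, ⟨fun y hy => ?_, ?_⟩, fun o => ?_⟩
      · simpa [mul_assoc] using q.1 _ (n y hy)
      · simpa using q.2.mul n (k.ac_mem a1)
      · rcases s with rfl | ⟨X, hX, s⟩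
        exacts [by simpa [el_one] using a1, absurd (o X hX) s]
    have sl : ∀ a ∈ [65, 131, 194], HK.SL a := by unfold HK.SL; decide +kernel
    simp only [List.mem_cons, List.not_mem_nil, or_false] at hw
    rcases hw with rfl | rfl | rfl | rfl | rfl | rfl
    · exact fin 65 65 0 ⟨sl _ (by simp), sl _ (by simp), by simp⟩
        (na h k k' (b := c1) (by simp [el_one]) (by decide +kernel)) (.inl rfl)
    · exact fin 65 65 1 ⟨sl _ (by simp), sl _ (by simp), by simp⟩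
        (na h k k' h.is1 (by decide +kernel)) (.inr (by decide +kernel))
    · exact fin 131 131 0 ⟨sl _ (by simp), sl _ (by simp), by simp⟩
        (na h k k' h.i2 (by decide +kernel)) (.inr (by decide +kernel))
    · exact fin 131 131 1 ⟨sl _ (by simp), sl _ (by simp), by simp⟩
        (na h k k' (b := 0xb9a678543210) (cj2 h.i2 h.is1 (by decide +kernel) (by decide +kernel))
          (by decide +kernel)) (.inr (by decide +kernel))
    · exact fin 194 194 0 ⟨sl _ (by simp), sl _ (by simp), by simp⟩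
        (na h k k' c22 (by decide +kernel)) (.inr (by decide +kernel))
    · exact fin 194 194 1 ⟨sl _ (by simp), sl _ (by simp), by simp⟩
        (na h k k' (b := 0xb9a786543210) (cj2 c22 h.is1 (by decide +kernel) (by decide +kernel))
          (by decide +kernel)) (.inr (by decide +kernel))
  · have a := m (c := L 1) (X := 1) 0 (by decide +kernel)
    have b := conj (Λ := Λ) (k := 0xba5876941230) (a := kt) (b := L 1) (by decide +kernel)
    refine ⟨b ▸ a.1, b ▸ a.2, ?_⟩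
    have c : (Λ (el 0xba5876941230))⁻¹ = Λ (el 0xba5876941230) := by
      rw [← map_inv, el_inv (b := 0xba5876941230) (by decide +kernel)]
    rw [c] at b ⊢
    exact b ▸ a.1

end CL.HN3
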