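import Mathlib
import Cfsg.Agent.PERM.HN3D

/-! The three-local characterization of the Harada–Norton group: the normaliser of `J`. -/

set_option autoImplicit false
set_option linter.unusedSectionVars false
set_option synthInstance.maxSize 8192
open Subgroup CL.McL3
open CL.Odd hiding e3

namespace CL.HN3

variable {G : Type*} [Group G]

theorem SimP.mp {A : Mt} (h : SimP A) : ∀ n, SimP (mp A n)
  | 0 => mc1.2.2.2.2.2.2.2.2.2.2.2.2.2.2.2.1
  | n + 1 => (SimP.mp h n).mm h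

/-- the elements acting as similarities -/
def simG [Finite G] (τ : V4 → G) : Subgroup G where
  carrier := {g | ∃ A, Act τ g A ∧ SimP A}
  one_mem' := ⟨_, Act.one, mc1.2.2.2.2.2.2.2.2.2.2.2.2.2.2.2.1⟩
  mul_mem' := fun ⟨_, a, b⟩ ⟨_, c, d⟩ => ⟨_, a.mul c, b.mm d⟩
  inv_mem' := fun {g} ⟨_, a, b⟩ => ⟨_, by
    rw [show g⁻¹ = g ^ (orderOf g - 1) from inv_eq_of_mul_eq_one_right (by
      rw [← pow_succ', Nat.sub_add_cancel (orderOf_pos g), pow_orderOf_eq_one])]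
    exact a.pow _, b.mp _⟩

theorem HJ.act_I [Finite G] {S Q L J : Subgroup G} {z x : G} {π : L →* SL5} {τ : V4 → G}
    (h : HJ S Q L J z π) (c : Co J τ) (e : Act τ x I4) : x ∈ J := h.CJ fun j hj => by
  obtain ⟨y, rfl⟩ := (c.mem j).1 hj
  exact (c.fix e).2 (ap_I4 y)

theorem HJ.act_eq [Finite G] {S Q L J : Subgroup G} {z x y : G} {π : L →* SL5} {τ : V4 → G} {A : Mt}
    (h : HJ S Q L J z π) (c : Co J τ) (e : Act τ x A) (e' : Act τ y A) : x * y⁻¹ ∈ J :=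
  h.CJ fun j hj => by
    obtain ⟨v, hv⟩ := (c.mem _).1 (Tr.inv_conj_mem_of_mem_normalizer (c.mem_N e') hj)
    refine mul_inv_eq_iff_eq_mul.1 ?_
    calc _ = x * (y⁻¹ * j * y) * x⁻¹ := by group
      _ = j := by rw [← hv, e, ← e', hv]; group

/-- the frame -/
structure Fr (S Q L J : Subgroup G) (z : G) (π : L →* SL5) (τ : V4 → G) : Prop
    extends HJ S Q L J z π, Co J τ where
  τz : τ zv = z
  τQ : ∀ x, τ x ∈ Q ↔ bp zv x = 0
  sim : ∀ g ∈ Nm J, ∃ A, Act τ g A ∧ SimP A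
  all : ∀ A, SimP A → ∃ g, Act τ g A
  exU : ∀ i j, ∃ q ∈ Q, Act τ q (Um i j)
  actS : ∀ a ∈ S, ∃ i j, Act τ a (Um i j)

theorem mc2 : (∀ x, bp zv x = 0 → ∃ a b c : ZMod 3, x = a • zv + b • wv + c • uv) ∧
    ap (Um 1 2) (wv + uv) = wv + uv ∧ (∀ c : ZMod 3, ap (Um 1 2) (ap (Um 1 2) sv - sv) -
      (ap (Um 1 2) sv - sv) ≠ c • (wv + uv)) ∧ ap AI uv = -wv ∧ ap TT wv = -wv ∧
    (∀ a b, pc a b zv = 1 ∧ pc a b wv = 1 ∧ pc a b (wv + uv) = 2 ∧ pc a b sv = cond a 1 2 ∧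
      pc a b (sv + zv) = cond b 1 2) ∧ (∀ c : ZMod 3, wv + c • zv = wv → c = 0) ∧
    (∀ a b v, pc a b v = 0 ↔ v = 0) ∧ (∀ a b v, pc a b v < 3) ∧ bp zv sv = 1 ∧ bp zv zv = 0 := by
  decide +kernel

namespace F1

variable {S Q L J : Subgroup G} {z i : G} {π : L →* SL5} {τ : V4 → G} (h : F1 S Q L J z π τ i) [Finite G]
include h

theorem zp' {x : V4} : τ x ∈ zpowers z ↔ ∃ c : ZMod 3, x = c • zv := by rw [← h.τz, h.toCo.zp]

theorem sS : τ sv ∈ S := h.JS (h.toCo.mJ _)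
theorem sQ : τ sv ∉ Q := fun e => absurd ((h.τQ _).1 e) (by decide)
theorem aT : Act τ (i * i) TT := (h.aI.mul h.aI).congr mc1.2.1
theorem iz : i * z = z * i := h.τz ▸ (h.toCo.fix h.aI).2 (by decide)

theorem actF {a : G} {A : Mt} (ha : a ∈ S) (hA : Act τ a A) {x : V4} (hx : bp zv x = 0) :
    ∃ c : ZMod 3, ap A x = x + c • zv := by
  have := ((h.toHJ.fixJ ((h.τQ x).2 hx)).1 (h.toCo.mJ x) ha).2
  rw [hA, ← h.toCo.sub, h.zp'] at this
  exact this.imp fun b e => by rw [← e]; abel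

theorem flip : F1 S Q L J z π (fun x => τ (ap DD x)) i ∧
    ∀ g A, Act τ g A → Act (fun x => τ (ap DD x)) g (mm (mm DD A) DD) := by
  obtain ⟨-, -, -, m4, m5, -, -, -, m9, m10, m11, -⟩ := mc1
  have d : ∀ x, ap DD (ap DD x) = x := fun x => by rw [← ap_mm, m4, ap_I4]
  have k : ∀ g A, Act τ g A → Act (fun x => τ (ap DD x)) g (mm (mm DD A) DD) := fun g A e x => by
    simp only [e _, ap_mm, d]
  exact ⟨⟨h.toHJ, ⟨fun x y => by rw [ap_add, h.add], fun x y e => by rw [← d x, h.inj e, d], fun j =>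
    (h.mem j).trans ⟨fun ⟨x, e⟩ => ⟨ap DD x, by rw [d, e]⟩, fun ⟨x, e⟩ => ⟨_, e⟩⟩⟩, by rw [m9, h.τz],
    fun x => by rw [h.τQ, m11], (k _ _ h.aI).congr m5, h.πt, by rw [m10]; exact h.zw⟩, k⟩

theorem ns {a : G} {A : Mt} {x : V4} (c : IsConj z (τ x)) (ha : a ∈ S) (hA : Act τ a A)
    (e : a * τ x = τ x * a) : ∃ k : ZMod 3, ap A (ap A sv - sv) - (ap A sv - sv) = k • x := by
  have := h.toHJ.NS (h.toCo.mJ x) c ha e (h.toCo.mJ sv)
  rwa [hA, ← h.toCo.sub, hA, ← h.toCo.sub, h.toCo.zp] at this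

theorem centF {a : G} (ha : a ∈ S) (e1 : a * τ wv = τ wv * a) (e2 : a * τ uv = τ uv * a) : a ∈ J :=
  h.ab_cent h.JS h.Jc h.cJ ha fun e he hq => by
    obtain ⟨x, rfl⟩ := (h.mem e).1 he
    obtain ⟨b, c, d, rfl⟩ := mc2.1 x ((h.τQ x).1 hq)
    rw [h.add, h.add, h.toCo.smul, h.toCo.smul, h.toCo.smul, h.τz]
    exact (((show Commute a z from h.zS a ha).pow_right _).mul_right (Commute.pow_right e1 _)).mul_right
      (Commute.pow_right e2 _) |>.symm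

theorem exq : ∃ q ∈ Q, Act τ q (Um 1 0) ∨ Act (fun x => τ (ap DD x)) q (Um 1 0) := by
  have uQ : τ uv ∈ Q := (h.τQ _).2 (by decide)
  obtain ⟨q, hq, n⟩ : ∃ q ∈ Q ⊓ cz (τ uv), q * τ wv ≠ τ wv * q := by
    by_contra! c
    have h1 := card_le_three_mul h.z1 h.z3 (h.Q_le uQ)
    have h2 := card_le_of_le (show Q ⊓ cz (τ uv) ≤ J ⊓ Q from fun q hq =>
      ⟨h.centF (h.QS hq.1) (c q hq) (mem_cz'.1 hq.2), hq.1⟩)
    rw [(h.ab_fix h.JS h.Jc h.cJ).1] at h2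
    rw [h.cQ] at h1
    omega
  have qS := h.QS hq.1
  obtain ⟨A, hA⟩ := h.toCo.exists_act (h.toHJ.SN qS)
  obtain ⟨c, hc⟩ := h.actF qS hA (x := wv) (by decide)
  have c0 : c ≠ 0 := fun e => n ((h.toCo.fix hA).2 (by rw [hc, e]; simp))
  have f := h.comm_Q qS h.sS
  rw [hA, ← h.toCo.sub, h.τQ] at f
  have e : A = fq zv (wv + c • zv) uv (sv + (ap A sv - sv)) := by
    rw [add_sub_cancel, ← hc]
    conv_lhs => rw [eq_fq A, (h.toCo.fix hA).1 (by rw [h.τz, h.zS q qS]),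
      (h.toCo.fix hA).1 (mem_cz'.1 hq.2)]
  have q2 := h.nQ i (.of_comm h.iz) q hq.1
  have k : ∀ {τ' : V4 → G}, Act τ' q (Um c 0) → ∃ q ∈ Q, Act τ' q (Um 1 0) := fun e =>
    (mc1.2.2.2.2.2.2.2.2.2.2.2.2.1 c c0).elim (fun f => ⟨q, hq.1, e.congr f⟩)
      fun f => ⟨_, mul_mem hq.1 hq.1, (e.mul e).congr f⟩
  rcases solveQ _ f c c0 (e ▸ h.toCo.uniq (((h.aT.mul hA).mul (h.aT.inv mc1.2.2.2.2.2.2.2.1)).mul hA)
    (h.toCo.act_J (zpowers_le.2 h.toHJ.zJ (h.inv_mod h.πt hq.1)))) (e ▸ h.ns h.zw (h.QS q2)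
      ((h.aI.mul hA).mul (h.aI.inv mc1.2.2.1)) (by
        have : Commute (i * q * i⁻¹) (i * τ uv * i⁻¹) := by
          show _ * _ = _ * _
          rw [conj_mul, conj_mul, mem_cz'.1 hq.2]
        rw [h.aI, mc2.2.2.2.1, h.toCo.neg] at this
        exact (by simpa using this : Commute (i * q * i⁻¹) (τ wv)))) with f | f | f
  · refine absurd (h.Jc _ ((h.toHJ.fixJ hq.1).2 (h.S_le h.sS h.sQ (h.Q_le hq.1)
      (Stb.of_comm (h.zS _ h.sS) ((h.toCo.fix hA).2 (sub_eq_zero.1 f)).symm))) _ (h.toCo.mJ wv)) n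
  · exact (k (hA.congr (e.trans f))).imp fun q e => ⟨e.1, .inl e.2⟩
  · exact (k ((h.flip.2 _ _ hA).congr (by rw [e, f]))).imp fun q e => ⟨e.1, .inr e.2⟩

theorem main {q : G} (hq : q ∈ Q) (aq : Act τ q (Um 1 0)) : Fr S Q L J z π τ := by
  classical
  obtain ⟨-, -, m3, -, -, m6, m7, -, -, -, -, m12, -, m14, m15, -, m17⟩ := mc1
  obtain ⟨-, n2, n3, -, n5, n6, -, n8, n9, n10, n11⟩ := mc2
  have co := h.toCo
  have H := h.toHJ
  have exU : ∀ a b, ∃ q ∈ Q, Act τ q (Um a b) := fun a b => by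
    obtain ⟨k, l, e⟩ := m12 a b
    exact ⟨_, mul_mem (pow_mem hq k) (pow_mem (h.nQ i (.of_comm h.iz) q hq) l),
      ((aq.pow k).mul ((((h.aI.mul aq).mul (h.aI.inv m3)).congr m7).pow l)).congr e⟩
  have actS : ∀ a ∈ S, ∃ i j, Act τ a (Um i j) := fun a ha => by
    obtain ⟨A, hA⟩ := co.exists_act (H.SN ha)
    obtain ⟨c, hc⟩ := h.actF ha hA (x := wv) (by decide)
    obtain ⟨d, hd⟩ := h.actF ha hA (x := uv) (by decide)
    obtain ⟨p, hp, e⟩ := exU c d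
    have := (e.mul (co.act_J (h.centF (mul_mem (inv_mem (h.QS hp)) ha) (mul_inv_eq_iff_eq_mul.1 (by
      rw [mul_inv_rev, inv_inv, mul_assoc p⁻¹, mul_assoc p⁻¹, ← mul_assoc (a * _), hA, hc,
        ← (Um_ap c d).2.1, ← e]; group)) (mul_inv_eq_iff_eq_mul.1 (by
      rw [mul_inv_rev, inv_inv, mul_assoc p⁻¹, mul_assoc p⁻¹, ← mul_assoc (a * _), hA, hd,
        ← (Um_ap c d).2.2, ← e]; group))))).congr (show _ = Um c d by rw [← m6, Um_mul]; simp)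
    exact ⟨c, d, by simpa using this⟩
  have SG : S ≤ simG τ := fun a ha => (actS a ha).elim fun i e => e.elim fun j e => ⟨_, e, m17 i j⟩
  have iG : i ∈ simG τ := ⟨_, h.aI, m14⟩
  have stab : ∀ g ∈ Nm J, g * z = z * g → g ∈ simG τ := by
    obtain ⟨x, hx, x3, x1⟩ := h.relS h.sS h.sQ
    have k : ∀ g, g * z = z * g → g * τ sv * g⁻¹ * (τ sv)⁻¹ ∈ Q → g ∈ simG τ := fun g gz e => by
      obtain ⟨y, hy⟩ := rel_of_mem π (h.cL g gz)
      rcases (sl_pair x3 x1 y).2.1 (mul_inv_eq_iff_eq_mul.1 (mul_inv_eq_one.1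
        ((((hy.mul hx).mul hy.inv).mul hx.inv).uniq ((h.kL _).2 e)))) with f | f
      · exact SG (h.mem_S_of h.sS hx hy f)
      · exact ((simG τ).mul_mem_cancel_right (mul_mem iG iG)).1
          (SG (h.mem_S_of h.sS hx ((hy.mul h.πt).congr (by simp)) f))
    intro g hg gz
    rcases h.cos h.sS h.sQ (H.stabS hg (.of_comm gz) _ h.sS) with e | e | e
    · exact absurd (by simpa [mul_assoc] using h.nQ _ (NZ.of_comm gz).inv _ e) h.sQ
    · exact k g gz e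
    · refine ((simG τ).mul_mem_cancel_left iG).1 (k _ (Commute.mul_left h.iz gz) ?_)
      have := h.nQ i (.of_comm h.iz) _ e
      rwa [← conj_mul, h.aI, show ap AI sv = -sv by decide, co.neg,
        show i * (g * τ sv * g⁻¹) * i⁻¹ = i * g * τ sv * (i * g)⁻¹ by group] at this
  have cj : ∀ {g A x}, Act τ g A → (IsConj z (τ (ap A x)) ↔ IsConj z (τ x)) := fun {g A x} e =>
    have c : IsConj (τ x) (τ (ap A x)) := isConj_iff.2 ⟨g, e x⟩
    ⟨fun f => f.trans c.symm, fun f => f.trans c⟩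
  have cn : ∀ {x}, IsConj z (τ (-x)) → IsConj z (τ x) := fun {x} e => by
    have k : ∀ {a b : G}, IsConj a b⁻¹ → IsConj a⁻¹ b := fun e =>
      (isConj_iff.1 e).elim fun c e => isConj_iff.2 ⟨c, by rw [← conj_inv, e, inv_inv]⟩
    have e' := (cj h.aT).2 h.zw
    rw [n5, co.neg] at e'
    rw [co.neg] at e
    exact (h.zw.trans (k e').symm).trans (k e)
  generalize ha : decide (IsConj z (τ sv)) = a
  generalize hb : decide (IsConj z (τ (sv + zv))) = b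
  have P : ∀ v, pc a b v = 1 ↔ IsConj z (τ v) := fun v => by
    obtain rfl | ⟨k, l, r, hr, e1, e2⟩ := reps v
    · rw [(n8 a b 0).2 rfl, co.zero]; simpa using h.z1
    obtain ⟨p, -, hp⟩ := exU k l
    have e3 : IsConj z (τ v) ↔ IsConj z (τ r) := by
      have : IsConj z (τ (-r)) ↔ IsConj z (τ r) := ⟨cn, fun e => cn (by rwa [neg_neg])⟩
      simp only [List.mem_cons, List.not_mem_nil, or_false] at e2
      rcases e2 with (e | e) | e | e
      exacts [by rw [e, cj hp], by rw [e, cj h.aI, cj hp], by rw [← this, e, cj hp],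
        by rw [← this, e, cj h.aI, cj hp]]
    obtain ⟨p1, p2, p3, p4, p5⟩ := n6 a b
    rw [e1, e3]
    simp only [List.mem_cons, List.not_mem_nil, or_false] at hr
    rcases hr with rfl | rfl | rfl | rfl | rfl
    · exact iff_of_true p1 (h.τz ▸ IsConj.refl _)
    · exact iff_of_true p2 h.zw
    · refine iff_of_false (by omega) fun c => ?_
      obtain ⟨p, p1, p2⟩ := exU 1 2
      exact (h.ns c (h.QS p1) p2 ((co.fix p2).2 n2)).elim n3
    · rw [p4, ← ha]; generalize IsConj z (τ sv) = c; by_cases c <;> simp [*]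
    · rw [p5, ← hb]; generalize IsConj z (τ (sv + zv)) = c; by_cases c <;> simp [*]
  have inv : ∀ {g A}, Act τ g A → ∀ v, pc a b (ap A v) = pc a b v := fun {g A} e v => by
    have h1 : pc a b (ap A v) = 1 ↔ pc a b v = 1 := by rw [P, P, cj e]
    have h2 : pc a b (ap A v) = 0 ↔ pc a b v = 0 := by
      rw [n8, n8, ← co.eq_one, ← co.eq_one, ← e, conj_eq_one_iff]
    have := n9 a b v
    have := n9 a b (ap A v)
    omega
  obtain ⟨n, hn, e⟩ : ∃ n ∈ Nm J, n * z * n⁻¹ = τ wv := by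
    obtain ⟨g, e⟩ := isConj_iff.1 h.zw
    exact e ▸ H.fusion H.zJ (e ▸ co.mJ wv)
  obtain ⟨N, hN⟩ := co.exists_act hn
  have Nz : ap N zv = wv := h.inj (by rw [← hN, h.τz, e])
  obtain ⟨rfl, rfl, k, l, e'⟩ := solveN a b (ap N wv)
    (fun c d => by rw [← inv hN (c • zv + d • wv)]; simp only [ap_add, ap_smul, Nz]) (ap N uv)
    (fun c d => by rw [← inv hN (c • zv + d • wv + uv)]; simp only [ap_add, ap_smul, Nz]) (ap N sv)
    (fun c d f => by rw [← inv hN (c • zv + d • wv + f • uv + sv)]; simp only [ap_add, ap_smul, Nz])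
  rw [show fq wv (ap N wv) (ap N uv) (ap N sv) = N from Nz ▸ (eq_fq N).symm] at e'
  obtain ⟨g, hg⟩ : ∃ g, Act τ g HH := by
    obtain ⟨p, -, hp⟩ := exU k l
    refine ⟨n * p * n⁻¹, fun x => ?_⟩
    obtain ⟨y, hy⟩ := (h.mem _).1 (Tr.inv_conj_mem_of_mem_normalizer hn (co.mJ x))
    obtain rfl : ap N y = x := h.inj (by rw [← hN, hy]; group)
    rw [← ap_mm, ← e', ← hN.mul hp, ← hN]; group
  have wd : ∀ v, v ≠ 0 → bp v v = 0 → ∃ g ∈ simG τ, g * z * g⁻¹ = τ v := fun v v0 v1 => by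
    obtain ⟨l, -, rfl⟩ := words v v0 v1
    clear v0 v1
    induction l with
    | nil => exact ⟨1, one_mem _, by simp [aw, h.τz]⟩
    | cons k l ih =>
      obtain ⟨x, hx, e⟩ := ih
      obtain ⟨y, y1, y2⟩ : ∃ y ∈ simG τ, Act τ y (![Um 1 0, AI, HH] k) := by
        fin_cases k
        exacts [⟨q, ⟨_, aq, m17 _ _⟩, aq⟩, ⟨i, iG, h.aI⟩, ⟨g, ⟨_, hg, m15⟩, hg⟩]
      exact ⟨y * x, mul_mem y1 hx, by rw [aw, List.foldr_cons, ← y2, ← aw, ← e]; group⟩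
  refine ⟨H, co, h.τz, h.τQ, fun g hg => ?_, fun A hA => ?_, exU, actS⟩
  · obtain ⟨v, hv⟩ := (h.mem _).1 (Tr.conj_mem_of_mem_normalizer hg H.zJ)
    obtain ⟨v0, v1⟩ := (pc_one v).1 ((P v).2 (isConj_iff.2 ⟨g, hv.symm⟩))
    obtain ⟨x, hx, e⟩ := wd v v0 v1
    exact ((simG τ).mul_mem_cancel_left (inv_mem hx)).1 (stab _ (mul_mem (inv_mem
      (hx.elim fun _ e => co.mem_N e.1)) hg) (mul_inv_eq_iff_eq_mul.1 (by
        rw [mul_inv_rev, inv_inv, mul_assoc x⁻¹, mul_assoc x⁻¹, ← mul_assoc (g * z), ← hv, ← e]; group)))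
  · obtain ⟨x, hx, e⟩ := wd (ap A zv) (fun e => hA.1 (by
      have := hA.2 zv sv
      rw [e, n10, mul_one] at this
      rw [← this]; simp [bp])) (hA.sing.2 n11)
    obtain ⟨B, hB, sB⟩ := inv_mem hx
    obtain ⟨k, c, d, e'⟩ := (sB.mm hA).stab (h.inj (by rw [ap_mm, ← hB, ← e, h.τz]; group))
    obtain ⟨p, -, hp⟩ := exU c d
    refine ⟨x * (p * i ^ k.val), fun y => ?_⟩
    have := (hp.mul (h.aI.pow k)) y
    rw [← e', ap_mm, ← hB] at this
    rw [show x * (p * i ^ k.val) * τ y * (x * (p * i ^ k.val))⁻¹ =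
      x * (p * i ^ k.val * τ y * (p * i ^ k.val)⁻¹) * x⁻¹ by group, this]; group

end F1

theorem exists_Fr [Finite G] {S Q L : Subgroup G} {z g : G} {π : L →* SL5} (h : HypL S Q L z π)
    (cL : ∀ g, g * z = z * g → g ∈ L) (g1 : g * z * g⁻¹ ∈ Q) (g2 : g * z * g⁻¹ ∉ zpowers z) :
    ∃ J τ, Fr S Q L J z π τ := by
  obtain ⟨J, τ, i, h⟩ := exists_F1 h cL g1 g2
  obtain ⟨q, hq, e | e⟩ := h.exq
  exacts [⟨J, τ, h.main hq e⟩, ⟨J, _, h.flip.1.main hq e⟩]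

end CL.HN3
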