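/- S3373: facts about the model `3^3 : SL(3,3)`. -/
import Mathlib
import Cfsg.Agent.PERM.L43F
import Cfsg.Agent.PERM.L43P
import Cfsg.Agent.PLOC.Fusion

set_option autoImplicit false
set_option synthInstance.maxSize 8192

namespace CL.L43

open Subgroup
open scoped commutatorElement

theorem uu_val (b c u f v w : F) : (uu b c u f v w).1 = ⟨1, b, c, u, 0, 1, f, v, 0, 0, 1, w⟩ := rfl
theorem t_val : t.1 = ⟨1, 0, 0, 0, 0, 2, 0, 0, 0, 0, 2, 0⟩ := rfl
theorem w_val : w.1 = ⟨2, 0, 0, 0, 0, 2, 0, 0, 0, 0, 1, 0⟩ := rfl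
theorem τ_val : τ.1 = ⟨2, 0, 0, 0, 0, 1, 0, 0, 0, 0, 2, 0⟩ := rfl

theorem uu_mul (b c u f v w b' c' u' f' v' w' : F) : uu b c u f v w * uu b' c' u' f' v' w' =
    uu (b + b') (c + c' + b * f') (u + u' + b * v' + c * w') (f + f') (v + v' + f * w') (w + w') :=
  Subtype.ext (by ext <;> simp only [uu_val, P0.mul_val, Af.mul, dot_eq] <;> ring)

theorem uu_inj {b c u f v w b' c' u' f' v' w' : F} : uu b c u f v w = uu b' c' u' f' v' w' ↔
    b = b' ∧ c = c' ∧ u = u' ∧ f = f' ∧ v = v' ∧ w = w' := by simp [uu_val, P0.eq_iff]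

theorem uu_zero : uu 0 0 0 0 0 0 = 1 := rfl

theorem uu_inv (b c u f v w : F) : (uu b c u f v w)⁻¹ =
    uu (-b) (b * f - c) (b * v + c * w - b * f * w - u) (-f) (f * w - v) (-w) :=
  inv_eq_of_mul_eq_one_right (by rw [uu_mul, ← uu_zero, uu_inj]; refine ⟨?_, ?_, ?_, ?_, ?_, ?_⟩ <;> ring)

theorem three_eq (a : F) : 3 * a = 0 := by revert a; decide

theorem uu_cube (b c u f v w : F) : uu b c u f v w ^ 3 = uu 0 0 (b * f * w) 0 0 0 := by
  rw [pow_three', uu_mul, uu_mul, uu_inj]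
  refine ⟨?_, ?_, ?_, ?_, ?_, ?_⟩
  · linear_combination three_eq b
  · linear_combination three_eq (c + b * f)
  · linear_combination three_eq (u + b * v + c * w)
  · linear_combination three_eq f
  · linear_combination three_eq (v + f * w)
  · linear_combination three_eq w

/-- the upper unitriangular group -/
def U : Subgroup P0 where
  carrier := {p | ∃ b c u f v w, uu b c u f v w = p}
  one_mem' := ⟨0, 0, 0, 0, 0, 0, rfl⟩
  mul_mem' := by
    rintro _ _ ⟨b, c, u, f, v, w, rfl⟩ ⟨b', c', u', f', v', w', rfl⟩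
    exact ⟨_, _, _, _, _, _, (uu_mul ..).symm⟩
  inv_mem' := by
    rintro _ ⟨b, c, u, f, v, w, rfl⟩
    exact ⟨_, _, _, _, _, _, (uu_inv ..).symm⟩

theorem uu_mem (b c u f v w : F) : uu b c u f v w ∈ U := ⟨_, _, _, _, _, _, rfl⟩

theorem eq_uu {p : P0} (a : p.1.a = 1) (d : p.1.d = 0) (e : p.1.e = 1) (g : p.1.g = 0)
    (h : p.1.h = 0) (i : p.1.i = 1) : uu p.1.b p.1.c p.1.u p.1.f p.1.v p.1.w = p := by
  simp [P0.eq_iff, uu_val, a, d, e, g, h, i]

theorem jj_add (X Y : F × F × F × F) : jj (X + Y) = jj X * jj Y := by simp [jj, uu_mul]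

theorem jj_inj : Function.Injective jj := fun X Y h => by
  simp only [jj, uu_inj] at h; ext <;> tauto

/-- the elementary abelian subgroup of order 81 -/
def J : Subgroup P0 where
  carrier := {p | ∃ X, jj X = p}
  one_mem' := ⟨0, rfl⟩
  mul_mem' := by rintro _ _ ⟨X, rfl⟩ ⟨Y, rfl⟩; exact ⟨_, jj_add ..⟩
  inv_mem' := by rintro _ ⟨X, rfl⟩; exact ⟨-X, by simp [jj, uu_inv]⟩

theorem jj_mem (X : F × F × F × F) : jj X ∈ J := ⟨_, rfl⟩
theorem J_le_U : J ≤ U := by rintro _ ⟨X, rfl⟩; exact uu_mem ..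
theorem jj_comm (X Y : F × F × F × F) : jj X * jj Y = jj Y * jj X := by
  rw [← jj_add, add_comm, jj_add]

theorem U_nine {p : P0} (h : p ∈ U) : p ^ 3 ^ 2 = 1 := by
  obtain ⟨b, c, u, f, v, w, rfl⟩ := h
  rw [pow_two, pow_mul, uu_cube, uu_cube]; simp [uu_zero]

theorem pU : IsPGroup 3 U := fun p => ⟨2, Subtype.ext (U_nine p.2)⟩

theorem card_U : Nat.card U = 3 ^ 6 := by
  have := Nat.card_eq_of_bijective (fun p : F × F × F × F × F × F =>
    (⟨_, uu_mem p.1 p.2.1 p.2.2.1 p.2.2.2.1 p.2.2.2.2.1 p.2.2.2.2.2⟩ : U)) ⟨fun p q h => by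
      simp only [Subtype.mk.injEq, uu_inj] at h; ext <;> tauto, by
      rintro ⟨_, b, c, u, f, v, w, rfl⟩; exact ⟨(b, c, u, f, v, w), rfl⟩⟩
  rw [← this]; simp

theorem card_P0 : Nat.card P0 = 151632 := by
  have := card_eq_card_quotient_mul_card_subgroup lin.ker
  rw [Nat.card_congr (QuotientGroup.quotientKerEquivOfSurjective _ LP.lin_surj).toEquiv,
    FH.card_SL, LP.card_ker] at this
  exact this

theorem index_U : U.index = 208 := by
  have := U.card_mul_index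
  rw [card_U, card_P0] at this; omega

theorem pg_zp {G : Type*} [Group G] {g : G} {k : ℕ} (h : g ^ 3 ^ k = 1) : IsPGroup 3 (zpowers g) := by
  rintro ⟨_, n, rfl⟩
  refine ⟨k, Subtype.ext ?_⟩
  show (g ^ n) ^ 3 ^ k = 1
  rw [← zpow_natCast, ← zpow_mul, mul_comm, zpow_mul, zpow_natCast, h, one_zpow]

theorem conj_U {E : Subgroup P0} (h : IsPGroup 3 E) : ∃ g, ∀ p ∈ E, g * p * g⁻¹ ∈ U :=
  Tr.exists_conj_le_sylow (pU.toSylow (by rw [index_U]; decide)) h

/-- a matrix from its code -/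
def dec (n : ℕ) : Af := ⟨(n : F), (n / 3 : ℕ), (n / 9 : ℕ), (n / 27 : ℕ), (n / 81 : ℕ), (n / 243 : ℕ),
  (n / 729 : ℕ), (n / 2187 : ℕ), (n / 6561 : ℕ), (n / 19683 : ℕ), (n / 59049 : ℕ), (n / 177147 : ℕ)⟩

def wit (b c u f v w : F) : Af :=
  dec (0x8406580279cc96d7421d8861d1d8d9e4cdb6ca2a329af17a2768a51f174b2957a86e736e4153967be7f05a707f1629039ee683ae3fd37a7d2f1f5463b4de0bc137715c178feaa8e3a50255a5c9751ab95b162c97d9edddc82c8ec99339abbaa45fe1ccc17be5d5ec9a9511ad81c6e7ee8b2a1055e4b3653e8c21e8f55f00a0f248ceb9d442987632601f15be81079b41b97858a89282cb399ffa7b4e4275ee0cc9d9f57fe6b54e547b143ff18c86da21694251ef68f00f017a48ad6105de4ea9b03744311ea88f4513712d94b19cb2c865a0f47006e336bfc55ffc3e9b8426505d86e4c026a936eb3d7a4ddb0dc5b552dfa900700ca1288bc81b82d91b5234206de58165d38d2895479a23e092990d0a2f908539183f750ff53715cc992180d53cc1ccafedf973f8eb29b611d55b2feb5173139a21ef6f009b0f5751f1588f659619fc511caaafbd72deb2ba85ed2e1384725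0c77e75ff280ab3ab67772b20bbf8b22da475f7053d23c9272abaad5e5672150f09fe25b3da366802c97c0cfe44a3bad0adaf77d65ee0eee68f5d715ac6ee0f60a35871401dd3e2ab48390aa11bdf4a120f0db2ded8ab3c0d9ed5f6dd9d06df1304b7c4d2f685e0cea1fef1b42acc5a1bba5af9fead138ac0efecf3a6442a69105fe5e9dd6a184043002ac38d6eaa58af074298af75c35663cd0859205bf26fab2eeb68f7632a026c7352825281935ba1ea4cde1050c3b9d38373e1fa7f6ecc4c4a6078cecbd04ba150c3ad26929989d9dd95aeed176d604feed7045249f59cd806bdb8095e2004fc17767571800e44a88e23e81a52adc75f759964fa2bbc92bfc87dc61fd40bba3af8c4ffd0c7c9c2f22440fc8c2c7c43a870d0f014b726247f97e08efe07f4c24085c0dd58aa93a1876303a280f2e005e7860526e4e935151340e11d1106adb8e1c802c5468ca483ae9ef5eeebdc6c979e993b858eebdbb127d2940819bedd9cfd36fcd39500f3425282106c970d6e6c72f32ac8ca00dadf9df3851228f9e75edc3fe6bdd4bbe42ab502bd1d2cd4a812d4170c5d0a261856413f3f4d406c0e24a7ebcd03d3f3b5a04d99b96ddd455e605d471d334f83e9b7d4caec97fa1d472a9ca801285007e58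a6565f806749c135e51d9ede7dfe11ae3d4c9ddfbd288dbe8b06f4be010e815dc25386ba93a3c812f8669e3ea18a7527b0d819b8783cc5f883ffd4d95b3620b599e4384576897cbb46747e92040c159ace90b0896af1a0c7e98c542596829cf53254ab1973326ae7eafe61b19397bfe80583a3dd347a49f281340df9a49545b30ab8e12228d1248553672b6c35e77d3c388bae3f339d5a5b441082c4f349570d7d9a5064403d9188c312aef7d1f681bb2de3fc9e15e72773171f60feb330f6ff9b33723a0cb2d93ecf1fb4823e89de0dcec0376132a157e460b28bd869b13d298388731632ce384bd6009e11a1a7117317b313aab4fd848debf1afcba7b6318790b53f910c2bdd41629a539ce70012ef552f17b47e9dafe5409ebd90a4763d8a4e8d3f6d322e2c7a415d3141257a33368aa0967c1e335d7aa9df122d6071693a9b235e3e0425a4ff84b154d41474541c3c5c072c4612d21b8fe845b4477a2b9a0338290f9d0abfa20782cfea2dd7870fdf05b9bb70f8765e522dfc04f660ceb6416707f990d39bf051f1d19a17027a439c4227bf35761683de3cdd756d7a52f4d70c1d34ba55d382b57f1a5aae0a1233083bd201f61e4462e0b88e764a72c26146c3970b7bc5cd1d07356a73a4912c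50ad6e24b204fd030da3fc2753fe47f9ac3777216dc621261a3b7f8dcc71d91f2f59173d4257da1ec3e7cc412586ab2cd0220e865c20e79fb9e2355a3e94a7d94157d79160ee8971bdd1ec537076636f927d7e9974c3aad3100cd0d798086253c61209dc7a5ae235b662e860b009a1922c202b187cb2e1f845f809a40014d510fc3769b4741d30f642a4833c9127807f4c6f7ea9996b54aca7f3aa402acdcacc34a0b79a32a12f266ba67736effc9d004f5b8d04e793f9156cf88a328d7e8b7899bb396ffd272baa7a2d5c7ef4bc172163e3e228ee863e20c1105c38509070147a6f508d13169bf0e92d1b3297687cd20778d70436cd73b5f6a38578bb2681fe68b97f043f5ef36cd9c1d614e48a496efa69b1074a8489d02d5c01cdf4a6d285b67c48f7f95200d274e85d1d16caa439230b9505e89ea165fa358461b3e3bb5e273e7c67ec31fcfcc505951c51fdccc4208810cdfd205729645e44931f6e86a75f1bb2c1f3cfed99bdb02bcbf87f33bc0510242771e587a41d833f806c7db79b04171d4e4930604a9e653b6608a6d2e359ba1cd9dede8a29dc68ab101e91831ace37abedc96667644af5384483a7c02badbc437f778fbf6409ab576f921dd47a65632431f1aa0a25e4120882d6a3faaa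 / 531441 ^ (vl b + 3 * vl c + 9 * vl u + 27 * vl f + 81 * vl v + 243 * vl w) % 531441)

theorem cls_tab : ∀ b c u f v w : F, b * f * w = 0 → (wit b c u f v w).det = 1 ∧
    ∃ r ∈ [1, z, x, yy 1, yy 2, u1, u2], (wit b c u f v w).mul (uu b c u f v w).1 =
      r.1.mul (wit b c u f v w) ∧ (b * f = 0 → b * v + c * w ≠ 0 → r = u1) := by
  decide +kernel

theorem cls_U {b c u f v w : F} (h : b * f * w = 0) : ∃ k, ∃ r ∈ [1, z, x, yy 1, yy 2, u1, u2],
    k * uu b c u f v w * k⁻¹ = r ∧ (b * f = 0 → b * v + c * w ≠ 0 → r = u1) := by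
  obtain ⟨d, r, hr, e, e'⟩ := cls_tab b c u f v w h
  exact ⟨⟨_, d⟩, r, hr, mul_inv_eq_of_eq_mul (Subtype.ext e), e'⟩

theorem cls3 {p : P0} (h : p ^ 3 = 1) :
    ∃ k, ∃ r ∈ [1, z, x, yy 1, yy 2, u1, u2], k * p * k⁻¹ = r := by
  obtain ⟨g, hg⟩ := conj_U (pg_zp (k := 1) (by simpa using h))
  obtain ⟨b, c, u, f, v, w, e⟩ := hg p (mem_zpowers p)
  have : uu b c u f v w ^ 3 = 1 := by rw [e, conj_pow, h]; simp
  rw [uu_cube, ← uu_zero, uu_inj] at this
  obtain ⟨k, r, hr, e', -⟩ := cls_U (c := c) (u := u) (v := v) this.2.2.1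
  exact ⟨k * g, r, hr, by rw [← e', e]; group⟩

theorem sq_one : ∀ a : F, a ≠ 0 → a * a = 1 := by decide

/-- the element with the given entries, if the determinant is  -/
def pm (A : Af) : P0 := if h : A.det = 1 then ⟨A, h⟩ else 1

theorem pm_val (p : P0) : pm p.1 = p := dif_pos p.2

theorem tr_conj {u v w : F} (h : tr u v w ≠ 1) : ∃ k, k * z * k⁻¹ = tr u v w := by
  have : ∀ u v w : F, tr u v w ≠ 1 → ∃ A ∈ [Af.mk u 0 0 0 v u 0 0 w 0 1 0,
      ⟨0, -v, 0, 0, v, 0, 0, 0, w, 0, 1, 0⟩, ⟨0, 0, w, 0, 0, -1, 0, 0, w, 0, 0, 0⟩],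
      pm A * z * (pm A)⁻¹ = tr u v w := by decide +kernel
  obtain ⟨A, -, e⟩ := this u v w h
  exact ⟨_, e⟩

theorem conj_tr (k : P0) (u v w : F) : ∃ u' v' w', k * tr u v w * k⁻¹ = tr u' v' w' :=
  ⟨k.1.a * u + k.1.b * v + k.1.c * w, k.1.d * u + k.1.e * v + k.1.f * w,
    k.1.g * u + k.1.h * v + k.1.i * w, mul_inv_eq_of_eq_mul (Subtype.ext (by
      ext <;> simp [P0.mul_val, Af.mul, dot_eq, tr, uu_val] <;> ring))⟩

theorem cent_z {p : P0} (h : p * z = z * p) : p.1.a = 1 ∧ p.1.d = 0 ∧ p.1.g = 0 := by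
  simp [P0.eq_iff, P0.mul_val, Af.mul, dot_eq, z, uu_val] at h
  exact ⟨by linear_combination h.1, h.2⟩

theorem tri_det {p : P0} (d : p.1.d = 0) (g : p.1.g = 0) (h : p.1.h = 0) :
    p.1.a * p.1.e * p.1.i = 1 := by
  have := p.2; rw [Af.det_eq, d, g, h] at this; linear_combination this

theorem diag_aux : ∀ a e i : F, a * e * i = 1 → (i = a → e = 1) ∧ (a = 1 ∨ a = 2) ∧
    (e = 1 → i = a) ∧ (e = a → i = 1) := by decide

theorem or_τ {p : P0} (d : p.1.d = 0) (g : p.1.g = 0) (h : p.1.h = 0) (e : p.1.e = 1) :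
    (p.1.a = 1 ∧ uu p.1.b p.1.c p.1.u p.1.f p.1.v p.1.w = p) ∨
      (p.1.a = 2 ∧ uu p.1.b (-p.1.c) p.1.u (-p.1.f) p.1.v p.1.w = p * τ) := by
  obtain ⟨-, a | a, i, -⟩ := diag_aux _ _ _ (tri_det d g h)
  · exact .inl ⟨a, eq_uu a d e g h ((i e).trans a)⟩
  · have k : ∀ c : F, -c = c * 2 := by decide
    refine .inr ⟨a, ?_⟩
    simp [P0.eq_iff, P0.mul_val, Af.mul, dot_eq, uu_val, τ_val, a, d, e, g, h, i e, k]
    rfl

theorem cent_x {p : P0} (h : p * x = x * p) :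
    p.1.d = 0 ∧ p.1.g = 0 ∧ p.1.h = 0 ∧ p.1.w = 0 ∧ p.1.e = 1 := by
  simp [P0.eq_iff, P0.mul_val, Af.mul, dot_eq, x, uu_val] at h
  obtain ⟨g, h, i, w, d, -⟩ := h
  exact ⟨d, g, h, w, (diag_aux _ _ _ (tri_det d g h)).1 (by linear_combination -i)⟩

theorem cent_yy {p : P0} {ε : F} (h : p * yy ε = yy ε * p) :
    p.1.d = 0 ∧ p.1.g = 0 ∧ p.1.h = 0 ∧ p.1.w = ε * p.1.b ∧ p.1.e = 1 := by
  simp [P0.eq_iff, P0.mul_val, Af.mul, dot_eq, yy, uu_val] at h
  obtain ⟨g, h, i, w, d, -⟩ := h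
  exact ⟨d, g, h, by linear_combination -w,
    (diag_aux _ _ _ (tri_det d g h)).1 (by linear_combination -i)⟩

theorem cent_u1 {p : P0} (h : p * u1 = u1 * p) : ∃ b c u v, uu b c u 0 v c = p := by
  simp [P0.eq_iff, P0.mul_val, Af.mul, dot_eq, u1, uu_val] at h
  obtain ⟨g, h, a, w, d, f, -, i⟩ := h
  have i : p.1.i = 1 := by linear_combination i
  have a : p.1.a = 1 := by linear_combination a + i
  have := eq_uu a d ((diag_aux _ _ _ (tri_det d g h)).1 (i.trans a.symm)) g h i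
  rw [f, show p.1.w = p.1.c by linear_combination -w] at this
  exact ⟨_, _, _, _, this⟩

theorem cent_u2 {p : P0} (h : p * u2 = u2 * p) : ∃ b c u, uu b c u b 0 0 = p := by
  simp [P0.eq_iff, P0.mul_val, Af.mul, dot_eq, u2, uu_val] at h
  obtain ⟨d, e, f, v, g, -, i, w, -, h⟩ := h
  have e : p.1.e = p.1.a := by linear_combination -e
  have i1 := (diag_aux _ _ _ (tri_det d g h)).2.2.2 e
  have := eq_uu (by linear_combination i + i1 - e) d (by linear_combination i + i1) g h i1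
  rw [v, w, show p.1.f = p.1.b by linear_combination -f] at this
  exact ⟨_, _, _, this⟩

theorem cent_t {p : P0} (h : p * t = t * p) :
    p.1.b = 0 ∧ p.1.c = 0 ∧ p.1.d = 0 ∧ p.1.g = 0 ∧ p.1.v = 0 ∧ p.1.w = 0 := by
  simp [P0.eq_iff, P0.mul_val, Af.mul, dot_eq, t_val] at h
  obtain ⟨b, c, d, -, -, v, g, -, -, w⟩ := h
  exact ⟨by linear_combination b, by linear_combination c, by linear_combination -d,
    by linear_combination -g, by linear_combination -v, by linear_combination -w⟩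

theorem cent_J {p : P0} (hz : p * z = z * p) (hx : p * x = x * p) (h : p * x24 = x24 * p) :
    p ∈ J := by
  obtain ⟨d, g, h', w, e⟩ := cent_x hx
  simp [P0.eq_iff, P0.mul_val, Af.mul, dot_eq, x24, uu_val] at h
  have a := (cent_z hz).1
  have := eq_uu a d e g h' (((diag_aux _ _ _ (tri_det d g h')).2.2.1 e).trans a)
  rw [w, h.1] at this
  exact ⟨(_, _, _, _), this⟩

theorem gam3 {p q r : P0} (hp : p ∈ U) (hq : q ∈ U) (hr : r ∈ U) : ∃ k, ⁅⁅p, q⁆, r⁆ = tr k 0 0 := by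
  obtain ⟨b, c, u, f, v, w, rfl⟩ := hp
  obtain ⟨b', c', u', f', v', w', rfl⟩ := hq
  obtain ⟨b'', c'', u'', f'', v'', w'', rfl⟩ := hr
  simp only [commutatorElement_def, uu_inv, uu_mul, tr, uu_inj]
  refine ⟨_, ?_, ?_, rfl, ?_, ?_, ?_⟩ <;> ring

theorem gam2 (b c u v w b' c' u' v' w' : F) :
    ⁅uu b c u 0 v w, uu b' c' u' 0 v' w'⁆ = tr (b * v' + c * w' - b' * v - c' * w) 0 0 := by
  simp only [commutatorElement_def, uu_inv, uu_mul, tr, uu_inj]
  refine ⟨?_, ?_, ?_, ?_, ?_, ?_⟩ <;> ring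

theorem tr_z : ∀ k : F, tr k 0 0 = 1 ∨ tr k 0 0 = z ∨ tr k 0 0 = z⁻¹ := by decide +kernel

theorem cent_U {p : P0} (h : p ∈ U) : p * z = z * p := by
  obtain ⟨b, c, u, f, v, w, rfl⟩ := h
  simp [z, uu_mul, add_comm]

theorem inv_conj {p : P0} (pp : p * p = 1) (p1 : p ≠ 1) : ∃ k, k * t * k⁻¹ = p := by
  obtain ⟨u, v, w, n1, hn⟩ : ∃ u v w, tr u v w ≠ 1 ∧ p * tr u v w = tr u v w * p := by
    by_contra hc
    simp only [not_exists, not_and] at hc
    have k : ∀ u v w, p * tr u v w = (tr u v w)⁻¹ * p := fun u v w => by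
      obtain ⟨u', v', w', e⟩ := conj_tr p u v w
      have c : tr u v w * tr u' v' w' = tr u' v' w' * tr u v w := by simp [tr, uu_mul, add_comm]
      have a : tr u v w * tr u' v' w' = tr (u + u') (v + v') (w + w') := by simp [tr, uu_mul]
      have e' : p * tr u' v' w' * p⁻¹ = tr u v w := by
        rw [← e, inv_eq_of_mul_eq_one_right pp]
        calc _ = p * p * tr u v w * (p * p) := by group
          _ = _ := by simp [pp]
      by_cases h : tr (u + u') (v + v') (w + w') = 1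
      · rw [← a, ← e] at h
        rw [eq_inv_mul_iff_mul_eq, ← mul_inv_eq_one, ← h]; group
      · refine absurd ?_ (hc _ _ _ h)
        rw [← mul_inv_eq_iff_eq_mul, ← a, ← conj_mul, e, e', c]
    have k1 := k 1 0 0
    have k2 := k 0 1 0
    have k3 := k 0 0 1
    simp [tr, uu_inv, P0.eq_iff, P0.mul_val, Af.mul, dot_eq, uu_val] at k1 k2 k3
    have := tri_det k1.2.1 k1.2.2 k2.2.2
    rw [show p.1.a = -1 by linear_combination k1.1, show p.1.e = -1 by linear_combination k2.2.1,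
      show p.1.i = -1 by linear_combination k3.2.2] at this
    exact absurd this (by decide)
  obtain ⟨k, hk⟩ := tr_conj n1
  obtain ⟨q, rfl⟩ : ∃ q, p = k * q * k⁻¹ := ⟨k⁻¹ * p * k, by group⟩
  rw [← hk, conj_mul, conj_mul, mul_left_inj, mul_right_inj] at hn
  rw [conj_mul, conj_eq_one_iff] at pp
  replace p1 : q ≠ 1 := by rintro rfl; simp at p1
  obtain ⟨a, d, g⟩ := cent_z hn
  have dt := q.2
  have h := pp
  simp [P0.eq_iff, P0.mul_val, Af.mul, dot_eq, P0.one_val, a, d, g] at h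
  rw [Af.det_eq, a, d, g] at dt
  have : ∀ e f h i : F, e * i - f * h = 1 → e * e + f * h = 1 → e * f + f * i = 0 →
    h * e + i * h = 0 → h * f + i * i = 1 → f = 0 ∧ h = 0 ∧ i = e ∧ (e = 1 ∨ e = 2) := by decide
  obtain ⟨f, h', i, e | e⟩ := this q.1.e q.1.f q.1.h q.1.i (by linear_combination dt) h.2.2.2.1
    h.2.2.2.2.1 h.2.2.2.2.2.2.1 h.2.2.2.2.2.2.2.1
  · have := uu_cube q.1.b q.1.c q.1.u q.1.f q.1.v q.1.w
    rw [eq_uu a d e g h' (i.trans e), pow_three', pp, one_mul, f] at this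
    exact absurd (by rw [this]; simp [uu_zero]) p1
  · have : ∀ b c u v w : F, pm ⟨1, b, c, u, 0, 2, 0, v, 0, 0, 2, w⟩ * pm ⟨1, b, c, u, 0, 2, 0, v, 0, 0, 2, w⟩ = 1 →
      uu b c 0 0 (-v) (-w) * t * (uu b c 0 0 (-v) (-w))⁻¹ = pm ⟨1, b, c, u, 0, 2, 0, v, 0, 0, 2, w⟩ := by
      decide +kernel
    have e' : pm ⟨1, q.1.b, q.1.c, q.1.u, 0, 2, 0, q.1.v, 0, 0, 2, q.1.w⟩ = q := by
      rw [← pm_val q]; congr 1; ext <;> simp [a, d, e, f, g, h', i, pm_val]
    have := this q.1.b q.1.c q.1.u q.1.v q.1.w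
    rw [e'] at this
    exact ⟨k * uu q.1.b q.1.c 0 0 (-q.1.v) (-q.1.w), by conv_rhs => rw [← this pp]
                                                        group⟩

/-- `J` is the only elementary abelian subgroup of order 81 of `U` -/
theorem uniq_J {φ : F × F × F × F → P0} (add : ∀ X Y, φ (X + Y) = φ X * φ Y)
    (inj : Function.Injective φ) (hU : ∀ X, φ X ∈ U) (X : F × F × F × F) : φ X ∈ J := by
  choose b c u f v w e using hU
  have sub : ∀ X Y, φ X = φ (X - Y) * φ Y := fun X Y => by rw [← add, sub_add_cancel]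
  have com : ∀ X Y, φ X * φ Y = φ Y * φ X := fun X Y => by rw [← add, add_comm, add]
  have key : ∀ κ : F × F × F × F → F × F × F, ¬ ∀ X Y, κ X = κ Y → φ X = φ Y := fun κ h => by
    have := Fintype.card_le_of_injective κ fun X Y e => inj (h X Y e)
    simp at this
  by_contra hX
  have hX : b X ≠ 0 ∨ w X ≠ 0 := by
    by_contra h
    simp only [not_or, not_not] at h
    exact hX ⟨(c X, u X, f X, v X), by rw [← e X, h.1, h.2]; rfl⟩
  have D : ∀ A B, b A = b (A - B) + b B ∧ c A = c (A - B) + c B + b (A - B) * f B ∧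
      u A = u (A - B) + u B + b (A - B) * v B + c (A - B) * w B ∧ f A = f (A - B) + f B ∧
      v A = v (A - B) + v B + f (A - B) * w B ∧ w A = w (A - B) + w B := fun A B => by
    have := sub A B; rwa [← e, ← e, ← e, uu_mul, uu_inj] at this
  have C : ∀ A B, b A * f B = b B * f A ∧ b A * v B + c A * w B = b B * v A + c B * w A ∧
      f A * w B = f B * w A := fun A B => by
    have := com A B; rw [← e, ← e, uu_mul, uu_mul, uu_inj] at this
    exact ⟨by linear_combination this.2.1, by linear_combination this.2.2.1,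
      by linear_combination this.2.2.2.2.1⟩
  have fin : ∀ A B, b (A - B) = 0 → c (A - B) = 0 → u A = u B → f (A - B) = 0 → v (A - B) = 0 →
      w (A - B) = 0 → φ A = φ B := fun A B h1 h2 h3 h4 h5 h6 => by
    have := (D A B).2.2.1
    rw [sub A B, ← e (A - B), h1, h2, h4, h5, h6,
      show u (A - B) = 0 by rw [h1, h2, h3] at this; linear_combination -this, uu_zero, one_mul]
  by_cases h : ∃ Y, b X * w Y ≠ b Y * w X
  · obtain ⟨Y, h⟩ := h
    refine key (fun A => (b A, w A, u A)) fun A B h' => ?_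
    simp only [Prod.mk.injEq] at h'
    have h1 : b (A - B) = 0 := by linear_combination -(D A B).1 + h'.1
    have h2 : w (A - B) = 0 := by linear_combination -(D A B).2.2.2.2.2 + h'.2.1
    have c1 := C X (A - B)
    have c2 := C Y (A - B)
    simp only [h1, h2, zero_mul, mul_zero, add_zero, zero_add] at c1 c2
    have : ∀ b w b' w' c f v : F, b * w' ≠ b' * w → b * f = 0 → b * v = c * w → 0 = f * w →
      b' * v = c * w' → c = 0 ∧ f = 0 ∧ v = 0 := by decide +kernel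
    obtain ⟨h3, h4, h5⟩ := this _ _ _ _ _ _ _ h c1.1 c1.2.1 c1.2.2 c2.2.1
    exact fin A B h1 h3 h'.2.2 h4 h5 h2
  simp only [not_exists, not_not] at h
  refine key (fun A => if b X = 0 then (w A, v A, u A) else (b A, c A, u A)) fun A B h' => ?_
  obtain ⟨d1, d2, -, -, d5, d6⟩ := D A B
  have c1 := C X (A - B)
  have h0 := h (A - B)
  have : ∀ b w b' w' c f v c' f' v' : F, (b ≠ 0 ∨ w ≠ 0) → b * w' = b' * w → b * f = b' * f' →
      b * v + c' * w' = b' * v' + c * w → f' * w' = f * w →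
      (b = 0 → w' = 0 → b' = 0 ∧ f = 0 ∧ c = 0) ∧ (b ≠ 0 → b' = 0 → w' = 0 ∧ f = 0 ∧ (c = 0 → v = 0)) := by
    intro b w b' w' c f v c' f' v' a1 a2 a3 a4 a5
    refine ⟨fun h1 h2 => ?_, fun h1 h2 => ?_⟩
    · have hw : w ≠ 0 := by tauto
      have : b' = 0 := by simpa [h1, hw] using a2
      exact ⟨this, by simpa [h2, hw] using a5, by simpa [h1, h2, hw, this] using a4⟩
    · have : w' = 0 := by simpa [h1, h2] using a2
      exact ⟨this, by simpa [h1, h2] using a3, fun h3 => by simpa [h1, h2, h3, this] using a4⟩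
  obtain ⟨t1, t2⟩ := this _ _ _ _ _ _ _ _ _ _ hX h0 c1.1 c1.2.1 c1.2.2
  split_ifs at h' with hb <;> simp only [Prod.mk.injEq] at h'
  · have h2 : w (A - B) = 0 := by linear_combination -d6 + h'.1
    obtain ⟨h1, h4, h3⟩ := t1 hb h2
    exact fin A B h1 h3 h'.2.2 h4 (by rw [h4] at d5; linear_combination -d5 + h'.2.1) h2
  · have h1 : b (A - B) = 0 := by linear_combination -d1 + h'.1
    obtain ⟨h2, h4, h5⟩ := t2 hb h1
    have h3 : c (A - B) = 0 := by rw [h1] at d2; linear_combination -d2 + h'.2.1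
    exact fin A B h1 h3 h'.2.2 h4 (h5 h3) h2

end CL.L43
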