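/- S3373: consequences of the frame that hold in both cases. -/
import Mathlib
import Cfsg.Agent.PERM.L43a
import Cfsg.Agent.PERM.McL3D
import Cfsg.Agent.PERM.A8Cent
import Cfsg.Agent.SOLV.CoprimeGen
import Cfsg.Agent.INV.SylowRel

set_option autoImplicit false
set_option synthInstance.maxSize 8192
set_option linter.unusedSectionVars false

namespace CL.L43

open Subgroup CL.McL3 CL.Odd
open scoped commutatorElement

variable {G : Type*} [Group G]

/-- the image of an additive map from the plane -/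
def Pl (φ : F × F → G) (add : ∀ v v', φ (v + v') = φ v * φ v') : Subgroup G where
  carrier := {g | ∃ v, φ v = g}
  one_mem' := ⟨0, by have := add 0 0; rw [add_zero] at this; exact mul_eq_left.mp this.symm⟩
  mul_mem' := by rintro _ _ ⟨v, rfl⟩ ⟨v', rfl⟩; exact ⟨_, add ..⟩
  inv_mem' := by
    rintro _ ⟨v, rfl⟩
    have := add 0 0; rw [add_zero] at this
    exact ⟨-v, eq_inv_of_mul_eq_one_left (by rw [← add, neg_add_cancel, mul_eq_left.mp this.symm])⟩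

section Pl
variable {φ : F × F → G} (add : ∀ v v', φ (v + v') = φ v * φ v')
include add

theorem pl_zero : φ 0 = 1 := by have := add 0 0; rw [add_zero] at this; exact mul_eq_left.mp this.symm

theorem pl_cube : ∀ y ∈ Pl φ add, y ^ 3 = 1 := by
  rintro _ ⟨v, rfl⟩
  rw [pow_three', ← add, ← add, (by decide : ∀ v : F × F, v + v + v = 0), pl_zero add]

theorem pl_comm : ∀ y ∈ Pl φ add, ∀ y' ∈ Pl φ add, y * y' = y' * y := by
  rintro _ ⟨v, rfl⟩ _ ⟨v', rfl⟩; rw [← add, add_comm, add]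

theorem pl_nc (inj : Function.Injective φ) : ¬ IsCyclic (Pl φ add) := fun ⟨⟨g, hg⟩, h⟩ => by
  have k : ∀ v, φ v = 1 ∨ φ v = g ∨ φ v = g⁻¹ := fun v => by
    obtain ⟨n, e⟩ := h ⟨φ v, v, rfl⟩
    exact (mem_zpowers_three (pl_cube add g hg)).1 ⟨n, congrArg Subtype.val e⟩
  have := k 0
  have n : ∀ {v v'}, v ≠ v' → φ v ≠ φ v' := fun h e => h (inj e)
  have z := pl_zero add
  rcases k (1, 0) with a | a | a <;> rcases k (0, 1) with b | b | b <;> rcases k (1, 1) with c | c | c <;>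
    first | exact n (by decide) (a.trans z.symm) | exact n (by decide) (b.trans z.symm) |
      exact n (by decide) (c.trans z.symm) | exact n (by decide) (a.trans b.symm) |
      exact n (by decide) (a.trans c.symm) | exact n (by decide) (b.trans c.symm)

theorem pl_gen [Finite G] (inj : Function.Injective φ) {K H : Subgroup G}
    (cop : (Nat.card K).Coprime 3) (nK : ∀ v, ∀ k ∈ K, φ v * k * (φ v)⁻¹ ∈ K)
    (h : ∀ v ≠ 0, ∀ k ∈ K, k * φ v = φ v * k → k ∈ H) : K ≤ H := by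
  have : IsMulCommutative (Pl φ add) := ⟨⟨fun a b => Subtype.ext (pl_comm add _ a.2 _ b.2)⟩⟩
  obtain ⟨n, hn⟩ := (IsPGroup.iff_card (p := 3) (G := Pl φ add)).1
    fun a => ⟨1, Subtype.ext (by simpa using pl_cube add _ a.2)⟩
  refine coprime_le_of_forall_centralizer_le (Pl φ add) K H (pl_nc add inj) ?_
    (hn ▸ (cop.symm.pow_left n)) ?_
  · rintro _ ⟨v, rfl⟩; exact Tr.mem_normalizer_of_conj_mem (nK v)
  · rintro _ ⟨v, rfl⟩ h1 k ⟨hk, hk'⟩
    exact h v (by rintro rfl; exact h1 (pl_zero add)) k hk (mem_centralizer_singleton_iff.1 hk')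

end Pl

theorem eq_one_of_cop [Finite G] {K : Subgroup G} (cop : (Nat.card K).Coprime 3) {g : G} (hg : g ∈ K)
    {k : ℕ} (h : g ^ 3 ^ k = 1) : g = 1 := by
  have := Nat.eq_one_of_dvd_coprimes (cop.pow_right k) (orderOf_dvd_natCard K hg)
    (orderOf_dvd_of_pow_eq_one h)
  simpa using this

/-- the Sylow subgroup of the centralizer of `yy ε` -/
def Ty (ε : F) : Subgroup P0 where
  carrier := {p | ∃ b c u f v, uu b c u f v (ε * b) = p}
  one_mem' := ⟨0, 0, 0, 0, 0, by simp [uu_zero]⟩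
  mul_mem' := by
    rintro _ _ ⟨b, c, u, f, v, rfl⟩ ⟨b', c', u', f', v', rfl⟩
    exact ⟨_, _, _, _, _, by rw [uu_mul, ← mul_add]⟩
  inv_mem' := by
    rintro _ ⟨b, c, u, f, v, rfl⟩
    exact ⟨_, _, _, _, _, by rw [uu_inv, ← mul_neg]⟩

theorem Ty_le (ε : F) : Ty ε ≤ U := by rintro _ ⟨b, c, u, f, v, rfl⟩; exact uu_mem ..

theorem Ty_cent {ε : F} {p : P0} (h : p ∈ Ty ε) : p * yy ε = yy ε * p := by
  obtain ⟨b, c, u, f, v, rfl⟩ := h
  simp only [yy, uu_mul, uu_inj]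
  refine ⟨?_, ?_, ?_, ?_, ?_, ?_⟩ <;> ring

theorem cent_yy' {p : P0} {ε : F} (h : p * yy ε = yy ε * p) : p ∈ Ty ε ∨ p * τ ∈ Ty ε := by
  obtain ⟨d, g, h, w, e⟩ := cent_yy h
  rcases or_τ d g h e with ⟨-, a⟩ | ⟨-, a⟩ <;> rw [w] at a
  · exact .inl ⟨_, _, _, _, _, a⟩
  · exact .inr ⟨_, _, _, _, _, a⟩

theorem tri_pow {p : P0} (d : p.1.d = 0) (g : p.1.g = 0) (n : ℕ) :
    (p ^ n).1.d = 0 ∧ (p ^ n).1.g = 0 ∧ (p ^ n).1.a = p.1.a ^ n := by
  induction n with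
  | zero => simp [P0.one_val]
  | succ n ih => simp [pow_succ, P0.mul_val, Af.mul, dot_eq, ih, d, g]

theorem a_one {p : P0} (d : p.1.d = 0) (g : p.1.g = 0) {k : ℕ} (h : p ^ 3 ^ k = 1) : p.1.a = 1 := by
  have := (tri_pow d g (3 ^ k)).2.2
  rwa [h, ZMod.pow_card_pow, eq_comm] at this

theorem cent_yy3 {p : P0} {ε : F} (h : p * yy ε = yy ε * p) {k : ℕ} (hk : p ^ 3 ^ k = 1) :
    p ∈ Ty ε := by
  obtain ⟨d, g, h, w, e⟩ := cent_yy h
  rcases or_τ d g h e with ⟨-, a⟩ | ⟨a, -⟩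
  · exact ⟨_, _, _, _, _, by rwa [w] at a⟩
  · exact absurd (a.symm.trans (a_one d g hk)) (by decide)

namespace Fr

variable {f : P0 →* G} (h : Fr f)
include h

theorem cm {p q : P0} (e : f p * f q = f q * f p) : p * q = q * p := h.inj (by simpa using e)

theorem cj {k p q : P0} (e : f k * f p * (f k)⁻¹ = f q) : k * p * k⁻¹ = q := h.inj (by simpa using e)

theorem mem {A : Subgroup P0} {p : P0} : f p ∈ A.map f ↔ p ∈ A := mem_map_iff_mem h.inj

theorem cz {g : G} (e : g * f z = f z * g) : g ∈ f.range := h.nz g (.inl (by simp [e]))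

theorem nz' {g : G} {k : F} (e : g * f z * g⁻¹ = f (tr k 0 0)) : g ∈ f.range := by
  rcases tr_z k with a | a | a <;> rw [a] at e
  · rw [map_one, conj_eq_one_iff, ← map_one f] at e
    exact absurd (h.inj e) (by decide)
  · exact h.nz g (.inl e)
  · exact h.nz g (.inr (by simpa using e))

theorem gam {g : G} {p q r : P0} (e : ⁅⁅p, q⁆, r⁆ = z) (hp : g * f p * g⁻¹ ∈ U.map f)
    (hq : g * f q * g⁻¹ ∈ U.map f) (hr : g * f r * g⁻¹ ∈ U.map f) : g ∈ f.range := by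
  obtain ⟨p', hp, e1⟩ := hp
  obtain ⟨q', hq, e2⟩ := hq
  obtain ⟨r', hr, e3⟩ := hr
  obtain ⟨k, hk⟩ := gam3 hp hq hr
  refine h.nz' (k := k) ?_
  rw [← hk, ← e]
  simp only [map_commutatorElement, e1, e2, e3, conjugate_commutatorElement]

theorem fixN {g : G} {u v w u' v' w' : F} (h1 : tr u v w ≠ 1)
    (e : g * f (tr u v w) * g⁻¹ = f (tr u' v' w')) : g ∈ f.range := by
  have h2 : tr u' v' w' ≠ 1 := fun a => by
    rw [a, map_one, conj_eq_one_iff, ← map_one f] at e; exact h1 (h.inj e)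
  obtain ⟨k, hk⟩ := tr_conj h1
  obtain ⟨k', hk'⟩ := tr_conj h2
  have : (f k')⁻¹ * g * f k ∈ f.range := h.nz _ (.inl (by
    rw [← hk, ← hk'] at e
    simp only [map_mul, map_inv] at e
    calc _ = (f k')⁻¹ * (g * (f k * f z * (f k)⁻¹) * g⁻¹) * f k' := by group
      _ = _ := by rw [e]; group))
  simpa [mul_assoc] using
    mul_mem (mul_mem (⟨k', rfl⟩ : f k' ∈ f.range) this) (inv_mem (⟨k, rfl⟩ : f k ∈ f.range))

theorem cN {g : G} {u v w : F} (h1 : tr u v w ≠ 1) (e : g * f (tr u v w) = f (tr u v w) * g) :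
    g ∈ f.range := h.fixN h1 (mul_inv_eq_of_eq_mul e)

theorem co : Co (J.map f) fun X => f (jj X) :=
  ⟨fun X Y => by rw [jj_add, map_mul], fun _ _ e => jj_inj (h.inj e),
    fun _ => ⟨by rintro ⟨_, ⟨X, rfl⟩, e⟩; exact ⟨X, e⟩, by rintro ⟨X, rfl⟩; exact h.mem.2 (jj_mem X)⟩⟩

theorem cJ (g : G) (e : ∀ j ∈ J.map f, g * j = j * g) : g ∈ J.map f := by
  obtain ⟨p, rfl⟩ := h.cz (e _ (h.mem.2 (jj_mem (0, 1, 0, 0))))
  exact h.mem.2 (cent_J (h.cm (e _ (h.mem.2 (jj_mem (0, 1, 0, 0)))))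
    (h.cm (e _ (h.mem.2 (jj_mem (1, 0, 0, 0))))) (h.cm (e _ (h.mem.2 (jj_mem (0, 0, 0, 1))))))

omit h in
theorem pS {A : Subgroup P0} (hA : A ≤ U) : IsPGroup 3 (A.map f) := (pU.to_le hA).map f

variable [Finite G]

theorem card_range : Nat.card f.range = 151632 := by
  rw [← card_P0]; exact Nat.card_congr (MonoidHom.ofInjective h.inj).toEquiv.symm

theorem iU : ¬ 3 ∣ (U.map f).index := by
  refine not_dvd_index_of_normalizer_le' (n := 6) (M := f.range) ?_ (fun g hg => ?_)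
    (by rw [h.card_range]; decide)
  · rw [card_map_of_injective h.inj, card_U]
  · exact h.gam (p := x12) (q := s) (r := x34) (by decide +kernel)
      (Tr.conj_mem_of_mem_normalizer hg (h.mem.2 (uu_mem ..)))
      (Tr.conj_mem_of_mem_normalizer hg (h.mem.2 (uu_mem ..)))
      (Tr.conj_mem_of_mem_normalizer hg (h.mem.2 (uu_mem ..)))

/-- the Sylow subgroup -/
noncomputable def P : Sylow 3 G := (pS le_rfl).toSylow h.iU

theorem wkU {g : G} (hg : ∀ j ∈ J.map f, g * j * g⁻¹ ∈ U.map f) : g ∈ Nm (J.map f) := by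
  choose φ hφ e using fun X => hg _ (h.mem.2 (jj_mem X))
  refine Tr.mem_normalizer_of_conj_mem ?_
  rintro _ ⟨_, ⟨X, rfl⟩, rfl⟩
  rw [← e]
  refine h.mem.2 (uniq_J (fun X Y => h.inj ?_) (fun X Y a => ?_) hφ X)
  · rw [map_mul, e, e, e, jj_add, map_mul, conj_mul]
  · have := congrArg f a
    rw [e, e, mul_left_inj, mul_right_inj] at this
    exact jj_inj (h.inj this)

theorem wkJ : Cfsg.IsWeaklyClosed (J.map f) (h.P : Subgroup G) :=
  ⟨map_mono J_le_U, fun g hg => Tr.map_conj_eq_self_of_mem_normalizer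
    (h.wkU ((Tr.map_conj_le_iff _ _ _).1 hg))⟩

theorem wc {X : Subgroup G} (hJ : J.map f ≤ X) {g : G} (hg : ∀ y ∈ J.map f, g * y * g⁻¹ ∈ X) :
    ∃ k ∈ X, k * g ∈ Nm (J.map f) := by
  obtain ⟨S, h1, h2, h3, h4⟩ := Tr.exists_sylowIn_ge (pS (f := f) J_le_U) hJ
  obtain ⟨k, hk, h5⟩ := Tr.exists_conj_le_sylowIn h3 h4
    ((pS (f := f) J_le_U).map (MulAut.conj g).toMonoidHom) ((Tr.map_conj_le_iff _ _ _).2 hg)
  refine ⟨k, hk, Tr.weaklyClosed_normalizer_of_le_pgroup h.P h.wkJ h3 h1 fun y hy => ?_⟩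
  simpa [mul_assoc] using h5 (g * y * g⁻¹) ⟨y, hy, rfl⟩

theorem fusJ {a g : G} (ha : a ∈ J.map f) (hg : g * a * g⁻¹ ∈ J.map f) :
    ∃ n ∈ Nm (J.map f), n * a * n⁻¹ = g * a * g⁻¹ := by
  have c : ∀ y ∈ J.map f, ∀ y' ∈ J.map f, y * y' = y' * y := fun y hy y' hy' => by
    obtain ⟨X, rfl⟩ := (h.co.mem _).1 hy
    obtain ⟨Y, rfl⟩ := (h.co.mem _).1 hy'
    exact h.co.comm X Y
  obtain ⟨k, hk, e⟩ := h.wc (X := centralizer {g * a * g⁻¹}) (g := g)
    (fun y hy => mem_centralizer_singleton_iff.2 (c _ hy _ hg)) fun y hy =>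
      mem_centralizer_singleton_iff.2 (by rw [conj_mul, conj_mul, c _ hy _ ha])
  refine ⟨_, e, ?_⟩
  rw [mem_centralizer_singleton_iff] at hk
  calc _ = k * (g * a * g⁻¹) * k⁻¹ := by group
    _ = _ := by rw [hk]; group

theorem genY {K : Subgroup G} (cop : (Nat.card K).Coprime 3)
    (nK : ∀ u v, ∀ k ∈ K, f (tr u v 0) * k * (f (tr u v 0))⁻¹ ∈ K) : K ≤ f.range :=
  pl_gen (φ := fun v => f (tr v.1 v.2 0)) (fun v v' => by rw [← map_mul]; simp [tr, uu_mul])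
    (fun v v' e => by have := h.inj e; simp only [tr, uu_inj] at this; ext <;> tauto) cop
    (fun v => nK _ _) fun v hv k _ e => h.cN (fun a => hv (by
      simp only [tr, ← uu_zero, uu_inj] at a; ext <;> tauto)) e

theorem sig (X : Subgroup G) (cop : (Nat.card X).Coprime 3)
    (hX : ∀ j ∈ J.map f, ∀ a ∈ X, j * a * j⁻¹ ∈ X) : X = ⊥ := by
  rw [eq_bot_iff]
  intro g hg
  obtain ⟨p, rfl⟩ := h.genY cop (fun u v => hX _ (h.mem.2 (jj_mem (0, u, 0, v)))) hg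
  have k : ∀ q ∈ J, (p * q * p⁻¹ * q⁻¹) ^ 3 = 1 → p * q = q * p := fun q hq e => by
    have := eq_one_of_cop cop (mul_mem hg (hX _ (h.mem.2 hq) _ (inv_mem hg))) (k := 1) (by
      simpa [mul_assoc] using congrArg f e)
    exact h.cm (by rw [← mul_inv_eq_iff_eq_mul, ← mul_inv_eq_one, ← this]; group)
  have kt : ∀ u v, p * tr u v 0 = tr u v 0 * p := fun u v => k _ (jj_mem (0, u, 0, v)) (by
    obtain ⟨u', v', w', e⟩ := conj_tr p u v 0
    rw [e]; simp [tr, uu_inv, uu_mul, uu_cube, uu_zero])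
  obtain ⟨a, d, g⟩ := cent_z (p := p⁻¹) (show Commute p z from kt 1 0).inv_left
  have e : x * p⁻¹ = p⁻¹ * uu p⁻¹.1.h p⁻¹.1.i p⁻¹.1.w 0 0 0 := by
    generalize p⁻¹ = q at a d g
    simp [P0.eq_iff, P0.mul_val, Af.mul, dot_eq, x, uu_val, a, d, g, add_comm]
  have : p ∈ J := cent_J (kt 1 0) (k x (jj_mem (1, 0, 0, 0)) (by
    rw [mul_assoc p, e]; simp [x, uu_inv, uu_mul, uu_cube, uu_zero])) (kt 0 1)
  exact eq_one_of_cop cop hg (k := 2) (by rw [← map_pow, U_nine (J_le_U this), map_one])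

theorem sylC {a : P0} {T : Subgroup P0} (TU : T ≤ U) (Ta : ∀ p ∈ T, p * a = a * p)
    (h3 : ∀ p k, p * a = a * p → p ^ 3 ^ k = 1 → p ∈ T)
    (hN : ∀ g, (∀ p ∈ T, g * f p * g⁻¹ ∈ T.map f) → g * f a = f a * g → g ∈ f.range)
    {E : Subgroup G} (hE : IsPGroup 3 E) (Ea : ∀ e ∈ E, e * f a = f a * e) :
    ∃ c, c * f a = f a * c ∧ ∀ e ∈ E, c * e * c⁻¹ ∈ T.map f := by
  obtain ⟨c, hc, e⟩ := Tr.exists_conj_le_sylowIn (H := centralizer {f a}) (pS TU)
    (SylowRel.not_dvd_relIndex_of_normalizer (pS TU) (by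
      rintro _ ⟨p, hp, rfl⟩
      exact mem_centralizer_singleton_iff.2 (by rw [← map_mul, Ta p hp, map_mul])) fun g hg hn ⟨k, hk⟩ => by
      rw [mem_centralizer_singleton_iff] at hg
      obtain ⟨p, rfl⟩ := hN g (fun p hp => Tr.conj_mem_of_mem_normalizer hn (h.mem.2 hp)) hg
      exact h.mem.2 (h3 p k (h.cm hg) (h.inj (by simpa using hk)))) hE
    fun e he => mem_centralizer_singleton_iff.2 (Ea e he)
  exact ⟨c, mem_centralizer_singleton_iff.1 hc, e⟩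

theorem gamT {ε : F} (hε : ε ≠ 0) {g : G} (hg : ∀ p ∈ Ty ε, g * f p * g⁻¹ ∈ U.map f) : g ∈ f.range :=
  h.gam (p := s) (q := uu 1 0 0 0 0 (ε * 1)) (r := uu ε 0 0 0 0 (ε * ε))
    ((by decide +kernel : ∀ ε : F, ε ≠ 0 → ⁅⁅s, uu 1 0 0 0 0 (ε * 1)⁆, uu ε 0 0 0 0 (ε * ε)⁆ = z) ε hε)
    (hg _ ⟨0, 0, 0, 1, 0, by rw [mul_zero]; rfl⟩) (hg _ ⟨_, _, _, _, _, rfl⟩) (hg _ ⟨_, _, _, _, _, rfl⟩)

theorem sylT {ε : F} (hε : ε ≠ 0) {E : Subgroup G} (hE : IsPGroup 3 E)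
    (Ea : ∀ e ∈ E, e * f (yy ε) = f (yy ε) * e) :
    ∃ c, c * f (yy ε) = f (yy ε) * c ∧ ∀ e ∈ E, c * e * c⁻¹ ∈ (Ty ε).map f :=
  h.sylC (Ty_le ε) (fun _ => Ty_cent) (fun _ _ a => cent_yy3 a)
    (fun _ hg _ => h.gamT hε fun p hp => map_mono (Ty_le ε) (hg p hp)) hE Ea

theorem y_z {ε : F} (hε : ε ≠ 0) (g : G) : g * f z * g⁻¹ ≠ f (yy ε) := fun e => by
  obtain ⟨c, hc, hT⟩ := h.sylT hε ((pS (f := f) le_rfl).map (MulAut.conj g).toMonoidHom) (by
    rintro _ ⟨_, ⟨p, hp, rfl⟩, rfl⟩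
    rw [← e]
    show g * f p * g⁻¹ * _ = _ * (g * f p * g⁻¹)
    rw [conj_mul, conj_mul, ← map_mul, cent_U hp, map_mul])
  obtain ⟨k, hk⟩ := h.gamT hε (g := c * g) fun p hp => by
    simpa [mul_assoc] using map_mono (Ty_le ε) (hT _ ⟨_, h.mem.2 (Ty_le ε hp), rfl⟩)
  obtain ⟨u, v, w, e'⟩ := conj_tr k 1 0 0
  have : k * z * k⁻¹ = yy ε := h.cj (by
    rw [hk]
    calc _ = c * (g * f z * g⁻¹) * c⁻¹ := by group
      _ = _ := by rw [e, hc]; group)
  have := e'.symm.trans this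
  simp [tr, yy, uu_inj] at this

theorem u1J (g : G) : g * f u1 * g⁻¹ ∉ J.map f := fun e => by
  obtain ⟨c, hc, hT⟩ := h.sylC (a := u1) (T := centralizer {u1}) (fun p hp => by
      obtain ⟨b, c, u, v, rfl⟩ := cent_u1 (mem_centralizer_singleton_iff.1 hp); exact uu_mem ..)
    (fun _ => mem_centralizer_singleton_iff.1) (fun _ _ a _ => mem_centralizer_singleton_iff.2 a)
    (fun g hg _ => by
      obtain ⟨p, hp, e1⟩ := hg x12 (mem_centralizer_singleton_iff.2 (by decide +kernel))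
      obtain ⟨q, hq, e2⟩ := hg x24 (mem_centralizer_singleton_iff.2 (by decide +kernel))
      obtain ⟨b, c, u, v, rfl⟩ := cent_u1 (mem_centralizer_singleton_iff.1 hp)
      obtain ⟨b', c', u', v', rfl⟩ := cent_u1 (mem_centralizer_singleton_iff.1 hq)
      exact h.nz' (by rw [← gam2 b c u v c b' c' u' v' c', map_commutatorElement, e1, e2, ← conjugate_commutatorElement,
        ← map_commutatorElement, show ⁅x12, x24⁆ = z by decide +kernel]))
    ((pS (f := f) J_le_U).map (MulAut.conj g⁻¹).toMonoidHom) (by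
      rintro _ ⟨j, hj, rfl⟩
      obtain ⟨X, rfl⟩ := (h.co.mem _).1 hj
      obtain ⟨Y, hY⟩ := (h.co.mem _).1 e
      have := h.co.comm X Y
      rw [hY] at this
      show g⁻¹ * f (jj X) * g⁻¹⁻¹ * _ = _ * (g⁻¹ * f (jj X) * g⁻¹⁻¹)
      calc _ = g⁻¹ * (f (jj X) * (g * f u1 * g⁻¹)) * g := by group
        _ = _ := by rw [this]; group)
  have := Tr.conj_mem_of_mem_normalizer (h.wkU (g := c * g⁻¹) fun j hj => by
    obtain ⟨p, hp, e⟩ := hT _ ⟨j, hj, rfl⟩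
    obtain ⟨b, c, u, v, rfl⟩ := cent_u1 (mem_centralizer_singleton_iff.1 hp)
    exact ⟨_, uu_mem .., by simpa [mul_assoc] using e⟩) e
  rw [show c * g⁻¹ * (g * f u1 * g⁻¹) * (c * g⁻¹)⁻¹ = c * f u1 * c⁻¹ by group, hc,
    mul_inv_cancel_right, h.mem] at this
  obtain ⟨X, e⟩ := this
  simp [jj, u1, uu_inj] at e

end Fr

end CL.L43
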