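import Mathlib
import Cfsg.Agent.PERM.HN3F
import Cfsg.Agent.PERM.L43b

/-! The three-local characterization of the Harada–Norton group: signalizers, and the centraliser of a
non-singular vector. -/

set_option autoImplicit false
set_option linter.unusedSectionVars false
set_option synthInstance.maxSize 8192
open Subgroup CL.McL3
open CL.Odd hiding e3

namespace CL.HN3

variable {G : Type*} [Group G]

def PA : Mt := (e1, e0, e3, e2)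
def PB : Mt := (e2, e3, e0, e1)
def PC : Mt := (e3, e2, e1, e0)

theorem mc3 : SimP W4 ∧ SimP NN ∧ SimP PA ∧ SimP PB ∧ SimP PC ∧ mm W4 W4 = I4 ∧
    mm NN (Um 0 1) = mm (Um 0 1) NN ∧ ap NN zv = wv ∧ Um 0 1 ≠ I4 ∧ ap (Um 0 1) wv = wv ∧
    ap (Um 0 1) sv = sv - wv ∧ (∀ v : V4, -v = v → v = 0) ∧ (∀ c : ZMod 3, wv ≠ c • zv) ∧
    (∀ v, bp zv v = 0 → (∃ c : ZMod 3, v = c • zv) ∨ ∃ i j, ∃ k : Fin 4,
      ap (mm (Um i j) (mp AI k)) wv = v ∨ ap (mm (mm (Um i j) (mp AI k)) PC) e0 = v) ∧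
    (∀ i j, ∀ k : Fin 4, ap (mm (Um i j) (mp AI k)) zv = zv ∧ (ap (mm (Um i j) (mp AI k)) wv = -wv →
      ∃ c : ZMod 3, -ap (mm (Um i j) (mp AI k)) uv = uv + c • zv)) ∧
    (∀ v : V2, v ≠ 0 → v.1 • zv + v.2 • wv ≠ 0 ∧ bp (v.1 • zv + v.2 • wv) (v.1 • zv + v.2 • wv) = 0) ∧
    ∀ k, SimP (![Um 1 0, AI, HH] k) := by decide +kernel

theorem mm_W (A : Mt) : mm A W4 = mm W4 A := mt_ext fun x => by
  rw [ap_mm, ap_mm, ap_W4, ap_W4, ap_neg]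

theorem I4_mm (A : Mt) : mm I4 A = A := mt_ext fun x => by rw [ap_mm, ap_I4]

theorem simP_st (i j : ZMod 3) (k : ℕ) : SimP (mm (Um i j) (mp AI k)) :=
  (mc1.2.2.2.2.2.2.2.2.2.2.2.2.2.2.2.2 i j).mm (mc1.2.2.2.2.2.2.2.2.2.2.2.2.2.1.mp k)

namespace Fr

variable {S Q L J : Subgroup G} {z : G} {π : L →* SL5} {τ : V4 → G} (h : Fr S Q L J z π τ) [Finite G]
include h

theorem zp' {x : V4} : τ x ∈ zpowers z ↔ ∃ c : ZMod 3, x = c • zv := by rw [← h.τz, h.toCo.zp]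
theorem sS : τ sv ∈ S := h.JS (h.toCo.mJ _)
theorem sQ : τ sv ∉ Q := fun e => absurd ((h.τQ _).1 e) (by decide)
theorem wQ : τ wv ∈ Q := (h.τQ _).2 (by decide)
theorem wZ : τ wv ∉ zpowers z := fun e => (h.zp'.1 e).elim mc3.2.2.2.2.2.2.2.2.2.2.2.2.1

theorem fz {g : G} {A : Mt} (e : Act τ g A) : g * z = z * g ↔ ap A zv = zv := h.τz ▸ h.toCo.fix e

theorem centF {a : G} (ha : a ∈ S) (e1 : a * τ wv = τ wv * a) (e2 : a * τ uv = τ uv * a) : a ∈ J :=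
  h.ab_cent h.JS h.Jc h.cJ ha fun e he hq => by
    obtain ⟨x, rfl⟩ := (h.mem e).1 he
    obtain ⟨b, c, d, rfl⟩ := mc2.1 x ((h.τQ x).1 hq)
    rw [h.add, h.add, h.toCo.smul, h.toCo.smul, h.toCo.smul, h.τz]
    exact (((show Commute a z from h.zS a ha).pow_right _).mul_right (Commute.pow_right e1 _)).mul_right
      (Commute.pow_right e2 _) |>.symm

theorem sing {g : G} {u v : V4} (e : g * τ u * g⁻¹ = τ v) : bp v v = 0 ↔ bp u u = 0 := by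
  obtain ⟨n, hn, e'⟩ := h.toHJ.fusion (h.toCo.mJ u) (e ▸ h.toCo.mJ v)
  obtain ⟨A, hA, sA⟩ := h.sim n hn
  rw [← h.inj (show τ (ap A u) = τ v by rw [← hA, e', e]), sA.sing]

theorem trans {v : V4} (v0 : v ≠ 0) (v1 : bp v v = 0) : ∃ g ∈ Nm J, g * z * g⁻¹ = τ v := by
  obtain ⟨l, -, rfl⟩ := words v v0 v1
  clear v0 v1
  induction l with
  | nil => exact ⟨1, one_mem _, by simp [aw, h.τz]⟩
  | cons k l ih =>
    obtain ⟨x, hx, e⟩ := ih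
    obtain ⟨y, hy⟩ := h.all _ (mc3.2.2.2.2.2.2.2.2.2.2.2.2.2.2.2.2 k)
    exact ⟨y * x, mul_mem (h.toCo.mem_N hy) hx, by rw [aw, List.foldr_cons, ← hy, ← aw, ← e]; group⟩

theorem exI {A : Mt} (hA : SimP A) (e : mm A A = I4) : ∃ g, Act τ g A ∧ g * g = 1 := by
  obtain ⟨g, hg⟩ := h.all A hA
  have m := h.toHJ.act_I h.toCo ((hg.mul hg).congr e)
  exact ⟨g * g * g, ((h.toCo.act_J m).mul hg).congr (I4_mm A), by
    rw [← h.J3 _ m, pow_three']; simp only [mul_assoc]⟩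

section W
variable {ω : G} (hω : Act τ ω W4)
include hω

theorem cw {g : G} {A : Mt} (hg : Act τ g A) : g * ω * g⁻¹ * ω⁻¹ ∈ J := by
  simpa [mul_assoc] using h.toHJ.act_eq h.toCo (hg.mul hω) ((hω.mul hg).congr (mm_W A).symm)

theorem lw (ω2 : ω * ω = 1) {A : Mt} (hA : SimP A) : ∃ g, Act τ g A ∧ g * ω = ω * g := by
  obtain ⟨g, hg⟩ := h.all A hA
  obtain ⟨r, hr, e⟩ := exists_mul_comm h.toHJ.pJ ω2 (h.cw hω hg)
  exact ⟨_, ((h.toCo.act_J hr).mul hg).congr (I4_mm A), e⟩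

theorem uw {a b : G} {A : Mt} (ha : Act τ a A) (hb : Act τ b A) (ea : a * ω = ω * a)
    (eb : b * ω = ω * b) : a = b := by
  obtain ⟨v, hv⟩ := (h.mem _).1 (h.toHJ.act_eq h.toCo ha hb)
  have := (h.toCo.fix hω (x := v)).1 (hv ▸ (Commute.mul_left ea (Commute.inv_left eb)).symm)
  rw [ap_W4] at this
  rwa [mc3.2.2.2.2.2.2.2.2.2.2.2.1 v this, h.toCo.zero, eq_comm, mul_inv_eq_one] at hv

theorem wz : ω * z * ω⁻¹ = z⁻¹ := by rw [← h.τz, hω, ap_W4, h.toCo.neg]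

end W

theorem sig (X : Subgroup G) (cop : (Nat.card X).Coprime 3) (hX : ∀ j ∈ J, ∀ a ∈ X, j * a * j⁻¹ ∈ X) :
    X = ⊥ := by
  have m := mc3.2.2.2.2.2.2.2.2.2.2.2.2.2.2.2.1
  refine eq_bot_iff.2 (L43.pl_gen (φ := fun v => τ (v.1 • zv + v.2 • wv)) (fun v w => ?_)
    (fun v w e => ?_) cop (fun v => hX _ (h.toCo.mJ _)) fun v hv k hk e => ?_)
  · rw [← h.add]; congr 1; simp only [Prod.fst_add, Prod.snd_add, add_smul]; abel
  · refine by_contra fun n => (m _ (sub_ne_zero.2 n)).1 ?_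
    rw [← sub_eq_zero.2 (h.inj e)]; simp only [Prod.fst_sub, Prod.snd_sub, sub_smul]; abel
  obtain ⟨g, hg, e'⟩ := h.trans (m v hv).1 (m v hv).2
  have kz : g⁻¹ * k * g * z = z * (g⁻¹ * k * g) := by
    calc _ = g⁻¹ * (k * (g * z * g⁻¹)) * g := by group
      _ = _ := by rw [e', e, ← e']; group
  have c := L43.eq_one_of_cop cop (k := 1) (mul_mem hk (hX _ (Tr.conj_mem_of_mem_normalizer hg
    (h.toCo.mJ wv)) _ (inv_mem hk))) (by
      have := h.Q3 _ (mul_mem (h.nQ _ (.of_comm kz) _ h.wQ) (inv_mem h.wQ))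
      rw [pow_one, ← conj_eq_one_iff (a := g⁻¹), ← conj_pow, ← this]; congr 1; group)
  obtain ⟨n, hn⟩ := cent3 h.toHypL h.wQ h.wZ ⟨g⁻¹ * k * g, h.cL _ kz, mem_cz.2 (by
    calc _ = g⁻¹ * (k * (g * τ wv * g⁻¹ * k⁻¹ * (g * τ wv * g⁻¹)⁻¹)) * g * τ wv := by group
      _ = _ := by rw [c]; group)⟩
  refine L43.eq_one_of_cop cop hk (k := n) ?_
  rw [← conj_eq_one_iff (a := g⁻¹), ← conj_pow, inv_inv]
  exact congrArg Subtype.val hn

theorem nw {g : G} (hg : NZ z g) (e : g * τ wv * g⁻¹ ∈ J) : g ∈ Nm J :=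
  h.toHJ.nS_N (h.toHJ.nzS hg (h.toCo.mJ wv) h.wZ e)

theorem nS_iff {g : G} {x y : SL5} (hx : Rel π (τ sv) x) (hy : Rel π g y) :
    g ∈ Nm J ↔ y * x = x * y ∨ y * x = x * x * y := by
  have n := NZ.of_comm (h.Lz g hy.mem)
  have r := (hy.mul hx).mul hy.inv
  obtain ⟨_, hx', x3, -⟩ := h.relS h.sS h.sQ
  obtain rfl := hx.uniq hx'
  refine ⟨fun hg => ?_, fun e => h.toHJ.nS_N (h.S_le h.sS h.sQ (K := S.comap (MulAut.conj g).toMonoidHom)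
    (fun q hq => h.QS (h.nQ _ n q hq)) (h.mem_S_of h.sS hx r (.inr
      (e.imp mul_inv_eq_iff_eq_mul.2 mul_inv_eq_iff_eq_mul.2))))⟩
  rcases h.cos h.sS h.sQ (h.toHJ.stabS hg n _ h.sS) with e | e | e
  · exact absurd (by simpa [mul_assoc] using h.nQ _ n.inv _ e) h.sQ
  · exact .inl (mul_inv_eq_iff_eq_mul.1 (mul_inv_eq_one.1 ((r.mul hx.inv).uniq ((h.kL _).2 e))))
  · exact .inr (mul_inv_eq_iff_eq_mul.1 (mul_right_cancel (((r.mul hx).uniq ((h.kL _).2 e)).trans x3.symm)))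

theorem two : ∃ g, g * τ e0 = τ e0 * g ∧ g ∉ Nm J := by
  by_contra! hc
  obtain ⟨m1, m2, -, -, m5, m6, m7, m8, m9, m10, m11, -, -, m14, m15, -⟩ := mc3
  have co := h.toCo
  obtain ⟨ω, hω, ω2⟩ := h.exI m1 m6
  have ωz := h.wz hω
  obtain ⟨c, cQ, hc', cω⟩ : ∃ c ∈ Q, Act τ c (Um 0 1) ∧ c * ω = ω * c := by
    obtain ⟨q, hq, e⟩ := h.exU 0 1
    obtain ⟨r, hr, e'⟩ := exists_mul_comm (P := J ⊓ Q) (h.toHJ.pJ.to_le inf_le_left) ω2 ⟨h.cw hω e, by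
      simpa [mul_assoc] using mul_mem hq (h.nQ ω (.inr ωz) _ (inv_mem hq))⟩
    exact ⟨_, mul_mem hr.2 hq, ((co.act_J hr.1).mul e).congr (I4_mm _), e'⟩
  have cJ : c ∉ J := fun e => m9 (co.uniq hc' (co.act_J e))
  have cw := (co.fix hc').2 m10
  obtain ⟨l, hl, e⟩ := h.exists_conj_fix cQ
  have lz := h.Lz l hl
  have q1 := h.nQ l (.of_comm lz) c cQ
  have j1 := (h.toHJ.fixJ q1).2 e
  obtain ⟨v, hv⟩ := (h.mem _).1 j1
  obtain e | ⟨a, b, k, e | e⟩ := m14 v ((h.τQ v).1 (hv ▸ q1))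
  · exact cJ (zpowers_le.2 h.toHJ.zJ (by
      have := (NZ.of_comm lz).inv.conj_mem (hv ▸ h.zp'.2 e)
      rwa [show l⁻¹ * (l * c * l⁻¹) * l⁻¹⁻¹ = c by group] at this))
  swap
  · obtain ⟨g, hg⟩ := h.all _ ((simP_st a b k).mm m5)
    obtain ⟨n, hn, nω⟩ := h.lw hω ω2 m2
    have nc := h.uw hω (hn.mul hc') ((hc'.mul hn).congr m7.symm) (Commute.mul_left nω cω)
      (Commute.mul_left cω nω)
    have gN := co.mem_N hg
    have := hc (g⁻¹ * (l * n * l⁻¹) * g) (by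
      calc _ = g⁻¹ * (l * n * l⁻¹ * (g * τ e0 * g⁻¹)) * g := by group
        _ = g⁻¹ * ((g * τ e0 * g⁻¹) * (l * n * l⁻¹)) * g := by rw [hg, e, hv, conj_mul, conj_mul, nc]
        _ = _ := by group)
    rw [mul_mem_cancel_right gN, mul_mem_cancel_left (inv_mem gN)] at this
    have := Tr.conj_mem_of_mem_normalizer this h.toHJ.zJ
    rw [show l * n * l⁻¹ * z * (l * n * l⁻¹)⁻¹ = l * (n * (l⁻¹ * (z * l)) * n⁻¹) * l⁻¹ by group, ← lz,
      inv_mul_cancel_left, ← h.τz, hn, m8] at this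
    exact cJ (by simpa [mul_assoc] using Tr.inv_conj_mem_of_mem_normalizer (h.nw (.of_comm lz) this) j1)
  obtain ⟨m, mz, mw⟩ : ∃ m, m * z = z * m ∧ m * τ wv * m⁻¹ = c := by
    obtain ⟨g, hg⟩ := h.all _ (simP_st a b k)
    exact ⟨l⁻¹ * g, Commute.mul_left (Commute.inv_left lz) ((h.fz hg).2 (m15 a b k).1), by
      rw [mul_inv_rev, mul_assoc l⁻¹, mul_assoc l⁻¹, ← mul_assoc (g * _), hg, e, hv]; group⟩
  have mN : m ∉ Nm J := fun e => cJ (mw ▸ Tr.conj_mem_of_mem_normalizer e (co.mJ wv))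
  have o1 : m⁻¹ * ω * m * z * (m⁻¹ * ω * m)⁻¹ = z⁻¹ := by
    calc _ = m⁻¹ * (ω * (m * z * m⁻¹) * ω⁻¹) * m := by group
      _ = _ := by rw [mz, mul_inv_cancel_right, ωz, mul_assoc, ← (show Commute m z from mz).inv_right.eq]; group
  have o2 : ∀ {a}, a * ω = ω * a → m⁻¹ * ω * m * (m⁻¹ * a * m) * (m⁻¹ * ω * m)⁻¹ = m⁻¹ * a * m :=
    fun {a} e => by
      calc _ = m⁻¹ * (ω * a * ω⁻¹) * m := by group
        _ = _ := by rw [← e]; group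
  have o3 := o2 cω
  rw [← mw, show m⁻¹ * (m * τ wv * m⁻¹) * m = τ wv by group] at o3
  generalize m⁻¹ * ω * m = o at o1 o2 o3
  have key : ∀ {a f d}, a ∈ Q → f ∈ Q → d ∈ zpowers z → o * a * o⁻¹ = a → o * f * o⁻¹ = f * d →
      a * f = f * a := fun {a f d} ha hf hd e1 e2 => by
    obtain ⟨k, hk⟩ := h.Qc a ha f hf
    have e3 : o * z ^ k * o⁻¹ = z ^ k := by
      rw [show z ^ k = _ from hk, ← conj_mul, ← conj_mul, ← conj_mul, ← conj_inv, ← conj_inv, e1, e2,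
        mul_assoc a, mul_assoc f, ← zp_comm hd (h.zS _ (h.QS (inv_mem ha)))]; group
    rw [← conj_zpow, o1, inv_zpow] at e3
    have := h.Q3 _ (h.ZQ ⟨k, rfl⟩)
    simp only [pow_three'] at this
    rw [mul_eq_one_iff_inv_eq.2 e3, one_mul, show z ^ k = _ from hk] at this
    exact mul_inv_eq_iff_eq_mul.1 (mul_inv_eq_one.1 this)
  obtain ⟨d, hd⟩ : ∃ d : ZMod 3, o * τ uv * o⁻¹ = τ uv * τ (d • zv) := by
    obtain ⟨A, hA, sA⟩ := h.sim o (h.nw (.inr o1) (o3.symm ▸ co.mJ wv))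
    obtain ⟨k, a, b, e⟩ := (m1.mm sA).stab (by
      rw [ap_mm, ap_W4, h.inj (show τ (ap A zv) = τ (-zv) by rw [← hA, co.neg, h.τz, o1]), neg_neg])
    have := (m15 a b k).2 (by rw [← e, ap_mm, ap_W4, h.inj ((hA wv).symm.trans o3)])
    rw [← e, ap_mm, ap_W4, neg_neg] at this
    exact this.imp fun d e => by rw [hA, e, h.add]
  obtain ⟨i, hi, iω⟩ := h.lw hω ω2 mc1.2.2.2.2.2.2.2.2.2.2.2.2.2.1
  have iz := (h.fz hi).2 (by decide)
  have q2 := h.nQ _ (NZ.of_comm mz).inv _ (h.nQ i (.of_comm iz) c cQ)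
  rw [inv_inv] at q2
  have o4 := o2 (a := i * c * i⁻¹) (Commute.mul_left (Commute.mul_left iω cω) (Commute.inv_left iω))
  have iN : m⁻¹ * i * m ∈ Nm J := h.nw (.of_comm (Commute.mul_left
    (Commute.mul_left (Commute.inv_left mz) iz) mz)) (by
      have := h.centF (h.QS q2) (key q2 h.wQ (one_mem _) o4 (by rw [o3, mul_one]))
        (key q2 ((h.τQ _).2 (by decide)) (h.zp'.2 ⟨d, rfl⟩) o4 hd)
      rw [← mw] at this
      convert this using 1; group)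
  obtain ⟨x, hx, x3, x1⟩ := h.relS h.sS h.sQ
  obtain ⟨y, hy⟩ := rel_of_mem π (h.cL m mz)
  obtain ⟨b, hb⟩ := rel_of_mem π (h.cL i iz)
  have bx : b * x = x * x * b := by
    have := ((hb.mul hx).mul hb.inv).uniq (by
      rw [hi, show ap AI sv = -sv by decide, co.neg]; exact hx.inv)
    rw [mul_inv_eq_iff_eq_mul.1 this, eq_inv_of_mul_eq_one_left x3]
  obtain ⟨n1, n2⟩ := not_or.1 fun e => mN ((h.nS_iff hx hy).2 e)
  obtain ⟨k, k1, k2, k3⟩ := sl_two x3 x1 bx n1 n2 ((h.nS_iff hx ((hy.inv.mul hb).mul hy)).1 iN)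
  have r := hy.mul (hx.pow k)
  have sw : Commute (τ sv) (τ wv) := co.comm _ _
  have pw : m * τ sv ^ k * τ wv * (m * τ sv ^ k)⁻¹ = c := by
    rw [mul_assoc m, (sw.pow_left k).eq, ← mw]; group
  generalize m * τ sv ^ k = p at r pw
  have g1 : p * τ sv * τ wv * (p * τ sv)⁻¹ = c := by rw [mul_assoc p, sw.eq, ← pw]; group
  have g2 : p * τ sv * c * (p * τ sv)⁻¹ = c * (p * p * τ wv * (p * p)⁻¹ * τ wv * (τ wv)⁻¹) := by
    have e := hc' sv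
    rw [m11, co.sub] at e
    calc _ = p * (τ sv * (c * τ sv * c⁻¹)⁻¹ * c) * p⁻¹ := by group
      _ = p * τ wv * p⁻¹ * (p * c * p⁻¹) := by rw [e, sw.inv_right.eq]; group
      _ = _ := by rw [pw, ← pw]; group
  have d1 := h.inv_mod ((r.mul r).congr k1) h.wQ
  have r' := r.mul hx
  generalize p * p * τ wv * (p * p)⁻¹ * τ wv = d at d1 g2
  generalize p * τ sv = g at r' g1 g2
  have gz := h.Lz g r'.mem
  have gC : g ∈ Nm (Q ⊓ cz (τ wv) ⊓ cz c) := Tr.mem_normalizer_of_conj_mem fun a ha => by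
    have a1 := h.nQ g (.of_comm gz) a ha.1.1
    have a2 : Commute (g * a * g⁻¹) c := g1 ▸ mem_cz'.1 (conj_mem_cz g ha.1.2)
    have a3 : Commute (g * a * g⁻¹) _ := g2 ▸ mem_cz'.1 (conj_mem_cz g ha.2)
    have a4 : Commute (g * a * g⁻¹) d := zp_comm d1 (h.zS _ (h.QS a1))
    exact ⟨⟨a1, mem_cz'.2 (by simpa using (a4.inv_right.mul_right (a2.inv_right.mul_right a3)).inv_right.eq)⟩,
      mem_cz'.2 a2⟩
  rcases (h.five (r := g ^ 6) (Commute.pow_left gz 6) (by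
    rw [← pow_mul, show 6 * 5 = 10 * 3 from rfl, pow_mul, h.Q3 _ ((h.kL _).1 ((r'.pow 10).congr k3))])
    (fun e => k2 (r'.pow_eq_one e)) (C := Q ⊓ cz (τ wv) ⊓ cz c) (inf_le_left.trans inf_le_left)
    ⟨⟨h.zQ, mem_cz'.2 (h.zS _ (h.QS h.wQ)).symm⟩, mem_cz'.2 (h.zS _ (h.QS cQ)).symm⟩
    fun x hx => Tr.conj_mem_of_mem_normalizer (pow_mem gC 6) hx).1 with e | e
  · exact h.wZ (e ⟨⟨h.wQ, mem_cz'.2 rfl⟩, mem_cz'.2 cw.symm⟩)
  · exact h.wZ (h.CQ _ fun q hq => (mem_cz'.1 (e hq).1.2).symm)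

end Fr

end CL.HN3
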