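import Mathlib
import Cfsg.Agent.PERM.HN3A
import Cfsg.Agent.PERM.L43Y
import Cfsg.Agent.KSG.AltAut

/-! Auxiliary results for `HN3Y`: the normaliser of a 3-cycle in `A₁₂`. -/

set_option autoImplicit false

namespace CL.HN3.Ya

open CL.HU CL.K CL.McL3 CL.Odd CL.L43 Equiv Equiv.Perm Subgroup
open scoped commutatorElement

theorem dec {H : Type*} [Group H] {z s g : H} (hs : s * z * s⁻¹ = z⁻¹) (hg : NZ z g) :
    g * z = z * g ∨ g * s * z = z * (g * s) := by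
  rcases hg with e | e
  · exact .inl (mul_inv_eq_iff_eq_mul.1 e)
  · refine .inr (mul_inv_eq_iff_eq_mul.1 ?_)
    calc _ = g * (s * z * s⁻¹) * g⁻¹ := by group
      _ = z := by rw [hs, ← conj_inv, e, inv_inv]

/-- extension of an isomorphism of centralisers to the normalisers -/
theorem ext2 {D G : Type*} [Group D] [Group G] (α : D →* A12) (β : D →* G)
    (hα : Function.Injective α) (hβ : Function.Injective β) {c ρ : A12} {y r : G} {d0 : D}
    (e1 : α d0 = c) (e2 : β d0 = y) (ra : ∀ a, a * c = c * a ↔ a ∈ α.range)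
    (rb : ∀ g, g * y = y * g ↔ g ∈ β.range) (ρ2 : ρ * ρ = 1) (r2 : r * r = 1)
    (ρc : ρ * c * ρ⁻¹ = c⁻¹) (ry : r * y * r⁻¹ = y⁻¹) (c2 : c⁻¹ ≠ c) (y2 : y⁻¹ ≠ y)
    (cp : ∀ d, ∃ d', ρ * α d = α d' * ρ ∧ r * β d = β d' * r) :
    ∃ Φ : A12 → G, N9 c Φ ∧ ∀ d, Φ (α d) = β d := by
  classical
  have nρ : ∀ d, α d * ρ ∉ α.range := fun d e => by
    have := (ra _).2 ((α.range.mul_mem_cancel_left ⟨d, rfl⟩).1 e)
    rw [this, mul_inv_cancel_right] at ρc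
    exact c2 ρc.symm
  have nr : ∀ d, β d * r ∉ β.range := fun d e => by
    have := (rb _).2 ((β.range.mul_mem_cancel_left ⟨d, rfl⟩).1 e)
    rw [this, mul_inv_cancel_right] at ry
    exact y2 ry.symm
  let Φ : A12 → G := fun a => if a ∈ α.range then β (Function.invFun α a) else β (Function.invFun α (a * ρ)) * r
  have p1 : ∀ d, Φ (α d) = β d := fun d => by
    simp only [Φ]; rw [if_pos ⟨d, rfl⟩, Function.leftInverse_invFun hα]
  have p2 : ∀ d, Φ (α d * ρ) = β d * r := fun d => by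
    simp only [Φ]; rw [if_neg (nρ d), mul_assoc, ρ2, mul_one, Function.leftInverse_invFun hα]
  have da : ∀ {a}, NZ c a → ∃ d, a = α d ∨ a = α d * ρ := fun {a} ha => by
    rcases dec ρc ha with e | e
    · obtain ⟨d, e⟩ := (ra _).1 e; exact ⟨d, .inl e.symm⟩
    · obtain ⟨d, e⟩ := (ra _).1 e; exact ⟨d, .inr (by rw [e, mul_assoc, ρ2, mul_one])⟩
  have na : ∀ d, NZ c (α d) := fun d => .of_comm ((ra _).2 ⟨d, rfl⟩)
  refine ⟨Φ, ⟨fun a b ha hb => ?_, fun a ha e => ?_, fun g hg => ?_⟩, p1⟩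
  · obtain ⟨d, rfl | rfl⟩ := da ha <;> obtain ⟨d', rfl | rfl⟩ := da hb
    · rw [← map_mul, p1, p1, p1, map_mul]
    · rw [← mul_assoc, ← map_mul, p2, p1, p2, map_mul, mul_assoc]
    · obtain ⟨d'', k1, k2⟩ := cp d'
      rw [mul_assoc, k1, ← mul_assoc, ← map_mul, p2, p2, p1, map_mul, mul_assoc, mul_assoc, k2]
    · obtain ⟨d'', k1, k2⟩ := cp d'
      rw [show α d * ρ * (α d' * ρ) = α d * (ρ * α d') * ρ by group, k1, mul_assoc, mul_assoc, ρ2, mul_one,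
        ← map_mul, p1, p2, p2, show β d * r * (β d' * r) = β d * (r * β d') * r by group, k2, mul_assoc,
        mul_assoc, r2, mul_one, map_mul]
  · obtain ⟨d, rfl | rfl⟩ := da ha
    · rw [p1, map_eq_one_iff _ hβ] at e; rw [e, map_one]
    · rw [p2] at e; exact absurd (e ▸ one_mem _) (nr d)
  · rw [← e1, p1, e2] at hg
    rcases dec ry hg with e | e
    · obtain ⟨d, rfl⟩ := (rb _).1 e; exact ⟨_, na d, p1 d⟩
    · obtain ⟨d, e⟩ := (rb _).1 e
      exact ⟨_, (na d).mul (.inr ρc), by rw [p2, e, mul_assoc, r2, mul_one]⟩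

/-- the points `3, …, 11` -/
def fe : Fin 9 ≃ {x : Fin 12 // 3 ≤ x.val} where
  toFun i := ⟨![3, 5, 4, 6, 8, 7, 9, 11, 10] i, by revert i; decide⟩
  invFun x := ![0, 0, 0, 0, 2, 1, 3, 5, 4, 6, 8, 7] x.1
  left_inv := by decide
  right_inv := by decide

/-- the action on the last nine points -/
def ε : Perm (Fin 9) →* Perm (Fin 12) := ofSubtype.comp fe.permCongrHom.toMonoidHom

theorem ε_inj : Function.Injective ε := ofSubtype_injective.comp fe.permCongrHom.injective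

theorem sign_ε (b : Perm (Fin 9)) : sign (ε b) = sign b := by
  show sign (ofSubtype (fe.permCongr b)) = _
  rw [sign_ofSubtype, sign_permCongr]

theorem ε_lt (b : Perm (Fin 9)) {x : Fin 12} (h : ¬ 3 ≤ x.val) : ε b x = x :=
  ofSubtype_apply_of_not_mem (p := fun x : Fin 12 => 3 ≤ x.val) _ h

theorem ε_comm (b : Perm (Fin 9)) {s : Perm (Fin 12)} (h : ∀ x : Fin 12, 3 ≤ x.val → s x = x) :
    Commute s (ε b) := Disjoint.commute fun x => (em (3 ≤ x.val)).imp (h x) (ε_lt b)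

theorem exists_ε {a : Perm (Fin 12)} (h : ∀ x : Fin 12, ¬ 3 ≤ x.val → a x = x) : ∃ b, ε b = a := by
  have h1 : ∀ x : Fin 12, 3 ≤ (a x).val ↔ 3 ≤ x.val := fun x => not_iff_not.1
    ⟨fun e => by rw [← a.injective (h _ e)]; exact e, fun e => by rw [h x e]; exact e⟩
  refine ⟨fe.permCongr.symm (a.subtypePerm h1), ?_⟩
  show ofSubtype (fe.permCongr _) = _
  rw [Equiv.apply_symm_apply]
  exact ofSubtype_subtypePerm h1 fun x e => by_contra fun e' => e (h x e')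

def c0 : Perm (Fin 12) := swap 0 2 * swap 0 1

theorem el_val {k : ℕ} {σ : Perm (Fin 12)} (h : sign σ = 1) (e : (Enc.fin 11).code 4 σ = k) :
    (el k).1 = σ := by
  rw [← e]; exact congrArg Subtype.val (el_cd ⟨σ, h⟩)

theorem vals : (el kc0).1 = c0 ∧ (el kc1).1 = ε YH.c1 ∧ (el kc2).1 = ε YH.c2 ∧ (el kc3).1 = ε YH.c3 :=
  ⟨el_val (by decide +kernel) (by decide +kernel), el_val (by decide +kernel) (by decide +kernel),
    el_val (by decide +kernel) (by decide +kernel), el_val (by decide +kernel) (by decide +kernel)⟩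

theorem c0_facts : (∀ x : Fin 12, 3 ≤ x.val → c0 x = x ∧ swap (0 : Fin 12) 1 x = x) ∧ c0 ^ 3 = 1 ∧
    c0⁻¹ ≠ c0 ∧ swap 0 1 * c0 * (swap 0 1)⁻¹ = c0⁻¹ ∧ c0 0 = 1 ∧ c0 1 = 2 ∧
    (∀ x, c0 x ≠ x → ∃ k : ZMod 3, (c0 ^ k.val) 0 = x) ∧ (∀ k : ZMod 3, (c0 ^ k.val) 0 = 0 → k = 0) ∧
    sign c0 = 1 ∧ (∀ x : Fin 12, ¬ 3 ≤ x.val → x = 0 ∨ x = 1 ∨ x = 2) ∧
    (∀ k l : ZMod 3, c0 ^ (k + l).val = c0 ^ k.val * c0 ^ l.val) ∧
    ∀ k : ZMod 3, swap 0 1 * c0 ^ k.val = c0 ^ (-k).val * swap 0 1 := by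
  decide +kernel

theorem cent_c0 {a : Perm (Fin 12)} (h : a * c0 = c0 * a) : ∃ (k : ZMod 3) (b : Perm (Fin 9)),
    c0 ^ k.val * ε b = a := by
  obtain ⟨-, -, -, -, f5, f6, f7, -, -, f10, -⟩ := c0_facts
  have k : ∀ {a : Perm (Fin 12)}, a * c0 = c0 * a → ∀ x, a (c0 x) = c0 (a x) := fun h x =>
    congrArg (fun σ : Perm (Fin 12) => σ x) h
  obtain ⟨n, hn⟩ := f7 (a 0) (by rw [← k h, f5]; exact a.injective.ne (by decide))
  have h' : (c0 ^ n.val)⁻¹ * a * c0 = c0 * ((c0 ^ n.val)⁻¹ * a) :=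
    ((Commute.refl c0).pow_left _).inv_left.mul_left h
  have a0 : ((c0 ^ n.val)⁻¹ * a) 0 = 0 := by rw [mul_apply, ← hn]; simp
  have a1 : ((c0 ^ n.val)⁻¹ * a) 1 = 1 := by rw [← f5, k h', a0]
  have a2 : ((c0 ^ n.val)⁻¹ * a) 2 = 2 := by rw [← f6, k h', a1]
  obtain ⟨b, hb⟩ := exists_ε (a := (c0 ^ n.val)⁻¹ * a) fun x e => by
    rcases f10 x e with rfl | rfl | rfl <;> assumption
  exact ⟨n, b, by rw [hb, mul_inv_cancel_left]⟩

abbrev A9 := alternatingGroup (Fin 9)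
abbrev D := Multiplicative (ZMod 3) × A9

/-- `3 × A₉` in `A₁₂` -/
def α : D →* A12 := MonoidHom.mk' (fun d => ⟨c0 ^ d.1.toAdd.val * ε d.2.1, by
    rw [mem_alternatingGroup, map_mul, map_pow, c0_facts.2.2.2.2.2.2.2.2.1, sign_ε, one_pow, one_mul]
    exact d.2.2⟩) fun d d' => Subtype.ext (by
  show c0 ^ (d.1.toAdd + d'.1.toAdd).val * ε (d.2.1 * d'.2.1) = c0 ^ _ * ε _ * (c0 ^ _ * ε _)
  rw [c0_facts.2.2.2.2.2.2.2.2.2.2.1, map_mul,
    ((ε_comm _ fun x e => (c0_facts.1 x e).1).pow_left _).symm.mul_mul_mul_comm])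

theorem α_val (d : D) : (α d).1 = c0 ^ d.1.toAdd.val * ε d.2.1 := rfl

theorem α_inj : Function.Injective α := (injective_iff_map_eq_one _).2 fun d e => by
  have e1 : c0 ^ d.1.toAdd.val * ε d.2.1 = 1 := congrArg Subtype.val e
  have e2 := congrArg (fun σ : Perm (Fin 12) => σ 0) e1
  simp only [mul_apply, ε_lt _ (show ¬ 3 ≤ (0 : Fin 12).val by decide), one_apply] at e2
  have e3 := c0_facts.2.2.2.2.2.2.2.1 _ e2
  rw [e3, ZMod.val_zero, pow_zero, one_mul, map_eq_one_iff _ ε_inj] at e1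
  exact Prod.ext e3 (Subtype.ext e1)

theorem α_rng (a : A12) : a * el kc0 = el kc0 * a ↔ a ∈ α.range := by
  rw [Subtype.ext_iff, Subgroup.coe_mul, Subgroup.coe_mul, vals.1]
  refine ⟨fun e => ?_, ?_⟩
  · obtain ⟨k, b, hb⟩ := cent_c0 e
    have := a.2
    rw [mem_alternatingGroup, ← hb, map_mul, map_pow, c0_facts.2.2.2.2.2.2.2.2.1, sign_ε, one_pow,
      one_mul] at this
    exact ⟨(.ofAdd k, ⟨b, this⟩), Subtype.ext hb⟩
  · rintro ⟨d, rfl⟩
    exact ((Commute.refl c0).pow_left _).mul_left (ε_comm _ fun x e => (c0_facts.1 x e).1).symm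

set_option synthInstance.maxSize 8192 in
theorem orb : ∀ x1 x2 x3 : V3, x1 ≠ 0 → (∀ i, sig24 i x1 = x1 ∨ sig24 i x1 = -x1 ∨ sig24 i x1 = x2 ∨
    sig24 i x1 = -x2 ∨ sig24 i x1 = x3 ∨ sig24 i x1 = -x3) → ∃ i, sig24 i x1 = (1, 0, 0) ∧
      sig24 i x2 = (0, 1, 0) ∧ (sig24 i x3 = (0, 0, 1) ∨ sig24 i x3 = -(0, 0, 1)) := by
  decide +kernel

theorem cyc : (∀ v : YH.V, (YH.φ v).support.card = 3 → YH.φ v = YH.c1 ∨ YH.φ v = YH.c1⁻¹ ∨ YH.φ v = YH.c2 ∨
    YH.φ v = YH.c2⁻¹ ∨ YH.φ v = YH.c3 ∨ YH.φ v = YH.c3⁻¹) ∧ YH.c1.support.card = 3 ∧ YH.c1 ≠ 1 ∧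
    YH.φ (.ofAdd (1, 0, 0)) = YH.c1 ∧ YH.φ (.ofAdd (0, 1, 0)) = YH.c2 ∧ YH.φ (.ofAdd (0, 0, 1)) = YH.c3 ∧
    swap 6 7 * YH.c1 * (swap 6 7)⁻¹ = YH.c1 ∧ swap 6 7 * YH.c2 * (swap 6 7)⁻¹ = YH.c2 ∧
    swap 6 7 * YH.c3⁻¹ * (swap 6 7)⁻¹ = YH.c3 := by
  decide +kernel

/-- the coordinate axes are the three-cycles -/
theorem norm9 {Q : Type*} [Group Q] [Finite Q] {ι : M648 →* Q} (H : A9Base ι) (e : Q ≃* A9) :
    ∃ e : Q ≃* A9, (e (ι (.mk (1, 0, 0) 0))).1 = YH.c1 ∧ (e (ι (.mk (0, 1, 0) 0))).1 = YH.c2 ∧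
      (e (ι (.mk (0, 0, 1) 0))).1 = YH.c3 := by
  obtain ⟨y1, y2, y3, y4, y5, y6, y7, y8, y9⟩ := cyc
  have v3 := YH.φ_facts.2.2.2.2.2.2
  let φ' : YH.V →* A9 := YH.φ.codRestrict _ fun v => by
    have h3 : (sign.comp YH.φ) v ^ 3 = 1 := by rw [← map_pow, v3, map_one]
    rwa [pow_succ, Int.units_sq, one_mul] at h3
  have i1 : Function.Injective φ' := fun x y k =>
    (injective_iff_map_eq_one YH.φ).2 YH.φ_facts.1 (congrArg Subtype.val k)
  let ψ := e.symm.toMonoidHom.comp φ'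
  have hψ : Function.Injective ψ := e.symm.injective.comp i1
  obtain ⟨g, hg⟩ := exists_conj_le_of_isPGroup H.pS H.iS (A := ψ.range) fun ⟨_, u, rfl⟩ =>
    ⟨1, Subtype.ext (by change ψ u ^ 3 = 1; rw [← map_pow, v3, map_one])⟩
  let χ := (MulAut.conj g).toMonoidHom.comp ψ
  have hχ : Function.Injective χ := (MulAut.conj g).injective.comp hψ
  have hle : χ.range ≤ ι.range := by
    rintro _ ⟨u, rfl⟩; exact map_le_range _ _ (hg _ ⟨u, rfl⟩)
  have cB : Nat.card (χ.range.comap ι) = 27 := by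
    rw [← card_map_of_injective H.inj, map_comap_eq_self hle,
      ← Nat.card_congr (MonoidHom.ofInjective hχ).toEquiv]; simp
  have hB := M648.le_J0 (B := χ.range.comap ι)
    (fun a ⟨u, hu⟩ => H.inj (by rw [map_pow, ← hu, ← map_pow, v3, map_one, map_one]))
    (fun a ⟨u, hu⟩ b ⟨u', hu'⟩ => H.inj (by rw [map_mul, map_mul, ← hu, ← hu', ← map_mul, mul_comm, map_mul]))
    (by rw [cB]; norm_num)
  have hB' := (eq_of_le_of_card_ge hB (by rw [cB, M648.card_J0])).ge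
  let e' : Q ≃* A9 := (MulAut.conj g).symm.trans e
  let f : V3 → Perm (Fin 9) := fun x => (e' (ι (.mk x 0))).1
  have χe : ∀ u, (e' (χ u)).1 = YH.φ u := fun u => by
    simp [e', χ, ψ, φ', mul_assoc]; rfl
  have a1 : ∀ u, ∃ x, f x = YH.φ u := fun u => by
    obtain ⟨p, hp⟩ := hle ⟨u, rfl⟩
    exact ⟨p.1, by simp only [f]; rw [← M648.eq_mk_of (M648.mem_J0.1 (hB ⟨u, hp.symm⟩)), hp, χe]⟩
  have a2 : ∀ x, ∃ u, f x = YH.φ u := fun x => by
    obtain ⟨u, hu⟩ := hB' (M648.mk_mem x)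
    exact ⟨u, by simp only [f]; rw [← hu, χe]⟩
  have fi : Function.Injective f := fun x y k =>
    congrArg Prod.fst (H.inj (e'.injective (Subtype.ext k)))
  have fa : ∀ x y, f (x + y) = f x * f y := fun x y => by
    simp only [f]; rw [M648.mk_add, map_mul, map_mul, Subgroup.coe_mul]
  have f0 : f 0 = 1 := by have := fa 0 0; rw [add_zero] at this; exact mul_eq_left.1 this.symm
  have fn : ∀ x, f (-x) = (f x)⁻¹ := fun x => eq_inv_of_mul_eq_one_left (by rw [← fa, neg_add_cancel, f0])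
  have fc : ∀ i, ∃ s : Perm (Fin 9), ∀ x, f (sig24 i x) = s * f x * s⁻¹ := fun i =>
    ⟨(e' (ι (.mk 0 i))).1, fun x => by
      simp only [f]; rw [← M648.mk_conj, map_mul, map_mul, map_mul, map_mul, map_inv, map_inv]; rfl⟩
  obtain ⟨x1, h1⟩ := a1 (.ofAdd (1, 0, 0))
  obtain ⟨x2, h2⟩ := a1 (.ofAdd (0, 1, 0))
  obtain ⟨x3, h3⟩ := a1 (.ofAdd (0, 0, 1))
  rw [y4] at h1; rw [y5] at h2; rw [y6] at h3
  obtain ⟨i, k1, k2, k3⟩ := orb x1 x2 x3 (fun k => y3 (by rw [← h1, k, f0])) fun i => by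
    obtain ⟨u, hu⟩ := a2 (sig24 i x1)
    obtain ⟨s, fc⟩ := fc i
    have := y1 u (by rw [← hu, fc, card_support_conj, h1, y2])
    rwa [← hu, ← h1, ← h2, ← h3, ← fn, ← fn, ← fn, fi.eq_iff, fi.eq_iff, fi.eq_iff, fi.eq_iff, fi.eq_iff,
      fi.eq_iff] at this
  have k : ∀ s : Perm (Fin 9), s * f (1, 0, 0) * s⁻¹ = YH.c1 → s * f (0, 1, 0) * s⁻¹ = YH.c2 →
      s * f (0, 0, 1) * s⁻¹ = YH.c3 → ∃ e : Q ≃* A9, (e (ι (.mk (1, 0, 0) 0))).1 = YH.c1 ∧
        (e (ι (.mk (0, 1, 0) 0))).1 = YH.c2 ∧ (e (ι (.mk (0, 0, 1) 0))).1 = YH.c3 := fun s a b c =>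
    ⟨e'.trans (MulAut.conjNormal s), a, b, c⟩
  obtain ⟨s, fc⟩ := fc i
  have b1 : s⁻¹ * f (1, 0, 0) * s = YH.c1 := by rw [← k1, fc, h1]; group
  have b2 : s⁻¹ * f (0, 1, 0) * s = YH.c2 := by rw [← k2, fc, h2]; group
  rcases k3 with k3 | k3
  · exact k s⁻¹ (by simpa using b1) (by simpa using b2) (by rw [← k3, fc, h3]; group)
  · have b3 : s⁻¹ * f (0, 0, 1) * s = YH.c3⁻¹ := by
      rw [← neg_neg ((0, 0, 1) : V3), ← k3, fn, fc, h3]; group
    exact k (swap 6 7 * s⁻¹) (by rw [← y7, ← b1]; group) (by rw [← y8, ← b2]; group)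
      (by rw [← y9, ← b3]; group)

/-- the final assembly from `C(y) = ⟨y⟩ × A₉` -/
theorem fin {G : Type*} [Group G] (s : A9 →* G) (si : Function.Injective s) {y r : G} (y3 : y ^ 3 = 1)
    (y1 : y ≠ 1) (sy : ∀ b, s b * y = y * s b) (sz : ∀ b, s b ∈ zpowers y → b = 1)
    (sc : ∀ g, g * y = y * g → ∃ b, g * (s b)⁻¹ ∈ zpowers y) (r2 : r * r = 1) (ry : r * y * r⁻¹ = y⁻¹)
    (no : ∀ g, g * y * g⁻¹ = y⁻¹ → ¬ ∀ b, g * s b = s b * g) :
    ∃ Φ : A12 → G, N9 (el kc0) Φ ∧ Φ (el kc0) = y ∧ ∀ a (b : A9), a.1 = ε b.1 → Φ a = s b := by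
  obtain ⟨f1, f2, f3, f4, -, -, -, -, -, -, -, f12⟩ := c0_facts
  have pw : ∀ k l : ZMod 3, y ^ (k + l).val = y ^ k.val * y ^ l.val := fun k l => by
    rw [← pow_add, ZMod.val_add, ← pow_eq_pow_mod _ y3]
  let β : D →* G := MonoidHom.mk' (fun d => y ^ d.1.toAdd.val * s d.2) fun d d' => by
    show y ^ (d.1.toAdd + d'.1.toAdd).val * s (d.2 * d'.2) = _
    rw [pw, map_mul, ((show Commute (s d.2) y from sy _).pow_right _).mul_mul_mul_comm]
  have zp : ∀ g ∈ zpowers y, ∃ k : ZMod 3, y ^ k.val = g := fun g hg => by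
    rcases (mem_zpowers_three y3).1 hg with e | e | e
    · exact ⟨0, (pow_zero y).trans e.symm⟩
    · exact ⟨1, (pow_one y).trans e.symm⟩
    · exact ⟨2, e ▸ eq_inv_of_mul_eq_one_left (by rw [← y3, pow_succ]; rfl)⟩
  have y2 : y⁻¹ ≠ y := fun e => y1 (by rw [← y3, pow_three']; nth_rewrite 2 [← e]; simp)
  have βi : Function.Injective β := (injective_iff_map_eq_one _).2 fun d e => by
    have e1 : y ^ d.1.toAdd.val * s d.2 = 1 := e
    have e2 := sz _ ((mul_mem_cancel_left (pow_mem (mem_zpowers y) _)).1 (e1 ▸ one_mem _))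
    rw [e2, map_one, mul_one, ← orderOf_dvd_iff_pow_eq_one, orderOf_eq_prime y3 y1] at e1
    exact Prod.ext ((ZMod.val_eq_zero _).1 (Nat.eq_zero_of_dvd_of_lt e1 (ZMod.val_lt _))) e2
  have βr : ∀ g, g * y = y * g ↔ g ∈ β.range := fun g => ⟨fun e => by
      obtain ⟨b, hb⟩ := sc g e
      obtain ⟨k, hk⟩ := zp _ hb
      exact ⟨(.ofAdd k, b), by show y ^ k.val * s b = g; rw [hk]; simp⟩, by
    rintro ⟨d, rfl⟩
    exact ((Commute.refl y).pow_left _).mul_left (sy _)⟩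
  have rs : ∀ b, r * s b * r⁻¹ ∈ s.range := fun b => by
    have hb : b ∈ commutator A9 := by rw [commutator_alternatingGroup_eq_top (by simp)]; trivial
    refine (commutator_le (H₃ := (s.range.comap (MulAut.conj r).toMonoidHom).comap s)).2 (fun a _ c _ => ?_) hb
    obtain ⟨a', k, ha⟩ := sc _ (NZ.conj_comm (.inr ry) (sy a))
    obtain ⟨c', l, hc⟩ := sc _ (NZ.conj_comm (.inr ry) (sy c))
    refine ⟨⁅a', c'⁆, ?_⟩
    show _ = (MulAut.conj r).toMonoidHom (s ⁅a, c⁆)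
    rw [map_commutatorElement, map_commutatorElement, map_commutatorElement]
    show _ = ⁅r * s a * r⁻¹, r * s c * r⁻¹⁆
    rw [eq_mul_of_mul_inv_eq ha.symm, eq_mul_of_mul_inv_eq hc.symm]
    have cz : ∀ (n : ℤ) b, Commute (y ^ n) (s b) := fun n b => ((show Commute (s b) y from sy b).zpow_right n).symm
    have cy : Commute (y ^ k) (y ^ l) := (Commute.refl y).zpow_zpow _ _
    show _ = ⁅y ^ k * s a', y ^ l * s c'⁆
    rw [commutatorElement_def, commutatorElement_def, (cz l a').symm.mul_mul_mul_comm, cy.eq,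
      (cz k a').eq, (cz l c').eq, mul_inv_rev, mul_inv_rev,
      (((cz l a').mul_right (cz l c')).mul_left ((cz k a').mul_right (cz k c'))).eq]
    have := ((cz l a').inv_inv.eq)
    calc _ = s a' * s c' * (y ^ l * ((y ^ l)⁻¹ * (s a')⁻¹) * (s c')⁻¹) := by group
      _ = _ := by rw [this]; group
  choose t ht using rs
  have tm : ∀ a b, t (a * b) = t a * t b := fun a b => si (by rw [map_mul, ht, ht, ht, map_mul, conj_mul])
  have ri : r⁻¹ = r := inv_eq_of_mul_eq_one_right r2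
  have tt : ∀ a, t (t a) = a := fun a => si (by
    rw [ht, ht, ri, show r * (r * s a * r) * r = r * r * s a * (r * r) by group, r2]; simp)
  obtain ⟨σ, hσ⟩ := CL.KSG.exists_perm_of_mulAut (α := Fin 9) (by simp) (by simp) ⟨⟨t, t, tt, tt⟩, tm⟩
  replace hσ : ∀ b, (t b).1 = σ * b.1 * σ⁻¹ := hσ
  have σ2 : σ * σ = 1 := CL.KSG.eq_one_of_commute_alt (by simp) fun g hg => by
    have := congrArg Subtype.val (tt ⟨g, hg⟩)
    rw [hσ, hσ] at this
    exact mul_inv_eq_iff_eq_mul.1 (Eq.trans (by group) this)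
  have σo : sign σ = -1 := (Int.units_eq_one_or _).resolve_left fun e =>
    no ((s ⟨σ, e⟩)⁻¹ * r) (by
      rw [show ∀ x : G, x⁻¹ * r * y * (x⁻¹ * r)⁻¹ = x⁻¹ * (r * y * r⁻¹) * x from fun x => by group, ry,
        (show Commute (s _) y from sy _).inv_inv.eq]; simp) fun b => by
      have : t b = ⟨σ, e⟩ * b * (⟨σ, e⟩ : A9)⁻¹ := Subtype.ext (hσ b)
      calc _ = (s ⟨σ, e⟩)⁻¹ * (r * s b * r⁻¹) * r := by group
        _ = _ := by rw [← ht, this, map_mul, map_mul, map_inv]; group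
  have cs : ∀ b, Commute (swap (0 : Fin 12) 1) (ε b) := fun b => ε_comm b fun x e => (f1 x e).2
  have cc : ∀ b, Commute c0 (ε b) := fun b => ε_comm b fun x e => (f1 x e).1
  obtain ⟨Φ, h1, h2⟩ := ext2 α β α_inj βi (c := el kc0) (y := y) (r := r) (d0 := (.ofAdd 1, 1))
    (ρ := ⟨swap 0 1 * ε σ, by rw [mem_alternatingGroup, map_mul, sign_ε, σo, sign_swap (by decide)]; simp⟩)
    (Subtype.ext (by rw [α_val, vals.1]; simp [ZMod.val_one])) (by simp [β, ZMod.val_one]) α_rng βr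
    (Subtype.ext (by
      show swap 0 1 * ε σ * (swap 0 1 * ε σ) = 1
      rw [(cs σ).symm.mul_mul_mul_comm, swap_mul_self, ← map_mul, σ2, map_one, one_mul])) r2
    (Subtype.ext (by
      show swap 0 1 * ε σ * (el kc0).1 * (swap 0 1 * ε σ)⁻¹ = ((el kc0).1)⁻¹
      rw [vals.1, ← f4, mul_assoc _ (ε σ), ← (cc σ).eq]; group)) ry
    (fun e => f3 (by rw [← vals.1]; exact congrArg Subtype.val e)) y2 fun d =>
      ⟨(d.1⁻¹, t d.2), Subtype.ext (by
        show swap 0 1 * ε σ * (c0 ^ _ * ε _) = c0 ^ (-d.1.toAdd).val * ε (t d.2).1 * (swap 0 1 * ε σ)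
        rw [((cc σ).pow_left _).symm.mul_mul_mul_comm, f12, (cs _).symm.mul_mul_mul_comm, hσ, ← map_mul,
          ← map_mul, inv_mul_cancel_right]), by
        show r * (y ^ _ * s _) = y ^ (-d.1.toAdd).val * s (t d.2) * r
        have : y ^ (-d.1.toAdd).val = r * y ^ d.1.toAdd.val * r⁻¹ := by
          rw [← conj_pow, ry, inv_pow]
          exact eq_inv_of_mul_eq_one_left (by rw [← pw, neg_add_cancel]; exact pow_zero y)
        rw [ht, this]; group⟩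
  refine ⟨Φ, h1, ?_, fun a b e => ?_⟩
  · rw [show el kc0 = α (.ofAdd 1, 1) from Subtype.ext (by rw [α_val, vals.1]; simp [ZMod.val_one]), h2]
    simp [β, ZMod.val_one]
  · rw [show a = α (1, b) from Subtype.ext (by rw [α_val, e]; simp), h2]; simp [β]

end CL.HN3.Ya
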