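import Mathlib
import Cfsg.Agent.PERM.HN3A
import Cfsg.Agent.KSG.AltPres
import Cfsg.Agent.PERM.HN3V1
import Cfsg.Agent.PERM.HN3Ya

/-!
(S3340): three frames glue to `A₁₂`.  API: PERM/HN3A (`el_mul`, `el_conj`, `el_comm`, `el_solve`, `N9.cj`).
Codes of `g_j = (0 1 j)`, `j = 2..11` (`= AltPres.gen (j-2)`, see `La` in SPOR/HU/Alt):
`[0xba9876543021, 0xba9876540231, 0xba9876503241, 0xba9876043251, 0xba9870543261, 0xba9806543271, 0xba9076543281,
0xba0876543291, 0xb098765432a1, 0xa98765432b1]`.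
* ROTATE: for `ρ ∈ ⟨c0,c1,c2,c3⟩` the map `a ↦ Φ (ρ⁻¹ a ρ)` (`N9.cj` with `g = 1`) is again a frame with the same `y_j`.
* ALIGN: let `Φ, Φ'` be frames for `c_k`, `c_l`, and `B_m` the remaining block besides `B0`, `j ∈ B_m`.  `g = Φ g_j` commutes
  with `y_k, y_l`, so `g = Φ' σ` with `σ` commuting with `c_k, c_l` (`all`, `inj`), `σ³ = 1`, `(c0 σ)² = 1`, `(σ c_m)⁵ = 1`;
  `el_solve` shows `σ = ρ⁻¹ g_j ρ` with `ρ = c0^a c_m^b` (9 cases).
* Rotate `Φ2` so that `Φ2 g_3 = Φ3 g_3`; then they agree on `g_4, g_5` (conjugate by `c1`) and on `s2 = (0 1)(3 4)` (a word in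
  `c0, c1, g_3`).  Rotate `Φ1` so that `Φ1 g_6 = Φ3 g_6` (hence `g_7, g_8`).  ALIGN for `Φ2, Φ1`, `j = 9`, and rotate `Φ1` by
  `c3^b`: `Φ2 g_9 = Φ1 (c0^(-a) g_9 c0^a)`.  Claim `a = 0`: `w = Φ3 s2 = Φ2 s2` inverts `y0, y1`, centralises `y2, y3`,
  `w² = 1`, and inverts `Φ3 g_6 = Φ1 g_6` and `Φ2 g_9`.  So `w = Φ1 σ` with `σ` inverting `c0, c1, g_6`, centralising
  `c2, c3`; `el_solve`: `σ = (0 1)(p q)`, which inverts `c0^(-a) g_9 c0^a` only for `a = 0`.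
* `x_j = Φ3 g_j` (`j ≤ 8`), `x_j = Φ2 g_j = Φ1 g_j` (`j ≥ 9`); any two lie in a common frame, so `AltPres.exists_alt_hom 10`
  gives `Λ`; it is injective as `A₁₂` is simple.  `c_k` are words in the `g_j` of one frame.
* `N(⟨y3⟩) ≤ range`: `{σ | NZ c3 σ ∧ Φ3 σ ∈ range}` is a subgroup containing `g_2, ..., g_8`, `c3`, and
  `n = (0 1)(9 10) = 0xb9a876543201` (`Φ3 n` centralises `y1, y2`, so it is `Φ1 σ` with `σ² = 1` centralising `c1, c2`,
  inverting `c0, c3`: 9 cases by `el_solve`, each a word in `g_j`, `j ∈ {2, 9, 10, 11}`); these generate the normaliser of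
  `⟨c3⟩` (multiply by `c3^k n^ε` to fix `9, 10, 11`; an even permutation fixing them lies in the image of `A₉`,
  `AltPres.closure_gen` for `7`, or `Equiv.Perm.closure_three_cycles_eq_alternating`).  Conjugate by
  `0x210876534ba9` (maps `c0` to `c3`).
-/

set_option autoImplicit false

namespace CL.HN3

open CL.HU CL.McL3

namespace Gl

open CL.AltPres

variable {G : Type*} [Group G]

/-- an injective homomorphism on the normaliser of `⟨c⟩` -/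
structure PH (c : A12) (Φ : A12 → G) : Prop where
  mul : ∀ a b, NZ c a → NZ c b → Φ (a * b) = Φ a * Φ b
  inj : ∀ a, NZ c a → Φ a = 1 → a = 1

theorem nz1 {H : Type*} [Group H] (c : H) : NZ c 1 := .of_comm (by simp)

section
variable {c c' : A12} {Φ Φ' : A12 → G}

theorem PH.one (h : PH c Φ) : Φ 1 = 1 := by
  have := h.mul 1 1 (nz1 c) (nz1 c)
  rwa [mul_one, left_eq_mul] at this

theorem PH.inv (h : PH c Φ) {a : A12} (ha : NZ c a) : Φ a⁻¹ = (Φ a)⁻¹ :=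
  eq_inv_of_mul_eq_one_left (by rw [← h.mul _ _ ha.inv ha, inv_mul_cancel, h.one])

theorem PH.r3 (h : PH c Φ) {a : A12} (ha : NZ c a) (e : a ^ 3 = 1) : Φ a ^ 3 = 1 := by
  rw [pow_three', ← h.mul _ _ ha ha, ← h.mul _ _ (ha.mul ha) ha, ← pow_three', e, h.one]

theorem PH.r2 (h : PH c Φ) {a b : A12} (ha : NZ c a) (hb : NZ c b) (e : (a * b) ^ 2 = 1) :
    (Φ a * Φ b) ^ 2 = 1 := by
  rw [← h.mul _ _ ha hb, sq, ← h.mul _ _ (ha.mul hb) (ha.mul hb), ← sq, e, h.one]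

/-- the graph of the transition map -/
def T (h : PH c Φ) (h' : PH c' Φ') : Subgroup (A12 × A12) where
  carrier := {p | NZ c p.1 ∧ NZ c' p.2 ∧ Φ p.1 = Φ' p.2}
  mul_mem' := fun ⟨a1, a2, a3⟩ ⟨b1, b2, b3⟩ => ⟨a1.mul b1, a2.mul b2, by
    rw [Prod.fst_mul, Prod.snd_mul, h.mul _ _ a1 b1, h'.mul _ _ a2 b2, a3, b3]⟩
  one_mem' := ⟨nz1 c, nz1 c', h.one.trans h'.one.symm⟩
  inv_mem' := fun ⟨a1, a2, a3⟩ => ⟨a1.inv, a2.inv, by rw [Prod.fst_inv, Prod.snd_inv, h.inv a1, h'.inv a2, a3]⟩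

/-- where two partial homomorphisms agree -/
def D (h : PH c Φ) (h' : PH c' Φ') : Subgroup A12 := (T h h').comap ((MonoidHom.id _).prod (MonoidHom.id _))

variable {h : PH c Φ} {h' : PH c' Φ'}

theorem T.iff {p : A12 × A12} (hp : p ∈ T h h') : p.1 = 1 ↔ p.2 = 1 :=
  ⟨fun e => h'.inj _ hp.2.1 (by rw [← hp.2.2, e, h.one]), fun e => h.inj _ hp.1 (by rw [hp.2.2, e, h'.one])⟩

theorem T.cm {a a' b b' d d' : A12} (ha : (a, a') ∈ T h h') (hb : (b, b') ∈ T h h') (hd : (d, d') ∈ T h h')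
    (e : a * b = d * a) : a' * b' = d' * a' :=
  mul_inv_eq_one.1 ((T.iff (mul_mem (mul_mem ha hb) (inv_mem (mul_mem hd ha)))).1 (mul_inv_eq_one.2 e))

end

theorem wd {K : Subgroup A12} {L : List ℕ} (h : ∀ c ∈ L, Ev c ∧ el c ∈ K) {c : ℕ} (w : List ℕ)
    (e : cw L w = c) : el c ∈ K := e ▸ (cw_mem h w).2

def Cs : List ℕ := [kc0, kc1, kc2, kc3]

/-- test for centralising `c0, c1, c2, c3` -/
noncomputable def rB (ρ : ℕ) : Bool := Cs.all fun c => evB ρ && evB c && Nat.beq (cm ρ c) (cm c ρ)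

theorem rB_spec {ρ : ℕ} (h : rB ρ = true) : ∀ c ∈ Cs, el ρ * el c = el c * el ρ := fun c hc =>
  el_comm (List.all_eq_true.1 h c hc)

theorem Cs_comm : ∀ d ∈ Cs, ∀ c ∈ Cs, el d * el c = el c * el d := fun d hd =>
  rB_spec ((by decide +kernel : ∀ d ∈ Cs, rB d = true) d hd)

theorem Cs_ev : ∀ d ∈ Cs, Ev d := fun d hd => ev_of ((by decide +kernel : ∀ d ∈ Cs, evB d = true) d hd)

/-- a frame -/
structure Fr (k : ℕ) (Φ : A12 → G) (y : ℕ → G) : Prop extends N9 (el k) Φ where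
  kk : k ∈ Cs
  val : ∀ c ∈ Cs, Φ (el c) = y c

noncomputable def alB (k l q : ℕ) (R : List ℕ) : Bool :=
  (evB q && evB k && Nat.beq (cm q k) (cm k q)) && (evB q && evB l && Nat.beq (cm q l) (cm l q)) &&
  (evB q && Nat.beq (cm (cm q q) q) c1) && Nat.beq (cm (cm kc0 q) (cm kc0 q)) c1 && !Nat.beq (cm kc0 q) c1 &&
  (solve [(k, k), (l, l)] (fun c => !Nat.beq (cm (cm c c) c) c1 || !Nat.beq (cm (cm kc0 c) (cm kc0 c)) c1 ||
    Nat.beq (cm kc0 c) c1 || R.any fun ρ => Nat.beq (cm ρ c) (cm q ρ)) &&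
      [(k, k), (l, l)].all fun ab => evB ab.1 && evB ab.2) && R.all fun ρ => evB ρ && rB ρ

namespace Fr
variable {k l : ℕ} {Φ Φ' : A12 → G} {y : ℕ → G} (h : Fr k Φ y) (h' : Fr l Φ' y)
include h

theorem ph : PH (el k) Φ := ⟨h.mul, h.inj⟩

theorem rot {ρ : A12} (e : ∀ c ∈ Cs, ρ * el c = el c * ρ) : Fr k (fun a => Φ (ρ⁻¹ * a * ρ)) y := by
  have := h.toN9.cj ρ 1
  rw [e k h.kk, mul_inv_cancel_right] at this
  exact ⟨by simpa using this, h.kk, fun c hc => by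
    rw [mul_assoc, ← e c hc, inv_mul_cancel_left, h.val c hc]⟩

include h'

theorem cc : ∀ c ∈ Cs, (el c, el c) ∈ T h.ph h'.ph := fun c hc =>
  ⟨.of_comm (Cs_comm c hc k h.kk), .of_comm (Cs_comm c hc l h'.kk), (h.val c hc).trans (h'.val c hc).symm⟩

theorem ex {a : A12} (h1 : NZ (el k) a) (h2 : NZ (el l) a) : ∃ a', (a, a') ∈ T h.ph h'.ph := by
  have n := h.cc h' l h'.kk
  have : Φ a * Φ' (el l) * (Φ a)⁻¹ = Φ (a * el l * a⁻¹) := by
    rw [h.mul _ _ (h1.mul n.1) h1.inv, h.mul _ _ h1 n.1, h.ph.inv h1, n.2.2]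
  obtain ⟨a', e1, e2⟩ := h'.all (Φ a) (h2.imp (fun e => by rw [this, e, n.2.2])
    fun e => by rw [this, e, h.ph.inv n.1, n.2.2])
  exact ⟨a', h1, e1, e2.symm⟩

theorem align {q : ℕ} {R : List ℕ} (b : alB k l q R = true) :
    ∃ ρ ∈ R, Ev ρ ∧ (∀ c ∈ Cs, el ρ * el c = el c * el ρ) ∧
      (el q, (el ρ)⁻¹ * el q * el ρ) ∈ T h.ph h'.ph := by
  rw [alB] at b
  rw [Bool.and_eq_true, Bool.and_eq_true, Bool.and_eq_true, Bool.and_eq_true, Bool.and_eq_true,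
    Bool.and_eq_true] at b
  obtain ⟨⟨⟨⟨⟨⟨b1, b2⟩, b3⟩, b4⟩, b5⟩, b6⟩, b7⟩ := b
  have eq : Ev q := ev_of (Bool.and_eq_true_iff.1 b3).1
  have e0 := Cs_ev kc0 (by simp [Cs])
  obtain ⟨σ, hσ⟩ := h.ex h' (.of_comm (el_comm b1)) (.of_comm (el_comm b2))
  have n0 := mul_mem (h.cc h' kc0 (by simp [Cs])) hσ
  have a1 := congrArg cd ((T.iff (pow_mem hσ 3)).1 (el_cube b3))
  have a2 := congrArg cd ((T.iff (mul_mem n0 n0)).1 (show el kc0 * el q * (el kc0 * el q) = 1 by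
    rw [← el_cm e0 eq, ← el_cm (e0.mul eq) (e0.mul eq), Nat.eq_of_beq_eq_true b4, el_one]))
  have a3 : cm kc0 (cd σ) ≠ c1 := fun e => by
    have := (T.iff n0).2 (show el kc0 * σ = 1 by rw [← el_cd σ, ← el_cm e0 (ev_cd σ), e, el_one])
    change el kc0 * el q = 1 at this
    rw [← el_cm e0 eq, ← el_one] at this
    simp [el_inj (e0.mul eq) ev_one this] at b5
  have := el_solve b6 (σ := σ) (by
    simp only [List.mem_cons, List.not_mem_nil, or_false, forall_eq_or_imp, forall_eq]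
    exact ⟨T.cm hσ (h.cc h' k h.kk) (h.cc h' k h.kk) (el_comm b1),
      T.cm hσ (h.cc h' l h'.kk) (h.cc h' l h'.kk) (el_comm b2)⟩)
  simp only [pow_three', Prod.snd_mul, cd_mul, cd_one, cd_el e0] at a1 a2
  simp only [a1, a2, a3, Nat.beq_refl, Bool.not_true, Bool.false_or, Bool.or_eq_true, Nat.beq_eq, false_or,
    List.any_eq_true] at this
  obtain ⟨ρ, r1, r2⟩ := this
  have r3 := Bool.and_eq_true_iff.1 (List.all_eq_true.1 b7 ρ r1)
  refine ⟨ρ, r1, ev_of r3.1, rB_spec r3.2, ?_⟩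
  rwa [mul_assoc, ← el_cm eq (ev_of r3.1), ← r2, el_cm (ev_of r3.1) (ev_cd σ), el_cd, inv_mul_cancel_left]

theorem mD {q : ℕ} (b : evB q = true) (e : (el q, el q) ∈ T h.ph h'.ph) :
    ∀ c ∈ Cs ++ [q], Ev c ∧ el c ∈ D h.ph h'.ph := fun c hc => by
  rcases List.mem_append.1 hc with hc | hc
  · exact ⟨Cs_ev c hc, h.cc h' c hc⟩
  · rw [List.mem_singleton.1 hc]; exact ⟨ev_of b, e⟩

end Fr

/-- `(0 1 j)` -/
def Lg : List ℕ := [0xba9876543021, 0xba9876540231, 0xba9876503241, 0xba9876043251, 0xba9870543261,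
  0xba9806543271, 0xba9076543281, 0xba0876543291, 0xb098765432a1, 0xa98765432b1]

theorem cd_gen : ∀ i : Fin 10, cd (gen i) = Lg.getD i c1 := by decide +kernel

theorem el_gen (i : Fin 10) : el (Lg.getD i c1) = gen i := by rw [← cd_gen, el_cd]

theorem cj_gen : ∀ i : Fin 7, cj 0x786453120ba9 (cd (Ya.α (1, gen i))) =
    Lg.getD (Fin.castLE (by decide) i : Fin 10) c1 := by decide +kernel

theorem κ_gen (i : Fin 7) : el 0x786453120ba9 * Ya.α (1, gen i) * (el 0x786453120ba9)⁻¹ =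
    gen (Fin.castLE (by decide) i : Fin 10) := by
  rw [← el_gen, ← cj_gen, el_cj (ev_of (by decide +kernel)) (ev_cd _), el_cd]

theorem α_eq (n : Multiplicative (ZMod 3)) (b : Ya.A9) : Ya.α (n, b) = el kc0 ^ n.toAdd.val * Ya.α (1, b) :=
  Subtype.ext (by
    rw [Subgroup.coe_mul, Subgroup.coe_pow, Ya.α_val, Ya.α_val, Ya.vals.1]
    simp)

theorem gen3' {K : Subgroup A12} {κ : A12} (e2 : ∀ i : Fin 7, κ * Ya.α (1, gen i) * κ⁻¹ ∈ K)
    (h2 : κ * el kc0 * κ⁻¹ ∈ K) {a : A12} (e : a * el kc0 = el kc0 * a) : κ * a * κ⁻¹ ∈ K := by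
  obtain ⟨⟨n, b⟩, rfl⟩ := (Ya.α_rng a).1 e
  rw [α_eq, ← conj_mul, ← conj_pow]
  refine K.mul_mem (K.pow_mem h2 _) ?_
  have : b ∈ Subgroup.closure (Set.range (gen (m := 7))) := closure_gen 7 ▸ Subgroup.mem_top b
  clear e
  induction this using Subgroup.closure_induction with
  | mem x hx => obtain ⟨i, rfl⟩ := hx; exact e2 i
  | one => rw [Prod.mk_one_one, map_one, mul_one, mul_inv_cancel]; exact K.one_mem
  | mul x y _ _ hx hy =>
    rw [show ((1, x * y) : Ya.D) = (1, x) * (1, y) by simp, map_mul, ← conj_mul]; exact K.mul_mem hx hy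
  | inv x _ hx =>
    rw [show ((1, x⁻¹) : Ya.D) = (1, x)⁻¹ by simp, map_inv, ← conj_inv]; exact K.inv_mem hx

/-- generators of the normaliser of `⟨c3⟩` -/
theorem gen3 {K : Subgroup A12} (h1 : ∀ i : Fin 10, i.val < 7 → gen i ∈ K) (h2 : el kc3 ∈ K)
    (h3 : el 0xb9a876543201 ∈ K) {σ : A12} (hσ : NZ (el kc3) σ) : σ ∈ K := by
  have e0 : el 0x786453120ba9 * el kc0 * (el 0x786453120ba9)⁻¹ = el kc3 := el_conj (by decide +kernel)
  have e1 : el 0x786453120ba9 * el 0xba9876345201 * (el 0x786453120ba9)⁻¹ = el 0xb9a876543201 :=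
    el_conj (by decide +kernel)
  have k := @gen3' K _ (fun i => κ_gen i ▸ h1 _ i.2) (e0 ▸ h2)
  generalize el 0x786453120ba9 = κ at e0 e1 k
  have := NZ.cj hσ κ⁻¹
  rw [← e0, show κ⁻¹ * (κ * el kc0 * κ⁻¹) * κ⁻¹⁻¹ = el kc0 by group] at this
  rcases Ya.dec (s := el 0xba9876345201) ((el_conj (b := 0xba9876543102) (by decide +kernel)).trans
    (el_inv (by decide +kernel)).symm) this with e | e
  · simpa [mul_assoc] using k e
  · have := k e
    rw [← conj_mul, e1, K.mul_mem_cancel_right h3] at this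
    simpa [mul_assoc] using this

theorem glue {Φ1 Φ2 Φ3 : A12 → G} {y : ℕ → G} (h1 : Fr kc1 Φ1 y) (h2 : Fr kc2 Φ2 y) (h3 : Fr kc3 Φ3 y)
    (a3 : el 0xba9876540231 ∈ D h3.ph h2.ph) (a6 : el 0xba9870543261 ∈ D h3.ph h1.ph)
    (a9 : el 0xba0876543291 ∈ D h2.ph h1.ph) :
    ∃ Λ : A12 →* G, Function.Injective Λ ∧ (∀ c ∈ Cs, Λ (el c) = y c) ∧ ∀ g, NZ (y kc0) g → g ∈ Λ.range := by
  have b3 := h3.mD h2 (by decide +kernel) a3
  have b6 := h3.mD h1 (by decide +kernel) a6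
  have b9 := h2.mD h1 (by decide +kernel) a9
  have d3 : ∀ i : Fin 10, i.val < 4 → gen i ∈ D h3.ph h2.ph := fun i hi => el_gen i ▸
    wd b3 ([[0], [4], [1, 4, 1, 1], [1, 1, 4, 1]].getD i []) (by revert i; decide +kernel)
  have d6 : ∀ i : Fin 10, i.val = 0 ∨ 4 ≤ i.val ∧ i.val < 7 → gen i ∈ D h3.ph h1.ph := fun i hi => el_gen i ▸
    wd b6 ([[0], [], [], [], [4], [2, 4, 2, 2], [2, 2, 4, 2]].getD i []) (by revert i; decide +kernel)
  have d9 : ∀ i : Fin 10, i.val = 0 ∨ 7 ≤ i.val → gen i ∈ D h2.ph h1.ph := fun i hi => el_gen i ▸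
    wd b9 ([[0], [], [], [], [], [], [], [4], [3, 4, 3, 3], [3, 3, 4, 3]].getD i []) (by
      revert i; decide +kernel)
  let x : Fin 10 → G := fun i => if i.val < 7 then Φ3 (gen i) else Φ1 (gen i)
  have p3 : ∀ i : Fin 10, i.val < 7 → NZ (el kc3) (gen i) ∧ Φ3 (gen i) = x i := fun i hi =>
    ⟨if e : i.val < 4 then (d3 i e).1 else (d6 i (by omega)).1, (if_pos hi).symm⟩
  have p2 : ∀ i : Fin 10, i.val < 4 ∨ 7 ≤ i.val → NZ (el kc2) (gen i) ∧ Φ2 (gen i) = x i := fun i hi => by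
    rcases hi with hi | hi
    · exact ⟨(d3 i hi).2.1, (d3 i hi).2.2.symm.trans (p3 i (by omega)).2⟩
    · exact ⟨(d9 i (.inr hi)).1, (d9 i (.inr hi)).2.2.trans (if_neg (by omega)).symm⟩
  have p1 : ∀ i : Fin 10, i.val = 0 ∨ 4 ≤ i.val → NZ (el kc1) (gen i) ∧ Φ1 (gen i) = x i := fun i hi => by
    by_cases e : i.val < 7
    · exact ⟨(d6 i (by omega)).2.1, (d6 i (by omega)).2.2.symm.trans (p3 i e).2⟩
    · exact ⟨(d9 i (by omega)).2.1, (if_neg e).symm⟩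
  obtain ⟨Λ, hΛ⟩ := exists_alt_hom 10 x (fun i => by
    by_cases e : i.val < 7
    · exact (p3 i e).2 ▸ h3.ph.r3 (p3 i e).1 (gen_pow_three i)
    · exact (p1 i (by omega)).2 ▸ h1.ph.r3 (p1 i (by omega)).1 (gen_pow_three i)) fun i j e => by
    obtain ⟨a, b⟩ | ⟨a, b⟩ | ⟨a, b⟩ : (i.val < 7 ∧ j.val < 7) ∨ ((i.val < 4 ∨ 7 ≤ i.val) ∧
      (j.val < 4 ∨ 7 ≤ j.val)) ∨ ((i.val = 0 ∨ 4 ≤ i.val) ∧ (j.val = 0 ∨ 4 ≤ j.val)) := by omega
    · exact (p3 i a).2 ▸ (p3 j b).2 ▸ h3.ph.r2 (p3 i a).1 (p3 j b).1 (gen_mul_gen_sq e)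
    · exact (p2 i a).2 ▸ (p2 j b).2 ▸ h2.ph.r2 (p2 i a).1 (p2 j b).1 (gen_mul_gen_sq e)
    · exact (p1 i a).2 ▸ (p1 j b).2 ▸ h1.ph.r2 (p1 i a).1 (p1 j b).1 (gen_mul_gen_sq e)
  have inj : Function.Injective Λ := by
    have := alternatingGroup.isSimpleGroup (α := Fin 12) (by simp)
    rw [← MonoidHom.ker_eq_bot_iff]
    refine Λ.normal_ker.eq_bot_or_eq_top.resolve_right fun e => ?_
    have := h3.inj _ (p3 0 (by decide)).1
      (((p3 0 (by decide)).2.trans (hΛ 0).symm).trans (e.ge (Subgroup.mem_top _)))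
    exact absurd (congrArg cd this) (by rw [cd_gen, cd_one]; decide)
  have hL : PH 1 Λ := ⟨fun a b _ _ => map_mul Λ a b, fun a _ => (map_eq_one_iff Λ inj).1⟩
  have n1 : ∀ a : A12, NZ 1 a := fun a => .of_comm (by simp)
  have q3 : ∀ i : Fin 10, i.val < 7 → gen i ∈ D h3.ph hL := fun i hi =>
    ⟨(p3 i hi).1, n1 _, (p3 i hi).2.trans (hΛ i).symm⟩
  have q1 : ∀ i : Fin 10, i.val = 0 ∨ 4 ≤ i.val → gen i ∈ D h1.ph hL := fun i hi =>
    ⟨(p1 i hi).1, n1 _, (p1 i hi).2.trans (hΛ i).symm⟩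
  have mk : ∀ {K : Subgroup A12} (I : List (Fin 10)), (∀ i ∈ I, gen i ∈ K) →
      ∀ c ∈ I.map fun i : Fin 10 => Lg.getD i.val c1, Ev c ∧ el c ∈ K := fun I hI c hc => by
    obtain ⟨i, hi, rfl⟩ := List.mem_map.1 hc
    exact ⟨cd_gen i ▸ ev_cd _, el_gen i ▸ hI i hi⟩
  have r3 := mk [1, 2, 3, 4, 5, 6] fun i hi => q3 i (by revert i; decide)
  have r1 := mk [0, 7, 8, 9] fun i hi => q1 i (by revert i; decide)
  have val : ∀ c ∈ Cs, Λ (el c) = y c := by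
    simp only [Cs, List.mem_cons, List.not_mem_nil, or_false, forall_eq_or_imp, forall_eq]
    exact ⟨(wd r1 [0] (by decide +kernel)).2.2.symm.trans (h1.val _ (by simp [Cs])),
      (wd r3 [0, 1, 2, 0, 1] (by decide +kernel)).2.2.symm.trans (h3.val _ (by simp [Cs])),
      (wd r3 [3, 4, 5, 3, 4] (by decide +kernel)).2.2.symm.trans (h3.val _ (by simp [Cs])),
      (wd r1 [1, 2, 3, 1, 2] (by decide +kernel)).2.2.symm.trans (h1.val _ (by simp [Cs]))⟩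
  have i0 : el 0xb9a876543201 * el kc0 = (el kc0)⁻¹ * el 0xb9a876543201 := mul_inv_eq_iff_eq_mul.1
    ((el_conj (b := 0xba9876543102) (by decide +kernel)).trans (el_inv (by decide +kernel)).symm)
  have i3 : el 0xb9a876543201 * el kc3 = (el kc3)⁻¹ * el 0xb9a876543201 := mul_inv_eq_iff_eq_mul.1
    ((el_conj (b := 0xa9b876543210) (by decide +kernel)).trans (el_inv (by decide +kernel)).symm)
  obtain ⟨σ, hσ⟩ := h3.ex h1 (a := el 0xb9a876543201) (.inr (mul_inv_eq_iff_eq_mul.2 i3))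
    (.of_comm (el_comm (by decide +kernel)))
  have cc := h3.cc h1
  simp only [Cs, List.mem_cons, List.not_mem_nil, or_false, forall_eq_or_imp, forall_eq] at cc
  have s1 : σ ∈ D h1.ph hL := sift_mem (L := Cs ++ [0xb9a876543201]) (S := [(3, [1]), (3, [1]), (6, [2]),
    (6, [2]), (2, [0]), (2, [0]), (11, [3]), (11, [3]), (0, [4])]) (fun c hc => by
      rcases List.mem_append.1 hc with hc | hc
      · exact ⟨Cs_ev c hc, .of_comm (Cs_comm c hc _ h1.kk), n1 _, (h1.val c hc).trans (val c hc).symm⟩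
      · rw [List.mem_singleton.1 hc]
        exact ⟨ev_of (by decide +kernel), wd r1 [1, 2, 2, 1] (by decide +kernel)⟩)
    (el_solve (cons := [(kc0, 0xba9876543102), (kc1, kc1), (kc2, kc2), (kc3, 0xa9b876543210)])
      (by decide +kernel) (by
        simp only [List.mem_cons, List.not_mem_nil, or_false, forall_eq_or_imp, forall_eq]
        rw [← el_inv (a := kc0) (b := 0xba9876543102) (by decide +kernel),
          ← el_inv (a := kc3) (b := 0xa9b876543210) (by decide +kernel)]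
        exact ⟨T.cm hσ cc.1 (inv_mem cc.1) i0, T.cm hσ cc.2.1 cc.2.1 (el_comm (by decide +kernel)),
          T.cm hσ cc.2.2.1 cc.2.2.1 (el_comm (by decide +kernel)), T.cm hσ cc.2.2.2 (inv_mem cc.2.2.2) i3⟩))
  refine ⟨Λ, inj, val, fun g hg => ?_⟩
  obtain ⟨a, ha, e⟩ := h3.all (Λ (el 0x786453120ba9) * g * (Λ (el 0x786453120ba9))⁻¹) (by
    have := NZ.cj hg (Λ (el 0x786453120ba9))
    rwa [← val _ (by simp [Cs]), Li.conj (b := kc3) (by decide +kernel), val _ h3.kk,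
      ← h3.val _ h3.kk] at this)
  obtain ⟨⟨_, b⟩, hb, rfl⟩ := gen3 (K := (T h3.ph hL).map (MonoidHom.fst _ _))
    (fun i hi => ⟨_, q3 i hi, rfl⟩)
    ⟨(_, el kc3), ⟨cc.2.2.2.1, n1 _, (h3.val _ h3.kk).trans (val _ h3.kk).symm⟩, rfl⟩
    ⟨(_, σ), ⟨hσ.1, n1 _, hσ.2.2.trans s1.2.2⟩, rfl⟩ ha
  exact (Λ.range.mul_mem_cancel_left ⟨_, rfl⟩).1
    ((Λ.range.mul_mem_cancel_right (Λ.range.inv_mem ⟨_, rfl⟩)).1 ⟨b, hb.2.2.symm.trans e⟩)

theorem third {Φ1 Φ2 Φ3 : A12 → G} {y : ℕ → G} (h1 : Fr kc1 Φ1 y) (h2 : Fr kc2 Φ2 y) (h3 : Fr kc3 Φ3 y)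
    (a3 : el 0xba9876540231 ∈ D h3.ph h2.ph) (a6 : el 0xba9870543261 ∈ D h3.ph h1.ph) :
    ∃ Λ : A12 →* G, Function.Injective Λ ∧ (∀ c ∈ Cs, Λ (el c) = y c) ∧ ∀ g, NZ (y kc0) g → g ∈ Λ.range := by
  obtain ⟨ρ, r1, r2, r3, r4⟩ := h2.align h1 (q := 0xba0876543291) (R := [0xba9876543210, 0x9ba876543210,
    0xa9b876543210, 0xba9876543021, 0x9ba876543021, 0xa9b876543021, 0xba9876543102, 0x9ba876543102,
    0xa9b876543102]) (by decide +kernel)
  have s2 : el ks2 ∈ D h3.ph h2.ph := wd (h3.mD h2 (by decide +kernel) a3) [4, 1, 4, 4, 1, 1, 4]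
    (by decide +kernel)
  have iv : ∀ {a b : ℕ}, (evB ks2 && evB a && Nat.beq (cj ks2 a) b) = true →
      (evB a && evB b && Nat.beq (cm a b) c1) = true → el ks2 * el a = (el a)⁻¹ * el ks2 := fun e e' =>
    mul_inv_eq_iff_eq_mul.1 ((el_conj e).trans (el_inv e').symm)
  obtain ⟨σ, hσ⟩ := h3.ex h1 s2.1 (.inr (mul_inv_eq_iff_eq_mul.2
    (iv (b := 0xba9876435210) (by decide +kernel) (by decide +kernel))))
  have hσ' : (el ks2, σ) ∈ T h2.ph h1.ph := ⟨s2.2.1, hσ.2.1, s2.2.2.symm.trans hσ.2.2⟩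
  have c0 := h3.cc h1 kc0 (by simp [Cs])
  have e0 := T.cm hσ c0 (inv_mem c0) (iv (b := 0xba9876543102) (by decide +kernel) (by decide +kernel))
  have e6 := T.cm hσ a6 (inv_mem a6) (iv (b := 0xba9871543206) (by decide +kernel) (by decide +kernel))
  have e9 := T.cm hσ' r4 (inv_mem r4) (iv (b := 0xba1876543209) (by decide +kernel) (by decide +kernel))
  have q9 : Ev 0xba0876543291 := ev_of (by decide +kernel)
  have eτ : el (cj (ci ρ) 0xba0876543291) = (el ρ)⁻¹ * el 0xba0876543291 * el ρ := by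
    rw [el_cj r2.inv q9, el_ci r2, inv_inv]
  have b := (by decide +kernel : ∀ ρ ∈ [0xba9876543210, 0x9ba876543210,
    0xa9b876543210, 0xba9876543021, 0x9ba876543021, 0xa9b876543021, 0xba9876543102, 0x9ba876543102,
    0xa9b876543102], (evB ρ && evB 0xba9870543261 && Nat.beq (cm ρ 0xba9870543261) (cm 0xba9870543261 ρ)) = true ∨
      (solve [(kc0, 0xba9876543102), (0xba9870543261, 0xba9871543206), (cj (ci ρ) 0xba0876543291,
        ci (cj (ci ρ) 0xba0876543291))] (fun _ => false) && [(kc0, 0xba9876543102),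
          (0xba9870543261, 0xba9871543206), (cj (ci ρ) 0xba0876543291,
            ci (cj (ci ρ) 0xba0876543291))].all fun ab => evB ab.1 && evB ab.2) = true) ρ r1
  have := el_comm (b.resolve_right fun b => Bool.false_ne_true (el_solve b (σ := σ) (by
    simp only [List.mem_cons, List.not_mem_nil, or_false, forall_eq_or_imp, forall_eq]
    rw [← el_inv (a := kc0) (b := 0xba9876543102) (by decide +kernel),
      ← el_inv (a := 0xba9870543261) (b := 0xba9871543206) (by decide +kernel), el_ci (ev_cj r2.inv q9), eτ]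
    exact ⟨e0, e6, e9⟩)))
  exact glue (h1.rot r3) h2 h3 a3 ⟨a6.1, a6.2.1, a6.2.2.trans (congrArg Φ1 (by
    show el _ = _ * el _ * _
    rw [mul_assoc, ← this, inv_mul_cancel_left]))⟩
    ⟨r4.1, .of_comm (el_comm (by decide +kernel)), r4.2.2⟩

end Gl

theorem exists_A12 {G : Type*} [Group G] {y0 y1 y2 y3 : G} {Φ1 Φ2 Φ3 : A12 → G}
    (h1 : N9 (el kc1) Φ1) (h2 : N9 (el kc2) Φ2) (h3 : N9 (el kc3) Φ3)
    (e1 : Φ1 (el kc0) = y0 ∧ Φ1 (el kc1) = y1 ∧ Φ1 (el kc2) = y2 ∧ Φ1 (el kc3) = y3)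
    (e2 : Φ2 (el kc0) = y0 ∧ Φ2 (el kc1) = y1 ∧ Φ2 (el kc2) = y2 ∧ Φ2 (el kc3) = y3)
    (e3 : Φ3 (el kc0) = y0 ∧ Φ3 (el kc1) = y1 ∧ Φ3 (el kc2) = y2 ∧ Φ3 (el kc3) = y3) :
    ∃ Λ : A12 →* G, Function.Injective Λ ∧ Λ (el kc0) = y0 ∧ Λ (el kc1) = y1 ∧ Λ (el kc2) = y2 ∧
      Λ (el kc3) = y3 ∧ ∀ g, NZ y0 g → g ∈ Λ.range := by
  have k : ∀ {k : ℕ} {Φ : A12 → G}, N9 (el k) Φ → k ∈ Gl.Cs → (Φ (el kc0) = y0 ∧ Φ (el kc1) = y1 ∧
      Φ (el kc2) = y2 ∧ Φ (el kc3) = y3) → Gl.Fr k Φ fun c => Φ3 (el c) := fun h hk e => ⟨h, hk, by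
    simp only [Gl.Cs, List.mem_cons, List.not_mem_nil, or_false, forall_eq_or_imp, forall_eq]
    simp only [e, e3, and_self]⟩
  have f1 := k h1 (by simp [Gl.Cs]) e1
  have f2 := k h2 (by simp [Gl.Cs]) e2
  have f3 := k h3 (by simp [Gl.Cs]) e3
  obtain ⟨ρ, -, -, r3, r4⟩ := f3.align f2 (q := 0xba9876540231) (R := [0xba9876543210, 0xba9876354210,
    0xba9876435210, 0xba9876543021, 0xba9876354021, 0xba9876435021, 0xba9876543102, 0xba9876354102,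
    0xba9876435102]) (by decide +kernel)
  obtain ⟨ρ', -, -, r3', r4'⟩ := f3.align f1 (q := 0xba9870543261) (R := [0xba9876543210, 0xba9687543210,
    0xba9768543210, 0xba9876543021, 0xba9687543021, 0xba9768543021, 0xba9876543102, 0xba9687543102,
    0xba9768543102]) (by decide +kernel)
  obtain ⟨Λ, a, b, c⟩ := Gl.third (f1.rot r3') (f2.rot r3) f3
    ⟨r4.1, .of_comm (el_comm (by decide +kernel)), r4.2.2⟩
    ⟨r4'.1, .of_comm (el_comm (by decide +kernel)), r4'.2.2⟩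
  simp only [Gl.Cs, List.mem_cons, List.not_mem_nil, or_false, forall_eq_or_imp, forall_eq, e3] at b c
  exact ⟨Λ, a, b.1, b.2.1, b.2.2.1, b.2.2.2, c⟩

end CL.HN3
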