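import Mathlib
import Cfsg.Agent.PERM.HN3Ya
import Cfsg.Agent.SOLV.Gaschutz

/-! `N(⟨y⟩) ≅ (S₃ × S₉) ∩ A₁₂` for `y = τ e0`. -/

set_option autoImplicit false

namespace CL.HN3

open CL.HU CL.McL3

open Subgroup CL.Odd CL.L43 Cfsg in
theorem exists_N9 {G : Type*} [Group G] [Finite G] {J : Subgroup G} {τ : V4 → G} (h : Co J τ)
    (cJ : ∀ g, (∀ j ∈ J, g * j = j * g) → g ∈ J) {w : G} (hw : Act τ w W4) (w2 : w * w = 1)
    (ex : ∀ i, ∃ g, Act τ g (Rm i))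
    (rot : ∀ g ∈ Nm J, g * τ e0 = τ e0 * g → ∃ i, Act τ g (Rm i))
    (sig : ∀ X : Subgroup G, (Nat.card X).Coprime 3 → (∀ j ∈ J, ∀ a ∈ X, j * a * j⁻¹ ∈ X) → X = ⊥)
    (nN : ∃ g, g * τ e0 = τ e0 * g ∧ g ∉ Nm J)
    {r : G} (hr : Act τ r (-e0, -e1, e2, e3)) (r2 : r * r = 1)
    (no : ∀ g, ¬ Act τ g (-e0, e1, e2, e3)) :
    ∃ Φ : A12 → G, N9 (el kc0) Φ ∧ Φ (el kc0) = τ e0 ∧ Φ (el kc1) = τ e1 ∧ Φ (el kc2) = τ e2 ∧
      Φ (el kc3) = τ e3 := by
  obtain ⟨-, -, m3, -, m5, m6, -⟩ := misc5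
  have Jc : ∀ a ∈ J, ∀ b ∈ J, a * b = b * a := fun a ha b hb => by
    obtain ⟨x, rfl⟩ := (h.mem _).1 ha
    obtain ⟨y, rfl⟩ := (h.mem _).1 hb
    exact h.comm x y
  have J3 : ∀ a ∈ J, a ^ 3 = 1 := fun a ha => by
    obtain ⟨x, rfl⟩ := (h.mem _).1 ha
    rw [pow_three', ← h.add, ← h.add, h.eq_one]; exact three_x x
  have pJ : IsPGroup 3 J := fun a => ⟨1, Subtype.ext (J3 _ a.2)⟩
  have JN : J ≤ Nm J := le_normalizer
  have aeq : ∀ {x y A}, Act τ x A → Act τ y A → x * y⁻¹ ∈ J := fun {x y A} e e' => cJ _ fun j hj => by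
    obtain ⟨v, hv⟩ := (h.mem _).1 (Tr.inv_conj_mem_of_mem_normalizer (h.mem_N e') hj)
    refine mul_inv_eq_iff_eq_mul.1 ?_
    calc _ = x * (y⁻¹ * j * y) * x⁻¹ := by group
      _ = j := by rw [← hv, e, ← e', hv]; group
  have rcz : ∀ {x i}, Act τ x (Rm i) → x ∈ cz (τ e0) := fun {x i} e =>
    mem_cz'.2 ((h.fix e).2 (misc4.2.2.2.2.2.2.2.2.2.2 i))
  have exc : ∀ i, ∃ x, Act τ x (Rm i) ∧ x * w = w * x := fun i => by
    obtain ⟨x, hx⟩ := ex i
    obtain ⟨r, hr, e'⟩ := exists_mul_comm (x := x) pJ w2 (by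
      simpa [mul_assoc] using aeq (hx.mul hw) ((hw.mul hx).congr (mm_W _).symm))
    exact ⟨_, ((h.act_J hr).mul hx).congr (mt_ext fun v => by rw [ap_mm, ap_I4]), e'⟩
  choose ρ ρ1 ρ2 using exc
  have uq : ∀ {x y A}, Act τ x A → Act τ y A → x * w = w * x → y * w = w * y → x = y :=
    fun {x y A} h1 h2 h3 h4 => by
      obtain ⟨v, hv⟩ := (h.mem _).1 (aeq h1 h2)
      have := (h.fix hw).1 (show w * τ v = τ v * w from
        hv ▸ ((show Commute x w from h3).mul_left (show Commute y w from h4).inv_left).symm)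
      rw [ap_W4] at this
      rw [← mul_inv_eq_one, ← hv, m3 v this, h.zero]
  have ρm : ∀ i j, ρ (qm24 i j) = ρ i * ρ j := fun i j => uq (ρ1 _) (((ρ1 i).mul (ρ1 j)).congr
    (Rm_mm i j)) (ρ2 _) ((show Commute _ w from ρ2 i).mul_left (ρ2 j))
  have ρ0 : ρ 0 = 1 := uq (ρ1 0) (Act.one.congr misc.2.2.2.2.2.1.symm) (ρ2 0) (by simp)
  set C := cz (τ e0)
  have JC : J ≤ C := fun j hj => mem_cz'.2 (Jc j hj _ (h.mJ _))
  let ι₀ : M648 →* C := MonoidHom.mk' (fun p => ⟨τ (0, p.1) * ρ p.2,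
    mul_mem (JC (h.mJ _)) (rcz (ρ1 _))⟩) fun p q => Subtype.ext (by
      show τ (0, p.1 + sig24 p.2 q.1) * ρ (qm24 p.2 q.2) = τ (0, p.1) * ρ p.2 * (τ (0, q.1) * ρ q.2)
      rw [ρm, show ((0, p.1 + sig24 p.2 q.1) : V4) = (0, p.1) + ap (Rm p.2) (0, q.1) by
        rw [ap_Rm]; simp, h.add, ← ρ1]; group)
  let Y := (zpowers (τ e0)).subgroupOf C
  have Yc : Y ≤ center C := fun y ⟨j, hj⟩ => mem_center_iff.2 fun c => Subtype.ext (by
    have hj' : τ e0 ^ j = y := hj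
    rw [coe_mul, coe_mul, ← hj']
    exact (Commute.zpow_right (mem_cz'.1 c.2) j).eq)
  have : Y.Normal := normal_of_le_center Yc
  have YJ : zpowers (τ e0) ≤ J := zpowers_le.2 (h.mJ _)
  have ιN : ∀ p, (ι₀ p : G) ∈ Nm J := fun p => mul_mem (JN (h.mJ _)) (h.mem_N (ρ1 _))
  have ιJ : ∀ p, (ι₀ p : G) ∈ J → p.2 = 0 := fun p e => Rm_inj (h.uniq (ρ1 _) ((h.act_J
    ((mul_mem_cancel_left (h.mJ _)).1 e)).congr misc.2.2.2.2.2.1.symm))
  have ι0 : ∀ x, (ι₀ (M648.mk x 0) : G) = τ (0, x) := fun x => by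
    show τ _ * ρ 0 = _; rw [ρ0, mul_one]; rfl
  have eq : ∀ {a b : C}, (a : C ⧸ Y) = b → (a : G) * (b : G)⁻¹ ∈ zpowers (τ e0) := fun e =>
    QuotientGroup.eq_iff_div_mem.1 e |> fun e => by rwa [div_eq_mul_inv] at e
  have H : A9Base ((QuotientGroup.mk' Y).comp ι₀) := ⟨(injective_iff_map_eq_one _).2 fun p e => by
      have e1 : (ι₀ p : G) ∈ zpowers (τ e0) := (QuotientGroup.eq_one_iff (N := Y) (ι₀ p)).1 e
      have e2 := M648.eq_mk_of (ιJ p (YJ e1))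
      rw [e2, ι0] at e1
      rw [e2, m5 _ (h.zp.1 e1)]; rfl,
    fun c hc => by
      obtain ⟨c, rfl⟩ := QuotientGroup.mk_surjective c
      have cN : c.1 ∈ Nm J := Tr.mem_normalizer_of_conj_mem fun j hj => by
        obtain ⟨v, rfl⟩ := (h.mem _).1 hj
        obtain ⟨y, hy⟩ := hc v.2
        have e := YJ (eq (a := c * ι₀ (M648.mk v.2 0) * c⁻¹) hy)
        rw [ι0, mul_mem_cancel_right (inv_mem (h.mJ _)), coe_mul, coe_mul, ι0, coe_inv] at e
        rw [m6 v, h.add, ← conj_mul, h.smul, ← conj_pow, mem_cz.1 c.2]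
        exact mul_mem (pow_mem (h.mJ _) _) e
      obtain ⟨i, hi⟩ := rot _ cN (mem_cz'.1 c.2)
      obtain ⟨v, hv⟩ := (h.mem _).1 (aeq hi (ρ1 i))
      refine ⟨M648.mk v.2 i, (QuotientGroup.eq_iff_div_mem.2 ?_).symm⟩
      rw [div_eq_mul_inv]
      show (c : G) * (τ (0, v.2) * ρ i)⁻¹ ∈ zpowers _
      rw [mul_inv_rev, ← mul_assoc, ← hv, ← h.sub]
      exact h.zp.2 ⟨v.1, by rw [sub_eq_iff_eq_add]; exact m6 v⟩⟩
  rcases H.main (fun x _ => by
    set K := cz (((QuotientGroup.mk' Y).comp ι₀) (M648.mk x 0))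
    have JK : J ≤ (K.comap (QuotientGroup.mk' Y)).map C.subtype := fun j hj =>
      ⟨⟨j, JC hj⟩, mem_cz'.2 (by
        rw [MonoidHom.comp_apply, ← map_mul, ← map_mul]
        exact congrArg _ (Subtype.ext (by rw [coe_mul, coe_mul, ι0]; exact Jc _ hj _ (h.mJ _)))), rfl⟩
    have kY : ∀ a, a ∈ ((QuotientGroup.mk' Y).subgroupComap K).ker → a.1 ∈ Y := fun a ha =>
      (QuotientGroup.eq_one_iff _).1 (congrArg Subtype.val ha)
    refine YH.core_bot ((QuotientGroup.mk' Y).subgroupComap K)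
      (MonoidHom.subgroupComap_surjective_of_surjective _ _ (QuotientGroup.mk'_surjective Y))
      (fun a ha => mem_center_iff.2 fun b => Subtype.ext (mem_center_iff.1 (Yc (kY a ha)) b))
      (fun a => ⟨1, Subtype.ext (Subtype.ext (Subtype.ext (J3 _ (YJ (kY _ a.2)))))⟩) ?_
    rw [← map_eq_bot_iff_of_injective (f := C.subtype.comp (K.comap (QuotientGroup.mk' Y)).subtype) _
      ((subtype_injective C).comp (subtype_injective _))]
    refine sig _ (CL.coprime_card_map_pPrimeCore _) fun j hj => ?_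
    obtain ⟨j, hj', rfl⟩ := JK hj
    rintro _ ⟨a, ha, rfl⟩
    exact ⟨_, (inferInstance : (pPrimeCore 3 _).Normal).conj_mem a ha ⟨j, hj'⟩, rfl⟩) with e | ⟨⟨e⟩⟩
  · obtain ⟨g, hg, gN⟩ := nN
    obtain ⟨p, e⟩ := e.ge (mem_top (QuotientGroup.mk ⟨g, mem_cz'.2 hg⟩ : C ⧸ Y))
    exact absurd ((mul_mem_cancel_right (inv_mem (ιN p))).1 (JN (YJ (eq e.symm)))) gN
  obtain ⟨e, b1, b2, b3⟩ := Ya.norm9 H e
  have y1 : τ e0 ≠ 1 := fun k => absurd (h.eq_one.1 k) (by decide)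
  have y3 := J3 _ (h.mJ e0)
  have : IsMulCommutative Y := ⟨⟨fun a b => Subtype.ext (mem_center_iff.1 (Yc b.2) a)⟩⟩
  have cY : Nat.card Y = 3 := by
    rw [Nat.card_congr (subgroupOfEquivOfLe (YJ.trans JC)).toEquiv, card_zpowers_three y1 y3]
  obtain ⟨X, hX⟩ := CL.gaschutz_exists Y ((M648.S0.map ((QuotientGroup.mk' Y).comp ι₀)).comap
    (QuotientGroup.mk' Y)) (QuotientGroup.le_comap_mk' _ _) (by
      rw [cY, index_comap_of_surjective _ (QuotientGroup.mk'_surjective Y)]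
      exact (Nat.Prime.coprime_iff_not_dvd Nat.prime_three).2 H.iS) (M648.S0.map ι₀)
    (eq_bot_iff.2 fun _ ⟨⟨p, _, e⟩, k⟩ => by
      rw [← e] at k ⊢
      rw [show p = 1 from (injective_iff_map_eq_one _).1 H.inj p ((QuotientGroup.eq_one_iff _).2 k), map_one]
      exact one_mem _)
    (by rw [← map_map, QuotientGroup.comap_map_mk'])
  let s₀ : Ya.A9 →* C := X.subtype.comp (hX.symm.QuotientMulEquiv.toMonoidHom.comp e.symm.toMonoidHom)
  have sq : ∀ b, (s₀ b : C ⧸ Y) = e.symm b := fun b => hX.symm.QuotientMulEquiv.symm_apply_apply _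
  let s := C.subtype.comp s₀
  have sy : ∀ b, s b * τ e0 = τ e0 * s b := fun b => mem_cz'.1 (s₀ b).2
  have sc : ∀ c : C, c.1 * (s (e c))⁻¹ ∈ zpowers (τ e0) := fun c => eq (by rw [sq, e.symm_apply_apply])
  have sv : ∀ x i, sig24 i x = -x → s (e (((QuotientGroup.mk' Y).comp ι₀) (.mk x 0))) = τ (0, x) :=
    fun x i hi => by
      obtain ⟨k, hk⟩ := sc (ι₀ (.mk x 0))
      obtain ⟨l, hl⟩ := sc (ι₀ (.mk 0 i))
      have k1 := congrArg (fun p => s (e (((QuotientGroup.mk' Y).comp ι₀) p))) (M648.mk_conj i x)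
      have k2 := congrArg (fun p => (ι₀ p : G)) (M648.mk_conj i x)
      have n : M648.mk (-x) 0 = (M648.mk x 0)⁻¹ := eq_inv_of_mul_eq_one_left (by
        rw [← M648.mk_add, neg_add_cancel]; rfl)
      simp only [hi, n, map_mul, map_inv, coe_mul, coe_inv] at k1 k2
      change _ = _ * (s (e (((QuotientGroup.mk' Y).comp ι₀) (.mk x 0))))⁻¹ at hk
      change _ = _ * (s (e (((QuotientGroup.mk' Y).comp ι₀) (.mk 0 i))))⁻¹ at hl
      generalize e (((QuotientGroup.mk' Y).comp ι₀) (.mk x 0)) = a at *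
      generalize e (((QuotientGroup.mk' Y).comp ι₀) (.mk 0 i)) = b at *
      have cz : ∀ (n : ℤ) b, Commute (τ e0 ^ n) (s b) := fun n b =>
        ((show Commute (s b) (τ e0) from sy b).zpow_right n).symm
      rw [← ι0, eq_mul_of_mul_inv_eq hk.symm]
      rw [eq_mul_of_mul_inv_eq hk.symm, eq_mul_of_mul_inv_eq hl.symm, mul_assoc (τ e0 ^ l),
        (((Commute.refl _).zpow_zpow _ _).mul_right (cz l a) |> (cz l b).mul_right).eq, mul_inv_rev,
        (cz l b).inv_inv.symm.eq, ← mul_assoc, mul_inv_cancel_right, ← mul_assoc, ← (cz k b).eq, mul_assoc,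
        mul_assoc, ← mul_assoc (s b), k1, mul_inv_rev, (cz k a).inv_inv.symm.eq, mul_left_inj] at k2
      have k3 : (τ e0 ^ k) ^ 3 = 1 := by rw [← zpow_natCast, zpow_comm, zpow_natCast, y3, one_zpow]
      rw [pow_three'] at k3
      nth_rewrite 1 [k2] at k3
      rw [inv_mul_cancel, one_mul] at k3
      exact ((congrArg (· * s a) k3).trans (one_mul _)).symm
  have s1 := sv (1, 0, 0) 6 (by decide +kernel)
  have s2 := sv (0, 1, 0) 18 (by decide +kernel)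
  have s3 := sv (0, 0, 1) 12 (by decide +kernel)
  obtain ⟨Φ, h1, h2, h3⟩ := Ya.fin s ((subtype_injective C).comp fun a b k => e.symm.injective (by
      rw [← sq, ← sq, k])) y3 y1 sy
    (fun b k => e.symm.injective (by rw [← sq, map_one]; exact (QuotientGroup.eq_one_iff _).2 k))
    (fun g k => ⟨_, sc ⟨g, mem_cz'.2 k⟩⟩) r2 ((hr e0).trans (by rw [(ap_e _).1, h.neg])) fun g k k' =>
      no g (act_of_basis h.add (k.trans (h.neg _).symm)
        (by rw [mul_inv_eq_iff_eq_mul]; exact s1 ▸ k' _) (by rw [mul_inv_eq_iff_eq_mul]; exact s2 ▸ k' _)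
        (by rw [mul_inv_eq_iff_eq_mul]; exact s3 ▸ k' _))
  exact ⟨Φ, h1, h2, (h3 _ _ (by rw [Ya.vals.2.1, b1])).trans s1, (h3 _ _ (by rw [Ya.vals.2.2.1, b2])).trans s2,
    (h3 _ _ (by rw [Ya.vals.2.2.2, b3])).trans s3⟩

end CL.HN3
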