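import Mathlib
import Cfsg.Agent.PERM.HN3G
import Cfsg.Agent.PERM.HN3Y
import Cfsg.Agent.PERM.HN3T
import Cfsg.Agent.PERM.McL3M
import Cfsg.Agent.PLOC.PNormal

/-! The three-local characterization of the Harada–Norton group: the alternating subgroup. -/

set_option autoImplicit false
set_option linter.unusedSectionVars false
set_option synthInstance.maxSize 8192
set_option maxRecDepth 100000
open Subgroup CL.McL3 CL.HU
open CL.Odd hiding e3

namespace CL.HN3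

variable {G : Type*} [Group G]

def D1 : Mt := (e0, e1, -e2, -e3)
def D2 : Mt := (-e0, -e1, e2, e3)

theorem mc4 : (∀ i, SimP (Rm i)) ∧ SimP D2 ∧ mm D2 D2 = I4 ∧ ¬ SimP (-e0, e1, e2, e3) ∧
    mm (mm AI D2) (mp AI 3) = D1 ∧ (∀ i j, mm (Um i j) TT = mm TT (Um i j) → Um i j = I4) ∧
    (∀ u, ap TT u = u → u ≠ 0 → bp u u = 0 → ∀ v, ap TT v = v → v ≠ 0 → bp v v = 0 →
      (u = zv ∨ u = -zv) ∨ (v = zv ∨ v = -zv) ∨ v = u ∨ v = -u) ∧
    (∀ a, ap TT a = a → ∀ b, ap TT b = b → ∃ p q : ZMod 3, bp (p • a + q • b) (p • a + q • b) = 0 ∧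
      bp (p • e0 + q • e1) (p • e0 + q • e1) ≠ 0) ∧
    (∀ i j, ((∃ k : ZMod 3, xv + -sv + ap (Um i j) sv = k • zv) →
      ap (Um i j) e3 = e3 ∧ ap (Um i j) xv ≠ xv) ∧ ((∃ k : ZMod 3, e3 + -sv + ap (Um i j) sv = k • zv) →
      ap (Um i j) e3 ≠ e3 ∧ ap (Um i j) xv = xv)) := by decide +kernel

namespace Fr

variable {S Q L J : Subgroup G} {z : G} {π : L →* SL5} {τ : V4 → G} (h : Fr S Q L J z π τ) [Finite G]
include h

theorem exists_alt : ∃ Λ : A12 →* G, Function.Injective Λ ∧ Λ (el kc0) = τ e0 ∧ Λ (el kc1) = τ e1 ∧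
    Λ (el kc2) = τ e2 ∧ Λ (el kc3) = τ e3 ∧ ∀ g, NZ (τ e0) g → g ∈ Λ.range := by
  obtain ⟨m1, -, m3, m4, m5, m6, -⟩ := mc3
  obtain ⟨w, hw, w2⟩ := h.exI m1 m6
  obtain ⟨r, hr, r2⟩ := h.exI mc4.2.1 mc4.2.2.1
  obtain ⟨Φ, H, f0, f1, f2, f3⟩ := exists_N9 h.toCo (fun _ => h.toHJ.CJ) hw w2 (fun i => h.all _ (mc4.1 i))
    (fun g hg e => (h.sim g hg).elim fun A a => (a.2.rot ((h.toCo.fix a.1).1 e)).imp fun _ => a.1.congr)
    h.sig h.two hr r2 fun g e => (h.sim g (h.toCo.mem_N e)).elim fun A a =>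
      mc4.2.2.2.1 (h.toCo.uniq a.1 e ▸ a.2)
  have k : ∀ {p c} (g : G), (evB p && evB p && Nat.beq (cm p p) c1) = true →
      (evB p && evB kc0 && Nat.beq (cj p kc0) c) = true →
      N9 (el c) fun a => g * Φ (el p * a * (el p)⁻¹) * g⁻¹ := fun {p c} g e1 e2 => by
    have := H.cj (el p) g
    rw [el_conj e2] at this
    simpa only [el_inv e1] using this
  have v : ∀ {p a b g P x y}, Act τ g P → Φ (el b) = τ x → (evB p && evB a && Nat.beq (cj p a) b) = true →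
      ap P x = y → g * Φ (el p * el a * (el p)⁻¹) * g⁻¹ = τ y := fun e1 e2 e3 e4 => by
    rw [el_conj e3, e2, e1, e4]
  obtain ⟨g1, a1⟩ := h.all _ m3
  obtain ⟨g2, a2⟩ := h.all _ m4
  obtain ⟨g3, a3⟩ := h.all _ m5
  exact exists_A12 (k (p := 0x876ba9210543) g1 (by decide +kernel) (by decide +kernel))
    (k (p := 0x543210ba9876) g2 (by decide +kernel) (by decide +kernel))
    (k (p := 0x210543876ba9) g3 (by decide +kernel) (by decide +kernel))
    ⟨v a1 f1 (by decide +kernel) (by decide), v a1 f0 (by decide +kernel) (by decide),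
      v a1 f3 (by decide +kernel) (by decide), v a1 f2 (by decide +kernel) (by decide)⟩
    ⟨v a2 f2 (by decide +kernel) (by decide), v a2 f3 (by decide +kernel) (by decide),
      v a2 f0 (by decide +kernel) (by decide), v a2 f1 (by decide +kernel) (by decide)⟩
    ⟨v a3 f3 (by decide +kernel) (by decide), v a3 f2 (by decide +kernel) (by decide),
      v a3 f1 (by decide +kernel) (by decide), v a3 f0 (by decide +kernel) (by decide)⟩

section T
variable {t : G} (aT : Act τ t TT)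
include aT

theorem sylT : ¬ 3 ∣ (J ⊓ cz t).relIndex (cz t) := by
  have co := h.toCo
  have mP : ∀ {u}, τ u ∈ J ⊓ cz t ↔ ap TT u = u := fun {u} =>
    (and_iff_right (co.mJ u)).trans (mem_cz_comm.trans (mem_cz'.trans (co.fix aT)))
  refine SylowRel.not_dvd_relIndex_of_normalizer (h.toHJ.pJ.to_le inf_le_left) inf_le_right
    fun x hx xN ⟨n, hn⟩ => ⟨?_, hx⟩
  have k : ∀ {x}, x ∈ Nm (J ⊓ cz t) → ∃ u, x * z * x⁻¹ = τ u ∧ ap TT u = u ∧ u ≠ 0 ∧ bp u u = 0 :=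
    fun {x} xN => by
      have m := Tr.conj_mem_of_mem_normalizer xN (mP (u := zv).2 (by decide))
      obtain ⟨u, hu⟩ := (h.mem _).1 m.1
      refine ⟨u, h.τz ▸ hu.symm, mP.1 (hu ▸ m), fun e => h.z1 ?_, (h.sing hu.symm).2 (by decide)⟩
      rwa [e, co.zero, eq_comm, conj_eq_one_iff, h.τz] at hu
  have n2 : NZ z (x * x) := by
    obtain ⟨u, u0, u1, u2, u3⟩ := k xN
    obtain ⟨v, v0, v1, v2, v3⟩ := k (inv_mem xN)
    have f : ∀ {x u}, x * z * x⁻¹ = τ u → u = zv ∨ u = -zv → NZ z x := fun e c =>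
      c.imp (fun c => by rw [e, c, h.τz]) fun c => by rw [e, c, co.neg, h.τz]
    rcases mc4.2.2.2.2.2.2.1 u u1 u2 u3 v v1 v2 v3 with e | e | e | e
    · exact (f u0 e).mul (f u0 e)
    · simpa using ((f v0 e).mul (f v0 e)).inv
    · exact .inl (by
        calc _ = x * (x * z * x⁻¹) * x⁻¹ := by group
          _ = z := by rw [u0, ← e, ← v0]; group)
    · exact .inr (by
        calc _ = x * (x * z * x⁻¹) * x⁻¹ := by group
          _ = z⁻¹ := by rw [u0, ← neg_neg u, ← e, co.neg, ← v0]; group)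
  have xz : x * z = z * x := by
    have c : Commute (x * x) z := n2.three h.z1 h.z3 (k := n) (by rw [(Commute.refl x).mul_pow, hn, one_mul])
    obtain ⟨m, hm⟩ : Odd (3 ^ n) := Odd.pow (by decide)
    have := c.pow_left (m + 1)
    rwa [← pow_two, ← pow_mul, show 2 * (m + 1) = 2 * m + 1 + 1 from rfl, pow_succ, ← hm, hn, one_mul] at this
  obtain ⟨a, b, e⟩ := h.actS x (h.toHJ.memS (h.toHJ.nS_N (h.toHJ.nzS (.of_comm xz) (co.mJ sv)
    (fun e => h.sQ (h.ZQ e)) (Tr.conj_mem_of_mem_normalizer xN (mP.2 (by decide))).1)) xz hn)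
  exact h.toHJ.act_I co (e.congr (mc4.2.2.2.2.2.1 a b (co.uniq (e.mul aT) (mem_cz'.1 hx ▸ aT.mul e))))

theorem nut {v : G} (e0' : v * τ e0 = τ e0 * v) (e1' : v * τ e1 = τ e1 * v) : ¬ IsConj t v := fun c => by
  have co := h.toCo
  obtain ⟨u, rfl⟩ := isConj_iff.1 c
  obtain ⟨l, -, hl⟩ := Tr.exists_conj_le_sylowIn (h.toHJ.pJ.to_le inf_le_left) (h.sylT aT)
    (Q := (J ⊓ cz (u * t * u⁻¹)).map (MulAut.conj u⁻¹).toMonoidHom)
    ((h.toHJ.pJ.to_le inf_le_left).map _) (by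
      rintro _ ⟨x, hx, rfl⟩
      simpa [mul_assoc] using conj_mem_cz u⁻¹ hx.2)
  have k : ∀ {x}, u * t * u⁻¹ * τ x = τ x * (u * t * u⁻¹) →
      ∃ a, l * u⁻¹ * τ x * (l * u⁻¹)⁻¹ = τ a ∧ ap TT a = a := fun {x} e => by
    have m := hl _ ⟨_, ⟨co.mJ x, mem_cz'.2 e.symm⟩, rfl⟩
    obtain ⟨a, ha⟩ := (h.mem _).1 m.1
    exact ⟨a, by rw [ha]; simp [mul_assoc], (co.fix aT).1 (mem_cz'.1 (ha ▸ m.2)).symm⟩
  obtain ⟨a, a1, a2⟩ := k e0'
  obtain ⟨b, b1, b2⟩ := k e1'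
  obtain ⟨p, q, e, e'⟩ := mc4.2.2.2.2.2.2.2.1 a a2 b b2
  refine e' ((h.sing (g := l * u⁻¹) ?_).1 e)
  rw [h.add, h.add, co.smul, co.smul, co.smul, co.smul, ← a1, ← b1, conj_pow, conj_pow, conj_mul]

theorem braid {r d : G} (rz : r * z = z * r) (rr : r * r = t) (rN : r ∉ Nm J) (hd : d ∈ zpowers z)
    (e : (r * τ sv) ^ 3 = d ∨ (r * τ sv) ^ 3 = d * t) {v : V4} (v1 : bp zv v = 0) (v2 : ap TT v = -v) :
    ∃ i j, (∃ k : ZMod 3, v + -sv + ap (Um i j) sv = k • zv) ∧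
      ∀ y, r * τ v * r⁻¹ * τ y = τ y * (r * τ v * r⁻¹) ↔ ap (Um i j) y = y := by
  have co := h.toCo
  have xQ := (h.τQ v).2 v1
  have tx : t * τ v * t⁻¹ = (τ v)⁻¹ := by rw [aT, v2, co.neg]
  have cQ := h.nQ r (.of_comm rz) _ xQ
  have xJ := co.mJ v
  have sJ := co.mJ sv
  have sx : τ sv * τ v = τ v * τ sv := co.comm _ _
  have rc : r⁻¹ * (τ v)⁻¹ * r = r * τ v * r⁻¹ := by rw [← tx, ← rr]; group
  have e1 : r * (τ sv * (r * τ v * r⁻¹) * (τ sv)⁻¹) * r⁻¹ =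
      (τ sv)⁻¹ * (r⁻¹ * ((r * τ sv) ^ 3 * τ v * ((r * τ sv) ^ 3)⁻¹) * r) * τ sv := by
    calc _ = r * τ sv * r * (τ v * τ sv) * (r * τ sv * r * τ sv)⁻¹ := by group
      _ = _ := by rw [← sx, pow_three]; group
  have k : ∀ c', c' ∈ Q → r⁻¹ * c'⁻¹ * r ∈ J →
      r * (τ sv * (r * τ v * r⁻¹) * (τ sv)⁻¹) * r⁻¹ = (τ sv)⁻¹ * c' * τ sv →
      ∃ i j, (∃ k : ZMod 3, v + -sv + ap (Um i j) sv = k • zv) ∧ Act τ c' (Um i j) := fun c' h1 h2 h3 => by
    obtain ⟨i, j, a⟩ := h.actS c' (h.QS h1)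
    refine ⟨i, j, h.zp'.1 (by_contra fun n => rN ((Nm J).inv_mem_iff.1 (h.toHJ.nS_N
      (h.toHJ.nzS (NZ.of_comm rz).inv (co.mJ _) n ?_)))), a⟩
    have := mul_mem (mul_mem (Tr.inv_conj_mem_of_mem_normalizer (h.toHJ.SN (h.QS cQ)) sJ) (inv_mem sJ)) h2
    rw [h.add, h.add, co.neg, ← a]
    convert this using 1
    calc _ = (r⁻¹ * (τ v)⁻¹ * r)⁻¹ * r⁻¹ * ((τ sv)⁻¹ * c' * τ sv) * c'⁻¹ * r := by group
      _ = _ := by rw [rc, ← h3]; group
  have dx := zp_comm hd (h.zS _ (h.QS xQ))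
  rcases e with e | e <;> rw [e] at e1
  · obtain ⟨i, j, a, b⟩ := k _ (inv_mem cQ) (by simpa [mul_assoc] using xJ) (by
      rw [e1, ← dx, mul_inv_cancel_right, ← rc]; group)
    exact ⟨i, j, a, fun y => by rw [← co.fix b]; exact ⟨fun e => (Commute.inv_left e).eq,
      fun e => by simpa using (Commute.inv_left e).eq⟩⟩
  · obtain ⟨i, j, a, b⟩ := k _ cQ (by simpa [mul_assoc] using xJ) (by
      rw [e1, show d * t * τ v * (d * t)⁻¹ = d * (t * τ v * t⁻¹) * d⁻¹ by group, tx,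
        ← (show Commute (τ v) d from dx).inv_left.eq, mul_inv_cancel_right, rc])
    exact ⟨i, j, a, fun y => co.fix b⟩

end T

theorem exists_Li : ∃ (Λ : A12 →* G) (i r : G), Li Λ i r ∧ Λ (el kc0) = τ e0 ∧ Λ (el kz) = z ∧ Act τ i AI ∧
    Act τ (Λ (el kw)) W4 ∧ Rel π (Λ (el kt)) (-1) := by
  have co := h.toCo
  obtain ⟨Λ, inj, c0, c1, c2, c3, nz⟩ := h.exists_alt
  have iv : ∀ {a b x}, Λ (el a) = τ x → (evB a && evB b && Nat.beq (cm a b) HU.c1) = true →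
      Λ (el b) = τ (-x) := fun e e' => by rw [← el_inv e', map_inv, e, co.neg]
  have mu : ∀ {a b c x y w}, Λ (el a) = τ x → Λ (el b) = τ y → (evB a && evB b && Nat.beq (cm a b) c) = true →
      x + y = w → Λ (el c) = τ w := fun e1 e2 e3 e4 => by rw [← Li.mul e3, e1, e2, ← h.add, e4]
  have n0 := iv (b := 0xba9876543102) c0 (by decide +kernel)
  have n1 := iv (b := 0xba9876435210) c1 (by decide +kernel)
  have n2 := iv (b := 0xba9768543210) c2 (by decide +kernel)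
  have n3 := iv (b := 0xa9b876543210) c3 (by decide +kernel)
  have vy := mu (c := ky) c0 c1 (by decide +kernel) rfl
  have vz := (mu (c := kz) (w := zv) vy c2 (by decide +kernel) (by decide)).trans h.τz
  have vs := mu (c := ks) (w := sv) vy n2 (by decide +kernel) (by decide)
  have vx := mu (c := kx) (w := xv) c0 n1 (by decide +kernel) (by decide)
  have ac : ∀ {k a0 a1 a2 a3 x0 x1 x2 x3}, Λ (el a0) = τ x0 → Λ (el a1) = τ x1 → Λ (el a2) = τ x2 →
      Λ (el a3) = τ x3 → (evB k && evB kc0 && Nat.beq (cj k kc0) a0) = true →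
      (evB k && evB kc1 && Nat.beq (cj k kc1) a1) = true → (evB k && evB kc2 && Nat.beq (cj k kc2) a2) = true →
      (evB k && evB kc3 && Nat.beq (cj k kc3) a3) = true → Act τ (Λ (el k)) (x0, x1, x2, x3) :=
    fun a0 a1 a2 a3 b0 b1 b2 b3 => act_of_basis h.add (by rw [← c0, Li.conj b0, a0])
      (by rw [← c1, Li.conj b1, a1]) (by rw [← c2, Li.conj b2, a2]) (by rw [← c3, Li.conj b3, a3])
  have aW : Act τ (Λ (el kw)) W4 := ac n0 n1 n2 n3 (by decide +kernel) (by decide +kernel)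
    (by decide +kernel) (by decide +kernel)
  have aT : Act τ (Λ (el kt)) TT := (ac c1 c0 c2 n3 (by decide +kernel) (by decide +kernel)
    (by decide +kernel) (by decide +kernel)).congr (by decide)
  have a1 : Act τ (Λ (el ks1)) D1 := ac c0 c1 n2 n3 (by decide +kernel) (by decide +kernel)
    (by decide +kernel) (by decide +kernel)
  have a2 : Act τ (Λ (el ks2)) D2 := ac n0 n1 c2 c3 (by decide +kernel) (by decide +kernel)
    (by decide +kernel) (by decide +kernel)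
  obtain ⟨i, hi, iω⟩ := h.lw aW (by rw [← map_mul, el_sq (by decide +kernel), map_one])
    mc1.2.2.2.2.2.2.2.2.2.2.2.2.2.1
  have ii := h.uw aW ((hi.mul hi).congr mc1.2.1) aT (Commute.mul_left iω iω) (Li.comm (by decide +kernel))
  have is2 := h.uw aW (((hi.mul a2).mul (hi.inv mc1.2.2.1)).congr mc4.2.2.2.2.1) a1
    (Commute.mul_left (Commute.mul_left iω (Li.comm (by decide +kernel))) (Commute.inv_left iω))
    (Li.comm (by decide +kernel))
  have tt : Λ (el kt) * Λ (el kt) = 1 := Li.tt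
  have nut := h.nut aT (v := Λ (el kv1)) (c0 ▸ Li.comm (by decide +kernel)) (c1 ▸ Li.comm (by decide +kernel))
  obtain ⟨x, hx, x3, x1⟩ := h.relS h.sS h.sQ
  obtain ⟨b, hb⟩ := rel_of_mem π (h.cL i ((h.fz hi).2 (by decide)))
  have bx : b * x = x * x * b := by
    have := ((hb.mul hx).mul hb.inv).uniq (by
      rw [hi, show ap AI sv = -sv by decide, co.neg]; exact hx.inv)
    rw [mul_inv_eq_iff_eq_mul.1 this, eq_inv_of_mul_eq_one_left x3]
  have bb := (sl_pair x3 x1 b).2.2 bx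
  have ht := ii ▸ (hb.mul hb).congr bb
  have st : τ sv * Λ (el kt) = Λ (el kt) * τ sv := ((co.fix aT).2 (by decide)).symm
  have it : i * Λ (el kt) = Λ (el kt) * i := by rw [← ii, mul_assoc]
  generalize hT : Λ (el kt) = t at aT ii tt nut ht st it
  have tz := h.Lz t ht.mem
  obtain ⟨y, y1, y2, y3, y4, y5⟩ := sl_r x3 x1 bx
  obtain ⟨r, hr, rt, rr⟩ : ∃ r, Rel π r y ∧ r * t = t * r ∧ r * r = t := by
    obtain ⟨r, hr, rt⟩ := lift' h.toHypL ht tt y
    have m := ker h.toHypL ht (h.mem_Q ((hr.mul hr).congr y1) ht)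
      (((show Commute r t from rt).mul_left rt).mul_left (Commute.refl t).inv_left)
    generalize hd : r * r * t⁻¹ = d at m
    have c : Commute r d := zp_comm m (h.Lz r hr.mem)
    refine ⟨r * d, (hr.mul ((h.kL d).2 (h.ZQ m))).congr (mul_one y),
      Commute.mul_left rt (zp_comm m tz).symm, ?_⟩
    rw [c.symm.mul_mul_mul_comm, eq_mul_of_mul_inv_eq hd, ← zp_comm m tz, mul_assoc, ← pow_three,
      h.Q3 d (h.ZQ m), mul_one]
  have pm : ∀ {g u}, Rel π g u → u = 1 ∨ u = -1 → g * t = t * g → ∃ d ∈ zpowers z, g = d ∨ g = d * t :=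
    fun {g u} hg e c => by
      rcases e with rfl | rfl
      · exact ⟨g, ker h.toHypL ht ((h.kL g).1 hg) c, .inl rfl⟩
      · exact ⟨g * t⁻¹, ker h.toHypL ht (h.mem_Q hg ht) (Commute.mul_left c (Commute.refl t).inv_left),
          .inr (by simp)⟩
  have p3 : ∀ {g}, (∃ d ∈ zpowers z, g = d ∨ g = d * t) → g ^ 3 = 1 ∨ g ^ 3 = t := by
    rintro _ ⟨d, hd, rfl | rfl⟩
    · exact .inl (h.Q3 _ (h.ZQ hd))
    · exact .inr (by rw [(show Commute d t from (zp_comm hd tz).symm).mul_pow, h.Q3 _ (h.ZQ hd), one_mul,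
        pow_three', tt, one_mul])
  have e3 := pm ((hr.mul hx).pow 3) y4 ((Commute.mul_left rt st).pow_left 3)
  have rz := h.Lz r hr.mem
  obtain ⟨d, hd, e⟩ := id e3
  have br := fun v => h.braid aT rz rr (fun e => ((h.nS_iff hx hr).1 e).elim y2 y3) hd e (v := v)
  obtain ⟨p, q, b1, b2⟩ := br xv (by decide) (by decide)
  obtain ⟨p', q', b3, b4⟩ := br McL3.e3 (by decide) (by decide)
  have b5 := (mc4.2.2.2.2.2.2.2.2 p q).1 b1
  have b6 := (mc4.2.2.2.2.2.2.2.2 p' q').2 b3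
  subst hT
  refine ⟨Λ, i, r, ⟨inj, c0 ▸ nz, fun c => ?_, nut, ii, ?_, ?_, ?_, ?_, is2, fun g g1 g3 g2 => ?_, rr,
    vz ▸ rz, ?_, ?_, ?_, ?_, ?_, ?_⟩, c0, vz, hi, aW, ht⟩
  · obtain ⟨g, e⟩ := isConj_iff.1 c
    rw [vz, c0, ← h.τz] at e
    exact absurd ((h.sing e).2 (by decide)) (by decide)
  · rw [c0, hi, mu (c := ki0) (w := ap AI e0) n2 c3 (by decide +kernel) (by decide)]
  · rw [c1, hi, mu (c := ki1) (w := ap AI e1) n2 n3 (by decide +kernel) (by decide)]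
  · rw [c2, hi, vy]; rfl
  · rw [c3, hi, vx]; rfl
  · rw [vz] at g1 ⊢
    obtain ⟨u, hu⟩ := rel_of_mem π (h.cL g g1)
    have r := (hu.mul hb).mul hu.inv
    refine ker h.toHypL ht ((h.kL g).1 (hu.congr (sl_z bb (pow_three' u ▸ hu.pow_eq_one g3)
      (g2.imp (fun e => mul_inv_eq_iff_eq_mul.1 (r.uniq (by rwa [e])))
        fun e => mul_inv_eq_iff_eq_mul.1 (r.uniq (by rw [e]; exact hb.inv)))))) (mul_inv_eq_iff_eq_mul.1 ?_)
    rcases g2 with e | e <;> conv_lhs => rw [← ii, ← conj_mul, e]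
    exacts [ii, by rw [← mul_inv_rev, ii, inv_eq_of_mul_eq_one_right tt]]
  · rw [vs, show 9 = 3 * 3 from rfl, pow_mul]; exact p3 e3
  · rw [show 15 = 5 * 3 from rfl, pow_mul]
    exact p3 (pm ((hr.mul hb).pow 5) y5 ((Commute.mul_left rt it).pow_left 5))
  · rw [vx, c3]; exact (b2 _).2 b5.1
  · rw [vx]; exact fun e => b5.2 ((b2 _).1 e)
  · rw [c3]; exact fun e => b6.1 ((b4 _).1 e)
  · rw [vx, c3]; exact (b4 _).2 b6.2

end Fr

end CL.HN3
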