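import Mathlib
import Cfsg.Agent.PERM.HN3A

/-!
`r` normalises `E` and acts as a unipotent left multiplication.
-/

set_option autoImplicit false
set_option maxRecDepth 100000
set_option synthInstance.maxSize 2000

namespace CL.HN3

open CL.K CL.HU CL.McL3

namespace R8

variable {G : Type*} [Group G] {Λ : A12 →* G} {i r g : G} {E : Subgroup G} {κ : G → ℕ}

/-- `σ σ^z σ^(z²)` -/
noncomputable def tz (c : ℕ) : ℕ := force c fun c => force (cj kz c) fun d => cm (cm c d) (cj kz d)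

theorem evz : Ev kz := ev_of (by decide +kernel)

theorem el_tz {c : ℕ} (h : Ev c) : Ev (tz c) ∧ el (tz c) =
    el c * (el kz * el c * (el kz)⁻¹) * (el kz * (el kz * el c * (el kz)⁻¹) * (el kz)⁻¹) := by
  rw [tz, force_eq, force_eq, el_cm (h.mul (ev_cj evz h)) (ev_cj evz (ev_cj evz h)), el_cm h (ev_cj evz h),
    el_cj evz (ev_cj evz h), el_cj evz h]
  exact ⟨(h.mul (ev_cj evz h)).mul (ev_cj evz (ev_cj evz h)), rfl⟩

theorem lemB (h : Li Λ i r) (ht : Commute g (Λ (el kt))) (hz : Commute g (Λ (el kz)))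
    (h1 : Commute (g * Λ (el kx) * g⁻¹) (Λ (el kc3))) (h2 : ¬ Commute (g * Λ (el kx) * g⁻¹) (Λ (el kx))) :
    ∃ p ∈ LF, g * Λ (el kv1) * g⁻¹ = Λ (el p.1) := by
  obtain ⟨γ, e⟩ := h.nz3 (.of_comm h1)
  have ev : ∀ a ∈ [kt, kx], Ev a := fun a ha => ev_of (by revert a; decide +kernel)
  have a1 : Commute (g * Λ (el kx) * g⁻¹) (Λ (el kz)) :=
    (hz.mul_left (Li.comm (by decide +kernel))).mul_left hz.inv_left
  have a2 : cm (cm (cd γ) kt) (cd γ) = kt := by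
    rw [← cd_el (ev kt (by simp)), ← cd_mul, ← cd_mul]
    refine congrArg cd (h.inj ?_)
    rw [map_mul, map_mul, e, ← mul_inv_eq_iff_eq_mul.2 ht.eq, conj_mul, conj_mul,
      Li.mul (c := cm kx kt) (by decide +kernel), Li.mul (c := kt) (by decide +kernel)]
  have a3 : cm (cm (cd γ) (cd γ)) (cd γ) = c1 := by
    rw [← cd_one, ← cd_mul, ← cd_mul]
    refine congrArg cd (h.inj ?_)
    rw [map_mul, map_mul, e, conj_mul, conj_mul, ← pow_three', ← map_pow, el_cube (by decide +kernel)]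
    simp
  have a4 : Nat.beq (cm (cd γ) kx) (cm kx (cd γ)) = false := Bool.eq_false_iff.2 fun q => h2 (by
    rw [← e, ← el_cd γ, Commute, SemiconjBy, ← map_mul, ← map_mul, ← el_cm (ev_cd γ) (ev kx (by simp)),
      Nat.eq_of_beq_eq_true q, el_cm (ev kx (by simp)) (ev_cd γ)])
  rw [← e] at h1 a1
  have := el_solve (cons := [(kc3, kc3), (kz, kz)]) (σ := γ)
    (P := fun c => !Nat.beq (cm (cm c kt) c) kt || !Nat.beq (cm (cm c c) c) c1 || Nat.beq (cm c kx) (cm kx c) ||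
      lany (fun k => Nat.beq (cj k kz) c) [0xba9562481370, 0xba9572461380, 0xb9a852741630, 0xb9a752641830,
        0xba9582471360, 0xb9a652841730] || lany (fun p => Nat.beq (cm c p.1) (cm p.1 c)) LF)
    (by decide +kernel) (by
      simp only [List.mem_cons, List.not_mem_nil, or_false, forall_eq_or_imp, forall_eq]
      exact ⟨h.inj (by simpa using h1.eq), h.inj (by simpa using a1.eq)⟩)
  simp only [a2, a3, a4, Nat.beq_refl, Bool.not_true, Bool.false_or, Bool.or_eq_true, lany_iff,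
    Nat.beq_eq] at this
  rcases this with ⟨k, hk, q⟩ | ⟨p, hp, q⟩
  · refine absurd ?_ h.nzy
    have b1 : IsConj (Λ (el kz)) (Λ γ) := Λ.map_isConj (isConj_iff.2 ⟨el k, by
      rw [← el_cj (ev_of (by clear q; revert k; decide +kernel)) evz, q, el_cd]⟩)
    refine (b1.trans (e ▸ (isConj_iff.2 ⟨g, rfl⟩).symm)).trans ((isConj_iff.2 ⟨i, h.i3⟩).symm.trans ?_)
    exact (isConj_iff.2 ⟨_, Li.conj (k := 0x210876534ba9) (by decide +kernel)⟩).symm
  have k0 : ∀ p ∈ LF, evB p.1 = true ∧ cm p.1 kt = cm kt p.1 ∧ cm p.1 p.1 = c1 ∧ tz p.1 = c1 ∧ p.1 ≠ c1 ∧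
      ∃ p' ∈ LF, cj kz p.1 = p'.1 := by decide +kernel
  obtain ⟨b0, b1, b2, b3, b4, -⟩ := k0 p hp
  have ef := ev_of b0
  obtain ⟨m, hm⟩ : ∃ m, m = (g * i)⁻¹ := ⟨_, rfl⟩
  have mt : Commute m (Λ (el kt)) := hm ▸ (ht.mul_left h.it).inv_left
  have mz : Commute m (Λ (el kz)) := hm ▸ (hz.mul_left (mul_inv_eq_iff_eq_mul.1 h.iz)).inv_left
  have c1' : Commute (m * Λ (el p.1) * m⁻¹) (Λ (el kc3)) := by
    have : Commute (Λ (el p.1)) (Λ γ) := by
      rw [← el_cd γ, Commute, SemiconjBy, ← map_mul, ← map_mul, ← el_cm (ev_cd γ) ef, q, el_cm ef (ev_cd γ)]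
    have := this.conj m
    rwa [e, ← h.i3, show m * (g * (i * Λ (el kc3) * i⁻¹) * g⁻¹) * m⁻¹ = Λ (el kc3) by rw [hm]; group] at this
  have c2' : Commute (m * Λ (el p.1) * m⁻¹) (Λ (el kt)) :=
    (mt.mul_left (Li.comm (by rw [b0, b1]; simp; decide +kernel))).mul_left mt.inv_left
  obtain ⟨σ, s⟩ := h.nz3 (.of_comm c1')
  have d0 : ∀ x, m * (Λ (el kz) * x * (Λ (el kz))⁻¹) * m⁻¹ = Λ (el kz) * (m * x * m⁻¹) * (Λ (el kz))⁻¹ :=
    fun x => by
    rw [← mul_assoc, ← mul_assoc, mz.eq, mul_assoc, ← mul_inv_rev, mz.eq, mul_inv_rev]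
    simp only [mul_assoc]
  have d1 : tz (cd σ) = c1 := el_inj (el_tz (ev_cd σ)).1 ev_one (h.inj (by
    have := congrArg Λ (el_tz ef).2
    rw [b3, el_one, map_one] at this
    rw [(el_tz (ev_cd σ)).2, el_cd, el_one, map_one]
    simp only [map_mul, map_inv, s, ← d0, conj_mul] at this ⊢
    rw [← this, mul_one, mul_inv_cancel]))
  have d2 : cm (cd σ) (cd σ) = c1 := by
    rw [← cd_mul, ← cd_one]
    refine congrArg cd (h.inj ?_)
    rw [map_mul, s, conj_mul, ← map_mul, ← el_cm ef ef, b2, el_one]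
    simp
  rw [← s] at c1' c2'
  have := el_solve (cons := [(kc3, kc3), (kt, kt)]) (σ := σ)
    (P := fun c => !Nat.beq (cm c c) c1 || !Nat.beq (tz c) c1 || lany (Nat.beq c) [c1, ku1, ku2, ku3])
    (by decide +kernel) (by
      simp only [List.mem_cons, List.not_mem_nil, or_false, forall_eq_or_imp, forall_eq]
      exact ⟨h.inj (by simpa using c1'.eq), h.inj (by simpa using c2'.eq)⟩)
  simp only [d1, d2, Nat.beq_refl, Bool.not_true, Bool.false_or, lany_iff, Nat.beq_eq, List.mem_cons,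
    List.not_mem_nil, or_false, exists_eq_right'] at this
  have st : ∀ {a b}, (evB kz && evB a && Nat.beq (cj kz a) b) = true →
      (∃ p ∈ LF, g * Λ (el a) * g⁻¹ = Λ (el p.1)) → ∃ p ∈ LF, g * Λ (el b) * g⁻¹ = Λ (el p.1) :=
    fun ok ⟨p, hp, e⟩ => by
      obtain ⟨b0, -, -, -, -, p', hp', q⟩ := k0 p hp
      refine ⟨p', hp', ?_⟩
      rw [← Li.conj ok, ← conj_mul, ← conj_mul, ← conj_inv, e, hz.eq, mul_inv_cancel_right, ← q,
        el_cj evz (ev_of b0), map_mul, map_mul, map_inv]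
  have fin : ∀ {a b}, cd σ = a → i * Λ (el a) * i⁻¹ = Λ (el b) →
      ∃ p ∈ LF, g * Λ (el b) * g⁻¹ = Λ (el p.1) := fun q q' =>
    ⟨p, hp, by rw [← q', ← q, el_cd, s, hm]; group⟩
  rcases this with q | q | q | q
  · rw [← el_cd σ, q, el_one, map_one, eq_comm, conj_eq_one_iff, ← map_one Λ, ← el_one] at s
    exact absurd (el_inj ef ev_one (h.inj s)) b4
  · exact fin q h.iu1
  · exact st (a := kv3) (by decide +kernel) (st (by decide +kernel) (fin q h.iu2))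
  · exact st (by decide +kernel) (fin q h.iu3)

/-- the sum over a subset -/
noncomputable def xs (L : List ℕ) (s : ℕ) : ℕ := force s fun s =>
  Nat.rec (motive := fun _ => ℕ) 0 (fun i ih => Nat.xor (Nat.mul (bit s i) (L.getD i 0)) ih) 8

theorem xs_ind {P : ℕ → ℕ → Prop} {B I : List ℕ} (h0 : P 0 0)
    (h1 : ∀ a b c d, P a b → P c d → P (a ^^^ c) (b ^^^ d)) (h2 : ∀ i < 8, P (B.getD i 0) (I.getD i 0))
    (s : ℕ) : P (xs B s) (xs I s) := by
  rw [xs, xs, force_eq, force_eq]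
  have : ∀ n ≤ 8, P
      (Nat.rec (motive := fun _ => ℕ) 0 (fun i ih => Nat.xor (Nat.mul (bit s i) (B.getD i 0)) ih) n)
      (Nat.rec (motive := fun _ => ℕ) 0 (fun i ih => Nat.xor (Nat.mul (bit s i) (I.getD i 0)) ih) n) := by
    intro n hn
    induction n with
    | zero => exact h0
    | succ n ih =>
      refine h1 _ _ _ _ ?_ (ih (by omega))
      obtain e | e : bit s n = 0 ∨ bit s n = 1 := by rw [bit_eq]; split_ifs <;> simp
      · simpa [e] using h0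
      · simpa [e] using h2 n hn
  exact this 8 le_rfl

/-- the tests -/
noncomputable def ck0 (f : ℕ → ℕ) : Bool :=
  anyLt (fun X => HK.q (f X) != HK.q X) 256 ||
    lany (fun g => allLt (fun X => Nat.beq (f X) (HK.mm g X)) 256) [69, 73, 77, 81, 97, 113] ||
    anyLt (fun X => !Nat.beq ((f ∘ HK.mm 194)^[9] X) X) 256 ||
    anyLt (fun X => !Nat.beq ((f ∘ HK.mm 20)^[15] X) X) 256

/-- the basis test -/
noncomputable def ck1 (B I : List ℕ) : Bool :=
  force (orLt (fun s => Nat.shiftLeft s (Nat.mul 8 (xs B s))) 256) fun S =>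
    allLt (fun X => Nat.beq (xs B (fld 8 255 S X)) X) 256 && ck0 fun X => xs I (fld 8 255 S X)

theorem ck2 : lall (fun p => lall (fun p' => force (HK.mm p.2 194) fun a => force (HK.mm 20 p'.2) fun g =>
    force (HK.mm g 194) fun b => ck1 [20, 44, p.2, a, 65, 194, g, b] [p.2, a, 20, 44, g, b, 65, 194]) LF) LF =
    true := by decide +kernel

theorem NA.mul {t g' : G} {f f' : ℕ → ℕ} (h : NA t E κ g f) (h' : NA t E κ g' f') :
    NA t E κ (g * g') (f ∘ f') :=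
  ⟨fun y hy => by simpa [mul_assoc] using h.1 _ (h'.1 y hy), h.2.mul h'.1 h'.2⟩

theorem NA.pow {t : G} {f : ℕ → ℕ} (h : NA t E κ g f) (n : ℕ) : NA t E κ (g ^ n) f^[n] := by
  induction n with
  | zero => exact ⟨by simp, by simp, by simp⟩
  | succ n ih => rw [pow_succ]; exact NA.mul ih h

end R8

open R8 in
theorem Ex.exists_unip {G : Type*} [Group G] {Λ : A12 →* G} {i r : G} {E : Subgroup G} {κ : G → ℕ}
    (h : Ex Λ i r E κ) : ∃ g, NA (Λ (el kt)) E κ g (HK.mm 69) := by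
  have k := h.toEK
  have rt : Commute r (Λ (el kt)) := h.rr ▸ (Commute.refl r).mul_right (.refl r)
  have rz : Commute r (Λ (el kz)) := h.rz
  have it : Commute i (Λ (el kt)) := h.it
  have iz : Commute i (Λ (el kz)) := mul_inv_eq_iff_eq_mul.1 h.iz
  obtain ⟨p, hp, e1⟩ := lemB h.toLi rt rz h.rx h.rx'
  have e0 : i⁻¹ * r * i * Λ (el kx) * (i⁻¹ * r * i)⁻¹ = i⁻¹ * (r * Λ (el kc3) * r⁻¹)⁻¹ * i⁻¹⁻¹ := by
    rw [conj_inv, ← h.ix]; group
  obtain ⟨p', hp', e2⟩ := lemB h.toLi ((it.inv_left.mul_left rt).mul_left it)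
    ((iz.inv_left.mul_left rz).mul_left iz) (by
      have := (show Commute _ _ from h.rc).inv_left.conj i⁻¹
      rwa [← e0, show i⁻¹ * Λ (el kx) * i⁻¹⁻¹ = Λ (el kc3) by rw [← h.i3]; group] at this) fun q => by
      have := (e0 ▸ q).conj i
      rw [h.ix, show ∀ x, i * (i⁻¹ * x * i⁻¹⁻¹) * i⁻¹ = x from fun x => by group] at this
      exact h.rc' (Commute.inv_inv_iff.1 this)
  have e3 : r * Λ (el ku1) * r⁻¹ = i * Λ (el p'.1) * i⁻¹ := by rw [← e2, ← h.iv1]; group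
  let P : ℕ → ℕ → Prop := fun X Y => ∃ y ∈ E, κ y = X ∧ r * y * r⁻¹ ∈ E ∧ κ (r * y * r⁻¹) = Y
  have sw : ∀ {X Y}, P X Y → P Y X := fun ⟨y, a, b, c, d⟩ => by
    have : r * (r * y * r⁻¹) * r⁻¹ = y := by
      rw [show r * (r * y * r⁻¹) * r⁻¹ = (r * r) * y * (r * r)⁻¹ by group, h.rr, ← k.ct y a,
        mul_inv_cancel_right]
    exact ⟨_, c, d, this.symm ▸ a, this.symm ▸ b⟩
  have zt : ∀ {X Y}, P X Y → P (HK.mm X 194) (HK.mm Y 194) := fun ⟨y, a, b, c, d⟩ => by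
    have : r * (Λ (el kz) * y * (Λ (el kz))⁻¹) * r⁻¹ = Λ (el kz) * (r * y * r⁻¹) * (Λ (el kz))⁻¹ := by
      rw [← mul_assoc, ← mul_assoc, rz.eq, mul_assoc, ← mul_inv_rev, rz.eq, mul_inv_rev]
      simp only [mul_assoc]
    exact ⟨_, h.aZ.1 y a, b ▸ h.aZ.2.2 y a, this ▸ h.aZ.1 _ c, this ▸ d ▸ h.aZ.2.2 _ c⟩
  have p1 : P 20 p.2 := ⟨_, h.v1.1, h.v1.2, e1 ▸ (h.kF p hp).1, e1 ▸ (h.kF p hp).2⟩
  have p2 : P 65 (HK.mm 20 p'.2) := ⟨_, h.u1.1, h.u1.2, e3 ▸ h.aI.1 _ (h.kF p' hp').1,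
    e3 ▸ (h.kF p' hp').2 ▸ h.aI.2.2 _ (h.kF p' hp').1⟩
  have p3 := zt p1
  have p4 := zt p2
  rw [show HK.mm 20 194 = 44 by decide +kernel] at p3
  rw [show HK.mm 65 194 = 194 by decide +kernel] at p4
  have := lall_iff.1 (lall_iff.1 ck2 p hp) p' hp'
  simp only [force_eq, ck1, Bool.and_eq_true, allLt_iff, Nat.beq_eq] at this
  obtain ⟨c1, c2⟩ := this
  have al := xs_ind (P := P) (B := [20, 44, p.2, HK.mm p.2 194, 65, 194, HK.mm 20 p'.2,
      HK.mm (HK.mm 20 p'.2) 194]) (I := [p.2, HK.mm p.2 194, 20, 44, HK.mm 20 p'.2,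
      HK.mm (HK.mm 20 p'.2) 194, 65, 194]) ⟨1, one_mem _, k.κ_one, by simp, by simpa using k.κ_one⟩
    (fun _ _ _ _ ⟨x, a, b, c, d⟩ ⟨y, a', b', c', d'⟩ => ⟨_, mul_mem a a', b ▸ b' ▸ k.mul x a y a',
      by rw [← conj_mul]; exact mul_mem c c', by rw [← conj_mul, k.mul _ c _ c', d, d']⟩) fun j hj => by
      interval_cases j
      exacts [p1, p3, sw p1, sw p3, p2, p4, sw p2, sw p4]
  generalize orLt _ 256 = S at c1 c2
  obtain ⟨f, hf⟩ : ∃ f, f = fun X => xs [p.2, HK.mm p.2 194, 20, 44, HK.mm 20 p'.2,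
      HK.mm (HK.mm 20 p'.2) 194, 65, 194] (fld 8 255 S X) := ⟨_, rfl⟩
  rw [← hf] at c2
  have nr : NA (Λ (el kt)) E κ r f := by
    have : ∀ y ∈ E, r * y * r⁻¹ ∈ E ∧ κ (r * y * r⁻¹) = f (κ y) := fun y hy => by
      obtain ⟨x, a, b, c, d⟩ := al (fld 8 255 S (κ y))
      rw [c1 _ (k.lt y hy)] at b
      rcases k.eq_or hy a b.symm with q | q
      · exact ⟨q ▸ c, hf ▸ (congrArg (fun y => κ (r * y * r⁻¹)) q).trans d⟩
      · have : r * y * r⁻¹ = r * x * r⁻¹ * Λ (el kt) := by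
          rw [q, ← conj_mul, rt.eq, mul_inv_cancel_right]
        exact ⟨this ▸ mul_mem c k.tE, by rw [this, k.κ_mul_t c, d, hf]⟩
    exact ⟨fun y hy => (this y hy).1, rt, fun y hy => (this y hy).2⟩
  have od : ∀ {g f} n, NA (Λ (el kt)) E κ g f → (g ^ n = 1 ∨ g ^ n = Λ (el kt)) → ∀ X < 256, f^[n] X = X :=
    fun n a b X hX => (NA.pow a n).2.unique k
      (k.ac_mem (by rcases b with b | b <;> rw [b]; exacts [one_mem _, k.tE])) hX
  simp only [ck0, Bool.or_eq_true, anyLt_iff, lany_iff, allLt_iff, Nat.beq_eq, bne_iff_ne, Bool.not_eq_true',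
    Bool.eq_false_iff] at c2
  rcases c2 with ((⟨X, hX, q⟩ | ⟨g, hg, q⟩) | ⟨X, hX, q⟩) | ⟨X, hX, q⟩
  · obtain ⟨y, hy, rfl⟩ := k.surj X hX
    refine absurd (Bool.eq_iff_iff.2 ?_) q
    rw [← nr.2.2 y hy, ← k.sq_t (nr.1 y hy), ← k.sq_t hy, conj_mul, mul_inv_eq_iff_eq_mul, ← rt.eq,
      mul_right_inj]
  swap
  · exact absurd (Nat.beq_eq ▸ od 9 (NA.mul nr h.aS) h.rs X hX) q
  swap
  · exact absurd (Nat.beq_eq ▸ od 15 (NA.mul nr h.aI) h.ri X hX) q
  have n1 : NA (Λ (el kt)) E κ r (HK.mm g) := ⟨nr.1, nr.2.congr k q⟩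
  have fin : ∀ {g f}, NA (Λ (el kt)) E κ g f → (∀ X < 256, f X = HK.mm 69 X) →
      ∃ g, NA (Λ (el kt)) E κ g (HK.mm 69) := fun a b => ⟨_, a.1, a.2.congr k b⟩
  have S := h.aS
  have I := h.aI
  simp only [List.mem_cons, List.not_mem_nil, or_false] at hg
  rcases hg with rfl | rfl | rfl | rfl | rfl | rfl
  · exact ⟨r, n1⟩
  · exact fin (NA.mul S (NA.mul n1 (NA.mul S S))) (by decide +kernel)
  · exact fin (NA.mul S (NA.mul S (NA.mul n1 S))) (by decide +kernel)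
  · exact fin (NA.mul I (NA.mul n1 I)) (by decide +kernel)
  · exact fin (NA.mul S (NA.mul (NA.mul I (NA.mul n1 I)) (NA.mul S S))) (by decide +kernel)
  · exact fin (NA.mul S (NA.mul S (NA.mul (NA.mul I (NA.mul n1 I)) S))) (by decide +kernel)

end CL.HN3
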