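import Cfsg.Agent.INV.ZD.BT0
import Cfsg.Agent.CHEV.PSUnit
import Cfsg.Agent.INV.Bender.Cons
import Cfsg.Agent.TECH.SylIn

/-! Coordinates for a simple subgroup `N` with trivial intersection Sylow 2-subgroups, written in
the ambient group. -/

set_option autoImplicit false
open Cfsg MulAction Subgroup CL.MSS

namespace CL.Hir

variable {G : Type*} [Group G]

/-- `S` is a trivial intersection subgroup of `N`. -/
def TI (N S : Subgroup G) : Prop :=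
  ∀ g ∈ N, ∀ x ∈ S, x ≠ 1 → g * x * g⁻¹ ∈ S → g ∈ normalizer (S : Set G)

/-- The complement `D = N ∩ N(S) ∩ N(S^t)`. -/
abbrev Dt (N S : Subgroup G) (t : G) : Subgroup G :=
  N ⊓ normalizer (S : Set G) ⊓ normalizer ((t •ᶜ S : Subgroup G) : Set G)

/-- Coordinates in the unitary case. -/
structure U0 (N S : Subgroup G) (t : G) {F : Type} [Field F] (z : F → G) (κ : Fˣ →* G) (q : ℕ)
    {E : Type} [Field E] (X : G → E) (ι : F →+* E) (c ω : E) (χ : Fˣ → E) (ζ : G) : Prop where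
  add : ∀ x ∈ S, ∀ y ∈ S, X (x * y) = X x + X y
  zero : ∀ x ∈ S, X x = 0 ↔ x * x = 1
  surj : ∀ e, ∃ x ∈ S, X x = e
  sq : ∀ x ∈ S, ∃ u, z u = x * x ∧ ι u = c * (X x ^ q * X x)
  hκ : ∀ a, ∀ x ∈ S, X (κ a * x * (κ a)⁻¹) = χ a * X x
  χ_sq : ∀ a, χ a * χ a = ι a
  χ_pow : ∀ a, χ a ^ q = χ a
  χ_surj : ∀ e, e ^ q = e → e ≠ 0 → ∃ a, χ a = e
  ζD : ζ ∈ Dt N S t
  ζz : ∀ u, ζ * z u = z u * ζ
  hζ : ∀ x ∈ S, X (ζ * x * ζ⁻¹) = ω * X x
  hω : ω * ω ^ q = 1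
  hω1 : ω ≠ 1

/-- Coordinates for `N` and its Sylow 2-subgroup `S`. -/
structure B0 (N S : Subgroup G) (n j : ℕ) (z : GaloisField 2 n → G) (κ : (GaloisField 2 n)ˣ →* G)
    (t : G) : Prop where
  simple : IsSimpleGroup N
  syl : SylIn 2 S N
  ti : TI N S
  two_le : 2 ≤ n
  jc : j = 1 ∨ j = 2 ∨ j = 3
  cardS : Nat.card S = (2 ^ n) ^ j
  z_add : ∀ x y, z (x + y) = z x * z y
  z_inj : Function.Injective z
  memz : ∀ g, (∃ x, z x = g) ↔ g ∈ S ∧ g * g = 1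
  cen : ∀ x, ∀ s ∈ S, z x * s = s * z x
  sq : ∀ x ∈ S, x * x * (x * x) = 1
  conj_z : ∀ c x, κ c * z x * (κ c)⁻¹ = z (c * x)
  κD : ∀ c, κ c ∈ Dt N S t
  tN : t ∈ N
  tS : t ∉ normalizer (S : Set G)
  reg : ∀ g ∈ N, g ∉ normalizer (S : Set G) → ∃ s ∈ S, g •ᶜ S = s •ᶜ (t •ᶜ S)
  char : ∀ d ∈ Dt N S t, d ^ (2 ^ n - 1) = 1 → ∃ c, κ c = d
  small : j ≤ 2 → ∀ d ∈ Dt N S t, ∃ c, κ c = d
  sz : j = 2 → Odd n
  nonab : 2 ≤ j → ∃ x ∈ S, ∃ y ∈ S, x * y ≠ y * x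
  u3 : j = 3 → ∃ (E : Type) (_ : Field E) (_ : Fintype E) (_ : CharP E 2) (X : G → E)
    (ι : GaloisField 2 n →+* E) (c ω : E) (χ : (GaloisField 2 n)ˣ → E) (ζ : G),
    Fintype.card E = (2 ^ n) ^ 2 ∧ U0 N S t z κ (2 ^ n) X ι c ω χ ζ

theorem mem_normalizer_map_subtype {N : Subgroup G} (Q : Subgroup N) (g : N) :
    (g : G) ∈ normalizer ((Q.map N.subtype : Subgroup G) : Set G) ↔ g ∈ normalizer (Q : Set N) := by
  rw [mem_normalizer_iff_cj, mem_normalizer_iff_cj, ← subtype_map_cj,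
    (map_injective N.subtype_injective).eq_iff]

variable [Finite G]

theorem b0_of_setup {N : Subgroup G} (hN : IsSimpleGroup N) {Δ : Type*} [MulAction N Δ] {a : Δ}
    {t : N} {Q : Subgroup N} (hS : IsRankOneSetup N Δ a t Q) (hP : IsPGroup 2 Q) :
    ∃ n j z κ, B0 N (Q.map N.subtype) n j z κ t := by
  classical
  have := PS.faithful_of_simple hS
  obtain ⟨n, j, ⟨C⟩, h⟩ := PS.exists_FD hS (PS.rank2_of_simple hS) (PS.Lg_eq_top hS)
  have hF : Nat.card (GaloisField 2 n) = 2 ^ n := GaloisField.card 2 n (by have := h.two_le; omega)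
  obtain ⟨s0, hs0, hs1, -⟩ := PS.exists_involution_Q hS
  have m : ∀ g : N, (g : G) ∈ Q.map N.subtype ↔ g ∈ Q := fun g =>
    mem_map_iff_mem N.subtype_injective
  have n0 : ∀ g : N, g ∈ normalizer (Q : Set N) ↔ g • a = a := fun g =>
    ⟨fun hg => PS.smul_a_of_conj_mem hS (PS.smul_a_of_mem_Q hS hs0) hs1
      ((mem_normalizer_iff.1 hg s0).1 hs0), fun hg => le_normalizer_iff.2 hS.conj_mem hg⟩
  have n1 : ∀ g : N, (g : G) ∈ normalizer ((Q.map N.subtype : Subgroup G) : Set G) ↔ g • a = a :=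
    fun g => (mem_normalizer_map_subtype Q g).trans (n0 g)
  have n2 : ∀ g : N, (g : G) ∈ normalizer (((t : G) •ᶜ Q.map N.subtype : Subgroup G) : Set G) ↔
      g • t • a = t • a := fun g => by
    rw [← cj_normalizer, mem_cj]
    refine (n1 (t⁻¹ * g * t)).trans ?_
    rw [mul_smul, mul_smul, inv_smul_eq_iff]
  have nD : ∀ g : N, (g : G) ∈ Dt N (Q.map N.subtype) t ↔ g ∈ PS.Dg a t := fun g =>
    ⟨fun hg => ⟨(n1 g).1 hg.1.2, (n2 g).1 hg.2⟩, fun hg => ⟨⟨g.2, (n1 g).2 hg.1⟩, (n2 g).2 hg.2⟩⟩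
  obtain ⟨P, hPQ⟩ := Bender.exists_sylow_eq hS hP
  refine ⟨n, j, fun x => C.z x, N.subtype.comp C.κ, hN, hPQ ▸ sylIn_map_subtype P, ?_, h.two_le,
    h.jcases, ?_, fun x y => ?_, fun x y e => C.z_inj (Subtype.ext e), fun g => ?_, ?_, ?_,
    fun c x => ?_, fun c => (nD _).2 (C.κ_mem_D c), t.2, fun e => PS.t_smul_ne hS ((n1 t).1 e),
    fun g hg hn => ?_, fun d hd e => ?_, fun hj d hd => ?_, h.sz, fun hj => ?_, fun hj => ?_⟩
  · rintro g hg _ ⟨x, hx, rfl⟩ h1 h2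
    refine (n1 ⟨g, hg⟩).2 (PS.smul_a_of_conj_mem hS (PS.smul_a_of_mem_Q hS hx)
      (fun e => h1 (by rw [e]; rfl)) ((m _).1 h2))
  · rw [card_map_of_injective N.subtype_injective, h.cardQ]
  · rw [C.z_add]; rfl
  · refine ⟨?_, ?_⟩
    · rintro ⟨x, rfl⟩
      exact ⟨(m _).2 (C.z_mem x), congrArg Subtype.val (C.z_mul_self x)⟩
    · rintro ⟨⟨x, hx, rfl⟩, h2⟩
      obtain ⟨u, hu⟩ := C.exists_z hx (Subtype.ext h2)
      exact ⟨u, congrArg Subtype.val hu⟩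
  · rintro x _ ⟨s, hs, rfl⟩
    exact congrArg Subtype.val (C.z_comm hS x hs)
  · rintro _ ⟨s, hs, rfl⟩
    exact congrArg Subtype.val (h.sq s hs)
  · exact congrArg Subtype.val (C.conj_z c x)
  · obtain ⟨s, hs, e⟩ := PS.exists_Q_smul_b hS (c := (⟨g, hg⟩ : N) • a) fun e => hn ((n1 ⟨g, hg⟩).2 e)
    refine ⟨s, (m s).2 hs, ?_⟩
    have e1 := (n1 ((s * t)⁻¹ * ⟨g, hg⟩)).2 (by rw [mul_smul, ← e, ← mul_smul s, inv_smul_smul])
    rw [mem_normalizer_iff_cj, Subgroup.coe_mul, cj_mul, cj_eq_iff] at e1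
    rw [← cj_mul]
    simpa using e1
  · obtain ⟨v, hv, k, hk, e1⟩ := PS.exists_V_mul_K hS ((nD ⟨d, hd.1.1⟩).1 hd)
    obtain ⟨c, rfl⟩ := C.exists_κ hk
    have key : ∀ i : ℕ, ∃ c', (v * C.κ c) ^ i = v ^ i * C.κ c' := by
      intro i
      induction i with
      | zero => exact ⟨1, by simp⟩
      | succ i ih =>
        obtain ⟨c', e⟩ := ih
        obtain ⟨c'', e'⟩ := C.exists_κ (PS.V_conj_mem_K (inv_mem hv) (C.κ_mem c'))
        exact ⟨c'' * c, by rw [pow_succ, e, map_mul, e', pow_succ]; group⟩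
    obtain ⟨c', e2⟩ := key (2 ^ n - 1)
    rw [← e1, show (⟨d, hd.1.1⟩ : N) ^ (2 ^ n - 1) = 1 from Subtype.ext e] at e2
    have e3 : v ^ (2 ^ n - 1) = 1 := PS.eq_one_of_mem_V_of_mem_K hS (pow_mem hv _) (by
      rw [eq_inv_of_mul_eq_one_left e2.symm, ← map_inv]; exact C.κ_mem _)
    by_cases hj : j ≤ 2
    · obtain ⟨c, e⟩ := C.exists_κ (h.small hj _ ((nD ⟨d, hd.1.1⟩).1 hd))
      exact ⟨c, congrArg Subtype.val e⟩
    have e4 := h.Vpow (by have := h.jcases; omega) v hv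
    have e5 : v * v = 1 := by
      have : 2 ^ n + 1 = 2 ^ n - 1 + 2 := by have := Nat.one_le_two_pow (n := n); omega
      rwa [this, pow_add, e3, one_mul, pow_two] at e4
    rw [PS.eq_one_of_odd_of_mul_self (PS.odd_orderOf_of_mem_D hS hv.1) e5, one_mul] at e1
    exact ⟨c, congrArg Subtype.val e1.symm⟩
  · obtain ⟨c, e⟩ := C.exists_κ (h.small hj _ ((nD ⟨d, hd.1.1⟩).1 hd))
    exact ⟨c, congrArg Subtype.val e⟩
  · obtain ⟨x, hx, y, hy, e⟩ := h.nonab hj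
    exact ⟨x, (m x).2 hx, y, (m y).2 hy, fun e' => e (Subtype.ext e')⟩
  · have := Fintype.ofFinite (GaloisField 2 (n * 2))
    have hE : Fintype.card (GaloisField 2 (n * 2)) = Nat.card (GaloisField 2 n) ^ 2 := by
      rw [← Nat.card_eq_fintype_card, GaloisField.card 2 _ (by have := h.two_le; omega), hF, pow_mul]
    obtain ⟨w, hw, hw1⟩ := h.Wex hj
    have H : PS.UHyp C := ⟨hS, inferInstance, hP, h.nonab (by omega), by rw [h.cardQ, hF, hj],
      fun e => hw1 (mem_bot.1 (e ▸ hw))⟩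
    obtain ⟨ζ, h1, h2, h3, ω, h4, h5, h6⟩ := H.exists_omega
    have O : PS.OC C ζ ω := ⟨h1, h2, h3, h4, h5, h6⟩
    obtain ⟨X, hX⟩ := H.exists_X h1 h2 h4 h5 _ hE
    obtain ⟨_, ι, z, χ, I⟩ := H.exists_IC O hE hX
    let X' : G → GaloisField 2 (n * 2) := fun g => if hg : g ∈ N then X ⟨g, hg⟩ else 0
    have x1 : ∀ g : N, X' g = X g := fun g => dif_pos g.2
    refine ⟨_, inferInstance, inferInstance, inferInstance, X', ι, z + z ^ 2 ^ n, z, χ, ζ,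
      by rw [hE, hF], ?_, ?_, fun e => ?_, ?_, ?_, I.χ_sq, fun c => hF ▸ I.χ_pow c,
      fun e he h0 => H.exists_χ hE hX I (hF ▸ he) h0, (nD ζ).2 (PS.W_mem_D h1),
      fun u => congrArg Subtype.val (H.W_comm_z h1 u), ?_, hF ▸ I.hz, I.hz1⟩
    · rintro _ ⟨x, hx, rfl⟩ _ ⟨y, hy, rfl⟩
      exact (x1 (x * y)).trans ((hX.add x hx y hy).trans (by rw [← x1, ← x1]; rfl))
    · rintro _ ⟨x, hx, rfl⟩
      rw [N.subtype_apply, x1, hX.zero x hx]
      exact Subtype.ext_iff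
    · obtain ⟨x, hx, rfl⟩ := hX.surj e
      exact ⟨x, (m x).2 hx, x1 x⟩
    · rintro _ ⟨x, hx, rfl⟩
      refine ⟨C.N x, congrArg Subtype.val (H.sq hx).symm, ?_⟩
      rw [N.subtype_apply, x1, H.ι_N O hE hX I hx, hF]
    · rintro c _ ⟨x, hx, rfl⟩
      exact (x1 (C.κ c * x * (C.κ c)⁻¹)).trans ((I.hκ c x hx).trans (by rw [← x1]; rfl))
    · rintro _ ⟨x, hx, rfl⟩
      exact (x1 (ζ * x * ζ⁻¹)).trans ((I.hζ x hx).trans (by rw [← x1]; rfl))

omit [Finite G] in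
theorem TI.cj {N S : Subgroup G} (h : TI N S) (g : G) : TI (g •ᶜ N) (g •ᶜ S) := by
  intro k hk x hx h1 h2
  rw [← cj_normalizer, mem_cj]
  refine h _ (mem_cj.1 hk) _ (mem_cj.1 hx) (fun e => h1 ?_) ?_
  · simpa [mul_assoc, mul_eq_one_iff_inv_eq', eq_comm] using congrArg (fun y => g * y * g⁻¹) e
  · have := mem_cj.1 h2
    convert this using 1
    group

theorem exists_b0 {N S : Subgroup G} (hN : IsSimpleGroup N) (hc : ¬ IsMulCommutative N)
    (hS : SylIn 2 S N) (hne : S ≠ ⊥) (hti : TI N S) : ∃ n j z κ t, B0 N S n j z κ t := by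
  have ti : ∀ P : Sylow 2 N, ∀ g : N, ∀ x ∈ (P : Subgroup N), x ≠ 1 →
      g * x * g⁻¹ ∈ (P : Subgroup N) → g • P = P := fun P g x hx h1 h2 => by
    obtain ⟨k, hk, e⟩ := hS.exists_conj (sylIn_map_subtype P)
    have h3 := hti.cj k
    rw [cj_eq_of_mem hk, e] at h3
    exact Sylow.smul_eq_iff_mem_normalizer.2 ((mem_normalizer_map_subtype (P : Subgroup N) g).1
      (h3 g g.2 x (mem_map_of_mem _ hx) (fun e => h1 (Subtype.ext e)) (mem_map_of_mem _ h2)))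
  have hI : IFix N (Sylow 2 N) := fun u hu => by
    have hp : IsPGroup 2 (zpowers u) := isPGroup_zpowers (k := 1) (by
      rw [pow_one, ← hu, pow_orderOf_eq_one])
    have m : ∀ P : Sylow 2 N, u • P = P ↔ u ∈ (P : Subgroup N) := fun P => by
      rw [Sylow.smul_eq_iff_mem_normalizer]
      exact ⟨fun h => (sylIn_top P).le_of_normalizes hp le_top (zpowers_le.2 h) (mem_zpowers u),
        fun h => le_normalizer h⟩
    obtain ⟨P, hP⟩ := hp.exists_le_sylow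
    refine ⟨P, (m P).2 (hP (mem_zpowers u)), fun P' h' => ?_⟩
    obtain ⟨g, rfl⟩ := exists_smul_eq N P P'
    have h1 := (m _).1 h'
    rw [sylow_coe_smul, mem_cj] at h1
    have := ti P g⁻¹ u (hP (mem_zpowers u)) (by rintro rfl; simp at hu) (by rwa [inv_inv])
    rw [inv_smul_eq_iff] at this
    exact this.symm
  obtain ⟨x, hx, hx2⟩ := SylowAux.exists_mem_orderOf_eq_two_of_even (H := S) (by
    obtain ⟨k, hk⟩ := IsPGroup.iff_card.1 hS.pgroup
    rw [hk, Nat.even_pow]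
    exact ⟨even_two, fun e => hne (by rwa [e, pow_zero, card_eq_one] at hk)⟩)
  have hx3 : orderOf (⟨x, hS.le hx⟩ : N) = 2 := (orderOf_coe _).symm.trans hx2
  have hnn : ∀ P : Sylow 2 N, ¬ (P : Subgroup N).Normal := fun P hP => by
    rcases hP.eq_bot_or_eq_top with e | e
    · have := (sylIn_map_subtype P).card_eq hS
      rw [e, Subgroup.map_bot, card_bot, eq_comm, card_eq_one] at this
      exact hne this
    · have h1 : IsPGroup 2 N := (e ▸ P.isPGroup' : IsPGroup 2 (⊤ : Subgroup N)).of_equiv topEquiv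
      have := h1.isNilpotent
      exact hc ⟨⟨IsSimpleGroup.comm_iff_isSolvable.2 inferInstance⟩⟩
  have : Nontrivial (Sylow 2 N) := by
    by_contra h
    rw [not_nontrivial_iff_subsingleton] at h
    exact hnn default (Sylow.normal_of_subsingleton _)
  have : FaithfulSMul N (Sylow 2 N) := by
    refine ⟨fun {g h} e => (MonoidHom.ker_eq_bot_iff (toPermHom N (Sylow 2 N))).mp
      ((MonoidHom.normal_ker _).eq_bot_or_eq_top.resolve_right fun e => ?_) (Equiv.ext e)⟩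
    obtain ⟨P, P', hP⟩ := exists_pair_ne (Sylow 2 N)
    obtain ⟨g, rfl⟩ := exists_smul_eq N P P'
    exact hP (DFunLike.congr_fun (show g ∈ (toPermHom N (Sylow 2 N)).ker from e ▸ mem_top g) P).symm
  obtain ⟨t, Q, h1, h2⟩ := Bender.rankOneSetup hI (Bender.rank2_of_simple hc hx3) hS.toSylow
  obtain ⟨n, j, z, κ, h⟩ := b0_of_setup hN h1 h2
  have e : Q.map N.subtype = S := by
    refine (h.syl.max S hS.pgroup ?_ hS.le).symm
    rw [← hS.map_toSylow]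
    refine map_mono ((sylIn_top _).le_of_normalizes h2 le_top fun g hg => ?_)
    exact Sylow.smul_eq_iff_mem_normalizer.1 (h1.le hg)
  exact ⟨n, j, z, κ, t, e ▸ h⟩

theorem exists_ti_of_se {N : Subgroup G} (hN : IsSimpleGroup N) (hc : ¬ IsMulCommutative N)
    {H : Subgroup N} (hH : IsStronglyEmbedded H) : ∃ S, SylIn 2 S N ∧ S ≠ ⊥ ∧ TI N S := by
  obtain ⟨t, Q, h1, h2⟩ := Bender.setup_of_simple hc hH
  obtain ⟨n, j, z, κ, h⟩ := b0_of_setup hN h1 h2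
  refine ⟨_, h.syl, fun e => h.tS ?_, h.ti⟩
  rw [e, mem_normalizer_iff_cj, cj_bot]

end CL.Hir
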