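import Cfsg.Agent.PERM.Hir1
import Cfsg.Agent.CLAS.FieldAut
import Cfsg.Agent.INV.SylowAux

/-! Automorphisms of a simple group with trivial intersection Sylow 2-subgroups: the action on
the involutions of a Sylow subgroup. -/

set_option autoImplicit false
set_option linter.unusedSectionVars false
open Cfsg MulAction Subgroup CL.MSS

namespace CL.Hir

theorem exists_semi {F : Type*} [Field F] [Finite F] (φ : F →+ F) (hφ : Function.Injective φ)
    (h : ∀ a, ∃ b, ∀ x, φ (a * x) = b * φ x) : ∃ σ : F ≃+* F, ∀ x, φ x = φ 1 * σ x := by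
  have h1 : φ 1 ≠ 0 := fun e => one_ne_zero (hφ (e.trans φ.map_zero.symm))
  let f : F →+* F :=
    { toFun := fun x => φ x / φ 1
      map_one' := div_self h1
      map_mul' := fun x y => by
        obtain ⟨b, hb⟩ := h x
        have := hb 1
        rw [mul_one] at this
        rw [hb, this]
        field_simp
      map_zero' := by simp
      map_add' := fun x y => by rw [map_add, add_div] }
  refine ⟨RingEquiv.ofBijective f (Finite.injective_iff_bijective.1 f.injective), fun x => ?_⟩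
  change φ x = φ 1 * (φ x / φ 1)
  field_simp

theorem eq_one_of_pow_two_pow {F : Type*} [Field F] [CharP F 2] {c : F} {k : ℕ}
    (h : c ^ 2 ^ k = 1) : c = 1 := by
  have : (c - 1) ^ 2 ^ k = 0 := by rw [sub_pow_char_pow, h, one_pow, sub_self]
  exact sub_eq_zero.1 (pow_eq_zero_iff (by positivity) |>.1 this)

theorem aut_eq_of_sq {F : Type*} [Field F] [Finite F] {σ τ : F ≃+* F} (h1 : σ * σ = 1) (h2 : σ ≠ 1)
    (h3 : τ * τ = 1) (h4 : τ ≠ 1) : σ = τ :=
  SylowAux.eq_of_isCyclic_of_orderOf_eq_two (orderOf_eq_prime (by rwa [pow_two]) h2)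
    (orderOf_eq_prime (by rwa [pow_two]) h4)

variable {G : Type*} [Group G]

/-- `g ∈ S C(N)`. -/
def InSC (N S : Subgroup G) (g : G) : Prop := ∃ s ∈ S, ∃ c ∈ centralizer (N : Set G), g = s * c

theorem InSC.of_mem {N S : Subgroup G} {g : G} (h : g ∈ S) : InSC N S g :=
  ⟨g, h, 1, one_mem _, (mul_one g).symm⟩

theorem InSC.one {N S : Subgroup G} : InSC N S 1 := InSC.of_mem (one_mem _)

theorem conj_mem_nrm {S : Subgroup G} {g x : G} (hg : g ∈ normalizer (S : Set G)) (hx : x ∈ S) :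
    g * x * g⁻¹ ∈ S := (mem_normalizer_iff.1 hg x).1 hx

theorem conj_mem_nrm' {S : Subgroup G} {g x : G} (hg : g ∈ normalizer (S : Set G)) (hx : x ∈ S) :
    g⁻¹ * x * g ∈ S := by simpa using conj_mem_nrm (inv_mem hg) hx

theorem conj_sq (g x : G) : g * x * g⁻¹ * (g * x * g⁻¹) = g * (x * x) * g⁻¹ := by group

/-- `g` centralizes the image of `z`. -/
def CZ {F : Type*} (z : F → G) (g : G) : Prop := ∀ x, g * z x * g⁻¹ = z x

/-- `g` acts on the image of `z` as the semilinear map `x ↦ a σ(x)`. -/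
def Act {F : Type*} [Field F] (z : F → G) (g : G) (a : F) (σ : F ≃+* F) : Prop :=
  a ≠ 0 ∧ ∀ x, g * z x * g⁻¹ = z (a * σ x)

theorem CZ.mul {F : Type*} {z : F → G} {g h : G} (hg : CZ z g) (hh : CZ z h) : CZ z (g * h) :=
  fun x => by
    calc g * h * z x * (g * h)⁻¹ = g * (h * z x * h⁻¹) * g⁻¹ := by group
      _ = _ := by rw [hh, hg]

theorem CZ.inv {F : Type*} {z : F → G} {g : G} (hg : CZ z g) : CZ z g⁻¹ := fun x => by
  nth_rewrite 1 [← hg x]; group

theorem CZ.comm {F : Type*} {z : F → G} {g : G} (hg : CZ z g) (x : F) : g * z x = z x * g :=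
  mul_inv_eq_iff_eq_mul.1 (hg x)

theorem Act.mul {F : Type*} [Field F] {z : F → G} {g h : G} {a b : F} {σ τ : F ≃+* F}
    (hg : Act z g a σ) (hh : Act z h b τ) : Act z (g * h) (a * σ b) (σ * τ) :=
  ⟨mul_ne_zero hg.1 (by simpa using hh.1), fun x => by
    calc g * h * z x * (g * h)⁻¹ = g * (h * z x * h⁻¹) * g⁻¹ := by group
      _ = _ := by rw [hh.2, hg.2, map_mul, mul_assoc]; rfl⟩

theorem Act.pow {F : Type*} [Field F] {z : F → G} {g : G} {a : F} {σ : F ≃+* F}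
    (hg : Act z g a σ) (m : ℕ) : ∃ b, Act z (g ^ m) b (σ ^ m) ∧ (σ = 1 → b = a ^ m) := by
  induction m with
  | zero => exact ⟨1, ⟨one_ne_zero, fun x => by simp⟩, fun _ => by simp⟩
  | succ m ih =>
    obtain ⟨b, h1, h2⟩ := ih
    exact ⟨_, by rw [pow_succ, pow_succ]; exact h1.mul hg, fun e => by rw [h2 e, e, pow_succ]; simp⟩

theorem Act.eq_one {F : Type*} [Field F] {z : F → G} (hz : Function.Injective z) {g : G} {a : F}
    {σ : F ≃+* F} (hg : Act z g a σ) (h : CZ z g) : a = 1 ∧ σ = 1 := by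
  have h1 : ∀ x, a * σ x = x := fun x => hz ((hg.2 x).symm.trans (h x))
  have h2 : a = 1 := by simpa using h1 1
  exact ⟨h2, RingEquiv.ext fun x => by simpa [h2] using h1 x⟩

theorem Act.cz {F : Type*} [Field F] [CharP F 2] {z : F → G} (hz : Function.Injective z) {g : G}
    {a : F} (hg : Act z g a 1) {k : ℕ} (h : CZ z (g ^ 2 ^ k)) : CZ z g := fun x => by
  obtain ⟨b, h1, h2⟩ := hg.pow (2 ^ k)
  rw [hg.2, eq_one_of_pow_two_pow ((h2 rfl).symm.trans (h1.eq_one hz h).1)]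
  simp

namespace B0

variable [Finite G] {N S : Subgroup G} {n j : ℕ} {z : GaloisField 2 n → G}
  {κ : (GaloisField 2 n)ˣ →* G} {t : G} (h : B0 N S n j z κ t)
include h

theorem cardF : Nat.card (GaloisField 2 n) = 2 ^ n :=
  GaloisField.card 2 n (by have := h.two_le; omega)

theorem four_le : 4 ≤ 2 ^ n := Nat.pow_le_pow_right (n := 2) two_pos h.two_le

theorem z_zero : z 0 = 1 := by simpa using h.z_add 0 0

theorem z_mem (x : GaloisField 2 n) : z x ∈ S := ((h.memz _).1 ⟨x, rfl⟩).1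

theorem z_sq (x : GaloisField 2 n) : z x * z x = 1 := ((h.memz _).1 ⟨x, rfl⟩).2

theorem z_eq_one {x : GaloisField 2 n} : z x = 1 ↔ x = 0 := by rw [← h.z_zero, h.z_inj.eq_iff]

theorem exz {g : G} (h1 : g ∈ S) (h2 : g * g = 1) : ∃ x, z x = g := (h.memz g).2 ⟨h1, h2⟩

theorem exz_sq {g : G} (h1 : g ∈ S) : ∃ x, z x = g * g := h.exz (mul_mem h1 h1) (h.sq g h1)

theorem cz_of_mem {s : G} (hs : s ∈ S) : CZ z s := fun x => by
  rw [← h.cen x s hs, mul_inv_cancel_right]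

theorem cz_of_cen {c : G} (hc : c ∈ centralizer (S : Set G)) : CZ z c := fun x => by
  rw [← mem_centralizer_iff.1 hc _ (h.z_mem x), mul_inv_cancel_right]

theorem cz_of_sc {g : G} (hg : InSC N S g) : CZ z g := by
  obtain ⟨s, hs, c, hc, rfl⟩ := hg
  exact (h.cz_of_mem hs).mul (h.cz_of_cen (centralizer_le h.syl.le hc))

theorem κ_conj (c : (GaloisField 2 n)ˣ) {x : G} (hx : x ∈ S) : κ c * x * (κ c)⁻¹ ∈ S :=
  conj_mem_nrm (h.κD c).1.2 hx

theorem syl_t : SylIn 2 (t •ᶜ S) N := h.syl.cj_of_mem h.tN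

theorem mem_of_two {P : Subgroup G} (hP : SylIn 2 P N) {g : G} (h1 : g ∈ N)
    (h2 : g ∈ normalizer (P : Set G)) {k : ℕ} (h3 : g ^ 2 ^ k = 1) : g ∈ P :=
  hP.le_of_normalizes (isPGroup_zpowers h3) (zpowers_le.2 h1) (zpowers_le.2 h2) (mem_zpowers g)

theorem eq_one_of_nrm {P : Subgroup G} (hP : SylIn 2 P N) (hne : P ≠ S) {s : G} (h1 : s ∈ S)
    (h2 : s ∈ normalizer (P : Set G)) : s = 1 := by
  by_contra h3
  obtain ⟨k, hk⟩ := isPGroup_iff_forall_mem.1 h.syl.pgroup s h1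
  obtain ⟨g, hg, rfl⟩ := h.syl.exists_conj hP
  have := h.ti g⁻¹ (inv_mem hg) s h1 h3 (by
    rw [inv_inv]; exact mem_cj.1 (h.mem_of_two hP (h.syl.le h1) h2 hk))
  exact hne (cj_eq_of_mem_normalizer (inv_mem_iff.1 this))

theorem t_ne : t •ᶜ S ≠ S := fun e => h.tS (mem_normalizer_iff_cj.2 e)

theorem reg' {P : Subgroup G} (hP : SylIn 2 P N) (hne : P ≠ S) : ∃ s ∈ S, P = s •ᶜ (t •ᶜ S) := by
  obtain ⟨g, hg, rfl⟩ := h.syl.exists_conj hP
  exact h.reg g hg fun e => hne (cj_eq_of_mem_normalizer e)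

theorem dec {g : G} (h1 : g ∈ normalizer (N : Set G)) (h2 : g ∈ normalizer (S : Set G)) :
    ∃ s ∈ S, ∃ d, d ∈ normalizer (N : Set G) ∧ d ∈ normalizer (S : Set G) ∧
      d ∈ normalizer ((t •ᶜ S : Subgroup G) : Set G) ∧ g = s * d := by
  obtain ⟨s, hs, e⟩ := h.reg' (h.syl_t.cj_of_mem_normalizer h1) fun e => h.t_ne (by
    rw [cj_eq_iff, cj_eq_of_mem_normalizer (inv_mem h2)] at e; exact e)
  refine ⟨s, hs, s⁻¹ * g, mul_mem (le_normalizer (inv_mem (h.syl.le hs))) h1,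
    mul_mem (le_normalizer (inv_mem hs)) h2, ?_, by group⟩
  rw [mem_normalizer_iff_cj, cj_mul, e, inv_cj_cj]

theorem eq_one_of_all {c : G} (h1 : c ∈ N) (h2 : ∀ P, SylIn 2 P N → c ∈ normalizer (P : Set G)) :
    c = 1 := by
  let K : Subgroup N :=
    { carrier := {c | ∀ P, SylIn 2 P N → (c : G) ∈ normalizer (P : Set G)}
      one_mem' := fun _ _ => one_mem _
      mul_mem' := fun h1 h2 P hP => mul_mem (h1 P hP) (h2 P hP)
      inv_mem' := fun h1 P hP => inv_mem (h1 P hP) }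
  have hK : K.Normal := ⟨fun c hc g P hP => by
    have := conj_mem_cj (g := (g : G)) (hc _ (hP.cj_of_mem (inv_mem g.2)))
    rwa [cj_normalizer, cj_inv_cj] at this⟩
  have := h.simple
  rcases hK.eq_bot_or_eq_top with e | e
  · have h3 : (⟨c, h1⟩ : N) ∈ K := h2
    rw [e, mem_bot] at h3
    exact congrArg Subtype.val h3
  · have h3 : (⟨t, h.tN⟩ : N) ∈ K := e ▸ mem_top _
    exact absurd (h3 S h.syl) h.tS

theorem disj {c : G} (h1 : c ∈ N) (h2 : c ∈ centralizer (N : Set G)) : c = 1 :=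
  h.eq_one_of_all h1 fun _ hP => centralizer_le_normalizer _ (centralizer_le hP.le h2)

theorem cenN {g : G} (h1 : g ∈ normalizer (N : Set G)) (h2 : g ∈ centralizer (S : Set G))
    (h3 : g ∈ normalizer ((t •ᶜ S : Subgroup G) : Set G)) : g ∈ centralizer (N : Set G) := by
  have all : ∀ P, SylIn 2 P N → g •ᶜ P = P := fun P hP => by
    by_cases e : P = S
    · exact e ▸ cj_eq_of_mem_centralizer h2
    obtain ⟨s, hs, rfl⟩ := h.reg' hP e
    rw [← cj_mul, ← mem_centralizer_iff.1 h2 s hs, cj_mul, cj_eq_of_mem_normalizer h3]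
  refine mem_centralizer_iff.2 fun k hk => ?_
  have := h.eq_one_of_all (mul_mem (conj_mem_nrm h1 hk) (inv_mem hk)) fun P hP => by
    have h4 := hP.cj_of_mem (inv_mem hk)
    rw [mem_normalizer_iff_cj, cj_mul, cj_mul, cj_mul, cj_eq_iff.1 (all _ h4) |>.symm, cj_inv_cj,
      all P hP]
  rw [mul_inv_eq_one, mul_inv_eq_iff_eq_mul] at this
  exact this.symm

omit h in
theorem conj_D {g d : G} (h1 : g ∈ normalizer (N : Set G)) (h2 : g ∈ normalizer (S : Set G))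
    (h3 : g ∈ normalizer ((t •ᶜ S : Subgroup G) : Set G)) (hd : d ∈ Dt N S t) :
    g * d * g⁻¹ ∈ Dt N S t :=
  ⟨⟨conj_mem_nrm h1 hd.1.1, conj_mem_nrm (le_normalizer h2) hd.1.2⟩,
    conj_mem_nrm (le_normalizer h3) hd.2⟩

theorem conj_κ {g : G} (h1 : g ∈ normalizer (N : Set G)) (h2 : g ∈ normalizer (S : Set G))
    (h3 : g ∈ normalizer ((t •ᶜ S : Subgroup G) : Set G)) (c : (GaloisField 2 n)ˣ) :
    ∃ c', κ c' = g * κ c * g⁻¹ :=
  h.char _ (conj_D h1 h2 h3 (h.κD c)) (by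
    rw [conj_pow, ← map_pow, ← h.cardF, ← Nat.card_units, pow_card_eq_one', map_one]; group)

theorem κ_inj : Function.Injective κ := fun c d e => by
  have := h.conj_z c 1
  rw [e, h.conj_z] at this
  exact Units.ext (by simpa using (h.z_inj this).symm)

theorem Act_κ {g : G} {a : GaloisField 2 n} {σ : GaloisField 2 n ≃+* GaloisField 2 n}
    (hg : Act z g a σ) {s : G} (hs : s ∈ S) {c c' : (GaloisField 2 n)ˣ}
    (e : g * κ c * g⁻¹ = s * κ c') : σ c = c' := by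
  have e1 : z (a * σ c) = z (c' * a) := by
    calc z (a * σ c) = g * (κ c * z 1 * (κ c)⁻¹) * g⁻¹ := by rw [h.conj_z, mul_one, hg.2]
      _ = (g * κ c * g⁻¹) * (g * z 1 * g⁻¹) * (g * κ c * g⁻¹)⁻¹ := by group
      _ = s * (κ c' * z a * (κ c')⁻¹) * s⁻¹ := by rw [e, hg.2, map_one, mul_one]; group
      _ = _ := by rw [h.conj_z, h.cz_of_mem hs]
  exact mul_left_cancel₀ hg.1 ((h.z_inj e1).trans (mul_comm _ _))

theorem semi {g : G} (h1 : g ∈ normalizer (N : Set G)) (h2 : g ∈ normalizer (S : Set G)) :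
    ∃ a σ, Act z g a σ := by
  obtain ⟨s, hs, d, d1, d2, d3, rfl⟩ := h.dec h1 h2
  choose f hf using fun x => h.exz (conj_mem_nrm d2 (h.z_mem x)) (by rw [conj_sq, h.z_sq]; group)
  let φ : GaloisField 2 n →+ GaloisField 2 n := AddMonoidHom.mk' f fun x y => h.z_inj (by
    rw [h.z_add, hf, hf, hf, h.z_add]; group)
  have hφ : Function.Injective φ := fun x y e => h.z_inj (by
    have := hf x
    rw [show f x = f y from e, hf] at this
    simpa using this.symm)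
  obtain ⟨σ, hσ⟩ := exists_semi φ hφ fun a => by
    by_cases ha : a = 0
    · exact ⟨0, fun x => by simp [ha]⟩
    obtain ⟨c', e⟩ := h.conj_κ d1 d2 d3 (Units.mk0 a ha)
    refine ⟨c', fun x => h.z_inj ?_⟩
    change z (f _) = z (c' * f x)
    have := h.conj_z (Units.mk0 a ha) x
    rw [Units.val_mk0] at this
    rw [← h.conj_z, hf, hf, e, ← this]
    group
  refine ⟨φ 1, σ, fun e => one_ne_zero (hφ (e.trans φ.map_zero.symm)), fun x => ?_⟩
  calc s * d * z x * (s * d)⁻¹ = s * (d * z x * d⁻¹) * s⁻¹ := by group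
    _ = _ := by rw [← hf, h.cz_of_mem hs, ← hσ]; rfl

theorem comm_κ {g : G} (h1 : g ∈ normalizer (N : Set G)) (h2 : g ∈ normalizer (S : Set G))
    (h3 : g ∈ normalizer ((t •ᶜ S : Subgroup G) : Set G)) (h4 : CZ z g) (c : (GaloisField 2 n)ˣ) :
    g * κ c * g⁻¹ = κ c := by
  obtain ⟨c', e⟩ := h.conj_κ h1 h2 h3 c
  have := h.Act_κ (a := 1) (σ := 1) ⟨one_ne_zero, fun x => by simpa using h4 x⟩ (one_mem S)
    (e.symm.trans (one_mul _).symm)
  rw [← e, ← Units.ext (show (c : GaloisField 2 n) = c' from this)]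

theorem sq_of_one (hj : j = 1) {x : G} (hx : x ∈ S) : x * x = 1 := by
  obtain ⟨u, hu⟩ := (Function.Injective.bijective_of_nat_card_le
    (f := fun u => (⟨z u, h.z_mem u⟩ : S)) (fun u v e => h.z_inj (congrArg Subtype.val e))
    (by rw [h.cardS, h.cardF, hj, pow_one])).2 ⟨x, hx⟩
  rw [← show z u = x from congrArg Subtype.val hu, h.z_sq]

theorem exists_sq_ne (hj : 2 ≤ j) : ∃ x ∈ S, x * x ≠ 1 := by
  by_contra! hc
  obtain ⟨x, hx, y, hy, e⟩ := h.nonab hj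
  obtain ⟨u, rfl⟩ := h.exz hx (hc x hx)
  exact e (h.cen u y hy)

theorem sq_mul_z {x : G} (hx : x ∈ S) (u : GaloisField 2 n) : x * z u * (x * z u) = x * x := by
  calc x * z u * (x * z u) = x * (z u * x) * z u := by group
    _ = x * x * (z u * z u) := by rw [h.cen u x hx]; group
    _ = _ := by rw [h.z_sq, mul_one]

theorem sz_form (hj : j = 2) {x₀ : G} (h0 : x₀ ∈ S) (h1 : x₀ * x₀ ≠ 1) {x : G} (hx : x ∈ S)
    (h2 : x * x ≠ 1) : ∃ c u, x = κ c * x₀ * (κ c)⁻¹ * z u := by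
  obtain ⟨a, ha⟩ := h.exz_sq h0
  have ha0 : a ≠ 0 := fun e => h1 (by rw [← ha, e, h.z_zero])
  have sq : ∀ c u, κ c * x₀ * (κ c)⁻¹ * z u * (κ c * x₀ * (κ c)⁻¹ * z u) = z (c * a) :=
    fun c u => by rw [h.sq_mul_z (h.κ_conj c h0), conj_sq, ← ha, h.conj_z]
  let f : ((GaloisField 2 n)ˣ × GaloisField 2 n) ⊕ GaloisField 2 n → S :=
    Sum.elim (fun p => ⟨κ p.1 * x₀ * (κ p.1)⁻¹ * z p.2, mul_mem (h.κ_conj _ h0) (h.z_mem _)⟩)
      fun u => ⟨z u, h.z_mem u⟩
  have hf : Function.Injective f := by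
    have ne : ∀ c u v, κ c * x₀ * (κ c)⁻¹ * z u ≠ z v := fun c u v e => by
      have := sq c u
      rw [e, h.z_sq, eq_comm, h.z_eq_one] at this
      exact mul_ne_zero c.ne_zero ha0 this
    rintro (⟨c, u⟩ | u) (⟨d, v⟩ | v) e <;> have e := congrArg Subtype.val e
    · have e' : κ c * x₀ * (κ c)⁻¹ * z u = κ d * x₀ * (κ d)⁻¹ * z v := e
      have := sq c u
      rw [e', sq] at this
      obtain rfl : d = c := Units.ext (mul_right_cancel₀ ha0 (h.z_inj this))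
      rw [h.z_inj (mul_left_cancel e')]
    · exact absurd e (ne _ _ _)
    · exact absurd e.symm (ne _ _ _)
    · rw [h.z_inj e]
  obtain ⟨⟨c, u⟩ | u, e⟩ := (hf.bijective_of_nat_card_le (by
    rw [Nat.card_sum, Nat.card_prod, Nat.card_units, h.cardF, h.cardS, hj, ← Nat.succ_mul,
      Nat.succ_eq_add_one, Nat.sub_add_cancel Nat.one_le_two_pow, pow_two])).2 ⟨x, hx⟩
  · exact ⟨c, u, (congrArg Subtype.val e).symm⟩
  · exact absurd (by rw [← show z u = x from congrArg Subtype.val e, h.z_sq]) h2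

theorem sz_sq (hj : j = 2) {x y : G} (hx : x ∈ S) (hy : y ∈ S) (e : x * x = y * y) :
    ∃ u, z u = x⁻¹ * y := by
  by_cases h1 : x * x = 1
  · obtain ⟨u, rfl⟩ := h.exz hx h1
    obtain ⟨v, rfl⟩ := h.exz hy (e ▸ h1)
    exact ⟨u + v, by rw [h.z_add, PS.inv_eq_of_mul_self h1]⟩
  obtain ⟨c, u, rfl⟩ := h.sz_form hj hx h1 hy (e ▸ h1)
  obtain ⟨a, ha⟩ := h.exz_sq hx
  rw [h.sq_mul_z (h.κ_conj c hx), conj_sq, ← ha, h.conj_z] at e
  obtain rfl : c = 1 := Units.ext (mul_right_cancel₀ (fun e => h1 (by rw [← ha, e, h.z_zero]))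
    ((h.z_inj e).symm.trans (one_mul a).symm))
  exact ⟨u, by simp⟩

theorem comm_mul {g x y : G} {u v : GaloisField 2 n} (hy : y ∈ S)
    (e1 : z u = x⁻¹ * (g * x * g⁻¹)) (e2 : z v = y⁻¹ * (g * y * g⁻¹)) :
    z (u + v) = (x * y)⁻¹ * (g * (x * y) * g⁻¹) := by
  calc z (u + v) = y⁻¹ * (y * z u) * z v := by rw [h.z_add]; group
    _ = y⁻¹ * z u * y * z v := by rw [← h.cen u y hy]; group
    _ = _ := by rw [e1, e2]; group

theorem cenZ (hj : j ≤ 2) {g : G} (h1 : g ∈ normalizer (N : Set G))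
    (h2 : g ∈ normalizer (S : Set G)) (h3 : CZ z g) : InSC N S g := by
  obtain ⟨s, hs, d, d1, d2, d3, rfl⟩ := h.dec h1 h2
  have d4 : CZ z d := by simpa using (h.cz_of_mem (inv_mem hs)).mul h3
  refine ⟨s, hs, d, h.cenN d1 (mem_centralizer_iff.2 fun x hx => ?_) d3, rfl⟩
  by_cases hx2 : x * x = 1
  · obtain ⟨u, rfl⟩ := h.exz hx hx2
    exact (d4.comm u).symm
  have hj2 : j = 2 := by
    rcases h.jc with e | e | e
    exacts [absurd (h.sq_of_one e hx) hx2, e, by omega]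
  choose! f hf using fun y (hy : y ∈ S) => h.sz_sq hj2 hy (conj_mem_nrm d2 hy) (by
    obtain ⟨u, hu⟩ := h.exz_sq hy
    rw [conj_sq, ← hu, d4])
  choose! r hr using fun y (hy : y ∈ S) => h.exz_sq hy
  by_contra hc
  have h0 : f x ≠ 0 := fun e => hc (by
    have := hf x hx
    rw [e, h.z_zero, eq_comm, inv_mul_eq_one, eq_mul_inv_iff_mul_eq] at this
    exact this)
  have key : ∀ y ∈ S, r y * f x = f y * r x := fun y hy => by
    by_cases hy2 : y * y = 1
    · obtain ⟨u, rfl⟩ := h.exz hy hy2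
      rw [h.z_eq_one.1 ((hr _ hy).trans hy2), h.z_eq_one.1 ((hf _ hy).trans (by rw [d4]; group)),
        zero_mul, zero_mul]
    obtain ⟨c, u, rfl⟩ := h.sz_form hj2 hx hx2 hy hy2
    have e1 : r (κ c * x * (κ c)⁻¹ * z u) = c * r x := h.z_inj (by
      rw [hr _ hy, h.sq_mul_z (h.κ_conj c hx), conj_sq, ← hr x hx, h.conj_z])
    have e2 : f (κ c * x * (κ c)⁻¹ * z u) = c * f x + 0 := h.z_inj (by
      rw [hf _ hy]
      refine (h.comm_mul (h.z_mem u) ?_ (by rw [d4, h.z_zero]; group)).symm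
      rw [← h.conj_z, hf x hx]
      have := h.comm_κ d1 d2 d3 d4 c
      calc _ = (κ c * x * (κ c)⁻¹)⁻¹ * (κ c * (d * x * d⁻¹) * (κ c)⁻¹) := by group
        _ = (κ c * x * (κ c)⁻¹)⁻¹ * ((d * κ c * d⁻¹) * (d * x * d⁻¹) * (d * κ c * d⁻¹)⁻¹) := by
          rw [this]
        _ = _ := by group)
    rw [e1, e2]; ring
  obtain ⟨a, ha, b, hb, e⟩ := h.nonab hj2.ge
  have e1 : f (a * b) = f a + f b :=
    h.z_inj ((hf _ (mul_mem ha hb)).trans (h.comm_mul hb (hf a ha) (hf b hb)).symm)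
  have e2 : r (a * b) = r a + r b := mul_right_cancel₀ h0 (by
    rw [add_mul, key _ (mul_mem ha hb), key a ha, key b hb, e1, add_mul])
  have e3 := hr _ (mul_mem ha hb)
  rw [e2, h.z_add, hr a ha, hr b hb] at e3
  exact e (mul_left_cancel (a := a) (mul_right_cancel (b := b) (by simpa only [mul_assoc] using e3)))

theorem act_sq {g : G} {a : GaloisField 2 n} {σ : GaloisField 2 n ≃+* GaloisField 2 n}
    (hg : Act z g a σ) (h3 : CZ z (g * g)) (h4 : ¬ CZ z g) : σ * σ = 1 ∧ σ ≠ 1 :=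
  ⟨((hg.mul hg).eq_one h.z_inj h3).2, fun e => h4 (Act.cz h.z_inj (e ▸ hg) (k := 1) (by
    rwa [pow_one, pow_two]))⟩

theorem fld {g : G} (h1 : g ∈ normalizer (N : Set G)) (h2 : g ∈ normalizer (S : Set G))
    (h3 : CZ z (g * g)) (h4 : ¬ CZ z g) {Y : Subgroup G} (hY : ∀ y ∈ Y, ∃ u, z u = y)
    (hc : Y ≤ centralizer {g}) : Even n ∧ Nat.card Y ^ 2 ≤ 2 ^ n := by
  obtain ⟨a, σ, hg⟩ := h.semi h1 h2
  obtain ⟨e1, e2⟩ := h.act_sq hg h3 h4
  have := Fintype.ofFinite (GaloisField 2 n)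
  refine ⟨even_iff_two_dvd.2 ?_, ?_⟩
  · rw [← orderOf_eq_prime (p := 2) (by rwa [pow_two]) e2]
    exact FieldAut.orderOf_dvd (p := 2) (by rw [← Nat.card_eq_fintype_card, h.cardF]) σ
  obtain ⟨c, hc'⟩ : ∃ c, σ c ≠ c := by
    by_contra! hc
    exact e2 (RingEquiv.ext hc)
  choose u hu using fun y : Y => hY y y.2
  have fx : ∀ y, a * σ (u y) = u y := fun y => h.z_inj (by
    rw [← hg.2, hu, ← mem_centralizer_singleton_iff.1 (hc y.2), mul_inv_cancel_right])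
  have ui : Function.Injective u := fun y y' e => Subtype.ext (by rw [← hu, ← hu, e])
  rw [pow_two, ← Nat.card_prod, ← h.cardF]
  refine Nat.card_le_card_of_injective (fun p : Y × Y => u p.1 + c * u p.2) ?_
  rintro ⟨x, y⟩ ⟨x', y'⟩ e
  have e3 : u x + c * u y = u x' + c * u y' := e
  have e4 := congrArg (fun w => a * σ w) e3
  simp only [map_add, map_mul] at e4
  have e5 : (σ c - c) * (u y - u y') = 0 := by
    linear_combination e4 - e3 - fx x + fx x' - σ c * fx y + σ c * fx y'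
  obtain rfl := ui (sub_eq_zero.1 ((mul_eq_zero.1 e5).resolve_left (sub_ne_zero.2 hc')))
  rw [ui (add_right_cancel e3)]

theorem odd_mul {g k : G} (h1 : g ∈ normalizer (N : Set G)) (h2 : g ∈ normalizer (S : Set G))
    (h3 : k ∈ normalizer (N : Set G)) (h4 : k ∈ normalizer (S : Set G)) {a b : ℕ} (ha : Odd a)
    (hb : Odd b) (h5 : CZ z (g ^ a)) (h6 : CZ z (k ^ b)) : ∃ c, Odd c ∧ CZ z ((g * k) ^ c) := by
  obtain ⟨x, σ, hg⟩ := h.semi h1 h2
  obtain ⟨y, τ, hk⟩ := h.semi h3 h4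
  obtain ⟨_, e1, -⟩ := hg.pow a
  obtain ⟨_, e2, -⟩ := hk.pow b
  obtain ⟨w, e3, -⟩ := (hg.mul hk).pow (a * b)
  rw [Commute.mul_pow (FieldAut.ringAut_mul_comm σ τ), pow_mul σ, (e1.eq_one h.z_inj h5).2,
    mul_comm a b, pow_mul τ, (e2.eq_one h.z_inj h6).2, one_pow, one_pow, one_mul] at e3
  obtain ⟨w', e4, e5⟩ := e3.pow (2 ^ n - 1)
  refine ⟨b * a * (2 ^ n - 1), (hb.mul ha).mul (Nat.Even.sub_odd Nat.one_le_two_pow
    (Nat.even_pow.2 ⟨even_two, by have := h.two_le; omega⟩) odd_one), fun u => ?_⟩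
  have e6 : w ^ (2 ^ n - 1) = 1 := by
    have := pow_card_eq_one' (x := Units.mk0 w e3.1)
    rw [Nat.card_units, h.cardF] at this
    simpa using congrArg Units.val this
  rw [pow_mul, e4.2, e5 rfl, e6]
  simp

theorem tfix {g : G} (h1 : g ∈ normalizer (N : Set G)) (h2 : g ∈ normalizer (S : Set G))
    (c : (GaloisField 2 n)ˣ) : ∃ s ∈ S, ∃ c', g * κ c * g⁻¹ = s * κ c' ∧ κ c ∈ zpowers (κ c') := by
  obtain ⟨a, σ, hg⟩ := h.semi h1 h2
  obtain ⟨s, hs, d, d1, d2, d3, rfl⟩ := h.dec h1 h2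
  obtain ⟨c', e⟩ := h.conj_κ d1 d2 d3 c
  have hs' := mul_mem hs (h.κ_conj c' (inv_mem hs))
  have e1 : s * d * κ c * (s * d)⁻¹ = s * (κ c' * s⁻¹ * (κ c')⁻¹) * κ c' := by rw [e]; group
  refine ⟨_, hs', c', e1, ?_⟩
  obtain ⟨k, hk⟩ := FieldAut.exists_apply_eq_pow 2 σ.symm
  refine ⟨(2 ^ k : ℕ), ?_⟩
  change κ c' ^ ((2 ^ k : ℕ) : ℤ) = κ c
  rw [zpow_natCast, ← map_pow]
  congr 1
  exact Units.ext (by rw [Units.val_pow_eq_pow_val, ← hk, ← h.Act_κ hg hs' e1, σ.symm_apply_apply])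

end B0

end CL.Hir
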