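import Cfsg.Agent.PERM.Hir3
import Cfsg.Agent.INV.ZD.BD

/-! The local facts, free of coordinates. -/

set_option autoImplicit false
set_option linter.unusedSectionVars false
open Cfsg MulAction Subgroup CL.MSS

namespace CL.Hir

variable {G : Type*} [Group G]

/-- The subgroup generated by the involutions of `S`. -/
def Om (S : Subgroup G) : Subgroup G := closure {x | x ∈ S ∧ x * x = 1}

/-- The cyclic group acting regularly on the involutions of `S`. -/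
structure Tor (N S T : Subgroup G) (n j : ℕ) : Prop where
  le : T ≤ N
  nrm : T ≤ normalizer (S : Set G)
  card : Nat.card T = 2 ^ n - 1
  trans : ∀ y ∈ Om S, y ≠ 1 → ∀ y' ∈ Om S, y' ≠ 1 → ∃ k ∈ T, k * y * k⁻¹ = y'
  free : ∀ k ∈ T, ∀ y ∈ Om S, y ≠ 1 → k * y * k⁻¹ = y → k = 1
  fix : ∀ g ∈ normalizer (N : Set G), g ∈ normalizer (S : Set G) → ∀ k ∈ T,
    ∃ s ∈ S, ∃ k' ∈ T, g * k * g⁻¹ = s * k' ∧ k ∈ zpowers k'
  small : j ≤ 2 → ∀ g ∈ N, g ∈ normalizer (S : Set G) → ∃ s ∈ S, ∃ k ∈ T, g = s * k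

/-- The local facts for `N` and its Sylow 2-subgroup `S`. -/
structure LD (N S : Subgroup G) (n j : ℕ) : Prop where
  simple : IsSimpleGroup N
  syl : SylIn 2 S N
  ti : TI N S
  two_le : 2 ≤ n
  jc : j = 1 ∨ j = 2 ∨ j = 3
  cardS : Nat.card S = (2 ^ n) ^ j
  memZ : ∀ x, x ∈ Om S ↔ x ∈ S ∧ x * x = 1
  cardZ : Nat.card (Om S) = 2 ^ n
  cen : ∀ y ∈ Om S, ∀ s ∈ S, y * s = s * y
  sq : ∀ x ∈ S, x * x ∈ Om S
  one : j = 1 → ∀ x ∈ S, x * x = 1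
  reg : ∀ P P', SylIn 2 P N → SylIn 2 P' N → P ≠ S → P' ≠ S → ∃ s ∈ S, s •ᶜ P = P'
  free : ∀ P, SylIn 2 P N → P ≠ S → ∀ s ∈ S, s ∈ normalizer (P : Set G) → s = 1
  ex : ∃ P, SylIn 2 P N ∧ P ≠ S
  disj : ∀ c ∈ N, c ∈ centralizer (N : Set G) → c = 1
  tor : ∃ T, Tor N S T n j
  kq : ∀ g ∈ normalizer (N : Set G), g ∈ normalizer (S : Set G) → ∀ k : ℕ, g ^ 2 ^ k = 1 →
    (∀ h ∈ N, h ∈ normalizer (S : Set G) → g * h * g⁻¹ * h⁻¹ ∈ S) → InSC N S g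
  cenS : ∀ g ∈ normalizer (N : Set G), g ∈ centralizer (S : Set G) → InSC N S g
  cenZ : j ≤ 2 → ∀ g ∈ normalizer (N : Set G), g ∈ normalizer (S : Set G) →
    g ∈ centralizer (Om S : Set G) → InSC N S g
  fld : ∀ g ∈ normalizer (N : Set G), g ∈ normalizer (S : Set G) →
    g * g ∈ centralizer (Om S : Set G) → g ∉ centralizer (Om S : Set G) →
    Even n ∧ Nat.card (Om S ⊓ centralizer {g} : Subgroup G) ^ 2 ≤ 2 ^ n
  f3 : j = 3 → ∀ g ∈ normalizer (N : Set G), g ∈ normalizer (S : Set G) → InSC N S (g * g) →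
    g ∈ centralizer (Om S : Set G)
  rank : ∀ g ∈ normalizer (N : Set G), g ∈ normalizer (S : Set G) →
    ∀ h ∈ normalizer (N : Set G), h ∈ normalizer (S : Set G) → g * g = 1 → h * h = 1 →
    g * h * (g * h) = 1 → InSC N S g ∨ InSC N S h ∨ InSC N S (g * h)
  c3 : j = 3 → ∀ w ∈ normalizer (N : Set G), w ∈ normalizer (S : Set G) → w * w = 1 →
    ¬ InSC N S w → (∀ x ∈ S, w * x * w⁻¹ = x → x * x = 1) ∧
      ∀ y ∈ Om S, ∃ x ∈ S, y = x⁻¹ * (w * x * w⁻¹)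
  iso3 : j = 3 → ∀ X : Subgroup G, IsPGroup 2 X → X ≤ normalizer (S : Set G) →
    X ≤ centralizer (Om S : Set G) → ∀ g ∈ X, ∀ h ∈ X, Triv S g ∨ Triv S h ∨ Triv S (g * h)
  half : j = 3 → ∀ g ∈ normalizer (S : Set G), g * g = 1 →
    2 ^ n ≤ Nat.card (S ⊓ centralizer {g} : Subgroup G)
  sz : j = 2 → Odd n
  szsq : j = 2 → ∀ x ∈ S, ∀ y ∈ S, x * x = y * y → x⁻¹ * y ∈ Om S
  odd : ∀ g ∈ normalizer (N : Set G), g ∈ normalizer (S : Set G) →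
    ∀ h ∈ normalizer (N : Set G), h ∈ normalizer (S : Set G) → ∀ a b : ℕ, Odd a → Odd b →
    g ^ a ∈ centralizer (Om S : Set G) → h ^ b ∈ centralizer (Om S : Set G) →
    ∃ c, Odd c ∧ (g * h) ^ c ∈ centralizer (Om S : Set G)

variable [Finite G] {N S : Subgroup G} {n j : ℕ}

theorem B0.ld {z : GaloisField 2 n → G} {κ : (GaloisField 2 n)ˣ →* G} {t : G}
    (h : B0 N S n j z κ t) : LD N S n j := by
  have mz : ∀ x, x ∈ Om S ↔ ∃ u, z u = x := fun x => by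
    refine ⟨fun hx => ?_, fun hx => subset_closure ((h.memz x).1 hx)⟩
    induction hx using closure_induction with
    | mem x hx => exact (h.memz x).2 hx
    | one => exact ⟨0, h.z_zero⟩
    | mul x y _ _ hx hy =>
      obtain ⟨u, rfl⟩ := hx
      obtain ⟨v, rfl⟩ := hy
      exact ⟨u + v, h.z_add u v⟩
    | inv x _ hx =>
      obtain ⟨u, rfl⟩ := hx
      exact ⟨u, (PS.inv_eq_of_mul_self (h.z_sq u)).symm⟩
  have cz : ∀ g, g ∈ centralizer (Om S : Set G) ↔ CZ z g := fun g =>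
    ⟨fun hg u => by rw [← mem_centralizer_iff.1 hg _ ((mz _).2 ⟨u, rfl⟩), mul_inv_cancel_right],
      fun hg => mem_centralizer_iff.2 fun y hy => by
        obtain ⟨u, rfl⟩ := (mz y).1 hy
        exact (hg.comm u).symm⟩
  have j3 : ¬ j ≤ 2 → j = 3 := fun e => by have := h.jc; omega
  have cenS : ∀ g ∈ normalizer (N : Set G), g ∈ centralizer (S : Set G) → InSC N S g := by
    intro g h1 h2
    by_cases hj : j ≤ 2
    · exact h.cenZ hj h1 (centralizer_le_normalizer _ h2) (h.cz_of_cen h2)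
    obtain ⟨E, _, _, _, X, ι, c, ω, χ, ζ, hE, u⟩ := h.u3 (j3 hj)
    exact u.u3c h h1 (centralizer_le_normalizer _ h2) (h.cz_of_cen h2) fun x hx => by
      rw [← mem_centralizer_iff.1 h2 x hx]; group
  refine ⟨h.simple, h.syl, h.ti, h.two_le, h.jc, h.cardS, fun x => (mz x).trans (h.memz x), ?_, ?_,
    fun x hx => (mz _).2 (h.exz_sq hx), fun hj x hx => h.sq_of_one hj hx,
    fun P P' h1 h2 h3 h4 => ?_, fun P h1 h2 s h3 h4 => h.eq_one_of_nrm h1 h2 h3 h4,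
    ⟨_, h.syl_t, h.t_ne⟩, fun c h1 h2 => h.disj h1 h2, ⟨κ.range, ?_, ?_, ?_, ?_, ?_, ?_, ?_⟩,
    fun g h1 h2 k h3 h4 => ?_, cenS, fun hj g h1 h2 h3 => h.cenZ hj h1 h2 ((cz g).1 h3),
    fun g h1 h2 h3 h4 => h.fld h1 h2 ((cz _).1 h3) (mt (cz g).2 h4)
      (fun y hy => (mz y).1 hy.1) inf_le_right, fun hj g h1 h2 h3 => ?_,
    fun g h1 h2 k h3 h4 h5 h6 h7 => ?_, fun hj w h1 h2 h3 h4 => ?_, fun hj Y h1 h2 h3 g h4 k h5 => ?_,
    fun hj g h1 h2 => ?_, h.sz, fun hj x hx y hy e => (mz _).2 (h.sz_sq hj hx hy e),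
    fun g h1 h2 k h3 h4 a b ha hb h5 h6 => ?_⟩
  · rw [← h.cardF]
    exact (Nat.card_congr (Equiv.ofBijective (fun u => (⟨z u, (mz _).2 ⟨u, rfl⟩⟩ : Om S))
      ⟨fun u v e => h.z_inj (congrArg Subtype.val e), fun y => by
        obtain ⟨u, hu⟩ := (mz y).1 y.2
        exact ⟨u, Subtype.ext hu⟩⟩)).symm
  · intro y hy
    obtain ⟨u, rfl⟩ := (mz y).1 hy
    exact h.cen u
  · obtain ⟨s, hs, rfl⟩ := h.reg' h1 h3
    obtain ⟨s', hs', rfl⟩ := h.reg' h2 h4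
    exact ⟨s' * s⁻¹, mul_mem hs' (inv_mem hs), by rw [cj_mul, inv_cj_cj]⟩
  · rintro _ ⟨c, rfl⟩; exact (h.κD c).1.1
  · rintro _ ⟨c, rfl⟩; exact (h.κD c).1.2
  · rw [← Nat.card_congr (MonoidHom.ofInjective h.κ_inj).toEquiv, Nat.card_units, h.cardF]
  · intro y hy h1 y' hy' h2
    obtain ⟨u, rfl⟩ := (mz y).1 hy
    obtain ⟨v, rfl⟩ := (mz y').1 hy'
    have h3 := mt h.z_eq_one.2 h1
    exact ⟨_, ⟨Units.mk0 (v / u) (div_ne_zero (mt h.z_eq_one.2 h2) h3), rfl⟩, by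
      rw [h.conj_z, Units.val_mk0, div_mul_cancel₀ _ h3]⟩
  · rintro _ ⟨c, rfl⟩ y hy h1 e
    obtain ⟨u, rfl⟩ := (mz y).1 hy
    rw [h.conj_z] at e
    rw [show c = 1 from Units.ext (mul_right_cancel₀ (mt h.z_eq_one.2 h1)
      ((h.z_inj e).trans (one_mul u).symm)), map_one]
  · rintro g h1 h2 _ ⟨c, rfl⟩
    obtain ⟨s, hs, c', e⟩ := h.tfix h1 h2 c
    exact ⟨s, hs, _, ⟨c', rfl⟩, e⟩
  · intro hj g h1 h2
    obtain ⟨s, hs, d, -, d2, d3, rfl⟩ := h.dec (le_normalizer h1) h2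
    obtain ⟨c, rfl⟩ := h.small hj d ⟨⟨(mul_mem_cancel_left (h.syl.le hs)).1 h1, d2⟩, d3⟩
    exact ⟨s, hs, _, ⟨c, rfl⟩, rfl⟩
  · obtain ⟨a, σ, hg⟩ := h.semi h1 h2
    have e : σ = 1 := RingEquiv.ext fun x => by
      by_cases hx : x = 0
      · simp [hx]
      exact h.Act_κ hg (h4 _ (h.κD (Units.mk0 x hx)).1.1 (h.κD _).1.2) (inv_mul_cancel_right _ _).symm
    have h5 : CZ z g := Act.cz h.z_inj (e ▸ hg) (k := k) (h3 ▸ fun x => by simp)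
    by_cases hj : j ≤ 2
    · exact h.cenZ hj h1 h2 h5
    obtain ⟨E, _, _, _, X, ι, c, ω, χ, ζ, hE, u⟩ := h.u3 (j3 hj)
    exact u.kq h hE h1 h2 h5 (k := k) (h3 ▸ InSC.one) (h4 ζ u.ζD.1.1 u.ζS)
  · obtain ⟨E, _, _, _, X, ι, c, ω, χ, ζ, hE, u⟩ := h.u3 hj
    exact (cz g).2 (u.f3 h hE h1 h2 h3)
  · have c1 : CZ z 1 := fun x => by simp
    by_cases hj : j ≤ 2
    · by_contra! hc
      obtain ⟨a, σ, hg⟩ := h.semi h1 h2
      obtain ⟨b, τ, hk⟩ := h.semi h3 h4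
      obtain ⟨e1, e2⟩ := h.act_sq hg (h5 ▸ c1) fun e => hc.1 (h.cenZ hj h1 h2 e)
      obtain ⟨e3, e4⟩ := h.act_sq hk (h6 ▸ c1) fun e => hc.2.1 (h.cenZ hj h3 h4 e)
      refine (h.act_sq (hg.mul hk) (h7 ▸ c1) fun e =>
        hc.2.2 (h.cenZ hj (mul_mem h1 h3) (mul_mem h2 h4) e)).2 ?_
      rwa [aut_eq_of_sq e1 e2 e3 e4]
    obtain ⟨E, _, _, _, X, ι, c, ω, χ, ζ, hE, u⟩ := h.u3 (j3 hj)
    have c2 := u.f3 h hE h1 h2 (h5 ▸ InSC.one)
    have c3 := u.f3 h hE h3 h4 (h6 ▸ InSC.one)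
    have t1 := u.triv_of_sc h (InSC.one (N := N))
    exact (u.iso3 h hE h2 c2 h4 c3 (a := 1) (b := 1) (c := 1) (by rwa [pow_one, pow_two, h5])
      (by rwa [pow_one, pow_two, h6]) (by rwa [pow_one, pow_two, h7])).imp (u.u3c h h1 h2 c2)
      (Or.imp (u.u3c h h3 h4 c3) (u.u3c h (mul_mem h1 h3) (mul_mem h2 h4) (c2.mul c3)))
  · obtain ⟨E, _, _, _, X, ι, c, ω, χ, ζ, hE, u⟩ := h.u3 hj
    obtain ⟨e1, e2⟩ := u.c3 h hE h1 h2 h3 h4
    refine ⟨e1, fun y hy => ?_⟩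
    obtain ⟨a, rfl⟩ := (mz y).1 hy
    exact e2 a
  · obtain ⟨E, _, _, _, X, ι, c, ω, χ, ζ, hE, u⟩ := h.u3 hj
    obtain ⟨a, ha⟩ := isPGroup_iff_forall_mem.1 h1 g h4
    obtain ⟨b, hb⟩ := isPGroup_iff_forall_mem.1 h1 k h5
    obtain ⟨c, hc⟩ := isPGroup_iff_forall_mem.1 h1 _ (mul_mem h4 h5)
    have t1 := u.triv_of_sc h (InSC.one (N := N))
    exact u.iso3 h hE (h2 h4) ((cz g).1 (h3 h4)) (h2 h5) ((cz k).1 (h3 h5)) (ha ▸ t1) (hb ▸ t1)
      (hc ▸ t1)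
  · obtain ⟨E, _, _, _, X, ι, c, ω, χ, ζ, hE, u⟩ := h.u3 hj
    exact u.half h hE h1 h2
  · obtain ⟨c, hc, e⟩ := h.odd_mul h1 h2 h3 h4 ha hb ((cz _).1 h5) ((cz _).1 h6)
    exact ⟨c, hc, (cz _).2 e⟩

omit [Finite G] in
theorem cj_Om (g : G) (S : Subgroup G) : g •ᶜ Om S = Om (g •ᶜ S) := by
  rw [Om, Om, cj_closure]
  congr 1
  ext x
  refine ⟨?_, fun hx => ⟨g⁻¹ * x * g, ⟨mem_cj.1 hx.1, ?_⟩, by group⟩⟩
  · rintro ⟨y, hy, rfl⟩
    exact ⟨conj_mem_cj hy.1, by rw [conj_sq, hy.2]; group⟩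
  · calc _ = g⁻¹ * (x * x) * g := by group
      _ = 1 := by rw [hx.2]; group

omit [Finite G] in
theorem nrm_Om {g : G} (hg : g ∈ normalizer (S : Set G)) : g ∈ normalizer (Om S : Set G) := by
  rw [mem_normalizer_iff_cj, cj_Om, cj_eq_of_mem_normalizer hg]

theorem exists_ld (hN : IsSimpleGroup N) (hc : ¬ IsMulCommutative N) (hS : SylIn 2 S N)
    (hne : S ≠ ⊥) (hti : TI N S) :
    ∃ n j, ∀ (g : G) (P : Subgroup G), SylIn 2 P (g •ᶜ N) → LD (g •ᶜ N) P n j := by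
  obtain ⟨n, j, z, κ, t, h⟩ := exists_b0 hN hc hS hne hti
  refine ⟨n, j, fun g P hP => ?_⟩
  obtain ⟨k, hk, rfl⟩ := (hS.cj g).exists_conj hP
  have e := cjEquiv g N
  obtain ⟨n', j', z', κ', t', h'⟩ := exists_b0 e.symm.isSimpleGroup
    (fun hc' => hc ⟨⟨fun a b => e.injective (by rw [map_mul, map_mul, hc'.1.1])⟩⟩) hP
    (by simpa only [Ne, cj_eq_bot_iff] using hne) (by simpa only [cj_eq_of_mem hk] using (hti.cj g).cj k)
  have e1 := h'.ld.cardZ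
  have e2 := h'.cardS
  rw [← cj_Om, ← cj_Om, card_cj, card_cj, h.ld.cardZ] at e1
  obtain rfl : n = n' := Nat.pow_right_injective le_rfl e1
  rw [card_cj, card_cj, h.cardS] at e2
  obtain rfl : j = j' := Nat.pow_right_injective (h.four_le.trans' (by norm_num)) e2
  exact h'.ld

/-- The conjugation action on subgroups. -/
@[reducible] def cjAct (G : Type*) [Group G] : MulAction G (Subgroup G) where
  smul g Q := g •ᶜ Q
  one_smul := cj_one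
  mul_smul := cj_mul

omit [Finite G] in
theorem stab_cjAct (Q : Subgroup G) :
    @stabilizer G (Subgroup G) _ (cjAct G) Q = normalizer (Q : Set G) :=
  Subgroup.ext fun _ => mem_normalizer_iff_cj.symm

theorem mem_of_two {P : Subgroup G} (hP : SylIn 2 P N) {g : G} (h1 : g ∈ N)
    (h2 : g ∈ normalizer (P : Set G)) {k : ℕ} (h3 : g ^ 2 ^ k = 1) : g ∈ P :=
  hP.le_of_normalizes (isPGroup_zpowers h3) (zpowers_le.2 h1) (zpowers_le.2 h2) (mem_zpowers g)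

namespace LD

variable (h : LD N S n j)
include h

theorem four_le : 4 ≤ 2 ^ n := Nat.pow_le_pow_right (n := 2) two_pos h.two_le

theorem Z_le : Om S ≤ S := fun x hx => ((h.memZ x).1 hx).1

theorem Z_sq {x : G} (hx : x ∈ Om S) : x * x = 1 := ((h.memZ x).1 hx).2

theorem Z_two : IsPGroup 2 (Om S) := h.syl.pgroup.to_le h.Z_le

theorem Z_ne : Om S ≠ ⊥ := fun e => by
  have := h.cardZ
  have := h.four_le
  rw [e, card_bot] at *
  omega

theorem exists_Z : ∃ y ∈ Om S, y ≠ 1 := by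
  obtain ⟨⟨y, hy⟩, h1⟩ := ne_bot_iff_exists_ne_one.1 h.Z_ne
  exact ⟨y, hy, fun e => h1 (Subtype.ext e)⟩

theorem le_cardS : 2 ^ n ≤ Nat.card S := h.cardZ ▸ card_le_of_le h.Z_le

theorem eq_of_mem {P : Subgroup G} (hP : SylIn 2 P N) {x : G} (h1 : x ∈ S) (h2 : x ∈ P)
    (h3 : x ≠ 1) : P = S := by
  by_contra e
  exact h3 (h.free P hP e x h1 (le_normalizer h2))

theorem nrm_of_conj {g x : G} (hg : g ∈ normalizer (N : Set G)) (h1 : x ∈ S) (h2 : x ≠ 1)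
    (h3 : g * x * g⁻¹ ∈ S) : g ∈ normalizer (S : Set G) :=
  mem_normalizer_iff_cj.2 (h.eq_of_mem (h.syl.cj_of_mem_normalizer hg) h3 (conj_mem_cj h1)
    (by simpa using h2))

theorem proper {M : Subgroup G} (h1 : S ≤ M) (h2 : M ≤ N) (h3 : ¬ N ≤ M) :
    M ≤ normalizer (S : Set G) := by
  intro g hg
  by_contra hn
  have all : ∀ P, SylIn 2 P N → P ≤ M := fun P hP => by
    by_cases e : P = S
    · exact e ▸ h1
    obtain ⟨s, hs, rfl⟩ := h.reg _ P (h.syl.cj_of_mem (h2 hg)) hP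
      (mt mem_normalizer_iff_cj.2 hn) e
    exact cj_le_of_mem (cj_le_of_mem h1 hg) (h1 hs)
  have := h.simple
  rcases (normalClosure_normal (s := (S.subgroupOf N : Set N))).eq_bot_or_eq_top with e | e
  · obtain ⟨y, hy, h4⟩ := h.exists_Z
    have : (⟨y, h.syl.le (h.Z_le hy)⟩ : N) ∈ normalClosure (S.subgroupOf N : Set N) :=
      subset_normalClosure (h.Z_le hy)
    rw [e, mem_bot] at this
    exact h4 (congrArg Subtype.val this)
  refine h3 fun x hx => ?_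
  have h4 : normalClosure (S.subgroupOf N : Set N) ≤ M.subgroupOf N := (closure_le _).2 fun y hy => by
    obtain ⟨a, ha, hc⟩ := Group.mem_conjugatesOfSet_iff.1 hy
    obtain ⟨c, rfl⟩ := isConj_iff.1 hc
    exact all _ (h.syl.cj_of_mem c.2) (conj_mem_cj ha)
  exact h4 (e ▸ mem_top _ : (⟨x, hx⟩ : N) ∈ _)

theorem inv_conj {y w : G} (h1 : y ∈ Om S) (h2 : y ≠ 1) (h3 : w ∈ N) (h4 : w * w = 1)
    (h5 : w ≠ 1) : ∃ k ∈ N, k * y * k⁻¹ = w := by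
  obtain ⟨x, hx, e⟩ := h.syl.exists_conj_le (isPGroup_zpowers (k := 1) (by rwa [pow_one, pow_two]))
    (zpowers_le.2 h3)
  obtain ⟨T, hT⟩ := h.tor
  obtain ⟨k, hk, e'⟩ := hT.trans y h1 h2 _ ((h.memZ _).2 ⟨e (conj_mem_cj (mem_zpowers w)), by
    rw [conj_sq, h4]; group⟩) (by simpa using h5)
  exact ⟨x⁻¹ * k, mul_mem (inv_mem hx) (hT.le hk), by
    rw [show x⁻¹ * k * y * (x⁻¹ * k)⁻¹ = x⁻¹ * (k * y * k⁻¹) * x by group, e']; group⟩

theorem mem_of_comm (hj : j ≤ 2) {y g : G} (h1 : y ∈ Om S) (h2 : y ≠ 1) (h3 : g ∈ N)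
    (h4 : g * y * g⁻¹ = y) : g ∈ S := by
  obtain ⟨T, hT⟩ := h.tor
  obtain ⟨s, hs, k, hk, rfl⟩ := hT.small hj g h3 (h.ti g h3 y (h.Z_le h1) h2 (h4.symm ▸ h.Z_le h1))
  rw [hT.free k hk y h1 h2 (by
    calc _ = s⁻¹ * (s * k * y * (s * k)⁻¹) * s := by group
      _ = _ := by rw [h4, mul_assoc, h.cen y h1 s hs]; group), mul_one]
  exact hs

theorem card_syl : {P | SylIn 2 P N}.ncard = Nat.card S + 1 := by
  obtain ⟨P, hP, hne⟩ := h.ex
  have e : {P | SylIn 2 P N} = insert S (Set.range fun s : S => (s : G) •ᶜ P) := by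
    ext Q
    refine ⟨fun hQ => ?_, ?_⟩
    · by_cases e : Q = S
      · exact Or.inl e
      obtain ⟨s, hs, e⟩ := h.reg P Q hP hQ hne e
      exact Or.inr ⟨⟨s, hs⟩, e⟩
    · rintro (rfl | ⟨s, rfl⟩)
      exacts [h.syl, hP.cj_of_mem (h.syl.le s.2)]
  rw [e, Set.ncard_insert_of_notMem, Set.ncard_range_of_injective]
  · intro s s' e
    have e : (s : G) •ᶜ P = (s' : G) •ᶜ P := e
    rw [cj_eq_iff, ← cj_mul, eq_comm, ← mem_normalizer_iff_cj] at e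
    exact Subtype.ext (inv_mul_eq_one.1 (h.free P hP hne _ (mul_mem (inv_mem s.2) s'.2) e))
  · rintro ⟨s, e⟩
    have e : (s : G) •ᶜ P = S := e
    rw [cj_eq_iff, cj_eq_of_mem (inv_mem s.2)] at e
    exact hne e

theorem card_N (hj : j ≤ 2) : Nat.card N = (Nat.card S + 1) * (Nat.card S * (2 ^ n - 1)) := by
  obtain ⟨T, hT⟩ := h.tor
  have e1 := @ZD.relIndex_stabilizer_eq_card G (Subgroup G) _ (cjAct G) N S
  rw [stab_cjAct] at e1
  have e2 : Nat.card {c : Subgroup G // ∃ g ∈ N, g •ᶜ S = c} = Nat.card S + 1 := by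
    rw [← h.card_syl, ← Nat.card_coe_set_eq]
    exact Nat.card_congr (Equiv.subtypeEquivRight fun P => ⟨by
      rintro ⟨g, hg, rfl⟩; exact h.syl.cj_of_mem hg, fun hP => h.syl.exists_conj hP⟩)
  have e3 : Nat.card (normalizer (S : Set G) ⊓ N : Subgroup G) = Nat.card S * (2 ^ n - 1) := by
    rw [← hT.card, ← Nat.card_prod]
    obtain ⟨y, hy, hy1⟩ := h.exists_Z
    refine (Nat.card_congr (Equiv.ofBijective (fun p : S × T => (⟨p.1 * p.2,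
      Subgroup.mul_mem _ (le_normalizer p.1.2) (hT.nrm p.2.2),
      N.mul_mem (h.syl.le p.1.2) (hT.le p.2.2)⟩ : (normalizer (S : Set G) ⊓ N : Subgroup G)))
      ⟨fun p p' e => ?_, fun g => ?_⟩)).symm
    · have e : (p.1 : G) * p.2 = p'.1 * p'.2 := congrArg Subtype.val e
      have e4 : (p.2 : G) * (p'.2 : G)⁻¹ = (p.1 : G)⁻¹ * p'.1 := by
        rw [mul_inv_eq_iff_eq_mul, mul_assoc, ← e]; group
      have e5 := hT.free _ (mul_mem p.2.2 (inv_mem p'.2.2)) y hy hy1 (by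
        rw [e4, ← h.cen y hy _ (mul_mem (inv_mem p.1.2) p'.1.2), mul_inv_cancel_right])
      rw [e5, eq_comm, inv_mul_eq_one] at e4
      exact Prod.ext (Subtype.ext e4) (Subtype.ext (mul_inv_eq_one.1 e5))
    · obtain ⟨s, hs, k, hk, e⟩ := hT.small hj g g.2.2 g.2.1
      exact ⟨(⟨s, hs⟩, ⟨k, hk⟩), Subtype.ext e.symm⟩
  rw [← e3, ← e2, Bender.card_eq_inf_mul_relIndex (normalizer (S : Set G)) N, e1, inf_comm, mul_comm]
  rfl

end LD

end CL.Hir
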