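import Cfsg.Agent.PERM.Hir4

/-! Doubly transitive groups with a normal subgroup of Bender type in the point stabilizer: the
set-up and the case where a Sylow 2-subgroup fixes a second point. -/

set_option autoImplicit false
set_option linter.unusedSectionVars false
open Cfsg MulAction Subgroup CL.MSS

namespace CL.Hir

variable {G Ω : Type*} [Group G] [MulAction G Ω]

/-- The standing hypothesis. -/
structure Hy (Nf : Ω → Subgroup G) (n j : ℕ) : Prop where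
  two : ∀ a b c d : Ω, a ≠ b → c ≠ d → ∃ g : G, g • a = c ∧ g • b = d
  nt : ∀ a : Ω, ∃ b, b ≠ a
  faith : ∀ g : G, (∀ a : Ω, g • a = a) → g = 1
  le : ∀ a, Nf a ≤ stabilizer G a
  cj : ∀ (g : G) a, g •ᶜ Nf a = Nf (g • a)
  ld : ∀ a S, SylIn 2 S (Nf a) → LD (Nf a) S n j

/-- `P` is a Sylow 2-subgroup of `N^a` fixing `b`. -/
def Fx (Nf : Ω → Subgroup G) (a b : Ω) (P : Subgroup G) : Prop :=
  SylIn 2 P (Nf a) ∧ P ≤ stabilizer G b

/-- Every second point is fixed by a Sylow 2-subgroup. -/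
def CaseI (Nf : Ω → Subgroup G) : Prop := ∀ a b, a ≠ b → ∃ P, Fx Nf a b P

/-- The involutions of the groups `N^b` fixing `a` lie in `N^a`. -/
def SCl (Nf : Ω → Subgroup G) : Prop := ∀ a b, ∀ w ∈ Nf b, w * w = 1 → w • a = a → w ∈ Nf a

theorem conj_smul {g x : G} {a : Ω} (h : x • a = a) : (g * x * g⁻¹) • g • a = g • a := by
  rw [mul_smul, inv_smul_smul, mul_smul, h]

theorem cj_le_stab {P : Subgroup G} {b : Ω} (h : P ≤ stabilizer G b) (g : G) :
    g •ᶜ P ≤ stabilizer G (g • b) := cj_le_iff_forall.2 fun _ hx => conj_smul (h hx)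

theorem pow_two_one {x : G} (h : x * x = 1) : x ^ 2 ^ 1 = 1 := by rwa [pow_one, pow_two]

theorem two_zpowers {x : G} (h : x * x = 1) : IsPGroup 2 (zpowers x) :=
  isPGroup_zpowers (pow_two_one h)

namespace Hy

variable [Finite G] [Finite Ω] {Nf : Ω → Subgroup G} {n j : ℕ} (H : Hy Nf n j)
include H

theorem nrm {g : G} {a : Ω} (h : g • a = a) : g ∈ normalizer (Nf a : Set G) := by
  rw [mem_normalizer_iff_cj, H.cj, h]

theorem conj_mem {x : G} {a : Ω} (hx : x ∈ Nf a) (g : G) : g * x * g⁻¹ ∈ Nf (g • a) :=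
  H.cj g a ▸ conj_mem_cj hx

theorem syl_cj {a : Ω} {P : Subgroup G} (hP : SylIn 2 P (Nf a)) (g : G) :
    SylIn 2 (g •ᶜ P) (Nf (g • a)) := H.cj g a ▸ hP.cj g

theorem trans (a b : Ω) : ∃ g : G, g • a = b := by
  obtain ⟨c, hc⟩ := H.nt a
  obtain ⟨d, hd⟩ := H.nt b
  exact (H.two a c b d hc.symm hd.symm).imp fun _ h => h.1

theorem not_le {a b : Ω} (hab : a ≠ b) : ¬ Nf a ≤ stabilizer G b := fun h => by
  obtain ⟨S, hS⟩ := exists_sylIn 2 (Nf a)
  obtain ⟨y, hy, h1⟩ := (H.ld a S hS).exists_Z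
  have hy' := hS.le ((H.ld a S hS).Z_le hy)
  refine h1 (H.faith y fun c => ?_)
  by_cases e : a = c
  · exact e ▸ H.le a hy'
  obtain ⟨g, h2, rfl⟩ := H.two a b a c hab e
  have := cj_le_stab h g
  rw [H.cj, h2] at this
  exact this hy'

theorem exists_move {a b : Ω} (hab : a ≠ b) : ∃ k ∈ Nf a, k • b ≠ b := by
  by_contra! h
  exact H.not_le hab h

theorem fix_of_nrm {g : G} {a : Ω} (h : g ∈ normalizer (Nf a : Set G)) : g • a = a := by
  by_contra e
  refine H.not_le (Ne.symm e) ?_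
  rw [← cj_eq_of_mem_normalizer h, H.cj]
  exact H.le _

theorem fix_of_cen {g : G} {a : Ω} (h : g ∈ centralizer (Nf a : Set G)) : g • a = a :=
  H.fix_of_nrm (centralizer_le_normalizer _ h)

theorem exists_syl {a : Ω} {R : Subgroup G} (hR : IsPGroup 2 R) (h : R ≤ stabilizer G a) :
    ∃ S, SylIn 2 S (Nf a) ∧ R ≤ normalizer (S : Set G) := by
  obtain ⟨P, hP, h1⟩ := exists_sylIn_ge hR h
  have hn : stabilizer G a ≤ normalizer (Nf a : Set G) := fun _ hg => H.nrm hg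
  exact ⟨_, hP.inf_normal_of_le hn (H.le a),
    le_normalizer_inf (h1.trans le_normalizer) (h.trans hn)⟩

theorem exists_F1 (ho : Odd (Nat.card Ω)) {b : Ω} {w : G} (hw : w ∈ Nf b) (h2 : w * w = 1)
    (h1 : w ≠ 1) {R : Subgroup G} (hR : IsPGroup 2 R) (hc : R ≤ centralizer {w}) :
    ∃ c, w ∈ Nf c ∧ R ≤ stabilizer G c := by
  obtain ⟨P, hP⟩ := exists_sylIn 2 (stabilizer G b)
  have hn : stabilizer G b ≤ normalizer (Nf b : Set G) := fun _ hg => H.nrm hg
  have hS := hP.inf_normal_of_le hn (H.le b)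
  have L := H.ld b _ hS
  obtain ⟨⟨y, hy, hy2⟩, hy1⟩ := ne_bot_iff_exists_ne_one.1 (inf_centralizer_ne_bot hP.pgroup L.Z_two
    (fun g hg => nrm_Om (le_normalizer_inf le_normalizer (hP.le.trans hn) hg)) L.Z_ne)
  obtain ⟨k, hk, rfl⟩ := L.inv_conj hy (fun e => hy1 (Subtype.ext e)) hw h2 h1
  have hT : SylIn 2 P ⊤ := sylIn_of_not_dvd_relIndex hP.pgroup le_top (by
    have : IsPretransitive G Ω := ⟨H.trans⟩
    rw [relIndex_top_right, ← relIndex_mul_index hP.le, index_stabilizer_of_transitive]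
    exact Nat.prime_two.not_dvd_mul hP.not_dvd_relIndex ho.not_two_dvd_nat)
  have hC : k •ᶜ P ≤ centralizer {k * y * k⁻¹} := by
    rw [← cj_centralizer_singleton]
    exact cj_mono k fun g hg => mem_centralizer_singleton_iff.2 (mem_centralizer_iff.1 hy2 g hg)
  obtain ⟨c, hc', e⟩ := ((hT.cj_of_mem (mem_top k)).of_le hC le_top).exists_le_conj hR hc
  refine ⟨c • k • b, ?_, e.trans (cj_le_stab (cj_le_stab hP.le k) c)⟩
  have := H.conj_mem (H.conj_mem (hS.le (L.Z_le hy)) k) c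
  rwa [mem_centralizer_singleton_iff.1 hc', mul_inv_cancel_right] at this

theorem fx_cj {a b : Ω} {P : Subgroup G} (h : Fx Nf a b P) (g : G) :
    Fx Nf (g • a) (g • b) (g •ᶜ P) := ⟨H.syl_cj h.1 g, cj_le_stab h.2 g⟩

theorem fx_mem {a b : Ω} {P : Subgroup G} (h : Fx Nf a b P) (hab : a ≠ b) {x : G} (h1 : x ∈ Nf a)
    (h2 : x • b = b) {k : ℕ} (h3 : x ^ 2 ^ k = 1) : x ∈ P :=
  mem_of_two h.1 h1 ((H.ld a P h.1).proper (M := Nf a ⊓ stabilizer G b) (le_inf h.1.le h.2)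
    inf_le_left (fun e => H.not_le hab (e.trans inf_le_right)) ⟨h1, h2⟩) h3

theorem fx_uniq {a b : Ω} {P P' : Subgroup G} (h : Fx Nf a b P) (h' : Fx Nf a b P') (hab : a ≠ b) :
    P = P' := h'.1.max P h.1.pgroup (fun x hx => by
  obtain ⟨k, hk⟩ := isPGroup_iff_forall_mem.1 h'.1.pgroup x hx
  exact H.fx_mem h hab (h'.1.le hx) (h'.2 hx) hk) h.1.le

theorem fx_nrm {a b : Ω} {P : Subgroup G} (h : Fx Nf a b P) (hab : a ≠ b) {g : G} (h1 : g • a = a)
    (h2 : g • b = b) : g ∈ normalizer (P : Set G) := by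
  have := H.fx_cj h g
  rw [h1, h2] at this
  exact mem_normalizer_iff_cj.2 (H.fx_uniq this h hab)

theorem caseI_of {a b : Ω} {P : Subgroup G} (h : Fx Nf a b P) (hab : a ≠ b) : CaseI Nf :=
  fun c d hcd => by
    obtain ⟨g, rfl, rfl⟩ := H.two a b c d hab hcd
    exact ⟨_, H.fx_cj h g⟩

variable (hI : CaseI Nf)
include hI

theorem le_stab {a d : Ω} {P : Subgroup G} (hP : SylIn 2 P (Nf a)) {x : G} (hx : x ∈ P)
    (h1 : x ≠ 1) (h2 : x • d = d) : P ≤ stabilizer G d := by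
  by_cases e : a = d
  · exact e ▸ hP.le.trans (H.le a)
  obtain ⟨P', h'⟩ := hI a d e
  obtain ⟨k, hk⟩ := isPGroup_iff_forall_mem.1 hP.pgroup x hx
  exact (H.ld a P hP).eq_of_mem h'.1 hx (H.fx_mem h' e (hP.le hx) h2 hk) h1 ▸ h'.2

theorem cen_triv {a : Ω} {P : Subgroup G} (hP : SylIn 2 P (Nf a)) {c : G}
    (hc : c ∈ centralizer (Nf a : Set G)) (h : ∀ d : Ω, P ≤ stabilizer G d → c • d = d) : c = 1 := by
  refine H.faith c fun d => ?_
  by_cases e : a = d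
  · exact e ▸ H.fix_of_cen hc
  obtain ⟨P', h'⟩ := hI a d e
  obtain ⟨k, hk, rfl⟩ := h'.1.exists_conj hP
  have := h _ (cj_le_stab h'.2 k)
  rwa [← mul_smul, ← mem_centralizer_iff.1 hc k hk, mul_smul, smul_left_cancel_iff] at this

theorem le_of_common {a b : Ω} (hab : a ≠ b) {P P' : Subgroup G} (h : Fx Nf a b P)
    (h' : Fx Nf b a P') {x : G} (h1 : x ∈ P) (h2 : x ∈ P') (h3 : x ≠ 1) : P' ≤ P := by
  intro w hw
  have fx : ∀ d : Ω, P ≤ stabilizer G d → P' ≤ stabilizer G d := fun d hd =>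
    H.le_stab hI h'.1 h2 h3 (hd h1)
  have wa : w • a = a := h'.2 hw
  have wb : w • b = b := H.le b (h'.1.le hw)
  obtain ⟨k, hk⟩ := isPGroup_iff_forall_mem.1 h'.1.pgroup w hw
  obtain ⟨s, hs, c, hc, e⟩ := (H.ld a P h.1).kq w (H.nrm wa) (H.fx_nrm h hab wa wb) k hk
    fun g hg hgP => by
      have ga : g • a = a := H.le a hg
      have h4 := H.fx_cj h' g
      rw [ga] at h4
      have h5 : w ∈ normalizer ((g •ᶜ P' : Subgroup G) : Set G) :=
        H.fx_nrm h4 (fun e => hab (by rw [← ga, smul_left_cancel_iff] at e; exact e.symm))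
          (fx _ (cj_eq_of_mem_normalizer hgP ▸ cj_le_stab h.2 g) hw) wa
      obtain ⟨m, hm⟩ := isPGroup_iff_forall_mem.1 (isPGroup_sup_of_normalizes
        (isPGroup_zpowers hk) h4.1.pgroup (zpowers_le.2 h5)) (w * g * w⁻¹ * g⁻¹) (by
          rw [mul_assoc, mul_assoc, ← mul_assoc g]
          exact mul_mem (mem_sup_left (mem_zpowers w)) (mem_sup_right (conj_mem_cj (inv_mem hw))))
      have h6 := H.fx_nrm h hab wa wb
      exact mem_of_two h.1 (mul_mem (conj_mem_nrm (H.nrm wa) hg) (inv_mem hg))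
        (mul_mem (mul_mem (mul_mem h6 hgP) (inv_mem h6)) (inv_mem hgP)) hm
  rw [e, H.cen_triv hI h.1 hc fun d hd => ?_, mul_one]
  · exact hs
  have := fx d hd hw
  rwa [mem_stabilizer_iff, e, mul_smul, smul_eq_iff_eq_inv_smul,
    show s⁻¹ • d = d from hd (inv_mem hs)] at this

theorem exists_common (a₀ : Ω) : ∃ a b P P' x, a ≠ b ∧ Fx Nf a b P ∧ Fx Nf b a P' ∧
    x ∈ P ∧ x ∈ P' ∧ x ≠ 1 := by
  by_contra! hc
  have key : ∀ a b P P', a ≠ b → Fx Nf a b P → Fx Nf b a P' → ∃ w ∈ P', ∃ s ∈ P, s ≠ 1 ∧ w ≠ 1 ∧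
      (∃ c ∈ centralizer (Nf a : Set G), w = s * c) ∧
      ∀ d : Ω, P' ≤ stabilizer G d → P ≤ stabilizer G d := by
    intro a b P P' hab h h'
    obtain ⟨w, hw, hw1⟩ := (H.ld b P' h'.1).exists_Z
    have hw2 := (H.ld b P' h'.1).Z_sq hw
    replace hw := (H.ld b P' h'.1).Z_le hw
    have wa : w • a = a := h'.2 hw
    have wb : w • b = b := H.le b (h'.1.le hw)
    obtain ⟨s, hs, c, hc', e⟩ := (H.ld a P h.1).cenS w (H.nrm wa) (mem_centralizer_iff.2 fun x hx => by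
      have := hc a b P P' (x * (w * x⁻¹ * w⁻¹)) hab h h'
        (mul_mem hx (conj_mem_nrm (H.fx_nrm h hab wa wb) (inv_mem hx))) (by
          rw [← mul_assoc, ← mul_assoc]
          exact mul_mem (conj_mem_nrm (H.fx_nrm h' hab.symm (h.2 hx) (H.le a (h.1.le hx))) hw)
            (inv_mem hw))
      rw [← mul_inv_eq_one, ← this]
      group)
    have hs1 : s ≠ 1 := by
      rintro rfl
      rw [one_mul] at e
      obtain ⟨k, hk, hkb⟩ := H.exists_move hab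
      have h1 : w ∈ Nf (k • b) := by
        have := H.conj_mem (h'.1.le hw) k
        rwa [e, mem_centralizer_iff.1 hc' k hk, mul_inv_cancel_right, ← e] at this
      obtain ⟨Q, hQ⟩ := hI b _ hkb.symm
      obtain ⟨Q', hQ'⟩ := hI _ b hkb
      exact hw1 (hc _ _ Q Q' w hkb.symm hQ hQ'
        (H.fx_mem hQ hkb.symm (h'.1.le hw) (H.le _ h1) (pow_two_one hw2))
        (H.fx_mem hQ' hkb h1 wb (pow_two_one hw2)))
    refine ⟨w, hw, s, hs, hs1, hw1, ⟨c, hc', e⟩, fun d hd => ?_⟩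
    by_cases had : a = d
    · exact had ▸ h.1.le.trans (H.le a)
    obtain ⟨Q, hQ⟩ := hI a d had
    obtain ⟨k, hk⟩ := isPGroup_iff_forall_mem.1 h.1.pgroup s hs
    refine H.le_stab hI h.1 hs hs1 (hQ.2 (mem_of_two hQ.1 (h.1.le hs) ?_ hk))
    rw [eq_mul_inv_of_mul_eq e.symm]
    exact mul_mem (H.fx_nrm hQ had wa (hd hw))
      (inv_mem (centralizer_le_normalizer _ (centralizer_le hQ.1.le hc')))
  obtain ⟨b, hb⟩ := H.nt a₀
  obtain ⟨P, h⟩ := hI a₀ b hb.symm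
  obtain ⟨P', h'⟩ := hI b a₀ hb
  obtain ⟨w, hw, s, hs, hs1, hw1, ⟨c, hc', e⟩, -⟩ := key _ _ P P' hb.symm h h'
  obtain ⟨-, -, -, -, -, -, -, k2⟩ := key _ _ P' P hb h' h
  rw [H.cen_triv hI h.1 hc' fun d hd => ?_, mul_one] at e
  · exact hw1 (hc _ _ P P' w hb.symm h h' (e ▸ hs) hw)
  have := k2 d hd hw
  rwa [mem_stabilizer_iff, e, mul_smul, smul_eq_iff_eq_inv_smul,
    show s⁻¹ • d = d from hd (inv_mem hs)] at this

theorem sym {a b : Ω} {P : Subgroup G} (h : Fx Nf a b P) : SylIn 2 P (Nf b) := by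
  by_cases hab : a = b
  · exact hab ▸ h.1
  obtain ⟨c, d, Q, Q', x, hcd, h1, h2, h3, h4, h5⟩ := H.exists_common hI a
  obtain rfl : Q = Q' := le_antisymm (H.le_of_common hI hcd.symm h2 h1 h4 h3 h5)
    (H.le_of_common hI hcd h1 h2 h3 h4 h5)
  obtain ⟨g, rfl, rfl⟩ := H.two c d a b hcd hab
  exact H.fx_uniq (H.fx_cj h1 g) h hab ▸ H.syl_cj h2.1 g

theorem scl_of_I : SCl Nf := fun a b w hw h2 ha => by
  by_cases hab : b = a
  · exact hab ▸ hw
  obtain ⟨P, h⟩ := hI b a hab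
  exact (H.sym hI h).le (H.fx_mem h hab hw ha (pow_two_one h2))

end Hy

end CL.Hir
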