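import Cfsg.Agent.PERM.Hir5
import Cfsg.Agent.INV.ZD.Types
import Cfsg.Agent.INV.SmallBasic

/-! The case where no Sylow 2-subgroup of `N^a` fixes a second point. -/

set_option autoImplicit false
set_option linter.unusedSectionVars false
open Cfsg MulAction Subgroup CL.MSS
open scoped commutatorElement

namespace CL.Hir

variable {G Ω : Type*} [Group G] [MulAction G Ω] [Finite G]

theorem LD.Om_eq {N S : Subgroup G} {n : ℕ} (L : LD N S n 1) : Om S = S :=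
  le_antisymm L.Z_le fun x hx => (L.memZ x).2 ⟨hx, L.one rfl x hx⟩

theorem LD.comm_eq {N S : Subgroup G} {n : ℕ} (L : LD N S n 1) {w : G}
    (h1 : w ∈ normalizer (N : Set G)) (h2 : w ∈ normalizer (S : Set G)) (h3 : w * w = 1)
    (h4 : w ∉ centralizer (S : Set G)) : (∀ e ∈ S, ⁅w, e⁆ ∈ S ⊓ centralizer {w}) ∧
      (∀ y ∈ S ⊓ centralizer {w}, ∃ e ∈ S, ⁅w, e⁆ = y) ∧
      2 ^ n ≤ Nat.card (S ⊓ centralizer {w} : Subgroup G) ^ 2 := by
  have e := L.Om_eq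
  obtain ⟨-, h5⟩ := L.fld w h1 h2 (h3 ▸ one_mem _) (e.symm ▸ h4)
  obtain ⟨B, hB, h6⟩ := ZD.exists_comm_range (fun x hx => L.cen x (e.symm ▸ hx)) h2
  have h7 : ∀ x ∈ S, ⁅w, x⁆ ∈ S ⊓ centralizer {w} := fun x hx => by
    have : ⁅w, x⁆ ∈ S := mul_mem (conj_mem_nrm h2 hx) (inv_mem hx)
    exact ⟨this, mem_centralizer_singleton_iff.2 (ZD.comm_comm_of_sq h3 (L.one rfl _ this))⟩
  have h8 : B ≤ S ⊓ centralizer {w} := fun y hy => by
    obtain ⟨x, hx, rfl⟩ := (hB y).1 hy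
    exact h7 x hx
  rw [e, ← pow_one (2 ^ n), ← L.cardS, h6, pow_two] at h5
  have h9 := eq_of_le_of_card_ge h8 (Nat.le_of_mul_le_mul_left h5 Nat.card_pos)
  refine ⟨h7, fun y hy => (hB y).1 (h9 ▸ hy), ?_⟩
  rw [← pow_one (2 ^ n), ← L.cardS, h6, h9, pow_two]

theorem LD.not_two_pow {N S P : Subgroup G} {n : ℕ} (L : ∀ P, SylIn 2 P N → LD N P n 1)
    (hS : SylIn 2 S N) (hP : SylIn 2 P N) (hne : P ≠ S) {s u : G} (h1 : s ∈ S) (h2 : s ≠ 1)
    (h3 : u ∈ P) (h4 : u ≠ 1) (k : ℕ) : (s * u) ^ 2 ^ k ≠ 1 := fun e => by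
  have e1 := (L S hS).one rfl s h1
  have e2 := (L P hP).one rfl u h3
  have hn : s ∈ normalizer (zpowers (s * u) : Set G) := by
    rw [mem_normalizer_iff_cj, cj_zpowers, ← zpowers_inv, ← mul_assoc, e1, one_mul, mul_inv_rev,
      inv_inv, PS.inv_eq_of_mul_self e2]
  obtain ⟨Q, hQ, h5⟩ := exists_sylIn_ge (isPGroup_sup_of_normalizes (two_zpowers e1)
    (isPGroup_zpowers e) (zpowers_le.2 hn))
    (sup_le (zpowers_le.2 (hS.le h1)) (zpowers_le.2 (mul_mem (hS.le h1) (hP.le h3))))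
  have h6 := h5 (mem_sup_left (mem_zpowers s))
  have h7 := (mul_mem_cancel_left h6).1 (h5 (mem_sup_right (mem_zpowers _)))
  exact hne (((L Q hQ).eq_of_mem hP h7 h3 h4).trans ((L Q hQ).eq_of_mem hS h6 h1 h2).symm)

/-- A Sylow 2-subgroup `T` of the stabilizer of `a` and `b` and Sylow 2-subgroups of `N^a`, `N^b`
normalized by `T`. -/
structure Cf (Nf : Ω → Subgroup G) (a b : Ω) (T S S' : Subgroup G) : Prop where
  ne : a ≠ b
  hT : SylIn 2 T (stabilizer G a ⊓ stabilizer G b)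
  hS : SylIn 2 S (Nf a)
  hS' : SylIn 2 S' (Nf b)
  nS : T ≤ normalizer (S : Set G)
  nS' : T ≤ normalizer (S' : Set G)

theorem Cf.symm {Nf : Ω → Subgroup G} {a b : Ω} {T S S' : Subgroup G} (C : Cf Nf a b T S S') :
    Cf Nf b a T S' S := ⟨C.ne.symm, inf_comm (stabilizer G a) _ ▸ C.hT, C.hS', C.hS, C.nS', C.nS⟩

namespace Hy

variable [Finite Ω] {Nf : Ω → Subgroup G} {n j : ℕ} (H : Hy Nf n j)
include H

section
variable {a b : Ω} {T S S' : Subgroup G} (C : Cf Nf a b T S S')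
include C

theorem mem_Om {x : G} (h1 : x ∈ T) (h2 : x ∈ Nf a) (h3 : x * x = 1) : x ∈ Om S :=
  ((H.ld a S C.hS).memZ x).2 ⟨mem_of_two C.hS h2 (C.nS h1) (pow_two_one h3), h3⟩

theorem exists_cj_le {c d : Ω} (hcd : c ≠ d) {E : Subgroup G} (h1 : E ≤ stabilizer G c)
    (h2 : E ≤ stabilizer G d) (h3 : ∀ x ∈ E, x * x = 1) :
    ∃ g : G, g • c = a ∧ g • d = b ∧ g •ᶜ E ≤ T ∧ ∀ x ∈ g •ᶜ E, x * x = 1 := by
  obtain ⟨g, rfl, rfl⟩ := H.two c d a b hcd C.ne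
  obtain ⟨k, hk, e⟩ := C.hT.exists_conj_le (isPGroup_cj g (isPGroup_iff_forall_mem.2
    fun x hx => ⟨1, pow_two_one (h3 x hx)⟩)) (le_inf (cj_le_stab h1 g) (cj_le_stab h2 g))
  refine ⟨k * g, by rw [mul_smul]; exact hk.1, by rw [mul_smul]; exact hk.2, cj_mul k g E ▸ e, ?_⟩
  intro x hx
  obtain ⟨y, hy, rfl⟩ := mem_cj'.1 hx
  rw [conj_sq, h3 y hy]
  group

theorem card_le_A {c d : Ω} (hcd : c ≠ d) {E : Subgroup G} (h1 : E ≤ Nf c)
    (h2 : E ≤ stabilizer G d) (h3 : ∀ x ∈ E, x * x = 1) :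
    Nat.card E ≤ Nat.card (T ⊓ Om S : Subgroup G) := by
  obtain ⟨g, rfl, -, e, h4⟩ := H.exists_cj_le C hcd (h1.trans (H.le c)) h2 h3
  rw [← card_cj g]
  exact card_le_of_le fun x hx => ⟨e hx, H.mem_Om C (e hx) (H.cj g c ▸ cj_mono g h1 hx) (h4 x hx)⟩

theorem card_le_D {c d : Ω} (hcd : c ≠ d) {E : Subgroup G} (h1 : E ≤ Nf c)
    (h2 : E ≤ Nf d) (h3 : ∀ x ∈ E, x * x = 1) :
    Nat.card E ≤ Nat.card (T ⊓ Om S' ⊓ Nf a : Subgroup G) := by
  obtain ⟨g, rfl, rfl, e, h4⟩ := H.exists_cj_le C hcd (h1.trans (H.le c)) (h2.trans (H.le d)) h3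
  rw [← card_cj g]
  exact card_le_of_le fun x hx => ⟨⟨e hx, H.mem_Om C.symm (e hx) (H.cj g d ▸ cj_mono g h2 hx)
    (h4 x hx)⟩, H.cj g c ▸ cj_mono g h1 hx⟩

theorem mem_T {y : G} (h1 : y ∈ Om S) (h2 : y • b = b) : y ∈ T := by
  have L := H.ld a S C.hS
  have := eq_of_le_of_card_ge (show T ⊓ Om S ≤ Om S ⊓ stabilizer G b from
    fun x hx => ⟨hx.2, (C.hT.le hx.1).2⟩) (H.card_le_A C C.ne
      (inf_le_left.trans (L.Z_le.trans C.hS.le)) inf_le_right fun x hx => L.Z_sq hx.1)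
  exact (this.ge ⟨h1, h2⟩).1

theorem exists_s {w : G} (h1 : w ∈ T ⊓ Om S') (h2 : w ∉ Nf a) : ∃ s ∈ T ⊓ Om S, s ∉ Nf b := by
  by_contra! hc
  have L := H.ld a S C.hS
  have L' := H.ld b S' C.hS'
  have := eq_of_le_of_card_ge (inf_le_left : T ⊓ Om S' ⊓ Nf a ≤ _) ((H.card_le_A C C.ne.symm
    (inf_le_right.trans (L'.Z_le.trans C.hS'.le)) (fun x hx => (C.hT.le hx.1).1)
    fun x hx => L'.Z_sq hx.2).trans (H.card_le_D C C.ne
      (inf_le_right.trans (L.Z_le.trans C.hS.le)) hc fun x hx => L.Z_sq hx.2))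
  exact h2 (this.ge h1).2

end

variable (hII : ¬ CaseI Nf)
include hII

theorem odd_of_II : Odd (Nat.card Ω) := by
  obtain ⟨a⟩ : Nonempty Ω := by
    by_contra! h
    exact hII fun a => h.elim a
  obtain ⟨P, hP⟩ := exists_sylIn 2 (Nf a)
  have h1 := hP.pgroup.card_modEq_card_fixedPoints Ω
  have h2 : fixedPoints P Ω = {a} := Set.eq_singleton_iff_unique_mem.2
    ⟨fun x => H.le a (hP.le x.2), fun b hb => by
      by_contra e
      exact hII (H.caseI_of ⟨hP, fun x hx => hb ⟨x, hx⟩⟩ (Ne.symm e))⟩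
  rw [h2, Nat.card_coe_set_eq, Set.ncard_singleton] at h1
  exact Nat.odd_iff.2 h1

theorem not_cen {a c : Ω} {w : G} {S : Subgroup G} (h1 : w ∈ Nf c) (h2 : w * w = 1)
    (h3 : w ∉ Nf a) (hS : SylIn 2 S (Nf a)) : w ∉ centralizer (S : Set G) := fun h4 => by
  obtain ⟨b, h5, h6⟩ := H.exists_F1 (H.odd_of_II hII) h1 h2 (fun e => h3 (e ▸ one_mem _))
    hS.pgroup fun x hx => mem_centralizer_singleton_iff.2 (mem_centralizer_iff.1 h4 x hx)
  exact hII (H.caseI_of ⟨hS, h6⟩ fun e => h3 (e ▸ h5))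

theorem not_sc {a c : Ω} {w : G} {S : Subgroup G} (h1 : w ∈ Nf c) (h2 : w * w = 1)
    (h3 : w ∉ Nf a) (hS : SylIn 2 S (Nf a)) : ¬ InSC (Nf a) S w := by
  rintro ⟨s, hs, k, hk, rfl⟩
  have L := H.ld a S hS
  have e := mem_centralizer_iff.1 hk s (hS.le hs)
  have e1 : s * s = (k * k)⁻¹ := by
    rw [eq_inv_iff_mul_eq_one, ← h2, mul_assoc, mul_assoc, ← mul_assoc k s, ← e, mul_assoc]
  refine H.not_cen hII h1 h2 h3 hS (mul_mem (mem_centralizer_iff.2 fun x hx => ?_)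
    (centralizer_le hS.le hk))
  exact (L.cen s ((L.memZ s).2 ⟨hs, L.disj _ (hS.le (mul_mem hs hs))
    (e1 ▸ inv_mem (mul_mem hk hk))⟩) x hx).symm

variable {a b : Ω} {T S S' : Subgroup G} (C : Cf Nf a b T S S')
include C

theorem mul_mem_D {y y' : G} (h1 : y ∈ T ⊓ Om S') (h2 : y ∉ Nf a) (h3 : y' ∈ T ⊓ Om S')
    (h4 : y' ∉ Nf a) : y * y' ∈ Nf a := by
  have L' := H.ld b S' C.hS'
  have m : ∀ x ∈ T ⊓ Om S', x ∉ Nf a → ¬ InSC (Nf a) S x := fun x hx e =>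
    H.not_sc hII (C.hS'.le (L'.Z_le hx.2)) (L'.Z_sq hx.2) e C.hS
  by_contra h5
  rcases (H.ld a S C.hS).rank y (H.nrm (C.hT.le h1.1).1) (C.nS h1.1) y' (H.nrm (C.hT.le h3.1).1)
    (C.nS h3.1) (L'.Z_sq h1.2) (L'.Z_sq h3.2) (L'.Z_sq (mul_mem h1.2 h3.2)) with e | e | e
  exacts [m _ h1 h2 e, m _ h3 h4 e, m _ (mul_mem h1 h3) h5 e]

theorem comm_B {w x : G} (h1 : w ∈ T ⊓ Om S') (h2 : w ∉ Nf a) (h3 : x ∈ Om S)
    (h4 : x * w = w * x) {y : G} (hy : y ∈ T ⊓ Om S') : x * y = y * x := by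
  have L := H.ld a S C.hS
  have L' := H.ld b S' C.hS'
  by_cases e : y ∈ Nf a
  · exact L.cen x h3 y (L.Z_le (H.mem_Om C hy.1 e (L'.Z_sq hy.2)))
  have h5 := L.cen x h3 _ (L.Z_le (H.mem_Om C (mul_mem hy.1 h1.1) (H.mul_mem_D hII C hy e h1 h2)
    (L'.Z_sq (mul_mem hy.2 h1.2))))
  rwa [mul_assoc y, ← h4, ← mul_assoc, ← mul_assoc, mul_left_inj] at h5

theorem fix_b {w x : G} (h1 : w ∈ T ⊓ Om S') (h2 : w ∉ Nf a) (h3 : x ∈ S)
    (h4 : x * w * x⁻¹ ∈ T ⊓ Om S') : x • b = b := by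
  have L := H.ld a S C.hS
  have L' := H.ld b S' C.hS'
  have k : ∀ y ∈ T ⊓ Om S', y ∈ Nf a → x * y * x⁻¹ = y := fun y hy e => by
    rw [← L.cen y (H.mem_Om C hy.1 e (L'.Z_sq hy.2)) x h3, mul_inv_cancel_right]
  have hn : x •ᶜ (T ⊓ Om S') = T ⊓ Om S' := cj_eq_of_le (cj_le_iff_forall.2 fun y hy => by
    by_cases e : y ∈ Nf a
    · rwa [k y hy e]
    rw [show x * y * x⁻¹ = x * (y * w) * x⁻¹ * (x * w * x⁻¹)⁻¹ by group,
      k _ (mul_mem hy h1) (H.mul_mem_D hII C hy e h1 h2)]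
    exact mul_mem (mul_mem hy h1) (inv_mem h4))
  by_contra e
  have h5 : T ⊓ Om S' ≤ Nf b := inf_le_right.trans (L'.Z_le.trans C.hS'.le)
  have := eq_of_le_of_card_ge (inf_le_left : T ⊓ Om S' ⊓ Nf a ≤ _) (H.card_le_D C e
    (by rw [← hn, ← H.cj]; exact cj_mono x h5) h5 fun x hx => L'.Z_sq hx.2)
  exact h2 (this.ge h1).2

theorem case_cen {w : G} (h1 : w ∈ T ⊓ Om S') (h2 : w ∉ Nf a) (h3 : S ⊓ centralizer {w} ≤ T)
    (h4 : w ∈ centralizer (Om S : Set G)) : False := by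
  have L := H.ld a S C.hS
  have L' := H.ld b S' C.hS'
  have w2 := L'.Z_sq h1.2
  have wa := H.nrm (C.hT.le h1.1).1
  have n1 := H.not_sc hII (C.hS'.le (L'.Z_le h1.2)) w2 h2 C.hS
  have hj : j = 3 := by
    by_contra e
    exact n1 (L.cenZ (by have := L.jc; omega) w wa (C.nS h1.1) h4)
  obtain ⟨c1, c2⟩ := L.c3 hj w wa (C.nS h1.1) w2 n1
  have hA : Om S ≤ T := fun y hy =>
    h3 ⟨L.Z_le hy, mem_centralizer_singleton_iff.2 (mem_centralizer_iff.1 h4 y hy)⟩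
  obtain ⟨s, hs, hsb⟩ := H.exists_s C h1 h2
  have s2 := L.Z_sq hs.2
  obtain ⟨-, c4⟩ := L'.c3 hj s (H.nrm (C.hT.le hs.1).2) (C.nS' hs.1) s2
    (H.not_sc hII (C.hS.le (L.Z_le hs.2)) s2 hsb C.hS')
  obtain ⟨y₀, hy₀, hy1, hyb⟩ : ∃ y ∈ Om S, y ≠ 1 ∧ y ∈ Nf b := by
    obtain ⟨u, hu, v, hv, u1, v1, uv⟩ := ZD.exists_two_ne_one (A := Om S) (by
      have := L.four_le; rw [L.cardZ]; omega)
    by_cases e : u ∈ Nf b
    · exact ⟨u, hu, u1, e⟩
    by_cases e' : v ∈ Nf b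
    · exact ⟨v, hv, v1, e'⟩
    exact ⟨u * v, mul_mem hu hv, fun e => uv (by
      rw [eq_inv_of_mul_eq_one_left e, PS.inv_eq_of_mul_self (L.Z_sq hv)]),
      H.mul_mem_D hII C.symm ⟨hA hu, hu⟩ e ⟨hA hv, hv⟩ e'⟩
  have hy' := H.mem_Om C.symm (hA hy₀) hyb (L.Z_sq hy₀)
  obtain ⟨x, hx, ex⟩ := c2 y₀ hy₀
  obtain ⟨y, hy, ey⟩ := c4 y₀ hy'
  have xb : x⁻¹ • b = b := H.fix_b hII C h1 h2 (inv_mem hx) (by
    rw [show x⁻¹ * w * x⁻¹⁻¹ = y₀ * w by rw [ex]; group]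
    exact mul_mem ⟨hA hy₀, hy'⟩ h1)
  have ya : y⁻¹ • a = a := H.fix_b hII C.symm hs hsb (inv_mem hy) (by
    rw [show y⁻¹ * s * y⁻¹⁻¹ = y₀ * s by rw [ey]; group]
    exact mul_mem ⟨hA hy₀, hy₀⟩ hs)
  have xS : x ∈ normalizer (S' : Set G) := L'.nrm_of_conj (inv_mem_iff.1 (H.nrm xb)) (L'.Z_le hy') hy1
    (by rw [← L.cen y₀ hy₀ x hx, mul_inv_cancel_right]; exact L'.Z_le hy')
  have yS : y ∈ normalizer (S : Set G) := L.nrm_of_conj (inv_mem_iff.1 (H.nrm ya)) (L.Z_le hy₀) hy1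
    (by rw [← L'.cen y₀ hy' y hy, mul_inv_cancel_right]; exact L.Z_le hy₀)
  have x2 := L.sq x hx
  by_cases e : x * x ∈ Nf b
  · have := L'.f3 hj x (inv_mem_iff.1 (H.nrm xb)) xS
      (InSC.of_mem (L'.Z_le (H.mem_Om C.symm (hA x2) e (L.Z_sq x2))))
    exact hy1 (by rw [ex, mem_centralizer_iff.1 this w h1.2]; group)
  have m1 : x⁻¹ * (y * x * y⁻¹) ∈ S := mul_mem (inv_mem hx) (conj_mem_nrm yS hx)
  have m2 : x⁻¹ * (y * x * y⁻¹) ∈ S' := by
    rw [← mul_assoc, ← mul_assoc]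
    exact mul_mem (conj_mem_nrm' xS hy) (inv_mem hy)
  have m3 := (L.memZ _).2 ⟨m1, c1 _ m1 (by rw [L'.cen w h1.2 _ m2, mul_inv_cancel_right])⟩
  have m4 : y * (x * x) * y⁻¹ = x * x := by
    calc _ = x * (x⁻¹ * (y * x * y⁻¹) * x) * (x⁻¹ * (y * x * y⁻¹)) := by group
      _ = x * x * (x⁻¹ * (y * x * y⁻¹) * (x⁻¹ * (y * x * y⁻¹))) := by rw [L.cen _ m3 x hx]; group
      _ = _ := by rw [L.Z_sq m3, mul_one]
  have m5 := L'.cen _ (H.mem_Om C.symm (mul_mem (hA x2) hs.1)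
    (H.mul_mem_D hII C.symm ⟨hA x2, x2⟩ e hs hsb) (L.Z_sq (mul_mem x2 hs.2))) y hy
  refine hy1 ?_
  rw [← mul_assoc y, mul_inv_eq_iff_eq_mul.1 m4, mul_assoc, mul_assoc, mul_assoc, mul_assoc,
    mul_right_inj, mul_right_inj] at m5
  rw [ey, m5]
  group

end Hy

namespace Hy

variable [Finite Ω] {Nf : Ω → Subgroup G} {n : ℕ} (H : Hy Nf n 1) (hII : ¬ CaseI Nf)
  {a b : Ω} {T S S' : Subgroup G} (C : Cf Nf a b T S S')
include H hII C

theorem case_four {w s : G} (h1 : w ∈ T ⊓ Om S') (h2 : w ∉ Nf a) (h3 : S ⊓ centralizer {w} ≤ T)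
    (hs : s ∈ S ⊓ centralizer {w}) (hsb : s ∉ Nf b) (hD : ∀ y ∈ T ⊓ Om S', y ∈ Nf a → y = 1) :
    False := by
  have L := H.ld a S C.hS
  have L' := H.ld b S' C.hS'
  have w2 := L'.Z_sq h1.2
  have wb := C.hS'.le (L'.Z_le h1.2)
  have wa := H.nrm (C.hT.le h1.1).1
  have w1 : w ≠ 1 := fun e => h2 (e ▸ one_mem _)
  obtain ⟨c1, c2, c3⟩ := L.comm_eq wa (C.nS h1.1) w2 (H.not_cen hII wb w2 h2 C.hS)
  have ow : orderOf w = 2 := orderOf_eq_prime (pow_two_one w2) w1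
  have hn : 2 ^ n = 4 := by
    have e1 : T ⊓ Om S' ≤ zpowers w := fun y hy => by
      by_cases e : y ∈ Nf a
      · rw [hD y hy e]; exact one_mem _
      rw [eq_inv_of_mul_eq_one_left (hD _ (mul_mem hy h1) (H.mul_mem_D hII C hy e h1 h2))]
      exact inv_mem (mem_zpowers w)
    have e2 := (H.card_le_A C.symm C.ne (inf_le_left.trans C.hS.le)
      (fun x hx => (C.hT.le (h3 hx)).2) fun x hx => L.one rfl x hx.1).trans (card_le_of_le e1)
    rw [Nat.card_zpowers, ow] at e2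
    have := L.four_le
    have := Nat.pow_le_pow_left e2 2
    omega
  have inv : ∀ c d u, c ≠ d → u ∈ Nf c → u ∈ Nf d → u * u = 1 → u = 1 := fun c d u hcd u1 u2 u3 => by
    have := H.card_le_D C hcd (zpowers_le.2 u1) (zpowers_le.2 u2) fun x hx => by
      obtain ⟨k, rfl⟩ := hx
      rw [← Commute.mul_zpow rfl, u3, one_zpow]
    rw [(eq_bot_iff_forall (T ⊓ Om S' ⊓ Nf a)).2 fun y hy => hD y hy.1 hy.2, card_bot,
      Nat.card_zpowers] at this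
    exact orderOf_eq_one_iff.1 (le_antisymm this (orderOf_pos u))
  have cf : ∀ c u g, u ∈ Nf c → u * u = 1 → u ≠ 1 → g * u = u * g → g • c = c :=
    fun c u g u1 u2 u3 e => by
      by_contra hc
      have := H.conj_mem u1 g
      rw [e, mul_inv_cancel_right] at this
      exact u3 (inv _ _ u hc this u1 u2)
  obtain ⟨P, hP, hPS, hwP⟩ : ∃ P, SylIn 2 P (Nf a) ∧ P ≠ S ∧ w ∈ normalizer (P : Set G) := by
    obtain ⟨P, hP, hPS⟩ := L.ex
    have ne : ∀ g ∈ normalizer (S : Set G), g •ᶜ P ≠ S := fun g hg e => hPS (by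
      rw [cj_eq_iff, cj_eq_of_mem_normalizer (inv_mem hg)] at e; exact e)
    obtain ⟨r, hr, e⟩ := L.reg P _ hP (hP.cj_of_mem_normalizer wa) hPS (ne w (C.nS h1.1))
    have m := conj_mem_nrm (C.nS h1.1) hr
    have e1 := L.free P hP hPS _ (mul_mem m hr) (by
      rw [mem_normalizer_iff_cj, cj_mul, e, ← cj_mul, inv_mul_cancel_right, cj_mul, e, ← cj_mul, w2,
        cj_one])
    obtain ⟨k, hk, rfl⟩ := c2 r ⟨hr, mem_centralizer_singleton_iff.2 (by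
      rw [eq_comm, ← mul_inv_eq_iff_eq_mul, eq_inv_of_mul_eq_one_left e1,
        PS.inv_eq_of_mul_self (L.one rfl r hr)])⟩
    refine ⟨k⁻¹ •ᶜ P, hP.cj_of_mem (C.hS.le (inv_mem hk)), ne _ (le_normalizer (inv_mem hk)), ?_⟩
    rw [mem_normalizer_iff_cj, ← cj_mul, show w * k⁻¹ = w * k⁻¹ * w⁻¹ * w by group, cj_mul, ← e,
      ← cj_mul, commutatorElement_def]
    congr 3
    group
  obtain ⟨⟨u, hu, hu2⟩, hu1⟩ := ne_bot_iff_exists_ne_one.1 (inf_centralizer_ne_bot (two_zpowers w2)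
    hP.pgroup (zpowers_le.2 hwP) fun e => (H.ld a P hP).Z_ne (eq_bot_iff.2 (e ▸ (H.ld a P hP).Z_le)))
  replace hu1 : u ≠ 1 := fun e => hu1 (Subtype.ext e)
  replace hu2 : u * w = w * u := (mem_centralizer_iff.1 hu2 w (mem_zpowers w)).symm
  have s1 : s ≠ 1 := fun e => hsb (e ▸ one_mem _)
  have hx := LD.not_two_pow (H.ld a) C.hS hP hPS hs.1 s1 hu hu1 2
  have xa : s * u ∈ Nf a := mul_mem (C.hS.le hs.1) (hP.le hu)
  have xw : s * u * w = w * (s * u) := by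
    rw [mul_assoc, hu2, ← mul_assoc, mem_centralizer_singleton_iff.1 hs.2, mul_assoc]
  generalize s * u = x at hx xa xw
  have xb := H.nrm (cf b w x wb w2 w1 xw)
  have xw' : x * w * x⁻¹ = w := by rw [xw, mul_inv_cancel_right]
  have xS := L'.nrm_of_conj xb (L'.Z_le h1.2) w1 (xw'.symm ▸ L'.Z_le h1.2)
  have hzw : zpowers w ≤ S' := zpowers_le.2 (L'.Z_le h1.2)
  have i2 : ((zpowers w).subgroupOf S').index = 2 := by
    have := ((zpowers w).subgroupOf S').card_mul_index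
    rw [Nat.card_congr (subgroupOfEquivOfLe hzw).toEquiv, Nat.card_zpowers, ow, L'.cardS, hn] at this
    omega
  have xz : ∀ y ∈ zpowers w, x * y * x⁻¹ = y := by
    rintro _ ⟨k, rfl⟩
    rw [← conj_zpow, xw']
  obtain ⟨r, hr, c, hc, e⟩ := L'.cenS (x * x) (mul_mem xb xb) (mem_centralizer_iff.2 fun y hy => by
    have m := conj_mem_nrm xS hy
    have m1 : x * y * x⁻¹ * y⁻¹ ∈ zpowers w :=
      (mul_mem_iff_of_index_two i2 (a := ⟨_, m⟩) (b := ⟨_, inv_mem hy⟩)).2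
        ⟨fun h => by
          have h : x * y * x⁻¹ ∈ zpowers w := h
          have := xz _ h
          rw [mul_left_inj, mul_right_inj] at this
          rw [this] at h
          exact inv_mem h, fun h => by
          have h : y ∈ zpowers w := inv_mem_iff.1 h
          change x * y * x⁻¹ ∈ zpowers w
          rwa [xz y h]⟩
    rw [eq_comm, ← mul_inv_eq_iff_eq_mul]
    calc _ = x * (x * y * x⁻¹ * y⁻¹) * x⁻¹ * (x * y * x⁻¹ * y⁻¹) * y := by group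
      _ = _ := by rw [xz _ m1, L'.one rfl _ (hzw m1), one_mul])
  have e4 : x ^ 2 ^ 2 = c * c := by
    calc x ^ 2 ^ 2 = (x * x) * (x * x) := by norm_num [pow_succ, mul_assoc]
      _ = r * (c * r) * c := by rw [e]; group
      _ = (r * r) * (c * c) := by rw [← mem_centralizer_iff.1 hc r (C.hS'.le hr)]; group
      _ = _ := by rw [L'.one rfl r hr, one_mul]
  have xc : x ^ 2 ^ 2 ∈ centralizer (Nf b : Set G) := e4 ▸ mul_mem hc hc
  have xa' : x ^ 2 ^ 2 ∈ Nf a := pow_mem xa _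
  generalize x ^ 2 ^ 2 = v at hx xc xa'
  obtain ⟨k, hk, hka⟩ := H.exists_move C.ne.symm
  obtain ⟨g, g1, g2⟩ := H.two a (k • a) a b hka.symm C.ne
  have da := H.conj_mem xa' g
  have db := H.conj_mem (show v ∈ Nf (k • a) by
    have := H.conj_mem xa' k
    rwa [mem_centralizer_iff.1 xc k hk, mul_inv_cancel_right] at this) g
  have d1 : g * v * g⁻¹ ≠ 1 := by simpa using hx
  rw [g1] at da
  rw [g2] at db
  generalize g * v * g⁻¹ = d at da db d1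
  have ov : Odd (orderOf v) := by
    by_contra ho
    obtain ⟨m, m1, m2⟩ := PS.exists_involution_pow ho
    exact hka (cf a _ k (pow_mem xa' m) m2 m1 (mem_centralizer_iff.1 (pow_mem xc m) k hk))
  have od : Odd (orderOf d) := by
    by_contra ho
    obtain ⟨m, m1, m2⟩ := PS.exists_involution_pow ho
    exact m1 (inv a b _ C.ne (pow_mem da m) (pow_mem db m) m2)
  let f : zpowers v × zpowers d →* Nf a := MonoidHom.mk'
    (fun p => ⟨p.1 * p.2, mul_mem (zpowers_le.2 xa' p.1.2) (zpowers_le.2 da p.2.2)⟩) fun p p' =>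
      Subtype.ext (by
        have := mem_centralizer_iff.1 (zpowers_le.2 xc p'.1.2) _ (zpowers_le.2 db p.2.2)
        change ((p.1 : G) * p'.1) * (p.2 * p'.2) = p.1 * p.2 * (p'.1 * p'.2)
        rw [mul_assoc, ← mul_assoc (p'.1 : G), ← this]
        group)
  have hf : Function.Injective f := (injective_iff_map_eq_one f).2 fun p e => by
    have e : (p.1 : G) * p.2 = 1 := congrArg Subtype.val e
    have e1 := L'.disj _ (zpowers_le.2 db p.2.2) (by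
      rw [← inv_eq_of_mul_eq_one_right e]; exact inv_mem (zpowers_le.2 xc p.1.2))
    rw [e1, mul_one] at e
    exact Prod.ext (Subtype.ext e) (Subtype.ext e1)
  have e5 := f.range.card_mul_index
  have e6 := L.card_N one_le_two
  rw [L.cardS, hn] at e6
  rw [← Nat.card_congr (MonoidHom.ofInjective hf).toEquiv, Nat.card_prod, Nat.card_zpowers,
    Nat.card_zpowers, e6] at e5
  have := L.simple
  have e7 := Small.two_mul_card_dvd_factorial (fun hc => by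
    obtain ⟨P, hP, hne⟩ := L.ex
    obtain ⟨g, hg, rfl⟩ := C.hS.exists_conj hP
    exact hne (cj_eq_of_mem_centralizer (mem_centralizer_iff.2 fun y hy =>
      congrArg Subtype.val (hc.1.1 (⟨y, C.hS.le hy⟩ : Nf a) ⟨g, hg⟩)))) f.range fun e => by
      rw [e, index_top, mul_one] at e5
      exact absurd (e5 ▸ ov.mul od) (by decide)
  have e8 : 3 ≤ orderOf v := by
    have := mt orderOf_eq_one_iff.1 hx
    obtain ⟨m, hm⟩ := ov
    omega
  have e9 : 3 ≤ orderOf d := by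
    have := mt orderOf_eq_one_iff.1 d1
    obtain ⟨m, hm⟩ := od
    omega
  have e10 : 9 ≤ orderOf v * orderOf d := Nat.mul_le_mul e8 e9
  obtain ⟨m, hm⟩ := ov.mul od
  rw [hm] at e5 e10
  rw [e6] at e7
  generalize f.range.index = i at e5 e7
  have : i ≤ 6 := by nlinarith
  interval_cases i <;> simp [Nat.factorial] at e7 <;> omega

theorem case_one {w : G} (h1 : w ∈ T ⊓ Om S') (h2 : w ∉ Nf a) (h3 : S ⊓ centralizer {w} ≤ T) :
    False := by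
  have L := H.ld a S C.hS
  have L' := H.ld b S' C.hS'
  have w2 := L'.Z_sq h1.2
  obtain ⟨c1, -, -⟩ := L.comm_eq (H.nrm (C.hT.le h1.1).1) (C.nS h1.1) w2
    (H.not_cen hII (C.hS'.le (L'.Z_le h1.2)) w2 h2 C.hS)
  by_cases h4 : ∀ s ∈ S ⊓ centralizer {w}, s ∈ Nf b
  · refine hII (H.caseI_of ⟨C.hS, fun x hx => H.fix_b hII C h1 h2 hx ?_⟩ C.ne)
    have m := c1 x hx
    rw [show x * w * x⁻¹ = ⁅w, x⁆⁻¹ * w by rw [commutatorElement_def]; group]
    exact mul_mem (inv_mem ⟨h3 m, H.mem_Om C.symm (h3 m) (h4 _ m) (L.one rfl _ m.1)⟩) h1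
  push Not at h4
  obtain ⟨s, hs, hsb⟩ := h4
  refine H.case_four hII C h1 h2 h3 hs hsb fun y hy hya => ?_
  have s2 := L.one rfl s hs.1
  have hs' : s ∈ T ⊓ Om S := ⟨h3 hs, L.Om_eq.symm ▸ hs.1⟩
  have hy' := H.mem_Om C hy.1 hya (L'.Z_sq hy.2)
  obtain ⟨-, c2, -⟩ := L'.comm_eq (H.nrm (C.hT.le hs'.1).2) (C.nS' hs'.1) s2
    (H.not_cen hII (C.hS.le hs.1) s2 hsb C.hS')
  obtain ⟨x, hx, rfl⟩ := c2 y ⟨L'.Z_le hy.2, mem_centralizer_singleton_iff.2 (L.cen y hy' s hs.1)⟩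
  have hx' : x ∈ Om S' := L'.Om_eq.symm ▸ hx
  have xa := H.fix_b hII C.symm hs' hsb hx (by
    rw [show x * s * x⁻¹ = ⁅s, x⁆⁻¹ * s by rw [commutatorElement_def]; group]
    exact mul_mem (inv_mem ⟨hy.1, hy'⟩) hs')
  exact commutatorElement_eq_one_iff_mul_comm.2 (H.comm_B hII C h1 h2 hs'.2
    (mem_centralizer_singleton_iff.1 hs.2) ⟨H.mem_T C.symm hx' xa, hx'⟩)

end Hy

theorem Hy.scl_of_II [Finite Ω] {Nf : Ω → Subgroup G} {n j : ℕ} (H : Hy Nf n j)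
    (hII : ¬ CaseI Nf) : SCl Nf := by
  intro a c w hw h2 wa
  by_contra hn
  obtain ⟨S, hS, h3⟩ := H.exists_syl (two_zpowers h2) (zpowers_le.2 wa)
  have L := H.ld a S hS
  have hc : zpowers w ≤ centralizer {w} := zpowers_le.2 (mem_centralizer_singleton_iff.2 rfl)
  have hR := isPGroup_sup_of_normalizes (two_zpowers h2)
    (hS.pgroup.to_le (inf_le_left : S ⊓ centralizer {w} ≤ S))
    (le_normalizer_inf h3 (hc.trans le_normalizer))
  obtain ⟨b, wb, h4⟩ := H.exists_F1 (H.odd_of_II hII) hw h2 (fun e => hn (e ▸ one_mem _)) hR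
    (sup_le hc inf_le_right)
  obtain ⟨T, hT, h5⟩ := exists_sylIn_ge hR (le_inf (sup_le (zpowers_le.2 wa)
    (inf_le_left.trans (hS.le.trans (H.le a)))) h4)
  obtain ⟨S₁, hS₁, h6⟩ := H.exists_syl hT.pgroup (hT.le.trans inf_le_left)
  obtain ⟨S', hS', h7⟩ := H.exists_syl hT.pgroup (hT.le.trans inf_le_right)
  have h8 : S ⊓ centralizer {w} ≤ T := le_sup_right.trans h5
  obtain rfl : S₁ = S := by
    obtain ⟨⟨u, hu, hu2⟩, hu1⟩ := ne_bot_iff_exists_ne_one.1 (inf_centralizer_ne_bot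
      (two_zpowers h2) hS.pgroup h3 fun e => L.Z_ne (eq_bot_iff.2 (e ▸ L.Z_le)))
    obtain ⟨k, hk⟩ := isPGroup_iff_forall_mem.1 hS.pgroup u hu
    exact L.eq_of_mem hS₁ hu (mem_of_two hS₁ (hS.le hu) (h6 (h8 ⟨hu,
      mem_centralizer_singleton_iff.2 (mem_centralizer_iff.1 hu2 w (mem_zpowers w)).symm⟩)) hk)
      fun e => hu1 (Subtype.ext e)
  have C : Cf Nf a b T S₁ S' := ⟨fun e => hn (e ▸ wb), hT, hS, hS', h6, h7⟩
  have wT := h5 (mem_sup_left (mem_zpowers w))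
  have h1 : w ∈ T ⊓ Om S' := ⟨wT, H.mem_Om C.symm wT wb h2⟩
  by_cases h9 : w ∈ centralizer (Om S₁ : Set G)
  · exact H.case_cen hII C h1 hn h8 h9
  obtain rfl : j = 1 := by
    rcases L.jc with e | e | e
    · exact e
    · exact absurd (L.fld w (H.nrm wa) (h6 wT) (h2 ▸ one_mem _) h9).1
        (Nat.not_even_iff_odd.2 (L.sz e))
    · exact absurd (L.f3 e w (H.nrm wa) (h6 wT) (h2 ▸ InSC.one)) h9
  exact H.case_one hII C h1 hn h8

end CL.Hir
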