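import Mathlib
import Cfsg.Agent.FGS.QBaer
import Cfsg.Agent.ODD.BG3Frob
import Cfsg.Agent.S0055

/-!
# Groups of automorphisms of an abelian group all of whose elements have the same fixed points
(Camina), and solvable groups whose elements of prime power order have two class sizes
-/

set_option autoImplicit false

namespace CL.Ito

open Subgroup Cfsg CL.CS

variable {X : Type*} [Group X] [Finite X]

theorem commutator_ne_bot {F V L : Subgroup X} [IsMulCommutative V]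
    (hFV : F ≤ normalizer (V : Set X))
    (hfix : ∀ x ∈ F, x ≠ 1 → V ⊓ 𝐂[x] ≤ centralizer (F : Set X))
    (hne : ¬ V ≤ centralizer (F : Set X)) (hL : L ≤ F) (hL1 : L ≠ ⊥)
    (hcop : (Nat.card L).Coprime (Nat.card V)) :
    ⁅V, L⁆ ≠ ⊥ ∧ ⁅V, L⁆ ≤ V ∧ ⁅V, L⁆ ⊓ centralizer (L : Set X) = ⊥ ∧
      ∀ P ≤ F, P ≠ ⊥ → ⁅V, L⁆ ⊓ centralizer (P : Set X) = ⊥ := by
  obtain ⟨h1, h2⟩ := Cfsg.Agent.S0055.result L V (hL.trans hFV) hcop
  have h3 : ⁅V, L⁆ ≤ V := le_sup_right.trans h2.le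
  have h4 : ⁅V, L⁆ ⊓ centralizer (L : Set X) = ⊥ :=
    eq_bot_iff.2 fun u hu => h1.le ⟨⟨h3 hu.1, hu.2⟩, hu.1⟩
  refine ⟨fun h0 => hne fun v hv => ?_, h3, h4, fun P hP hP1 => eq_bot_iff.2 fun u hu => ?_⟩
  · obtain ⟨⟨l, hl⟩, hl1⟩ := ne_bot_iff_exists_ne_one.1 hL1
    rw [h0, sup_bot_eq] at h2
    exact hfix l (hL hl) (fun e => hl1 (Subtype.ext e))
      ⟨hv, mem_cen.2 ((h2.ge hv).2 l hl).symm⟩
  · obtain ⟨⟨l, hl⟩, hl1⟩ := ne_bot_iff_exists_ne_one.1 hP1
    exact h4.le ⟨hu.1, centralizer_le hL (hfix l (hP hl) (fun e => hl1 (Subtype.ext e))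
      ⟨h3 hu.1, mem_cen.2 (hu.2 l hl).symm⟩)⟩

theorem eq_bot_of_normalizes {r : ℕ} [Fact r.Prime] {F V L P : Subgroup X} [IsMulCommutative V]
    (hV : IsPGroup r V) (hFV : F ≤ normalizer (V : Set X))
    (hfix : ∀ x ∈ F, x ≠ 1 → V ⊓ 𝐂[x] ≤ centralizer (F : Set X))
    (hne : ¬ V ≤ centralizer (F : Set X)) (hL : L ≤ F) (hcop : (Nat.card L).Coprime r)
    (hP : IsPGroup r P) (hPF : P ≤ F) (hP1 : P ≠ ⊥) (hPL : P ≤ normalizer (L : Set X)) : L = ⊥ := by
  by_contra hL1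
  obtain ⟨h1, h2, -, h4⟩ := commutator_ne_bot hFV hfix hne hL hL1 (coprime_card_of_isPGroup hV hcop)
  exact CL.inf_centralizer_ne_bot_of_isPGroup (hV.to_le h2) hP
    (le_normalizer_commutator (hPF.trans hFV) hPL) h1 (h4 P hPF hP1)

theorem no_frobenius {F W K R : Subgroup X} [IsMulCommutative W]
    (hFW : F ≤ normalizer (W : Set X))
    (hfix : ∀ x ∈ F, x ≠ 1 → W ⊓ 𝐂[x] ≤ centralizer (F : Set X))
    (hne : ¬ W ≤ centralizer (F : Set X)) (hK : K ≤ F) (hR : R ≤ F)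
    (hcop : (Nat.card K).Coprime (Nat.card W)) (hK1 : K ≠ ⊥) (hR1 : R ≠ ⊥)
    (hRK : R ≤ normalizer (K : Set X)) (hreg : ∀ x ∈ R, x ≠ 1 → K ⊓ 𝐂[x] = ⊥) : False := by
  obtain ⟨h1, h2, h3, h4⟩ := commutator_ne_bot hFW hfix hne hK hK1 hcop
  have h5 := CL.BG.Frobenius_abelian_cent_compl hRK hreg (isMulCommutative_of_le inferInstance h2)
    (normalizer_commutator_ge_right W K) (le_normalizer_commutator (hR.trans hFW) hRK)
    (hcop.symm.coprime_dvd_left (card_dvd_of_le h2)) (h4 R hR hR1)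
  exact h1 (eq_bot_iff.2 (h3 ▸ le_inf le_rfl (le_centralizer_iff.1 h5)))

theorem card_eq_prime {r : ℕ} [hr : Fact r.Prime] {F V W : Subgroup X} [IsMulCommutative V]
    [IsMulCommutative W] (hV : IsPGroup r V) (hW : (Nat.card W).Coprime r)
    (hFV : F ≤ normalizer (V : Set X)) (hFW : F ≤ normalizer (W : Set X))
    (hfV : ∀ x ∈ F, x ≠ 1 → V ⊓ 𝐂[x] ≤ centralizer (F : Set X))
    (hfW : ∀ x ∈ F, x ≠ 1 → W ⊓ 𝐂[x] ≤ centralizer (F : Set X))
    (hnV : ¬ V ≤ centralizer (F : Set X)) (hnW : ¬ W ≤ centralizer (F : Set X))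
    (h1 : r ∣ Nat.card F) (h2 : ¬ r ^ 2 ∣ Nat.card F) : Nat.card F = r := by
  obtain ⟨P⟩ : Nonempty (Sylow r F) := inferInstance
  have hP : Nat.card P = r := by
    obtain ⟨k, hk⟩ := P.2.exists_card_eq
    have h3 := P.dvd_card_of_dvd_card h1
    have h4 := card_subgroup_dvd_card (P : Subgroup F)
    rw [hk] at h3 h4 ⊢
    rcases k with _ | _ | k
    · exact absurd (Nat.dvd_one.1 h3) hr.out.one_lt.ne'
    · simp
    · exact absurd ((pow_dvd_pow r (by omega)).trans h4) h2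
  set K := (P : Subgroup F).map F.subtype with hKdef
  have hK : Nat.card K = r := by rw [hKdef, card_map_of_injective F.subtype_injective, hP]
  have hK1 : K ≠ ⊥ := fun e => hr.out.one_lt.ne' (by rw [← hK, e, card_bot])
  have hKF : K ≤ F := map_subtype_le _
  have hKp : IsPGroup r K := P.2.map _
  have hN : normalizer ((P : Subgroup F) : Set F) ≤ P := by
    by_contra hN
    have h3 : (P : Subgroup F).relIndex (normalizer ((P : Subgroup F) : Set F)) ≠ 1 :=
      fun e => hN (relIndex_eq_one.1 e)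
    obtain ⟨s, hs, hsd⟩ := Nat.exists_prime_and_dvd h3
    have := Fact.mk hs
    have hsr : s ≠ r := by
      rintro rfl
      exact P.not_dvd_index (hsd.trans (relIndex_dvd_index_of_le le_normalizer))
    obtain ⟨l, hl⟩ := exists_prime_orderOf_dvd_card' (G := normalizer ((P : Subgroup F) : Set F)) s
      (hsd.trans (relIndex_dvd_card _ _))
    have ho : orderOf ((l : F) : X) = s := by rw [orderOf_coe, orderOf_coe, hl]
    have hR : Nat.card (zpowers ((l : F) : X)) = s := by rw [Nat.card_zpowers, ho]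
    have hR1 : zpowers ((l : F) : X) ≠ ⊥ := fun e => hs.one_lt.ne' (by rw [← hR, e, card_bot])
    have hRF : zpowers ((l : F) : X) ≤ F := zpowers_le.2 (l : F).2
    have hRK : zpowers ((l : F) : X) ≤ normalizer (K : Set X) :=
      zpowers_le.2 (le_normalizer_map F.subtype ⟨l, l.2, rfl⟩)
    by_cases hc : K ⊓ centralizer (zpowers ((l : F) : X) : Set X) = ⊥
    · exact no_frobenius hFW hfW hnW hKF hRF (hK ▸ hW.symm) hK1 hR1 hRK
        (CL.BG.semiregular_of_prime_card (hR ▸ hs) hc)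
    · have h4 : K ≤ centralizer (zpowers ((l : F) : X) : Set X) := by
        have h5 := card_dvd_of_le (inf_le_left : K ⊓ centralizer (zpowers ((l : F) : X) : Set X) ≤ K)
        rw [hK, Nat.dvd_prime hr.out] at h5
        exact inf_eq_left.1 (eq_of_le_of_card_ge inf_le_left
          ((h5.resolve_left fun e => hc (card_eq_one.1 e)).trans hK.symm).ge)
      exact hR1 (eq_bot_of_normalizes hV hFV hfV hnV hRF
        (hR ▸ (Nat.coprime_primes hs hr.out).2 hsr) hKp hKF hK1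
        (h4.trans (centralizer_le_normalizer _)))
  have := isCyclic_of_prime_card hP
  have h3 := MonoidHom.ker_transferSylow_isComplement' P
    (hN.trans (le_centralizer (P : Subgroup F)))
  set L := (MonoidHom.transferSylow P (hN.trans (le_centralizer (P : Subgroup F)))).ker
  have h4 : L.map F.subtype = ⊥ := by
    refine eq_bot_of_normalizes hV hFV hfV hnV (map_subtype_le _) ?_ hKp hKF hK1
      (hKF.trans ((normal_subgroupOf_iff_le_normalizer (map_subtype_le _)).1 ?_))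
    · rw [card_map_of_injective F.subtype_injective, ← h3.index_eq_card]
      exact (hr.out.coprime_iff_not_dvd.2 P.not_dvd_index).symm
    · rw [subgroupOf, comap_map_eq_self_of_injective F.subtype_injective]
      infer_instance
  rw [← h3.card_mul_card, (map_eq_bot_iff_of_injective _ F.subtype_injective).1 h4, card_bot, one_mul,
    hP]

open SemidirectProduct in
/-- **Camina.** Automorphisms of an abelian group with a common set of fixed points. -/
theorem card_eq_prime' {F E : Type*} [Group F] [Finite F] [CommGroup E] [Finite E]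
    (φ : F →* MulAut E) {r : ℕ} [hr : Fact r.Prime] {a b : E} {k : ℕ} (ha : a ^ r ^ k = 1)
    (hb : (orderOf b).Coprime r) (ha' : ∃ y, φ y a ≠ a) (hb' : ∃ y, φ y b ≠ b)
    (hfix : ∀ x : F, x ≠ 1 → ∀ v : E, v ^ r ^ k = 1 ∨ v ^ orderOf b = 1 → φ x v = v →
      ∀ y, φ y v = v)
    (h1 : r ∣ Nat.card F) (h2 : ¬ r ^ 2 ∣ Nat.card F) : Nat.card F = r := by
  have : Finite (E ⋊[φ] F) := Finite.of_equiv _ equivProd.symm
  let T : ℕ → Subgroup (E ⋊[φ] F) := fun n => (powMonoidHom n : E →* E).ker.map inl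
  have hc : ∀ (v : E) (f : F), Commute (inl v : E ⋊[φ] F) (inr f) ↔ φ f v = v := fun v f => by
    rw [← inl_inj (φ := φ), inl_aut, map_inv, mul_inv_eq_iff_eq_mul, eq_comm]
    rfl
  have hN : ∀ n, (inr : F →* E ⋊[φ] F).range ≤ normalizer (T n : Set _) := by
    rintro n _ ⟨f, rfl⟩
    refine mem_normalizer_fintype ?_
    rintro _ ⟨v, hv, rfl⟩
    refine ⟨φ f v, ?_, by rw [inl_aut, map_inv]⟩
    change φ f v ^ n = 1
    rw [← map_pow, show v ^ n = 1 from hv, map_one]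
  have hf : ∀ n, n = r ^ k ∨ n = orderOf b → ∀ x ∈ (inr : F →* E ⋊[φ] F).range, x ≠ 1 →
      T n ⊓ 𝐂[x] ≤ centralizer ((inr : F →* E ⋊[φ] F).range : Set _) := by
    rintro n hn _ ⟨f, rfl⟩ hf1 _ ⟨⟨v, hv, rfl⟩, h3⟩ _ ⟨y, rfl⟩
    refine ((hc v y).2 (hfix f (fun e => hf1 (by rw [e, map_one])) v ?_
      ((hc v f).1 (mem_cen.1 h3)) y)).symm
    have hv' : v ^ n = 1 := hv
    rcases hn with rfl | rfl
    exacts [.inl hv', .inr hv']
  have hne : ∀ n (v : E), v ^ n = 1 → (∃ y, φ y v ≠ v) →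
      ¬ T n ≤ centralizer ((inr : F →* E ⋊[φ] F).range : Set _) := by
    rintro n v hv ⟨y, hy⟩ h3
    exact hy ((hc v y).1 (h3 ⟨v, hv, rfl⟩ _ ⟨y, rfl⟩).symm)
  have hcard : Nat.card (inr : F →* E ⋊[φ] F).range = Nat.card F :=
    (Nat.card_congr (MonoidHom.ofInjective inr_injective).toEquiv).symm
  rw [← hcard] at h1 h2 ⊢
  refine card_eq_prime (V := T (r ^ k)) (W := T (orderOf b)) (IsPGroup.map (fun v => ⟨k, Subtype.ext v.2⟩) _)
    ?_ (hN _) (hN _) (hf _ (.inl rfl)) (hf _ (.inr rfl)) (hne _ a ha ha')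
    (hne _ b (pow_orderOf_eq_one b) hb') h1 h2
  rw [card_map_of_injective inl_injective]
  refine (hr.out.coprime_iff_not_dvd.2 fun hd => ?_).symm
  obtain ⟨g, hg⟩ := exists_prime_orderOf_dvd_card' r hd
  have h3 : orderOf g ∣ orderOf b := by
    rw [← orderOf_coe]; exact orderOf_dvd_of_pow_eq_one g.2
  exact hr.out.coprime_iff_not_dvd.1 hb.symm (hg ▸ h3)

variable {G : Type*} [Group G] [Finite G]

theorem relIndex_center_eq {x y : G} (h : (𝐂[x]).index = (𝐂[y]).index) :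
    (center G).relIndex 𝐂[x] = (center G).relIndex 𝐂[y] :=
  Nat.eq_of_mul_eq_mul_right (index_cen_pos x) (by
    rw [relIndex_center_mul_index, h, relIndex_center_mul_index])

theorem isPGroup_zpowers {p k : ℕ} {x : G} (h : x ^ p ^ k = 1) : IsPGroup p (zpowers x) := by
  rintro ⟨_, i, rfl⟩
  exact ⟨k, Subtype.ext (by
    change (x ^ i) ^ p ^ k = 1
    rw [← zpow_natCast, ← zpow_mul, mul_comm, zpow_mul, zpow_natCast, h, one_zpow])⟩

/-- If all primes but `u` have central elements only, class sizes are powers of `u`. -/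
theorem index_eq_pow_of_forall {u : ℕ} {H : Subgroup G}
    (h : ∀ (w : ℕ) (y : G) (k : ℕ), w.Prime → w ≠ u → y ^ w ^ k = 1 → y ∈ H) :
    ∃ a, H.index = u ^ a :=
  ⟨_, Nat.eq_prime_pow_of_unique_prime_dvd FiniteIndex.index_ne_zero fun {w} hw hd => by
    by_contra hne
    have := Fact.mk hw
    obtain ⟨P⟩ : Nonempty (Sylow w G) := inferInstance
    exact not_dvd_index_of_sylow_le (P := P)
      (fun y hy => let ⟨k, hk⟩ := pow_eq_one_of_mem_isPGroup P.2 hy; h w y k hw hne hk) hd⟩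

theorem pCore_le_cen {r w k : ℕ} (hr : r.Prime) (hw : w.Prime) (hwr : w ≠ r) {z : G}
    (hz : z ^ w ^ k = 1) (h : ∀ v ∈ pCore r G, v ∉ center G → (𝐂[v]).index = (𝐂[z]).index) :
    pCore r G ≤ 𝐂[z] := by
  have := Fact.mk hr
  obtain ⟨R⟩ : Nonempty (Sylow r 𝐂[z]) := inferInstance
  rw [← cen_zpowers]
  refine thompson_p_times_q ((R : Subgroup 𝐂[z]).map (Subgroup.subtype _)) (zpowers z) _
    (R.2.map _) (by rw [Nat.card_zpowers]; exact coprime_of_pow_of_ne hr hw hwr hz)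
    (isPGroup_pCore r G) (by rw [cen_zpowers]; exact map_subtype_le _) le_normalizer_of_normal
    le_normalizer_of_normal fun v hv => ?_
  rw [cen_zpowers]
  by_cases hvZ : v ∈ center G
  · exact center_le_cen z hvZ
  obtain ⟨j, hj⟩ := pow_eq_one_of_mem_isPGroup (isPGroup_pCore r G) hv.1
  set R' := (R : Subgroup 𝐂[z]).map (Subgroup.subtype _) with hR'
  have h1 : R' ≤ 𝐂[v] := le_cen_iff.2 hv.2
  have h2 : IsPGroup r ↥(R' ⊔ zpowers v) := IsPGroup.to_sup_of_normal_right' (R.2.map _)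
    (isPGroup_zpowers hj) (h1.trans (cen_zpowers v ▸ centralizer_le_normalizer _))
  have h3 : Nat.card ↥(R' ⊔ zpowers v) ∣ Nat.card 𝐂[z] := by
    have e : Nat.card 𝐂[v] = Nat.card 𝐂[z] := Nat.eq_of_mul_eq_mul_right (index_cen_pos v) (by
      rw [card_mul_index, h v hv.1 hvZ, card_mul_index])
    exact e ▸ card_dvd_of_le (sup_le h1 (zpowers_le_cen v))
  obtain ⟨n, hn⟩ := h2.exists_card_eq
  have h4 : Nat.card ↥(R' ⊔ zpowers v) ≤ Nat.card R' := by
    rw [hR', card_map_of_injective (subtype_injective _), hn]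
    exact Nat.le_of_dvd Nat.card_pos (R.pow_dvd_card_of_pow_dvd_card (hn ▸ h3))
  have h5 := eq_of_le_of_card_ge (le_sup_left : R' ≤ R' ⊔ zpowers v) h4
  exact map_subtype_le _ (h5.ge (mem_sup_right (mem_zpowers v)))

/-- A solvable group whose elements of prime power order have class sizes `1` or `m` is the product
of a `u`-group and a central subgroup. -/
theorem exists_prime_of_isSolvable [Group.IsSolvable G] {m : ℕ}
    (h : ∀ (q : ℕ) (x : G) (k : ℕ), q.Prime → x ^ q ^ k = 1 → x ∉ center G → (𝐂[x]).index = m) :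
    ∃ u : ℕ, u.Prime ∧ ∀ (w : ℕ) (y : G) (k : ℕ), w.Prime → w ≠ u → y ^ w ^ k = 1 →
      y ∈ center G := by
  have key : ∀ (r : ℕ), r.Prime → ∀ (w : ℕ) (z : G) (k : ℕ), w.Prime → w ≠ r → z ^ w ^ k = 1 →
      pCore r G ≤ 𝐂[z] := by
    intro r hr w z k hw hwr hz
    by_cases hzZ : z ∈ center G
    · rw [cen_eq_top_iff.2 hzZ]; exact le_top
    refine pCore_le_cen hr hw hwr hz fun v hv hvZ => ?_
    obtain ⟨j, hj⟩ := pow_eq_one_of_mem_isPGroup (isPGroup_pCore r G) hv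
    rw [h r v j hr hj hvZ, h w z k hw hz hzZ]
  have hpow : ∀ r : ℕ, r.Prime → ¬ pCore r G ≤ center G → m ≠ 1 ∧ ∃ a, m = r ^ a := by
    intro r hr hn
    have := Fact.mk hr
    obtain ⟨y, hy, hyZ⟩ := SetLike.not_le_iff_exists.1 hn
    obtain ⟨j, hj⟩ := pow_eq_one_of_mem_isPGroup (isPGroup_pCore r G) hy
    rw [← h r y j hr hj hyZ]
    exact ⟨fun e => hyZ (index_cen_eq_one_iff.1 e), index_eq_pow_of_forall
      fun w z k hw hwr hz => mem_cen_comm.1 (key r hr w z k hw hwr hz hy)⟩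
  have fin : ∀ u : ℕ, (∀ r : ℕ, r.Prime → r ≠ u → pCore r G ≤ center G) →
      ∀ (w : ℕ) (y : G) (k : ℕ), w.Prime → w ≠ u → y ^ w ^ k = 1 → y ∈ center G := by
    intro u hu w y k hw hwu hy
    have := Fact.mk hw
    have h1 : fittingSubgroup G ≤ 𝐂[y] := by
      rw [fittingSubgroup_eq_iSup_pCore]
      refine iSup_le fun r => ?_
      by_cases e : w = r
      · exact (hu r r.2 (e ▸ hwu)).trans (center_le_cen y)
      · exact key r r.2 w y k hw e hy
    exact hu w hw hwu (le_pCore_of_le_fittingSubgroup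
      (zpowers_le.2 (centralizer_fittingSubgroup_le G (le_cen_iff.1 h1))) (isPGroup_zpowers hy)
      (mem_zpowers y))
  by_cases hall : ∀ r : ℕ, r.Prime → pCore r G ≤ center G
  · exact ⟨2, Nat.prime_two, fin 2 fun r hr _ => hall r hr⟩
  push Not at hall
  obtain ⟨u, hu, hn⟩ := hall
  refine ⟨u, hu, fin u fun r hr hru => ?_⟩
  by_contra hn'
  obtain ⟨h1, a, ha⟩ := hpow u hu hn
  obtain ⟨-, b, hb⟩ := hpow r hr hn'
  exact h1 (Nat.eq_one_of_dvd_coprimes (Nat.Coprime.pow a b ((Nat.coprime_primes hu hr).2 hru.symm))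
    ha.dvd hb.dvd)

end CL.Ito
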