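import Mathlib
import Cfsg.Agent.PERM.Ito1
import Cfsg.Agent.FGS.Kazarin

/-!
# Groups in which centralizers of `p'`-elements are products of a `p`-group and an abelian group
(Camina)
-/

set_option autoImplicit false

namespace CL.Ito

open Subgroup Cfsg CL.CS
open scoped commutatorElement Pointwise

variable {G : Type*} [Group G] [Finite G] {p : ℕ}

/-- a non-central `r`-element, `r ≠ p` prime -/
structure Good (p r : ℕ) (g : G) : Prop where
  prime : r.Prime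
  ne : r ≠ p
  pow : ∃ k, g ^ r ^ k = 1
  nc : g ∉ center G

omit [Finite G] in
theorem Good.coprime (hp : p.Prime) {r : ℕ} {g : G} (h : Good p r g) : (orderOf g).Coprime p :=
  let ⟨_, hk⟩ := h.pow; Nat.Coprime.coprime_dvd_left (orderOf_dvd_of_pow_eq_one hk)
    (((Nat.coprime_primes h.prime hp).2 h.ne).pow_left _)

omit [Finite G] in
theorem Good.conj {r : ℕ} {g : G} (h : Good p r g) (x : G) : Good p r (x * g * x⁻¹) :=
  ⟨h.prime, h.ne, let ⟨k, hk⟩ := h.pow; ⟨k, by rw [conj_pow, hk]; simp⟩, fun e => h.nc (by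
    simpa [mul_assoc] using (inferInstance : (center G).Normal).conj_mem _ e x⁻¹)⟩

theorem exists_good (hp : p.Prime) {b : G} (hb : (orderOf b).Coprime p) (hZ : b ∉ center G) :
    ∃ r, ∃ c ∈ zpowers b, Good p r c := by
  by_contra! h
  refine hZ (mem_of_forall_primePow_mem fun y hy q j hq hj => ?_)
  by_contra hyZ
  refine h q y hy ⟨hq, ?_, ⟨j, hj⟩, hyZ⟩
  rintro rfl
  exact hyZ (mem_of_pow_mem_of_coprime
    ((hb.coprime_dvd_left (orderOf_dvd_of_mem_zpowers hy)).pow_right j)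
    (by rw [pow_orderOf_eq_one]; exact one_mem _) (hj ▸ one_mem _))

variable (G p) in
/-- the hypotheses of Camina's theorem -/
structure Hyp : Prop where
  prime : p.Prime
  cen : ∀ (r : ℕ) (g : G), Good p r g → ∀ b ∈ 𝐂[g], (orderOf b).Coprime p → 𝐂[g] ≤ 𝐂[b]
  idx : ∀ (r r' : ℕ) (g g' : G), Good p r g → Good p r' g' → ∀ s j : ℕ, s.Prime → s ≠ p →
    s ^ j ∣ (𝐂[g]).index → s ^ j ∣ (𝐂[g']).index

namespace Hyp

variable (H : Hyp G p)
include H

theorem cen_eq {r : ℕ} {g b : G} (hg : Good p r g) (hb : b ∈ 𝐂[g]) (ho : (orderOf b).Coprime p)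
    (hZ : b ∉ center G) : 𝐂[b] = 𝐂[g] := by
  refine le_antisymm ?_ (H.cen r g hg b hb ho)
  obtain ⟨s, c, hc, h⟩ := exists_good H.prime ho hZ
  exact (cen_le_cen_of_mem_zpowers hc).trans
    (H.cen s c h g (mem_cen_comm.1 (zpowers_le.2 hb hc)) (hg.coprime H.prime))

theorem cen_eq' {r s : ℕ} {g b : G} (hg : Good p r g) (hb : b ∈ 𝐂[g]) (h : Good p s b) :
    𝐂[b] = 𝐂[g] := H.cen_eq hg hb (h.coprime H.prime) h.nc

theorem exists_mem {r s : ℕ} {a g : G} (ha : Good p r a) (hg : Good p s g) :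
    ∃ b ∈ 𝐂[g], Good p r b := by
  have := Fact.mk ha.prime
  obtain ⟨k, hk⟩ := ha.pow
  have h1 := dvd_relIndex_of_pElement (self_mem_cen a) ha.nc hk
  have h2 : r ∣ (center G).relIndex 𝐂[g] := by
    by_contra h0
    refine not_dvd_of_forall_pow (b := (center G).index) ha.prime (index_cen_pos a).ne'
      (fun j hj => H.idx s r g a hg ha r j ha.prime ha.ne ?_)
      (relIndex_center_mul_index a).dvd h1
    rw [← relIndex_center_mul_index g] at hj
    exact ((ha.prime.coprime_iff_not_dvd.2 h0).pow_left j).dvd_of_dvd_mul_left hj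
  obtain ⟨b, hb, hZ, hk⟩ := exists_pElement_not_mem_of_dvd_relIndex h2
  exact ⟨b, hb, ha.prime, ha.ne, hk, hZ⟩

theorem mem_normalizer {r : ℕ} {g n : G} (hg : Good p r g) (h : n * g * n⁻¹ ∈ 𝐂[g]) :
    n ∈ normalizer (𝐂[g] : Set G) := by
  rw [CL.mem_normalizer_iff_conj_smul_eq, ← cen_conj]
  exact H.cen_eq' hg h (hg.conj n)

theorem not_sq_dvd {r w s : ℕ} {a b g : G} (ha : Good p r a) (hb : Good p w b) (hrw : r ≠ w)
    (hg : Good p s g) : ¬ r ^ 2 ∣ (𝐂[g]).index := by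
  have := Fact.mk ha.prime
  obtain ⟨k, hk⟩ := ha.pow
  obtain ⟨S, x, hxS, -, hxZ, hxp, hS⟩ := exists_second_center (N := ⊤) trivial ha.nc hk
  have hx : Good p r x := ⟨ha.prime, ha.ne, pow_eq_one_of_mem_isPGroup S.2 hxS, hxZ⟩
  refine fun h => (?_ : ¬ r ^ 2 ∣ (𝐂[x]).index) (H.idx _ _ _ _ hg hx r 2 ha.prime ha.ne h)
  obtain ⟨c, hcx, hc⟩ := H.exists_mem hb hx
  obtain ⟨j, hj⟩ := hc.pow
  have : IsMulCommutative ↥(𝐂[x] ⊓ centralizer (𝐂[x] : Set G)) :=
    ⟨⟨fun u v => Subtype.ext (v.2.2 u u.2.1)⟩⟩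
  have hSH := le_normalizer_cen_of_second hS
  refine not_sq_dvd_index_of_relIndex_dvd S (relIndex_dvd_prime_of_fpf (D := 𝐂[x])
    (B := powKer (𝐂[x] ⊓ centralizer (𝐂[x] : Set G)) (orderOf c)) (Z := center G) S.2 ?_ ?_
    (card_powKer_coprime _ (coprime_of_pow_of_ne ha.prime hb.prime hrw.symm hj)) ?_ ?_ ?_ ?_)
  · intro u hu v hv
    simpa using commutator_inv_mem_cen (hS _ (inv_mem hu)) (hS _ (inv_mem hv))
  · intro u hu
    rw [mem_cen, ← commutatorElement_eq_one_iff_commute,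
      CL.PG.commutator_pow_left (mem_center_iff.1 (hS u hu) u),
      ← CL.PG.commutator_pow_right (mem_center_iff.1 (hS u hu) x),
      commutatorElement_eq_one_iff_mul_comm]
    exact mem_center_iff.1 hxp u
  · exact le_trans (le_trans (le_inf hSH (hSH.trans (normalizer_le_normalizer_centralizer _)))
      inf_normalizer_le_normalizer_inf) (normalizer_le_normalizer_powKer _ _)
  · exact fun u hu v hv => (hv.1.2 u hu).symm
  · intro u _ huH v hv
    by_contra hvZ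
    exact huH (H.cen_eq hx hv.1.1.1 ((hc.coprime H.prime).coprime_dvd_left
      (orderOf_dvd_of_pow_eq_one hv.1.2)) hvZ ▸ mem_cen_comm.1 hv.2)
  · exact fun e => hc.nc (e ⟨⟨hcx, le_cen_iff.1 (H.cen _ _ hx c hcx (hc.coprime H.prime))⟩,
      pow_orderOf_eq_one c⟩)

theorem exists_normalizer {r s : ℕ} {a g : G} (ha : Good p r a) (hg : Good p s g)
    (hd : r ∣ (𝐂[g]).index) :
    ∃ n ∈ normalizer (𝐂[g] : Set G), n ∉ 𝐂[g] ∧ ∃ k, n ^ r ^ k = 1 := by
  have := Fact.mk ha.prime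
  obtain ⟨u, huH, hu⟩ := H.exists_mem ha hg
  obtain ⟨i, hi⟩ := hu.pow
  obtain ⟨P, hP⟩ := FGS.exists_sylow_mem_of_pow_eq_one (G := 𝐂[g]) (x := ⟨u, huH⟩) (p := r)
    (k := i) (Subtype.ext (by simpa using hi))
  obtain ⟨T, hT⟩ := (P.2.map (𝐂[g]).subtype).exists_le_sylow
  have hlt : (P : Subgroup 𝐂[g]).map (𝐂[g]).subtype < T :=
    lt_of_le_of_ne hT fun e => not_dvd_index_of_sylow_le (P := T) (e ▸ map_subtype_le _) hd
  obtain ⟨n, ⟨hn, hnT⟩, hnP⟩ :=
    SetLike.exists_of_lt (CL.lt_normalizer_inf_of_isNilpotent T.2.isNilpotent hlt)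
  have h1 : n * u * n⁻¹ ∈ 𝐂[g] := map_subtype_le _ ((mem_normalizer_iff.1 hn u).1 ⟨_, hP, rfl⟩)
  rw [← H.cen_eq' hg huH hu] at h1
  refine ⟨n, H.cen_eq' hg huH hu ▸ H.mem_normalizer hu h1, fun h7 => ?_,
    pow_eq_one_of_mem_isPGroup T.2 hnT⟩
  have h8 : (T : Subgroup G).subgroupOf 𝐂[g] = P :=
    P.is_maximal' T.2.comap_subtype (map_le_iff_le_comap.1 hT)
  exact hnP ⟨⟨n, h7⟩, h8 ▸ (show (⟨n, h7⟩ : 𝐂[g]) ∈ (T : Subgroup G).subgroupOf 𝐂[g] from hnT), rfl⟩

open scoped IsMulCommutative in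
theorem relIndex_eq {r w s : ℕ} {a b g : G} (ha : Good p r a) (hb : Good p w b) (hrw : r ≠ w)
    (hg : Good p s g) (hd : r ∣ (𝐂[g]).index) :
    (𝐂[g]).relIndex (normalizer (𝐂[g] : Set G)) = r := by
  have := Fact.mk ha.prime
  obtain ⟨n, hnN, hnC, i, hi⟩ := H.exists_normalizer ha hg hd
  obtain ⟨u, huH, hu⟩ := H.exists_mem ha hg
  obtain ⟨c, hcH, hc⟩ := H.exists_mem hb hg
  obtain ⟨k, hk⟩ := hu.pow
  obtain ⟨j, hj⟩ := hc.pow
  set C := 𝐂[g] with hC
  set N := normalizer (C : Set G)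
  set E := C ⊓ centralizer (C : Set G)
  have : IsMulCommutative E := ⟨⟨fun u v => Subtype.ext (v.2.2 u u.2.1)⟩⟩
  have hNE : N ≤ normalizer (E : Set G) :=
    (le_inf le_rfl (normalizer_le_normalizer_centralizer _)).trans inf_normalizer_le_normalizer_inf
  let ψ : N →* MulAut E := E.normalizerMonoidHom.comp (inclusion hNE)
  have hψ : ∀ (y : N) (v : E), ψ y v = v ↔ (y : G) ∈ 𝐂[(v : G)] := fun y v => by
    rw [Subtype.ext_iff, mem_centralizer_singleton_iff, ← mul_inv_eq_iff_eq_mul]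
    rfl
  have huE : u ∈ E := ⟨huH, le_cen_iff.1 (H.cen _ _ hg u huH (hu.coprime H.prime))⟩
  have hcE : c ∈ E := ⟨hcH, le_cen_iff.1 (H.cen _ _ hg c hcH (hc.coprime H.prime))⟩
  have hker : ψ.ker = C.subgroupOf N := by
    ext y
    refine ⟨fun h => ?_, fun h => MulEquiv.ext fun v => (hψ y v).2 (mem_cen.2 (v.2.2 y h))⟩
    have h1 := (hψ y ⟨u, huE⟩).1 (by rw [show ψ y = 1 from h]; rfl)
    rwa [H.cen_eq' hg huH hu] at h1
  have hcard : Nat.card ψ.range = C.relIndex N := by rw [← index_ker, hker]; rfl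
  rw [← hcard]
  refine card_eq_prime' ψ.range.subtype (a := ⟨u, huE⟩) (b := ⟨c, hcE⟩) (k := k)
    (Subtype.ext hk) (by rw [← orderOf_coe]; exact coprime_of_pow_of_ne ha.prime hb.prime hrw.symm hj)
    ⟨⟨_, ⟨n, hnN⟩, rfl⟩, fun e => hnC ((H.cen_eq' hg huH hu).le ((hψ ⟨n, hnN⟩ ⟨u, huE⟩).1 e))⟩
    ⟨⟨_, ⟨n, hnN⟩, rfl⟩, fun e => hnC ((H.cen_eq' hg hcH hc).le ((hψ ⟨n, hnN⟩ ⟨c, hcE⟩).1 e))⟩ ?_ ?_ ?_
  · rintro ⟨_, y, rfl⟩ hy v hv h ⟨_, y', rfl⟩
    have hvZ : (v : G) ∈ center G := by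
      by_contra hvZ
      have ho : (orderOf (v : G)).Coprime p := by
        rw [orderOf_coe]
        rcases hv with hv | hv
        · exact (((Nat.coprime_primes ha.prime H.prime).2 ha.ne).pow_left k).coprime_dvd_left
            (orderOf_dvd_of_pow_eq_one hv)
        · refine (hc.coprime H.prime).coprime_dvd_left ?_
          have := orderOf_dvd_of_pow_eq_one hv
          rwa [← orderOf_coe (⟨c, hcE⟩ : E)] at this
      have h1 := (hψ y v).1 h
      rw [H.cen_eq hg v.2.1 ho hvZ] at h1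
      exact hy (Subtype.ext (show y ∈ ψ.ker from hker ▸ h1))
    exact (hψ y' v).2 (mem_cen.2 (mem_center_iff.1 hvZ _))
  · rw [hcard, ← relIndex_subgroupOf le_rfl, subgroupOf_self]
    exact dvd_relIndex_of_pElement (g := (⟨n, hnN⟩ : N)) trivial hnC (k := i) (Subtype.ext hi)
  · rw [hcard]
    exact fun e => H.not_sq_dvd ha hb hrw hg (e.trans (relIndex_dvd_index_of_le le_normalizer))

omit H in
theorem exists_good_of_dvd {s : ℕ} {g : G} (hs : s.Prime) (hsp : s ≠ p) (hd : s ∣ (𝐂[g]).index) :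
    ∃ a : G, Good p s a := by
  have := Fact.mk hs
  obtain ⟨a, -, hZ, hk⟩ := exists_pElement_not_mem_of_dvd_relIndex (p := s) (Z := center G) (H := ⊤)
    (by rw [relIndex_top_right]; exact hd.trans (index_cen_dvd_index_center g))
  exact ⟨a, hs, hsp, hk, hZ⟩

theorem eq_of_dvd {r w s t : ℕ} {a b g : G} (ha : Good p r a) (hb : Good p w b) (hrw : r ≠ w)
    (hg : Good p s g) (hd : r ∣ (𝐂[g]).index) (ht : t.Prime) (htp : t ≠ p)
    (htd : t ∣ (𝐂[g]).index) : t = r := by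
  by_contra hne
  obtain ⟨c, hc⟩ := exists_good_of_dvd ht htp htd
  exact hne ((H.relIndex_eq hc ha hne hg htd).symm.trans (H.relIndex_eq ha hb hrw hg hd))

theorem mem_radical {r w s : ℕ} {a b g : G} (ha : Good p r a) (hb : Good p w b) (hrw : r ≠ w)
    (hg : Good p s g) (hd : r ∣ (𝐂[g]).index) :
    ∃ x : G, Good p r x ∧ (x : G ⧸ center G) ∈ solvableRadical (G ⧸ center G) := by
  have := Fact.mk ha.prime
  obtain ⟨k, hk⟩ := ha.pow
  obtain ⟨S, x, hxS, -, hxZ, -, hS⟩ := exists_second_center (N := ⊤) trivial ha.nc hk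
  have hx : Good p r x := ⟨ha.prime, ha.ne, pow_eq_one_of_mem_isPGroup S.2 hxS, hxZ⟩
  have hd' : r ∣ (𝐂[x]).index := by
    simpa using H.idx _ _ _ _ hg hx r 1 ha.prime ha.ne (by simpa using hd)
  have h1 := H.relIndex_eq ha hb hrw hx hd'
  have h2 : 𝐂[x] ⊔ (S : Subgroup G) ≤ normalizer (𝐂[x] : Set G) :=
    sup_le le_normalizer (le_normalizer_cen_of_second hS)
  have h3 := relIndex_mul_relIndex _ _ _ (le_sup_left : 𝐂[x] ≤ 𝐂[x] ⊔ S) h2
  rw [h1] at h3
  have h4 : normalizer (𝐂[x] : Set G) ≤ 𝐂[x] ⊔ (S : Subgroup G) := by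
    refine relIndex_eq_one.1 ((Nat.prime_mul_iff.1 (h3 ▸ ha.prime)).elim (·.2) fun h => ?_)
    exact (not_dvd_index_of_sylow_le (le_sup_right.trans (relIndex_eq_one.1 h.2)) hd').elim
  have h5 : normalizer (𝐂[x] : Set G) ≤
      (𝐂[(x : G ⧸ center G)]).comap (QuotientGroup.mk' (center G)) := by
    refine h4.trans (sup_le (map_le_iff_le_comap.1 (map_cen_le _ x)) fun u hu => ?_)
    rw [mem_comap, mem_cen, ← commutatorElement_eq_one_iff_commute, ← QuotientGroup.mk'_apply,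
      ← map_commutatorElement, QuotientGroup.mk'_apply, QuotientGroup.eq_one_iff]
    exact hS u hu
  refine ⟨x, hx, mem_solvableRadical_of_index_eq_pow H.prime
    (Nat.eq_prime_pow_of_unique_prime_dvd FiniteIndex.index_ne_zero fun {d} hdp hdd => ?_)⟩
  rw [← index_comap_of_surjective _ (QuotientGroup.mk'_surjective _)] at hdd
  replace hdd := hdd.trans (index_dvd_of_le h5)
  by_contra hne
  obtain rfl := H.eq_of_dvd ha hb hrw hx hd' hdp hne (hdd.trans (index_dvd_of_le le_normalizer))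
  refine H.not_sq_dvd ha hb hrw hx ?_
  rw [← relIndex_mul_index (le_normalizer : 𝐂[x] ≤ _), h1, pow_two]
  exact Nat.mul_dvd_mul_left _ hdd

theorem false_of {r w s : ℕ} {a b g : G} (ha : Good p r a) (hb : Good p w b) (hrw : r ≠ w)
    (hg : Good p s g) (hd : r ∣ (𝐂[g]).index) : False := by
  have := Fact.mk ha.prime
  have := Fact.mk hb.prime
  have := Fact.mk H.prime
  obtain ⟨x, hx, hxR⟩ := H.mem_radical ha hb hrw hg hd
  set f₁ := QuotientGroup.mk' (center G) with hf₁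
  set f₂ := QuotientGroup.mk' (pCore p (G ⧸ center G)) with hf₂
  set f := f₂.comp f₁ with hf
  have hfs : Function.Surjective f :=
    (QuotientGroup.mk'_surjective _).comp (QuotientGroup.mk'_surjective _)
  have hY : ∀ y, f y = 1 → ∃ k, y ^ p ^ k ∈ center G := fun y hy => by
    obtain ⟨k, hk⟩ := pow_eq_one_of_mem_isPGroup (isPGroup_pCore p _)
      ((QuotientGroup.eq_one_iff (f₁ y)).1 hy)
    exact ⟨k, (QuotientGroup.eq_one_iff _).1 hk⟩
  have hY' : ∀ y, f y = 1 → (orderOf y).Coprime p → y ∈ center G := fun y hy ho =>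
    let ⟨k, hk⟩ := hY y hy
    mem_of_pow_mem_of_coprime (ho.pow_right k) (by rw [pow_orderOf_eq_one]; exact one_mem _) hk
  have hZ : ∀ y ∈ center G, f y = 1 := fun y hy => by
    rw [hf, MonoidHom.comp_apply, show f₁ y = 1 from (QuotientGroup.eq_one_iff _).2 hy, map_one]
  obtain ⟨M, hM, hMR⟩ := exists_isMinNormal_le
    (solvableRadical ((G ⧸ center G) ⧸ pCore p (G ⧸ center G))) fun e => hx.nc (hY' x (by
      rw [← mem_bot, ← e]
      exact CL.SR.map_solvableRadical_le (QuotientGroup.mk'_surjective _) ⟨_, hxR, rfl⟩)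
      (hx.coprime H.prime))
  have := hM.normal
  obtain ⟨t, ht, hMc, hMt⟩ :=
    hM.exists_isElementaryAbelian_of_isSolvable (CL.SR.isSolvable_of_le_solvableRadical hMR)
  have := Fact.mk ht
  have hMp : IsPGroup t M := fun v => ⟨1, Subtype.ext (by simpa using hMt v v.2)⟩
  have htp : t ≠ p := by
    rintro rfl
    exact hM.ne_bot (eq_bot_iff.2 (pCore_quotient_pCore t (G ⧸ center G) ▸ le_pCore hMp))
  obtain ⟨P⟩ : Nonempty (Sylow t (M.comap f)) := inferInstance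
  set T := (P : Subgroup (M.comap f)).map (M.comap f).subtype with hT
  have hTM : T ≤ M.comap f := map_subtype_le _
  have hTp : IsPGroup t T := P.2.map _
  have hTY : ∀ m ∈ M.comap f, ∃ v ∈ T, f v = f m := by
    intro m hm
    have hs : Function.Surjective ((f.comp (M.comap f).subtype).codRestrict M fun v => v.2) := by
      rintro ⟨v, hv⟩
      obtain ⟨v, rfl⟩ := hfs v
      exact ⟨⟨v, hv⟩, rfl⟩
    have h1 := (P.mapSurjective hs).is_maximal' (hMp.to_subgroup ⊤) le_top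
    obtain ⟨v, hv, e⟩ := h1.le (mem_top ⟨f m, hm⟩)
    exact ⟨v, ⟨v, hv, rfl⟩, congrArg Subtype.val e⟩
  obtain ⟨u, huT, huZ⟩ : ∃ u ∈ T, u ∉ center G := by
    by_contra! h
    refine hM.ne_bot (eq_bot_iff.2 fun v hv => ?_)
    obtain ⟨v, rfl⟩ := hfs v
    obtain ⟨u, hu, e⟩ := hTY v hv
    exact e ▸ hZ u (h u hu)
  have hu : Good p t u := ⟨ht, htp, pow_eq_one_of_mem_isPGroup hTp huT, huZ⟩
  have hdu : r ∣ (𝐂[u]).index := by
    simpa using H.idx _ _ _ _ hg hu r 1 ha.prime ha.ne (by simpa using hd)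
  by_cases hTu : T ≤ 𝐂[u]
  · have hNT : normalizer (T : Set G) ≤ normalizer (𝐂[u] : Set G) := fun n hn =>
      H.mem_normalizer hu (hTu ((mem_normalizer_iff.1 hn u).1 huT))
    obtain ⟨ρ, hρN, hρC, hρ⟩ := H.exists_normalizer ha hu hdu
    have hρg : Good p r ρ := ⟨ha.prime, ha.ne, hρ, fun e => hρC (center_le_cen u e)⟩
    obtain ⟨c, hcρ, hc⟩ := H.exists_mem hb hρg
    obtain ⟨W, hW⟩ := exists_sylow_le_of_not_dvd_index (p := w) (H := 𝐂[u])
      fun e => hrw (H.eq_of_dvd ha hb hrw hu hdu hb.prime hb.ne e).symm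
    obtain ⟨j, hj⟩ := hc.pow
    obtain ⟨y, hy⟩ := exists_conj_mem_sylow W hj
    have h1 : y * ρ * y⁻¹ ∈ 𝐂[u] := by
      rw [← H.cen_eq' hu (hW hy) (hc.conj y), cen_conj]
      exact ⟨ρ, mem_cen_comm.1 hcρ, rfl⟩
    obtain ⟨n, hn, m, hm, rfl⟩ := mem_sup_of_normal_right.1
      ((P.normalizer_sup_eq_top).ge (mem_top y))
    obtain ⟨v, hv, e⟩ := hTY m hm
    have hnv : n * v ∈ normalizer (𝐂[u] : Set G) := mul_mem (hNT hn) (le_normalizer (hTu hv))
    have h2 : v⁻¹ * m * ρ * (v⁻¹ * m)⁻¹ ∈ 𝐂[u] := (mem_normalizer_iff.1 hnv _).2 (by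
      convert h1 using 1; group)
    have h3 : v⁻¹ * m * ρ * (v⁻¹ * m)⁻¹ * ρ⁻¹ ∈ normalizer (𝐂[u] : Set G) :=
      mul_mem (le_normalizer h2) (inv_mem hρN)
    obtain ⟨k, hk⟩ := hY (v⁻¹ * m * ρ * (v⁻¹ * m)⁻¹ * ρ⁻¹) (by simp [e])
    have h4 : (v⁻¹ * m * ρ * (v⁻¹ * m)⁻¹ * ρ⁻¹) ^ r ∈ 𝐂[u] := by
      rw [← H.relIndex_eq ha hb hrw hu hdu]
      exact pow_index_mem (H := (𝐂[u]).subgroupOf (normalizer (𝐂[u] : Set G))) ⟨_, h3⟩
    have h5 := mem_of_pow_mem_of_coprime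
      (((Nat.coprime_primes ha.prime H.prime).2 ha.ne).pow_right k) h4 (center_le_cen u hk)
    exact hρC (by convert mul_mem (inv_mem h5) h2 using 1; group)
  · obtain ⟨v, hvT, hvC⟩ := SetLike.not_le_iff_exists.1 hTu
    obtain ⟨w', c, hc, hw'⟩ : ∃ (w' : ℕ) (c : G), Good p w' c ∧ w' ≠ t := by
      by_cases e : w = t
      exacts [⟨r, a, ha, e ▸ hrw⟩, ⟨w, b, hb, e⟩]
    obtain ⟨c, hcu, hc⟩ := H.exists_mem hc hu
    obtain ⟨i, hi⟩ := pow_eq_one_of_mem_isPGroup hTp hvT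
    obtain ⟨j, hj⟩ := hc.pow
    have h1 : ⁅v, u⁆ ∈ center G := by
      have h0 : ⁅v, u⁆ ∈ T := mul_mem (mul_mem (mul_mem hvT huT) (inv_mem hvT)) (inv_mem huT)
      obtain ⟨l, hl⟩ := pow_eq_one_of_mem_isPGroup hTp h0
      refine hY' _ ?_ (coprime_of_pow_of_ne H.prime ht htp hl)
      rw [map_commutatorElement, commutatorElement_eq_one_iff_mul_comm]
      exact congrArg Subtype.val (hMc.is_comm.comm ⟨f v, hTM hvT⟩ ⟨f u, hTM huT⟩)
    have h2 : v ∈ normalizer (𝐂[u] : Set G) := H.mem_normalizer hu (by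
      rw [CL.PG.conj_eq_commutator_mul]
      exact mul_mem (center_le_cen u h1) (self_mem_cen u))
    have h3 : Commute (v * c * v⁻¹) c :=
      mem_cen.1 (H.cen _ _ hu c hcu (hc.coprime H.prime) ((mem_normalizer_iff.1 h2 c).1 hcu))
    have h4 : ⁅v, c⁆ ^ w' ^ j = 1 := by
      rw [commutatorElement_def, h3.inv_right.mul_pow, conj_pow, inv_pow, hj]; simp
    have h5 : ⁅v, c⁆ ∈ M.comap f := by
      rw [commutatorElement_def, mul_assoc, mul_assoc, ← mul_assoc c]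
      exact mul_mem (hTM hvT) (by
        simpa using (inferInstance : (M.comap f).Normal).conj_mem _ (inv_mem (hTM hvT)) c)
    have h6 : f ⁅v, c⁆ = 1 := mem_bot.1 (mem_of_pow_mem_of_coprime
      (((Nat.coprime_primes hc.prime ht).2 hw').pow_left j)
      (by rw [← map_pow, h4, map_one]; exact one_mem _) (by rw [hMt _ h5]; exact one_mem _))
    have h7 := commute_of_commutator_mem_center
      (hY' _ h6 (coprime_of_pow_of_ne H.prime hc.prime hc.ne h4))
      ((((Nat.coprime_primes ht hc.prime).2 hw'.symm).pow i j).coprime_dvd_left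
        (orderOf_dvd_of_pow_eq_one hi) |>.coprime_dvd_right (orderOf_dvd_of_pow_eq_one hj))
    exact hvC (H.cen_eq' hu hcu hc ▸ mem_cen.2 h7)

/-- **Camina.** -/
theorem index_eq_pow {r w s : ℕ} {a b g : G} (ha : Good p r a) (hb : Good p w b) (hrw : r ≠ w)
    (hg : Good p s g) : ∃ k, (𝐂[g]).index = p ^ k :=
  ⟨_, Nat.eq_prime_pow_of_unique_prime_dvd FiniteIndex.index_ne_zero fun {d} hd hdd => by
    by_contra hne
    obtain ⟨c, hc⟩ := exists_good_of_dvd hd hne hdd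
    by_cases e : d = r
    · exact H.false_of hc hb (e ▸ hrw) hg hdd
    · exact H.false_of hc ha e hg hdd⟩

end Hyp

end CL.Ito
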