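import Mathlib
import Cfsg.Agent.PERM.Ito2
import Cfsg.Agent.CHAR.Burnside

/-!
# Groups whose `p'`-elements have two class sizes
-/

set_option autoImplicit false

namespace CL.Ito

open Subgroup Cfsg CL.CS

variable {G : Type*} [Group G] [Finite G] {p : ℕ}

theorem isSolvable_of_forall_mem {u : ℕ} (hu : u.Prime)
    (h : ∀ (w : ℕ) (y : G) (k : ℕ), w.Prime → w ≠ u → y ^ w ^ k = 1 → y ∈ solvableRadical G) :
    Group.IsSolvable G := by
  have := Fact.mk hu
  obtain ⟨a, ha⟩ := index_eq_pow_of_forall h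
  have := (IsPGroup.of_card (G := G ⧸ solvableRadical G) ha).isNilpotent
  have := CL.SR.isSolvable_solvableRadical G
  exact solvable_of_ker_le_range (solvableRadical G).subtype (QuotientGroup.mk' (solvableRadical G))
    (by simp)

theorem isSolvable_of_quotient_center (h : Group.IsSolvable (G ⧸ center G)) :
    Group.IsSolvable G :=
  have := CL.isSolvable_of_isMulCommutative (center G)
  solvable_of_ker_le_range (center G).subtype (QuotientGroup.mk' (center G)) (by simp)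

theorem exists_not_mem_center {r : ℕ} (hr : r.Prime) (h : r ∣ (center G).index) :
    ∃ y : G, y ∉ center G ∧ ∃ k, y ^ r ^ k = 1 :=
  have := Fact.mk hr
  let ⟨y, _, h⟩ := exists_pElement_not_mem_of_dvd_relIndex (p := r) (Z := center G) (H := ⊤)
    (by rwa [relIndex_top_right])
  ⟨y, h⟩

/-- A non-solvable group has non-central elements for three primes. -/
theorem exists_good_of_not_isSolvable (h : ¬ Group.IsSolvable G) {q : ℕ} (hp : p.Prime)
    (hq : q.Prime) : ∃ (r : ℕ) (a : G), r ≠ q ∧ Good p r a := by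
  by_contra! h0
  refine h (isSolvable_of_quotient_center (CL.Char.isSolvable_of_primes_subset_pair hp hq
    fun r hr hd => ?_))
  by_contra! h1
  obtain ⟨y, hy, hk⟩ := exists_not_mem_center hr hd
  exact h0 r y h1.2 ⟨hr, h1.1, hk, hy⟩

theorem exists_two_good (h : ¬ Group.IsSolvable G) (hp : p.Prime) :
    ∃ (r w : ℕ) (a b : G), Good p r a ∧ Good p w b ∧ r ≠ w := by
  obtain ⟨r, a, -, ha⟩ := exists_good_of_not_isSolvable h hp hp
  obtain ⟨w, b, h1, hb⟩ := exists_good_of_not_isSolvable h hp ha.prime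
  exact ⟨r, w, a, b, ha, hb, h1.symm⟩

theorem exists_good_mem {r : ℕ} {a g : G} (ha : Good p r a)
    (h : (center G).relIndex 𝐂[a] ∣ (center G).relIndex 𝐂[g]) : ∃ b ∈ 𝐂[g], Good p r b := by
  have := Fact.mk ha.prime
  obtain ⟨k, hk⟩ := ha.pow
  obtain ⟨b, hb, hZ, hk⟩ := exists_pElement_not_mem_of_dvd_relIndex
    ((dvd_relIndex_of_pElement (self_mem_cen a) ha.nc hk).trans h)
  exact ⟨b, hb, ha.prime, ha.ne, hk, hZ⟩

omit [Finite G] in
theorem coprime_of_pows {r s i j : ℕ} (hr : r.Prime) (hs : s.Prime) (h : r ≠ s) {x y : G}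
    (hx : x ^ r ^ i = 1) (hy : y ^ s ^ j = 1) : (orderOf x).Coprime (orderOf y) :=
  ((((Nat.coprime_primes hr hs).2 h).pow i j).coprime_dvd_left
    (orderOf_dvd_of_pow_eq_one hx)).coprime_dvd_right (orderOf_dvd_of_pow_eq_one hy)

/-- reduction of `Hyp.cen` to pairs of distinct primes -/
theorem cen_le_of_primes (hp : p.Prime) {r w : ℕ} {a b : G} (ha : Good p r a) (hb : Good p w b)
    (hrw : r ≠ w) (h1 : ∀ (s t : ℕ) (c g : G), Good p s c → Good p t g → ∃ c' ∈ 𝐂[g], Good p s c')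
    (h2 : ∀ (s t : ℕ) (c g : G), Good p s c → Good p t g → s ≠ t → c ∈ 𝐂[g] → 𝐂[g] ≤ 𝐂[c])
    (t : ℕ) (g : G) (hg : Good p t g) (y : G) (hy : y ∈ 𝐂[g]) (ho : (orderOf y).Coprime p) :
    𝐂[g] ≤ 𝐂[y] := by
  refine le_cen_iff.2 (mem_of_forall_primePow_mem fun c hc s j hs hj => le_cen_iff.1 ?_)
  by_cases hZ : c ∈ center G
  · rw [cen_eq_top_iff.2 hZ]; exact le_top
  have hsp : s ≠ p := by
    rintro rfl
    exact hZ (mem_of_pow_mem_of_coprime
      ((ho.coprime_dvd_left (orderOf_dvd_of_mem_zpowers hc)).pow_right j)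
      (by rw [pow_orderOf_eq_one]; exact one_mem _) (hj ▸ one_mem _))
  have hcg : c ∈ 𝐂[g] := zpowers_le.2 hy hc
  have hc' : Good p s c := ⟨hs, hsp, ⟨j, hj⟩, hZ⟩
  by_cases hst : s = t
  · obtain ⟨v, d, hd, hv⟩ : ∃ (v : ℕ) (d : G), Good p v d ∧ v ≠ t := by
      by_cases e : w = t
      exacts [⟨r, a, ha, e ▸ hrw⟩, ⟨w, b, hb, e⟩]
    obtain ⟨d, hdg, hd⟩ := h1 _ _ _ _ hd hg
    exact (h2 _ _ _ _ hd hg hv hdg).trans
      (h2 _ _ _ _ hc' hd (hst ▸ hv.symm) (h2 _ _ _ _ hd hg hv hdg hcg))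
  · exact h2 _ _ _ _ hc' hg hst hcg

theorem mul_not_mem_center {x y : G} (hc : Commute x y) (ho : (orderOf x).Coprime (orderOf y))
    (hx : x ∉ center G) : x * y ∉ center G := fun h => hx (cen_eq_top_iff.1 (eq_top_iff.2 (by
  rw [← cen_eq_top_iff.2 h, cen_mul_of_coprime hc ho]; exact inf_le_left)))

/-- If the non-central `p'`-elements have class size `m` and involve two primes, then `m` is a power
of `p`. -/
theorem eq_pow_of_two_good (hp : p.Prime) {m : ℕ}
    (h : ∀ x : G, (orderOf x).Coprime p → x ∉ center G → (𝐂[x]).index = m) {r w : ℕ} {a b : G}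
    (ha : Good p r a) (hb : Good p w b) (hrw : r ≠ w) : ∃ k, m = p ^ k := by
  have h0 : ∀ {s : ℕ} {c : G}, Good p s c → (𝐂[c]).index = m := fun hc =>
    h _ (hc.coprime hp) hc.nc
  rw [← h0 ha]
  refine Hyp.index_eq_pow ⟨hp, cen_le_of_primes hp ha hb hrw (fun s t c g hc hg => exists_good_mem hc
    (relIndex_center_eq ((h0 hc).trans (h0 hg).symm)).dvd) fun s t c g hc hg hst hcg => ?_,
    fun _ _ _ _ h1 h2 _ _ _ _ => by rw [h0 h1, h0 h2]; exact id⟩ ha hb hrw ha
  obtain ⟨i, hi⟩ := hc.pow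
  obtain ⟨j, hj⟩ := hg.pow
  have h1 := coprime_of_pows hg.prime hc.prime hst.symm hj hi
  have h2 := mem_cen'.1 hcg
  have h3 := h (g * c) (by
    rw [h2.orderOf_mul_eq_mul_orderOf_of_coprime h1]
    exact Nat.Coprime.mul_left (hg.coprime hp) (hc.coprime hp)) (mul_not_mem_center h2 h1 hg.nc)
  rw [cen_mul_of_coprime h2 h1] at h3
  exact inf_eq_left.1 (eq_of_le_of_index_eq inf_le_left (h3.trans (h0 hg).symm))

theorem isSolvable_of_index (hp : p.Prime) {m : ℕ}
    (h : ∀ x : G, (orderOf x).Coprime p → x ∉ center G → (𝐂[x]).index = m) :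
    Group.IsSolvable G := by
  by_contra hs
  obtain ⟨r, w, a, b, ha, hb, hrw⟩ := exists_two_good hs hp
  obtain ⟨k, rfl⟩ := eq_pow_of_two_good hp h ha hb hrw
  refine hs (isSolvable_of_forall_mem hp fun w y k hw hwp hy => ?_)
  by_cases hZ : y ∈ center G
  · exact CL.SR.center_le_solvableRadical hZ
  · exact mem_solvableRadical_of_index_eq_pow hp (h y (coprime_of_pow_of_ne hp hw hwp hy) hZ)

/-- If the non-central `p'`-elements and `s'`-elements have class size `m`, all Sylow subgroups but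
one are central. -/
theorem exists_prime_of_index (hp : p.Prime) {s : ℕ} (hs : s.Prime) (hps : p ≠ s) {m : ℕ}
    (h : ∀ x : G, (orderOf x).Coprime p → x ∉ center G → (𝐂[x]).index = m)
    (h' : ∀ x : G, (orderOf x).Coprime s → x ∉ center G → (𝐂[x]).index = m) :
    ∃ u : ℕ, u.Prime ∧ ∀ (w : ℕ) (y : G) (k : ℕ), w.Prime → w ≠ u → y ^ w ^ k = 1 →
      y ∈ center G := by
  have := isSolvable_of_index hp h
  refine exists_prime_of_isSolvable (m := m) fun q x k hq hx hZ => ?_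
  by_cases e : q = p
  · exact h' x (coprime_of_pow_of_ne hs hq (e ▸ hps) hx) hZ
  · exact h x (coprime_of_pow_of_ne hp hq e hx) hZ

end CL.Ito
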