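import Mathlib
import Cfsg.Agent.PERM.Ito3

/-!
# Properly contained centralizers
-/

set_option autoImplicit false

namespace CL.Ito

open Subgroup Cfsg CL.CS

variable {G : Type*} [Group G] [Finite G]

theorem exists_primePow {x : G} (hx : x ∉ center G) :
    ∃ c ∈ zpowers x, c ∉ center G ∧ ∃ r k : ℕ, r.Prime ∧ c ^ r ^ k = 1 := by
  by_contra! h
  exact hx (mem_of_forall_primePow_mem fun y hy q j hq hj => by_contra fun hZ => h y hy hZ q j hq hj)

omit [Finite G] in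
theorem mem_center_subgroup {A : Subgroup G} {y : A} : y ∈ center A ↔ A ≤ 𝐂[(y : G)] := by
  rw [← index_cen_eq_one_iff, index_cen_subgroup, relIndex_eq_one]

/-- class sizes of `r'`-elements in the centralizer of an `r`-element -/
theorem index_local {x : G} {r k m : ℕ} (hx : x ^ r ^ k = 1) (hZ : x ∉ center G) {A : Subgroup G}
    (hA : 𝐂[x] = A) (h : ∀ y : G, y ∉ center G → 𝐂[y] ≤ A → 𝐂[y] = A ∨ (𝐂[y]).relIndex A = m)
    (y : A) (hy : (orderOf y).Coprime r) (hyZ : y ∉ center A) : (𝐂[y]).index = m := by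
  subst hA
  have h1 : (orderOf x).Coprime (orderOf (y : G)) := by
    rw [orderOf_coe]
    exact (hy.symm.pow_left k).coprime_dvd_left (orderOf_dvd_of_pow_eq_one hx)
  have h2 := mem_cen'.1 y.2
  have h3 := h _ (mul_not_mem_center h2 h1 hZ)
  rw [cen_mul_of_coprime h2 h1, inf_relIndex_left] at h3
  exact (index_cen_subgroup y).trans ((h3 inf_le_left).resolve_left fun e =>
    hyZ (mem_center_subgroup.2 (inf_eq_left.1 e)))

omit [Finite G] in
theorem Good.subgroup {p r : ℕ} {A : Subgroup G} {b : G} (h : Good p r b) (hb : b ∈ A)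
    (hA : ¬ A ≤ 𝐂[b]) : Good p r (⟨b, hb⟩ : A) :=
  ⟨h.prime, h.ne, let ⟨k, hk⟩ := h.pow; ⟨k, Subtype.ext hk⟩, fun e => hA (mem_center_subgroup.1 e)⟩

section

variable {g x : G} (hgx : 𝐂[g] < 𝐂[x]) (hx : x ∉ center G)
  (h : ∀ y : G, y ∉ center G → (𝐂[y]).index = (𝐂[g]).index ∨ (𝐂[y]).index = (𝐂[x]).index)
include hgx hx h

theorem local_of_two {z : G} (hz : (𝐂[z]).index = (𝐂[x]).index) (y : G) (hy : y ∉ center G)
    (hle : 𝐂[y] ≤ 𝐂[z]) : 𝐂[y] = 𝐂[z] ∨ (𝐂[y]).relIndex 𝐂[z] = (𝐂[g]).relIndex 𝐂[x] :=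
  (h y hy).symm.imp (fun e => eq_of_le_of_index_eq hle (e.trans hz.symm)) fun e =>
    Nat.eq_of_mul_eq_mul_right (index_cen_pos x) (by
      rw [relIndex_mul_index hgx.le, ← hz, relIndex_mul_index hle, e])

theorem eq_of_index_dvd {y : G} (hy : y ∉ center G) (hd : (𝐂[y]).index ∣ (𝐂[x]).index) :
    (𝐂[y]).index = (𝐂[x]).index :=
  (h y hy).resolve_left fun e => hgx.ne (eq_of_le_of_index_eq hgx.le
    (Nat.dvd_antisymm (e ▸ hd) (index_dvd_of_le hgx.le)))

theorem relIndex_center_dvd {y : G} (hy : y ∉ center G) :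
    (center G).relIndex 𝐂[g] ∣ (center G).relIndex 𝐂[y] ∧
      (center G).relIndex 𝐂[y] ∣ (center G).relIndex 𝐂[g] * (𝐂[g]).relIndex 𝐂[x] := by
  rw [relIndex_mul_relIndex _ _ _ (center_le_cen g) hgx.le]
  have h1 := (relIndex_mul_relIndex _ _ _ (center_le_cen g) hgx.le).symm
  rcases h y hy with e | e <;> rw [relIndex_center_eq e]
  exacts [⟨dvd_rfl, ⟨_, h1⟩⟩, ⟨⟨_, h1⟩, dvd_rfl⟩]

theorem exists_relIndex_eq (hs : ¬ Group.IsSolvable G) :
    ∃ u a : ℕ, u.Prime ∧ (𝐂[g]).relIndex 𝐂[x] = u ^ a := by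
  obtain ⟨c, hc, hcZ, r, k, hr, hk⟩ := exists_primePow hx
  have hcx : 𝐂[c] = 𝐂[x] := (eq_of_le_of_index_eq (cen_le_cen_of_mem_zpowers hc)
    (eq_of_index_dvd hgx hx h hcZ (index_cen_dvd_of_mem_zpowers hc)).symm).symm
  have h1 := index_local hk hcZ hcx (local_of_two hgx hx h rfl)
  have key : ∀ (w : ℕ) (b : G), Good r w b → 𝐂[x] ≤ 𝐂[b] →
      ∃ u a : ℕ, u.Prime ∧ (𝐂[g]).relIndex 𝐂[x] = u ^ a := by
    intro w b hb hle
    obtain ⟨j, hj⟩ := hb.pow
    have hbx : 𝐂[b] = 𝐂[x] := (eq_of_le_of_index_eq hle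
      (eq_of_index_dvd hgx hx h hb.nc (index_dvd_of_le hle)).symm).symm
    obtain ⟨u, hu, h2⟩ := exists_prime_of_index hr hb.prime hb.ne.symm h1
      (index_local hj hb.nc hbx (local_of_two hgx hx h rfl))
    obtain ⟨a, ha⟩ := index_eq_pow_of_forall (H := (𝐂[g]).subgroupOf 𝐂[x])
      fun w y k hw hwu hy => (mem_cen_comm.1 (mem_center_subgroup.1 (h2 w y k hw hwu hy)
        (hgx.le (self_mem_cen g))) :)
    exact ⟨u, a, hu, ha⟩
  obtain ⟨w, v, a, b, ha, hb, hwv⟩ := exists_two_good hs hr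
  have h2 : ∀ {w : ℕ} {a : G}, Good r w a → ∃ a' ∈ 𝐂[x], Good r w a' := fun ha =>
    exists_good_mem ha (by
      rw [← relIndex_mul_relIndex _ _ _ (center_le_cen g) hgx.le]
      exact (relIndex_center_dvd hgx hx h ha.nc).2)
  obtain ⟨a, hax, ha⟩ := h2 ha
  obtain ⟨b, hbx, hb⟩ := h2 hb
  by_cases e : 𝐂[x] ≤ 𝐂[a]
  · exact key _ _ ha e
  by_cases e' : 𝐂[x] ≤ 𝐂[b]
  · exact key _ _ hb e'
  obtain ⟨j, hj⟩ := eq_pow_of_two_good hr h1 (ha.subgroup hax e) (hb.subgroup hbx e') hwv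
  exact ⟨r, j, hr, hj⟩

/-- Two non-central class sizes, with one centralizer properly inside another. -/
theorem isSolvable_of_lt : Group.IsSolvable G := by
  by_contra hs
  obtain ⟨u, n, hu, hm⟩ := exists_relIndex_eq hgx hx h hs
  have := Fact.mk hu
  have hn : u ∣ (𝐂[g]).relIndex 𝐂[x] := by
    rw [hm]
    refine dvd_pow_self u ?_
    rintro rfl
    exact hgx.not_ge (relIndex_eq_one.1 hm)
  have hi := relIndex_mul_index hgx.le
  obtain ⟨r, w, a, b, ha, hb, hrw⟩ := exists_two_good hs hu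
  refine (Hyp.index_eq_pow ⟨hu, cen_le_of_primes hu ha hb hrw
    (fun s t c y hc hy => ?_) fun s t c y hc hy hst hcy => ?_,
    fun _ _ y z hy hz s j hs hsu hd => ?_⟩ ha hb hrw ha).elim fun k hk => ?_
  rotate_right
  · have h1 : ∃ j, (𝐂[g]).index = u ^ j := by
      rcases h a ha.nc with e | e
      · exact ⟨k, e ▸ hk⟩
      · exact ⟨n + k, by rw [← hi, hm, ← e, hk, pow_add]⟩
    obtain ⟨j, hj⟩ := h1
    refine hs (isSolvable_of_forall_mem hu fun _ y _ _ _ _ => ?_)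
    by_cases hZ : y ∈ center G
    · exact CL.SR.center_le_solvableRadical hZ
    obtain ⟨i, -, hi⟩ := (Nat.dvd_prime_pow hu).1 (show (𝐂[y]).index ∣ u ^ j by
      rcases h y hZ with e | e <;> rw [e, ← hj]
      exact index_dvd_of_le hgx.le)
    exact mem_solvableRadical_of_index_eq_pow hu hi
  · have := Fact.mk hc.prime
    obtain ⟨k, hk⟩ := hc.pow
    have h1 := (dvd_relIndex_of_pElement (self_mem_cen c) hc.nc hk).trans
      (relIndex_center_dvd hgx hx h hc.nc).2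
    rw [hm] at h1
    obtain ⟨d, hd, hZ, hk⟩ := exists_pElement_not_mem_of_dvd_relIndex
      (((((Nat.coprime_primes hc.prime hu).2 hc.ne).pow_right n).dvd_of_dvd_mul_right h1).trans
        (relIndex_center_dvd hgx hx h hy.nc).1)
    exact ⟨d, hd, hc.prime, hc.ne, hk, hZ⟩
  · obtain ⟨i, hi'⟩ := hc.pow
    obtain ⟨j, hj⟩ := hy.pow
    by_contra hle
    rcases h y hy.nc with e | e
    · have h1 := coprime_of_pows hy.prime hc.prime hst.symm hj hi'
      have h2 := mem_cen'.1 hcy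
      have h3 := h _ (mul_not_mem_center h2 h1 hy.nc)
      rw [cen_mul_of_coprime h2 h1] at h3
      rcases h3 with h3 | h3
      · exact hle (inf_eq_left.1 (eq_of_le_of_index_eq inf_le_left (h3.trans e.symm)))
      · exact hgx.ne (eq_of_le_of_index_eq hgx.le (Nat.dvd_antisymm
          (e ▸ h3 ▸ index_dvd_of_le inf_le_left) (index_dvd_of_le hgx.le)))
    · have h1 := index_local hj hy.nc rfl (local_of_two hgx hx h e)
      have hc' := hc.subgroup hcy hle
      have h2 := h1 _ (coprime_of_pow_of_ne hy.prime hc.prime hst (Subtype.ext hi')) hc'.nc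
      have h3 : pCore u 𝐂[y] ≤ 𝐂[(⟨c, hcy⟩ : 𝐂[y])] :=
        pCore_le_cen hu hc.prime hc.ne (Subtype.ext hi') fun v hv hvZ => by
          obtain ⟨l, hl⟩ := pow_eq_one_of_mem_isPGroup (isPGroup_pCore u _) hv
          rw [h2, h1 v (coprime_of_pow_of_ne hy.prime hu hy.ne.symm hl) hvZ]
      obtain ⟨U⟩ : Nonempty (Sylow u 𝐂[y]) := inferInstance
      refine not_dvd_index_of_sylow_le (P := U) (fun v hv => ?_) (h2 ▸ hn)
      by_cases hvZ : v ∈ center 𝐂[y]
      · exact center_le_cen _ hvZ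
      obtain ⟨l, hl⟩ := pow_eq_one_of_mem_isPGroup U.2 hv
      exact h3 (mem_pCore_of_index_eq_pow hl
        ((h1 v (coprime_of_pow_of_ne hy.prime hu hy.ne.symm hl) hvZ).trans hm))
  · have h1 : s ^ j ∣ (𝐂[x]).index := by
      rcases h y hy.nc with e | e <;> rw [e] at hd
      · rw [← hi, hm] at hd
        exact (((Nat.coprime_primes hs hu).2 hsu).pow j n).dvd_of_dvd_mul_left hd
      · exact hd
    rcases h z hz.nc with e | e <;> rw [e]
    exacts [h1.trans (index_dvd_of_le hgx.le), h1]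

end

end CL.Ito
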