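import Mathlib
import Cfsg.Agent.PERM.CCZass2
import Cfsg.Agent.FGS.Kegel
import Cfsg.Agent.FGS.NilpBasic
import Cfsg.Agent.SOLV.Frobenius

/-!
Groups with a conjugation invariant partition: elementary facts.
-/

set_option autoImplicit false

namespace CL

open Subgroup Cfsg
open scoped Pointwise

/-- A non-trivial conjugation invariant partition; `c x` is the component containing `x`. -/
structure Part (G : Type*) [Group G] where
  /-- the component of an element -/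
  c : G → Subgroup G
  mem : ∀ x, x ∈ c x
  eq : ∀ {x y}, x ≠ 1 → x ∈ c y → c x = c y
  conj : ∀ g {x y}, y ∈ c x → g * y * g⁻¹ ∈ c (g * x * g⁻¹)
  ne_top : ∀ x, c x ≠ ⊤

namespace Part

variable {G : Type*} [Group G]

theorem nonempty_of_partition (S : Set (Subgroup G)) (hS2 : ∃ H ∈ S, ∃ K ∈ S, H ≠ K)
    (hS1 : ∀ H ∈ S, H ≠ ⊥) (hpart : ∀ g : G, g ≠ 1 → ∃! H : Subgroup G, H ∈ S ∧ g ∈ H) :
    Nonempty (Part G) := by
  classical
  have hT : ∀ H ∈ S, H ≠ ⊤ := by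
    rintro _ hH rfl
    have key : ∀ K ∈ S, K = ⊤ := fun K hK => by
      obtain ⟨⟨k, hk⟩, hk1⟩ := ne_bot_iff_exists_ne_one.mp (hS1 K hK)
      exact (hpart k fun e => hk1 (Subtype.ext e)).unique ⟨hK, hk⟩ ⟨hH, mem_top k⟩
    obtain ⟨H, h1, K, h2, h3⟩ := hS2
    exact h3 ((key H h1).trans (key K h2).symm)
  let c : G → Subgroup G := fun x =>
    { carrier := {y | ∀ g : G, ∀ H ∈ S, g * x * g⁻¹ ∈ H → g * y * g⁻¹ ∈ H}
      one_mem' := fun g H _ _ => by simp
      mul_mem' := fun {a b} ha hb g H h1 h2 => by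
        rw [← conj_mul]; exact H.mul_mem (ha g H h1 h2) (hb g H h1 h2)
      inv_mem' := fun {a} ha g H h1 h2 => by
        rw [← conj_inv]; exact H.inv_mem (ha g H h1 h2) }
  have hc : ∀ x y, y ∈ c x ↔ ∀ g : G, ∀ H ∈ S, g * x * g⁻¹ ∈ H → g * y * g⁻¹ ∈ H := fun _ _ => Iff.rfl
  refine ⟨⟨c, fun x g H _ h => h, fun {x y} hx hxy => le_antisymm
    (fun z hz g H h1 h2 => hz g H h1 (hxy g H h1 h2)) (fun z hz g H h1 h2 => ?_),
    fun g x y h g' H h1 h2 => ?_, fun x h => ?_⟩⟩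
  · by_cases hy : y = 1
    · obtain ⟨H₁, a, H₂, b, hne⟩ := hS2
      have h3 : g * x * g⁻¹ ≠ 1 := by simpa [mul_eq_one_iff_eq_inv] using hx
      exact absurd ((hpart _ h3).unique ⟨a, hxy g H₁ a (by simp [hy])⟩
        ⟨b, hxy g H₂ b (by simp [hy])⟩) hne
    · obtain ⟨K, ⟨k1, k2⟩, -⟩ := hpart (g * y * g⁻¹) (by simpa [mul_eq_one_iff_eq_inv] using hy)
      obtain rfl : H = K := (hpart _ (by simpa [mul_eq_one_iff_eq_inv] using hx)).unique ⟨h1, h2⟩
        ⟨k1, hxy g K k1 k2⟩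
      exact hz g H h1 k2
  · have := h (g' * g) H h1 (by simpa [mul_assoc] using h2)
    simpa [mul_assoc] using this
  · obtain ⟨H, h1, h2⟩ : ∃ H ∈ S, x ∈ H := by
      by_cases hx : x = 1
      · obtain ⟨H, a, -⟩ := hS2
        exact ⟨H, a, hx ▸ H.one_mem⟩
      · exact (hpart x hx).exists
    exact hT H h1 (eq_top_iff.mpr fun y _ => by
      simpa using (h ▸ mem_top y : y ∈ c x) 1 H h1 (by simpa using h2))

variable (P : Part G)

theorem eq_of_mem {a x y : G} (ha : a ≠ 1) (hx : a ∈ P.c x) (hy : a ∈ P.c y) : P.c x = P.c y :=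
  (P.eq ha hx).symm.trans (P.eq ha hy)

theorem conj_iff (g : G) {x y : G} : g * y * g⁻¹ ∈ P.c (g * x * g⁻¹) ↔ y ∈ P.c x :=
  ⟨fun h => by simpa [mul_assoc] using P.conj g⁻¹ h, P.conj g⟩

theorem c_conj (g x : G) : P.c (g * x * g⁻¹) = MulAut.conj g • P.c x := by
  ext y
  rw [CL.mem_conj_smul_iff, ← P.conj_iff g (x := x)]
  simp [mul_assoc]

theorem mem_normalizer {a x g : G} (ha : a ≠ 1) (hx : a ∈ P.c x) (hg : g * a * g⁻¹ ∈ P.c x) :
    g ∈ normalizer (P.c x : Set G) := by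
  rw [← CL.conj_smul_eq_iff_mem_normalizer, ← P.c_conj]
  exact P.eq_of_mem (by simpa [mul_eq_one_iff_eq_inv] using ha) (P.conj g hx) hg

theorem mem_normalizer_of_comm {a x g : G} (ha : a ≠ 1) (hx : a ∈ P.c x) (hg : g * a = a * g) :
    g ∈ normalizer (P.c x : Set G) :=
  P.mem_normalizer ha hx (by rwa [hg, mul_inv_cancel_right])

theorem conj_mem {x g a : G} (hg : g ∈ normalizer (P.c x : Set G)) (ha : a ∈ P.c x) :
    g * a * g⁻¹ ∈ P.c x := (mem_normalizer_iff.mp hg a).mp ha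

theorem zpow_eq_one {x y : G} (hy : y ∉ P.c x) {n : ℤ} (h : y ^ n ∈ P.c x) : y ^ n = 1 := by
  by_contra h1
  exact hy (P.eq_of_mem h1 ((P.c y).zpow_mem (P.mem y) n) h ▸ P.mem y)

theorem pow_eq_one {x y : G} (hy : y ∉ P.c x) {n : ℕ} (h : y ^ n ∈ P.c x) : y ^ n = 1 := by
  simpa using P.zpow_eq_one hy (n := n) (by simpa using h)

theorem mul_pow_mem {H : Subgroup G} {g h : G} (hg : g ∈ normalizer (H : Set G)) (hh : h ∈ H)
    (n : ℕ) : (h * g) ^ n * (g ^ n)⁻¹ ∈ H := by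
  induction n with
  | zero => simp
  | succ n ih =>
    have : (h * g) ^ (n + 1) * (g ^ (n + 1))⁻¹ = (h * g) ^ n * (g ^ n)⁻¹ * (g ^ n * h * (g ^ n)⁻¹) := by
      rw [pow_succ, pow_succ]; group
    rw [this]
    exact H.mul_mem ih ((mem_normalizer_iff.mp ((normalizer (H : Set G)).pow_mem hg n) h).mp hh)

theorem mul_pow_eq_one {x g h : G} (hg : g ∈ normalizer (P.c x : Set G)) (hgx : g ∉ P.c x)
    (hh : h ∈ P.c x) {n : ℕ} (hn : g ^ n ∈ P.c x) : (h * g) ^ n = 1 :=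
  P.pow_eq_one (fun e => hgx ((mul_mem_cancel_left hh).mp e))
    (by simpa using (P.c x).mul_mem (mul_pow_mem hg hh n) hn)

theorem pow_eq_one_of_comm {a x y : G} (ha : a ≠ 1) (hx : a ∈ P.c x) (hy : y ∉ P.c x)
    (h : y * a = a * y) {n : ℕ} (hn : a ^ n = 1) : y ^ n = 1 := by
  have h1 : (y * a) ^ n = y ^ n := by rw [Commute.mul_pow h, hn, mul_one]
  rw [← h1]
  refine P.pow_eq_one (x := y) (fun e => hy ?_) (h1 ▸ (P.c y).pow_mem (P.mem y) n)
  exact P.eq_of_mem ha ((mul_mem_cancel_left (P.mem y)).mp e) hx ▸ P.mem y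

theorem orderOf_eq_of_comm {a x y : G} (ha : a ≠ 1) (hx : a ∈ P.c x) (hy : y ∉ P.c x)
    (h : y * a = a * y) : orderOf y = orderOf a :=
  Nat.dvd_antisymm (orderOf_dvd_of_pow_eq_one (P.pow_eq_one_of_comm ha hx hy h (pow_orderOf_eq_one a)))
    (orderOf_dvd_of_pow_eq_one (P.pow_eq_one_of_comm (x := y) (a := y) (fun e => hy (e ▸ one_mem _)) (P.mem y)
      (fun e => hy (P.eq_of_mem ha e hx ▸ P.mem y)) h.symm (pow_orderOf_eq_one y)))

variable [Finite G]

theorem prime_of_comm {a x y : G} (ha : a ≠ 1) (hx : a ∈ P.c x) (hy : y ∉ P.c x)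
    (h : y * a = a * y) : (orderOf a).Prime := by
  obtain ⟨p, hp, hd⟩ := Nat.exists_prime_and_dvd (mt orderOf_eq_one_iff.mp ha)
  by_cases h1 : a ^ p = 1
  · rwa [Nat.dvd_antisymm (orderOf_dvd_of_pow_eq_one h1) hd]
  · have h2 := (P.orderOf_eq_of_comm h1 ((P.c x).pow_mem hx p) hy (Commute.pow_right h p)).symm.trans
      (P.orderOf_eq_of_comm ha hx hy h)
    rw [orderOf_pow_of_dvd hp.ne_zero hd] at h2
    exact absurd h2 (Nat.div_lt_self (orderOf_pos a) hp.one_lt).ne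

theorem exists_prime_pow {y : G} (hy : y ≠ 1) : ∃ k : ℕ, (orderOf (y ^ k)).Prime := by
  obtain ⟨p, hp, hd⟩ := Nat.exists_prime_and_dvd (mt orderOf_eq_one_iff.mp hy)
  exact ⟨_, (orderOf_pow_orderOf_div (orderOf_pos y).ne' hd).symm ▸ hp⟩

/-- A component which is not self-normalising is nilpotent. -/
theorem isNilpotent {x y : G} (hn : y ∈ normalizer (P.c x : Set G)) (hy : y ∉ P.c x) :
    Group.IsNilpotent (P.c x) := by
  obtain ⟨k, hk⟩ := exists_prime_pow (y := y) fun e => hy (e ▸ one_mem _)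
  have h1 : y ^ k ∉ P.c x := fun e => by
    rw [P.pow_eq_one hy e, orderOf_one] at hk
    exact Nat.not_prime_one hk
  have h2 : zpowers (y ^ k) ≤ normalizer (P.c x : Set G) := zpowers_le.mpr (pow_mem hn k)
  generalize y ^ k = u at hk h1 h2
  have := CL.FGS.isNilpotent_of_forall_not_mem_pow_prime hk ↥(P.c x ⊔ zpowers u)
    ((P.c x).subgroupOf _) (CL.normal_subgroupOf_of_le_normalizer (sup_le le_normalizer h2))
    (fun e => h1 (subgroupOf_eq_top.mp e (mem_sup_right (mem_zpowers u)))) fun g hg => by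
      obtain ⟨a, ha, b, hb, e⟩ := (CL.mem_sup_of_le_normalizer' h2).mp g.2
      refine Subtype.ext ?_
      rw [Subgroup.coe_pow, ← e]
      refine P.mul_pow_eq_one (h2 hb) (fun h => hg ?_) ha ?_
      · rw [mem_subgroupOf, ← e]; exact mul_mem ha h
      · obtain ⟨i, rfl⟩ := hb
        simp only
        rw [← zpow_natCast, ← zpow_mul, mul_comm, zpow_mul, zpow_natCast, pow_orderOf_eq_one, one_zpow]
        exact one_mem _
  exact Group.nilpotent_of_mulEquiv (subgroupOfEquivOfLe (le_sup_left : P.c x ≤ P.c x ⊔ zpowers u))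

omit [Finite G] in
theorem inverts {x y : G} (hn : y ∈ normalizer (P.c x : Set G)) (hy : y ∉ P.c x) (h2 : y * y = 1)
    {h : G} (hh : h ∈ P.c x) : y * h * y⁻¹ = h⁻¹ := by
  have := P.mul_pow_eq_one hn hy hh (n := 2) (by rw [sq, h2]; exact one_mem _)
  rw [inv_eq_of_mul_eq_one_right h2, eq_inv_iff_mul_eq_one]
  calc y * h * y * h = h⁻¹ * (h * y) ^ 2 * h := by rw [sq]; group
    _ = 1 := by rw [this]; group

include P in
theorem hughes_of_central {x : G} (hx : x ≠ 1) (h : ∀ g, g * x = x * g) :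
    ∃ p : ℕ, p.Prime ∧ closure {g : G | g ^ p ≠ 1} ≠ ⊤ := by
  obtain ⟨y, hy⟩ : ∃ y, y ∉ P.c x := by
    by_contra h1
    push Not at h1
    exact P.ne_top x (eq_top_iff.mpr fun y _ => h1 y)
  refine ⟨_, P.prime_of_comm hx (P.mem x) hy (h y), fun e => P.ne_top x (eq_top_iff.mpr (e ▸ ?_))⟩
  rw [closure_le]
  intro g hg
  by_contra h1
  exact hg (P.pow_eq_one_of_comm hx (P.mem x) h1 (h g) (pow_orderOf_eq_one x))

theorem frobenius_of_cc {K : Subgroup G} [K.Normal] (h1 : K ≠ ⊥) (h2 : K ≠ ⊤) (hK : CL.CCZ.CC K) :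
    ∃ H : Subgroup G, IsFrobeniusComplement H := by
  have h3 : (Nat.card K).Coprime K.index := by
    refine Nat.coprime_of_dvd fun p hp hpK hpi => ?_
    have := Fact.mk hp
    obtain ⟨g, hg⟩ := exists_prime_orderOf_dvd_card' (G := G ⧸ K) p hpi
    obtain ⟨g, rfl⟩ := QuotientGroup.mk_surjective g
    have h4 := hK.coprime (y := g) (fun e => by
      rw [(QuotientGroup.eq_one_iff g).mpr e, orderOf_one] at hg
      exact hp.one_lt.ne hg) ((normalizer_eq_top K).ge (mem_top g))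
    exact hp.one_lt.ne' (Nat.eq_one_of_dvd_coprimes h4
      (hg ▸ orderOf_map_dvd (QuotientGroup.mk' K) g) hpK)
  obtain ⟨H, hH⟩ := exists_right_complement'_of_coprime h3
  refine ⟨H, CL.Frob.isFrobeniusComplement_of_fpf hH h1 (fun e => h2 ?_) fun h hh h4 =>
    eq_bot_iff.mpr fun k hk => hK.fpf (fun e => h4 (disjoint_def.mp hH.disjoint e hh)) hk.1
      (mem_centralizer_singleton_iff.mp hk.2).symm⟩
  simpa [e] using hH.sup_eq_top

end Part

end CL
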