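import Mathlib
import Cfsg.Agent.PERM.PartBasic

/-!
Norm maps on abelian normal subgroups.
-/

set_option autoImplicit false

namespace CL.Part

open Subgroup Cfsg

theorem pow_card_eq_one_of_norm {X W : Type*} [Group X] [CommGroup W] (ρ : X →* MulAut W)
    (Y : Subgroup X) [Fintype Y] [hn : Y.Normal] (hY : ∀ w, ∏ b : Y, ρ b w = 1) {u : X} {n : ℕ}
    (h0 : 0 < n) (hu : ∀ w, ∏ i ∈ Finset.range n, ρ (u ^ i) w = 1)
    (hf : ∀ i, 0 < i → i < n → ∀ b ∈ Y, u ^ i * b = b * u ^ i → b = 1) (w : W) :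
    w ^ Nat.card Y = 1 := by
  have h1 : ∏ b : Y, ∏ i ∈ Finset.range n, ρ ((b : X) * u ^ i * (b : X)⁻¹) w = 1 := by
    refine Finset.prod_eq_one fun b _ => ?_
    simp only [map_mul, MulAut.mul_apply]
    rw [← map_prod, hu, map_one]
  rw [Finset.prod_comm, Finset.prod_eq_single 0 (fun i hi hi0 => ?_) (by simp [h0.ne'])] at h1
  · simpa using h1
  have h2 := hf i (Nat.pos_of_ne_zero hi0) (Finset.mem_range.mp hi)
  generalize u ^ i = a at h2
  let f : Y → Y := fun b => ⟨(b : X) * (a * (b : X)⁻¹ * a⁻¹),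
    Y.mul_mem b.2 (hn.conj_mem _ (Y.inv_mem b.2) a)⟩
  have hinj : Function.Injective f := fun b c hbc => by
    have h : (b : X) * (a * (b : X)⁻¹ * a⁻¹) = c * (a * (c : X)⁻¹ * a⁻¹) := congrArg Subtype.val hbc
    refine Subtype.ext (inv_mul_eq_one.mp (h2 _ (Y.mul_mem (Y.inv_mem c.2) b.2) ?_)).symm
    calc a * ((c : X)⁻¹ * b) = (c : X)⁻¹ * (c * (a * (c : X)⁻¹ * a⁻¹)) * a * b := by group
      _ = _ := by rw [← h]; group
  rw [← hY (ρ a w), ← (Equiv.ofBijective f (Finite.injective_iff_bijective.mp hinj)).prod_comp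
    fun b : Y => ρ b (ρ a w)]
  refine Finset.prod_congr rfl fun b _ => ?_
  rw [← MulAut.mul_apply, ← map_mul]
  simp [f, mul_assoc]

variable {G : Type*} [Group G]

theorem mixed {p : ℕ} {a b : G} (h : a * b = b * a) (ha : ∃ k, a ^ p ^ k = 1)
    (hb : (orderOf b).Coprime p) (hab : (∃ k, (a * b) ^ p ^ k = 1) ∨ (orderOf (a * b)).Coprime p) :
    a = 1 ∨ b = 1 := by
  obtain ⟨k, hk⟩ := ha
  have h1 := orderOf_dvd_of_pow_eq_one hk
  have h2 := Commute.orderOf_mul_eq_mul_orderOf_of_coprime h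
    ((hb.pow_right k).symm.coprime_dvd_left h1)
  rcases hab with ⟨j, hj⟩ | hj
  · exact Or.inr (orderOf_eq_one_iff.mp ((hb.pow_right j).eq_one_of_dvd
      ((h2 ▸ Dvd.intro_left _ rfl).trans (orderOf_dvd_of_pow_eq_one hj))))
  · exact Or.inl (orderOf_eq_one_iff.mp (((hj.pow_right k).coprime_dvd_left
      (h2 ▸ Dvd.intro _ rfl)).eq_one_of_dvd h1))

theorem eq_one_of_pow_of_coprime {p : ℕ} {a : G} (ha : ∃ k, a ^ p ^ k = 1)
    (hb : (orderOf a).Coprime p) : a = 1 := by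
  obtain ⟨k, hk⟩ := ha
  exact orderOf_eq_one_iff.mp ((hb.pow_right k).eq_one_of_dvd (orderOf_dvd_of_pow_eq_one hk))

theorem norm_mul {E : Subgroup G} (hE : ∀ a ∈ E, ∀ b ∈ E, a * b = b * a) {y : G}
    (hy : y ∈ normalizer (E : Set G)) {a b : G} (ha : a ∈ E) (hb : b ∈ E) (k : ℕ) :
    (a * b * y) ^ k * (y ^ k)⁻¹ = (a * y) ^ k * (y ^ k)⁻¹ * ((b * y) ^ k * (y ^ k)⁻¹) := by
  induction k with
  | zero => simp
  | succ k ih =>
    have h : ∀ c : G, (c * y) ^ (k + 1) * (y ^ (k + 1))⁻¹ =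
        (c * y) ^ k * (y ^ k)⁻¹ * (y ^ k * c * (y ^ k)⁻¹) := fun c => by rw [pow_succ, pow_succ]; group
    have h2 := hE _ (mul_pow_mem hy hb k) _
      ((mem_normalizer_iff.mp ((normalizer (E : Set G)).pow_mem hy k) a).mp ha)
    rw [h, h, h, ih, ← conj_mul, mul_assoc, mul_assoc _ (y ^ k * a * _), ← mul_assoc ((b * y) ^ k * _), h2]
    simp only [mul_assoc]

variable [Finite G]

theorem norm_contra (D W : Subgroup G) [D.Normal] [hWn : W.Normal]
    (hW : ∀ a ∈ W, ∀ b ∈ W, a * b = b * a) (hD : ∀ d ∈ D, ∀ w ∈ W, d * w = w * d)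
    (Y : Subgroup (G ⧸ D)) [Y.Normal] {f : G} (hf : (f : G ⧸ D) ∈ Y)
    (hfpf : ∀ w ∈ W, f * w = w * f → w = 1) {u : G} {n : ℕ} (h0 : 0 < n)
    (hu : ∀ w ∈ W, (w * u) ^ n = u ^ n)
    (hfp : ∀ i, 0 < i → i < n → ∀ b ∈ Y, (u : G ⧸ D) ^ i * b = b * (u : G ⧸ D) ^ i → b = 1) :
    ∀ w ∈ W, w ^ Nat.card Y = 1 := by
  let _ : CommGroup W := { (inferInstance : Group W) with
    mul_comm := fun a b => Subtype.ext (hW a a.2 b b.2) }
  have := Fintype.ofFinite Y
  let ρ : G ⧸ D →* MulAut W := QuotientGroup.lift D MulAut.conjNormal fun d hd => by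
    ext w
    simp [hD d hd w w.2]
  have hρ : ∀ (g : G) (w : W), ((ρ g w : W) : G) = g * w * g⁻¹ := fun g w => rfl
  intro w hw
  refine congrArg Subtype.val (pow_card_eq_one_of_norm ρ Y (fun w => ?_) h0 (fun w => ?_) hfp ⟨w, hw⟩)
  · have h1 : ρ f (∏ b : Y, ρ b w) = ∏ b : Y, ρ b w := by
      rw [map_prod, ← Equiv.prod_comp (Equiv.mulLeft (⟨f, hf⟩ : Y)) fun b : Y => ρ b w]
      exact Finset.prod_congr rfl fun b _ => by simp
    exact Subtype.ext (hfpf _ (Subtype.property _)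
      (mul_inv_eq_iff_eq_mul.mp ((hρ f _).symm.trans (congrArg Subtype.val h1))))
  · have h1 : ∀ k, ((∏ i ∈ Finset.range k, ρ ((u : G ⧸ D) ^ i) w : W) : G) =
        (w * u) ^ k * (u ^ k)⁻¹ := fun k => by
      induction k with
      | zero => simp
      | succ k ih =>
        rw [Finset.prod_range_succ, Subgroup.coe_mul, ih, ← QuotientGroup.mk_pow, hρ, pow_succ,
          pow_succ]
        group
    exact Subtype.ext (by rw [h1, hu _ w.2, mul_inv_cancel]; rfl)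

theorem quot_mixed {p : ℕ} (D : Subgroup G) [D.Normal]
    (hC : ∀ g ∉ D, (∃ k, g ^ p ^ k = 1) ∨ (orderOf g).Coprime p) (x : G ⧸ D) :
    (∃ k, x ^ p ^ k = 1) ∨ (orderOf x).Coprime p := by
  obtain ⟨g, rfl⟩ := QuotientGroup.mk_surjective x
  by_cases hg : g ∈ D
  · exact Or.inl ⟨0, by simpa using hg⟩
  · exact (hC g hg).imp (fun ⟨k, hk⟩ => ⟨k, by rw [← QuotientGroup.mk_pow, hk]; rfl⟩)
      fun h => h.coprime_dvd_left (orderOf_map_dvd (QuotientGroup.mk' D) g)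

theorem core {N : Subgroup G} (hN : IsMinNormal N) {p : ℕ} (hp : p.Prime) (hNp : ∀ n ∈ N, n ^ p = 1)
    (hc : ∀ a ∈ N, ∀ b ∈ N, a * b = b * a)
    (hA : ∀ g ∉ centralizer (N : Set G), (orderOf g).Coprime p → ∀ n ∈ N, g * n = n * g → n = 1)
    (hB : ∀ g ∉ centralizer (N : Set G), (∃ k, g ^ p ^ k = 1) → g ^ p ∈ centralizer (N : Set G) →
      ∀ n ∈ N, (n * g) ^ p = g ^ p)
    (hC : ∀ g ∉ centralizer (N : Set G), (∃ k, g ^ p ^ k = 1) ∨ (orderOf g).Coprime p) :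
    ¬ p ∣ (centralizer (N : Set G)).index := by
  intro hd
  have := hN.normal
  have := Fact.mk hp
  set C := centralizer (N : Set G)
  have hCN : ∀ d ∈ C, ∀ w ∈ N, d * w = w * d := fun d hd w hw => (hd w hw).symm
  have hQ := quot_mixed C hC
  have hne : ∀ (g : G) (s : ℕ), s.Prime → orderOf (g : G ⧸ C) = s → g ∉ C := fun g s hs h e => by
    rw [(QuotientGroup.eq_one_iff g).mpr e, orderOf_one] at h
    exact hs.one_lt.ne h
  have hcop : ∀ g : G, g ∉ C → (orderOf (g : G ⧸ C)).Coprime p → (orderOf g).Coprime p :=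
    fun g hg h => (hC g hg).resolve_left fun ⟨k, hk⟩ => hg ((QuotientGroup.eq_one_iff g).mp
      (eq_one_of_pow_of_coprime ⟨k, by rw [← QuotientGroup.mk_pow, hk]; rfl⟩ h))
  obtain ⟨y, hy⟩ := exists_prime_orderOf_dvd_card' (G := G ⧸ C) p hd
  obtain ⟨y, rfl⟩ := QuotientGroup.mk_surjective y
  have hyC := hne y p hp hy
  have hyp : (y : G ⧸ C) ^ p = 1 := hy ▸ pow_orderOf_eq_one _
  have hy0 := hB y hyC ((hC y hyC).resolve_right fun h => hp.one_lt.ne'
    (Nat.eq_one_of_dvd_coprimes h (hy ▸ orderOf_map_dvd (QuotientGroup.mk' C) y) dvd_rfl))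
    ((QuotientGroup.eq_one_iff _).mp hyp)
  obtain ⟨F, s, hF, hF1, hs, hFs⟩ : ∃ (F : Subgroup (G ⧸ C)) (s : ℕ), F.Normal ∧ F ≠ ⊥ ∧ s.Prime ∧
      ∀ b ∈ F, b ^ s = 1 := by
    by_cases h2 : 2 ∣ Nat.card (G ⧸ C)
    · by_cases hp2 : p = 2
      · subst hp2
        refine absurd (fun n hn => ?_) hyC
        have h3 := hNp n hn
        calc n * y = (n * y) ^ 2 * y⁻¹ * n⁻¹ := by rw [sq]; group
          _ = y * n * (n ^ 2)⁻¹ := by rw [hy0 n hn, sq, sq]; group
          _ = _ := by rw [h3]; group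
      obtain ⟨t, ht⟩ := exists_prime_orderOf_dvd_card' (G := G ⧸ C) 2 h2
      obtain ⟨t, rfl⟩ := QuotientGroup.mk_surjective t
      have htC := hne t 2 Nat.prime_two ht
      have ht2 : t * t ∈ C := (QuotientGroup.eq_one_iff _).mp (CL.Inv.mul_self_of_orderOf_two ht)
      have hinv : ∀ n ∈ N, t * n * t⁻¹ = n⁻¹ := fun n hn => by
        refine eq_inv_of_mul_eq_one_right (hA t htC (hcop t htC (ht ▸ (Nat.coprime_primes
          Nat.prime_two hp).mpr (Ne.symm hp2))) _ (N.mul_mem hn (hN.normal.conj_mem n hn t)) ?_)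
        calc t * (n * (t * n * t⁻¹)) = t * n * t⁻¹ * (t * t * n) * t⁻¹ := by group
          _ = t * n * t⁻¹ * n * t := by rw [hCN _ ht2 n hn]; group
          _ = _ := by rw [hc _ (hN.normal.conj_mem n hn t) n hn]
      refine ⟨zpowers (t : G ⧸ C), 2, CL.normal_of_le_center (zpowers_le.mpr
        (mem_center_iff.mpr fun g => ?_)), fun e => htC ((QuotientGroup.eq_one_iff t).mp
          (zpowers_eq_bot.mp e)), Nat.prime_two, fun b hb => ?_⟩
      · obtain ⟨g, rfl⟩ := QuotientGroup.mk_surjective g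
        rw [← QuotientGroup.mk_mul, ← QuotientGroup.mk_mul, QuotientGroup.eq]
        intro n hn
        have h3 := hinv _ (hN.normal.conj_mem n hn g)
        have h4 := hinv n hn
        calc n * ((g * t)⁻¹ * (t * g)) = t⁻¹ * (t * n * t⁻¹) * g⁻¹ * t * g := by group
          _ = t⁻¹ * g⁻¹ * (g * n * g⁻¹)⁻¹ * t * g := by rw [h4]; group
          _ = _ := by rw [← h3]; group
      · exact orderOf_dvd_iff_pow_eq_one.mp (ht ▸ orderOf_dvd_of_mem_zpowers hb)
    · have := CL.isSolvable_of_not_two_dvd _ h2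
      have : Nontrivial (G ⧸ C) := ⟨y, 1, fun e => hyC ((QuotientGroup.eq_one_iff y).mp e)⟩
      obtain ⟨F, s, h1, h3, h4, -⟩ := CL.exists_isMinNormal_isElementaryAbelian (G ⧸ C)
      exact ⟨F, s, h1.normal, h1.ne_bot, h3, h4.2⟩
  have hNP : IsPGroup p N := fun n => ⟨1, Subtype.ext (by simpa using hNp n n.2)⟩
  have hFP : IsPGroup s F := fun n => ⟨1, Subtype.ext (by simpa using hFs n n.2)⟩
  by_cases hsp : s = p
  · subst hsp
    let ρ : G ⧸ C →* MulAut N := QuotientGroup.lift C MulAut.conjNormal fun d hd => by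
      ext w
      simp [hCN d hd w w.2]
    let _ : MulAction F N := MulAction.compHom N (ρ.comp F.subtype)
    obtain ⟨n, hn, hn1⟩ := hFP.exists_fixed_point_of_prime_dvd_card_of_fixed_point N
      ((hNP.card_eq_or_dvd).resolve_left fun h => hN.ne_bot (eq_bot_of_card_eq _ h)) (a := 1)
      fun g => map_one (ρ g)
    rcases hN.inf_eq_bot_or_le (centralizer (F.comap (QuotientGroup.mk' C) : Set G)) with h | h
    · refine hn1 (Subtype.ext (mem_bot.mp (h ▸ ⟨n.2, fun g hg => ?_⟩)).symm)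
      exact mul_inv_eq_iff_eq_mul.mp (congrArg Subtype.val (hn ⟨g, hg⟩))
    · refine hF1 (eq_bot_iff.mpr fun b hb => ?_)
      obtain ⟨b, rfl⟩ := QuotientGroup.mk_surjective b
      exact (QuotientGroup.eq_one_iff b).mpr fun n hn => (h hn b hb).symm
  have hFc : ∀ b ∈ F, (orderOf b).Coprime p := fun b hb => ((Nat.coprime_primes hs hp).mpr
    hsp).coprime_dvd_left (orderOf_dvd_of_pow_eq_one (hFs b hb))
  obtain ⟨⟨f, hf⟩, hf1⟩ := ne_bot_iff_exists_ne_one.mp hF1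
  obtain ⟨f, rfl⟩ := QuotientGroup.mk_surjective f
  have hfC : f ∉ C := fun e => hf1 (Subtype.ext ((QuotientGroup.eq_one_iff f).mpr e))
  have h5 := norm_contra C N hc hCN F hf (hA f hfC (hcop f hfC (hFc _ hf))) hp.pos hy0
    fun i h0 hi b hb e => (mixed e ⟨1, by rw [← pow_mul, pow_one, mul_comm, pow_mul, hyp, one_pow]⟩
      (hFc b hb) (hQ _)).resolve_left (pow_ne_one_of_lt_orderOf h0.ne' (hy ▸ hi))
  have := Fact.mk hs
  obtain ⟨k, hk⟩ := hFP.exists_card_eq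
  refine hN.ne_bot (eq_bot_iff.mpr fun n hn => eq_one_of_pow_of_coprime ⟨k, hk ▸ h5 n hn⟩ ?_)
  exact ((Nat.coprime_primes hp hs).mpr (Ne.symm hsp)).coprime_dvd_left
    (orderOf_dvd_of_pow_eq_one (hNp n hn))

end CL.Part
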