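import Mathlib
import Cfsg.Agent.PERM.PartCore
import Cfsg.Agent.INV.Four
import Cfsg.Agent.S1012

/-!
Baer's theorem: groups with a partition and a non-trivial solvable normal subgroup.
-/

set_option autoImplicit false

namespace CL.Part

open Subgroup Cfsg

variable {G : Type*} [Group G] [Finite G] (P : Part G)

theorem exists_minNormal {H : Subgroup G} [H.Normal] (hH : Group.IsNilpotent H) {r : ℕ}
    (hr : r.Prime) (hd : r ∣ Nat.card H) : ∃ W : Subgroup G, IsMinNormal W ∧ W ≤ H ∧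
      (∀ w ∈ W, w ^ r = 1) ∧ ∀ d ∈ H, ∀ w ∈ W, d * w = w * d := by
  have := Fact.mk hr
  obtain ⟨S⟩ : Nonempty (Sylow r H) := inferInstance
  have h1 : (S : Subgroup H).Normal := CL.isNilpotent_iff_sylow_normal.mp hH r this S
  have := S.characteristic_of_normal h1
  obtain ⟨W, hW, hWS⟩ := CL.exists_isMinNormal_le ((S : Subgroup H).map H.subtype) fun e =>
    S.ne_bot_of_dvd_card hd ((map_eq_bot_iff_of_injective _ H.subtype_injective).mp e)
  exact ⟨W, hW, hWS.trans (map_subtype_le _), (hW.isElementaryAbelian_of_isPGroup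
    ((S.isPGroup'.map _).to_le hWS)).2, fun d hd w hw =>
      (hW.le_centralizer_of_isNilpotent hH hd w hw).symm⟩

theorem exists_comm_of_pow {N : Subgroup G} (hN : IsMinNormal N) {p : ℕ} (hp : p.Prime)
    (hNp : ∀ n ∈ N, n ^ p = 1) {y : G} (hy : ∃ k, y ^ p ^ k = 1) :
    ∃ n ∈ N, n ≠ 1 ∧ y * n = n * y := by
  have := Fact.mk hp
  have := hN.normal
  obtain ⟨k, hk⟩ := hy
  obtain ⟨⟨n, hn⟩, h1⟩ := ne_bot_iff_exists_ne_one.mp (CL.inf_centralizer_ne_bot_of_isPGroup (p := p)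
    (V := N) (P := zpowers y) (fun n => ⟨1, Subtype.ext (by simpa using hNp n n.2)⟩)
    (fun a => ⟨k, Subtype.ext (orderOf_dvd_iff_pow_eq_one.mp ((orderOf_dvd_of_mem_zpowers a.2).trans
      (orderOf_dvd_of_pow_eq_one hk)))⟩) (le_top.trans (normalizer_eq_top N).ge) hN.ne_bot)
  exact ⟨n, hn.1, fun e => h1 (Subtype.ext e), hn.2 y (mem_zpowers y)⟩

omit [Finite G] in
theorem orderOf_eq_of_pow {p : ℕ} (hp : p.Prime) {n : G} (h : n ^ p = 1) (h1 : n ≠ 1) :
    orderOf n = p :=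
  have := Fact.mk hp
  orderOf_eq_prime h h1

/-- Frobenius group with kernel `C`, a normal Sylow subgroup. -/
theorem frobenius_of_mixed {C : Subgroup G} [C.Normal] {p : ℕ} (h1 : C ≠ ⊥) (h2 : C ≠ ⊤)
    (hC : ∀ c ∈ C, ∃ k, c ^ p ^ k = 1) (hi : p.Coprime C.index)
    (hm : ∀ g ∉ C, (∃ k, g ^ p ^ k = 1) ∨ (orderOf g).Coprime p) :
    ∃ H : Subgroup G, IsFrobeniusComplement H := by
  refine frobenius_of_cc h1 h2 fun c hc hc1 g hg => ?_
  by_contra hgC
  refine hgC (((mixed hg.symm (hC c hc) ((hm g hgC).resolve_left fun ⟨k, hk⟩ => hgC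
    (CL.mem_of_coprime_index ((hi.pow_left k).coprime_dvd_left (orderOf_dvd_of_pow_eq_one hk))))
    (hm _ fun e => hgC ((mul_mem_cancel_left hc).mp e))).resolve_left hc1).symm ▸ one_mem _)

theorem case_normal {x : G} [hH : (P.c x).Normal] (h1 : P.c x ≠ ⊥) :
    (∃ p : ℕ, p.Prime ∧ closure {g : G | g ^ p ≠ 1} ≠ ⊤) ∨
      ∃ H : Subgroup G, IsFrobeniusComplement H := by
  by_cases hcc : CL.CCZ.CC (P.c x)
  · exact Or.inr (frobenius_of_cc h1 (P.ne_top x) hcc)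
  simp only [CL.CCZ.CC, not_forall] at hcc
  obtain ⟨a, ha, ha1, y, hya, hy⟩ := hcc
  have hn : ∀ g : G, g ∈ normalizer (P.c x : Set G) := fun g => (normalizer_eq_top _).ge (mem_top g)
  have hp := P.prime_of_comm ha1 ha hy hya
  have hyp := P.orderOf_eq_of_comm ha1 ha hy hya
  have hd := (P.c x).orderOf_dvd_natCard ha
  generalize orderOf a = p at hp hyp hd
  have hnil := P.isNilpotent (hn y) hy
  obtain ⟨N, hN, hNH, hNp, hHN⟩ := exists_minNormal hnil hp hd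
  have := hN.normal
  have hout : ∀ g ∉ P.c x, p ∣ orderOf g → g ^ p = 1 := fun g hg hpg => by
    have h2 := orderOf_pow_orderOf_div (orderOf_pos g).ne' hpg
    have h3 : g * g ^ (orderOf g / p) = g ^ (orderOf g / p) * g := (Commute.self_pow g _).eq
    have h4 : g ^ (orderOf g / p) ∈ P.c g := pow_mem (P.mem g) _
    have h5 : g ^ (orderOf g / p) ∈ P.c x → g ^ (orderOf g / p) = 1 := P.pow_eq_one hg
    generalize g ^ (orderOf g / p) = v at h2 h3 h4 h5
    have hv : v ≠ 1 := fun e => hp.one_lt.ne (by rw [← h2, e, orderOf_one])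
    obtain ⟨w, hw, hw1, hvw⟩ := exists_comm_of_pow hN hp hNp (y := v)
      ⟨1, by rw [pow_one, ← h2, pow_orderOf_eq_one]⟩
    have h6 := P.pow_eq_one_of_comm hv h4 (y := w * g) (fun e => hg (P.eq_of_mem hw1
      ((mul_mem_cancel_right (P.mem g)).mp e) (hNH hw) ▸ P.mem g))
      (by rw [mul_assoc, h3, ← mul_assoc, ← hvw, mul_assoc]) (h2 ▸ pow_orderOf_eq_one v)
    have h7 := mul_pow_mem (hn g) (hNH hw) p
    rw [h6, one_mul, inv_mem_iff] at h7
    exact P.pow_eq_one hg h7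
  have hm : ∀ g ∉ P.c x, (∃ k, g ^ p ^ k = 1) ∨ (orderOf g).Coprime p := fun g hg =>
    (em (p ∣ orderOf g)).imp (fun h => ⟨1, by rw [pow_one, hout g hg h]⟩)
      fun h => (hp.coprime_iff_not_dvd.mpr h).symm
  by_cases hu : ∀ g ∉ P.c x, g ^ p = 1
  · refine Or.inl ⟨p, hp, fun e => P.ne_top x (eq_top_iff.mpr (e ▸ (closure_le _).mpr fun g hg => ?_))⟩
    by_contra h
    exact hg (hu g h)
  push Not at hu
  obtain ⟨u, hu, hup⟩ := hu
  have huc : (orderOf u).Coprime p := (hp.coprime_iff_not_dvd.mpr fun h => hup (hout u hu h)).symm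
  set C := centralizer (N : Set G)
  have hHC : P.c x ≤ C := fun d hd w hw => (hHN d hd w hw).symm
  have hfix : ∀ g ∉ P.c x, ∀ n ∈ N, n ≠ 1 → g * n = n * g → g ^ p = 1 := fun g hg n hn h2 h3 =>
    P.pow_eq_one_of_comm h2 (hNH hn) hg h3 (hNp n hn)
  have hi := core hN hp hNp (fun a ha b hb => hHN a (hNH ha) b hb) (fun g hg h2 n hn h3 => by
      by_contra h4
      exact hg (eq_one_of_pow_of_coprime ⟨1, by
        rw [pow_one, hfix g (fun e => hg (hHC e)) n hn h4 h3]⟩ h2 ▸ one_mem _))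
    (fun g hg h2 _ n hn' => by
      have h3 : g ^ p = 1 := hout g (fun e => hg (hHC e)) (by
        by_contra h
        exact hg (eq_one_of_pow_of_coprime h2 (hp.coprime_iff_not_dvd.mpr h).symm ▸ one_mem _))
      rw [h3]
      exact P.mul_pow_eq_one (hn g) (fun e => hg (hHC e)) (hNH hn') (h3 ▸ one_mem _))
    fun g hg => hm g fun e => hg (hHC e)
  have hi' := hp.coprime_iff_not_dvd.mpr hi
  obtain ⟨⟨n, hnN⟩, hn1⟩ := ne_bot_iff_exists_ne_one.mp hN.ne_bot
  have hCp : ∀ c ∈ C, c ∉ P.c x → c ^ p = 1 := fun c hc h =>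
    hfix c h n hnN (fun e => hn1 (Subtype.ext e)) (hc n hnN).symm
  have hHp : IsPGroup p (P.c x) := by
    have := Fact.mk hp
    rw [CL.isPGroup_iff_isPiNum]
    intro r hr hrd
    by_contra hrp
    obtain ⟨W, hW, hWH, hWr, hHW⟩ := exists_minNormal hnil hr hrd
    have := hW.normal
    have hY : ∀ b ∈ C.map (QuotientGroup.mk' (P.c x)), b ^ p = 1 := by
      rintro _ ⟨c, hc, rfl⟩
      rw [← map_pow]
      by_cases h : c ∈ P.c x
      · exact (QuotientGroup.eq_one_iff _).mpr (pow_mem h p)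
      · rw [hCp c hc h, map_one]
    have hc : r.Coprime p := (Nat.coprime_primes hr hp).mpr hrp
    have h5 := norm_contra (P.c x) W (fun a ha b hb => hHW a (hWH ha) b hb) hHW
      (C.map (QuotientGroup.mk' _)) (f := y) ⟨y, CL.mem_of_coprime_index (hyp ▸ hi'), rfl⟩
      (fun w hw h => by
        by_contra h2
        exact hrp ((orderOf_eq_of_pow hr (hWr w hw) h2).symm.trans
          ((P.orderOf_eq_of_comm h2 (hWH hw) hy h).symm.trans hyp)))
      (u := u) (orderOf_pos u) (fun w hw => by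
        rw [pow_orderOf_eq_one]
        exact P.mul_pow_eq_one (hn u) hu (hWH hw) (by rw [pow_orderOf_eq_one]; exact one_mem _))
      fun i h0 hi b hb e => (mixed e.symm ⟨1, by rw [pow_one, hY b hb]⟩
        ((huc.coprime_dvd_left (orderOf_map_dvd (QuotientGroup.mk' _) u)).coprime_dvd_left
          (orderOf_pow_dvd i)) (quot_mixed _ hm _)).resolve_right fun e =>
            pow_ne_one_of_lt_orderOf h0.ne' hi (P.pow_eq_one hu ((QuotientGroup.eq_one_iff _).mp e))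
    obtain ⟨k, hk⟩ := IsPGroup.exists_card_eq (p := p) (G := C.map (QuotientGroup.mk' (P.c x)))
      fun b => ⟨1, Subtype.ext (by simpa using hY b b.2)⟩
    exact hW.ne_bot (eq_bot_iff.mpr fun w hw => eq_one_of_pow_of_coprime ⟨k, hk ▸ h5 w hw⟩
      (hc.coprime_dvd_left (orderOf_dvd_of_pow_eq_one (hWr w hw))))
  refine Or.inr (frobenius_of_mixed (C := C) (fun e => h1 (eq_bot_iff.mpr (e ▸ hHC)))
    (fun e => hup (hCp u (e ▸ mem_top u) hu)) (fun c hc => ?_) hi' fun g hg => hm g fun e => hg (hHC e))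
  by_cases h : c ∈ P.c x
  · obtain ⟨k, hk⟩ := hHp ⟨c, h⟩
    exact ⟨k, congrArg Subtype.val hk⟩
  · exact ⟨1, by rw [pow_one, hCp c hc h]⟩

section split

variable {N : Subgroup G} (hN : IsMinNormal N) {p : ℕ} (hp : p.Prime) (hNp : ∀ n ∈ N, n ^ p = 1)
  (hs : ∀ x, ∃ n ∈ N, n ∉ P.c x)
include hN hp hNp hs

theorem eq_one_of_comm {y u : G} (h : u * y = y * u) (hy1 : y ≠ 1) (hy : ∃ k, y ^ p ^ k = 1)
    (hu : (orderOf u).Coprime p) : u = 1 := by
  have := Fact.mk hp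
  have := hN.normal
  have huy : u ∈ P.c y := by
    by_contra h1
    exact hy1 (eq_one_of_pow_of_coprime hy (P.orderOf_eq_of_comm hy1 (P.mem y) h1 h ▸ hu))
  obtain ⟨k, hk⟩ := hy
  have hQ : IsPGroup p ↥(zpowers y ⊔ N) := IsPGroup.to_sup_of_normal_right
    (fun a => ⟨k, Subtype.ext (orderOf_dvd_iff_pow_eq_one.mp ((orderOf_dvd_of_mem_zpowers a.2).trans
      (orderOf_dvd_of_pow_eq_one hk)))⟩) fun n => ⟨1, Subtype.ext (by simpa using hNp n n.2)⟩
  obtain ⟨n, hn, hny⟩ := hs y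
  obtain ⟨w, ⟨hw1, hw2⟩, hw3⟩ := SetLike.exists_of_lt (CL.lt_normalizer_inf_of_isNilpotent
    hQ.isNilpotent (K := P.c y ⊓ (zpowers y ⊔ N)) (lt_of_le_of_ne inf_le_right fun e =>
      hny (e.ge (mem_sup_right hn)).1))
  obtain ⟨j, hj⟩ := hQ ⟨w, hw2⟩
  have h2 := P.mul_pow_eq_one (P.mem_normalizer hy1 (P.mem y) ((mem_normalizer_iff.mp hw1 y).mp
    ⟨P.mem y, mem_sup_left (mem_zpowers y)⟩).1) (fun e => hw3 ⟨e, hw2⟩) huy (n := p ^ j)
    (by rw [show w ^ p ^ j = 1 from congrArg Subtype.val hj]; exact one_mem _)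
  obtain ⟨_, ⟨i, rfl⟩, m, hm, rfl⟩ := (CL.mem_sup_of_le_normalizer
    (le_top.trans (normalizer_eq_top N).ge)).mp hw2
  have h3 : Commute (u : G ⧸ N) ((y : G ⧸ N) ^ i) :=
    Commute.zpow_right (Commute.map h (QuotientGroup.mk' N)) i
  have h4 : ((u : G ⧸ N) * (y : G ⧸ N) ^ i) ^ p ^ j = 1 := by
    have := congrArg (QuotientGroup.mk' N) h2
    simpa [(QuotientGroup.eq_one_iff m).mpr hm] using this
  have h5 : ((y : G ⧸ N) ^ i) ^ p ^ k = 1 := by
    rw [← zpow_natCast, ← zpow_mul, mul_comm, zpow_mul, zpow_natCast, ← QuotientGroup.mk_pow, hk]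
    simp
  have h6 : (u : G ⧸ N) ^ p ^ (j + k) = 1 := by
    have : ((u : G ⧸ N) * (y : G ⧸ N) ^ i) ^ p ^ (j + k) = 1 := by rw [pow_add, pow_mul, h4, one_pow]
    rwa [h3.mul_pow, add_comm, pow_add p k, pow_mul ((y : G ⧸ N) ^ i), h5, one_pow, mul_one,
      ← pow_add, add_comm] at this
  exact eq_one_of_pow_of_coprime ⟨j + k + 1, by
    rw [pow_succ, pow_mul]; exact hNp _ ((QuotientGroup.eq_one_iff _).mp h6)⟩ hu

theorem pow_or_coprime (g : G) : (∃ k, g ^ p ^ k = 1) ∨ (orderOf g).Coprime p := by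
  obtain ⟨a, m, hm, e⟩ := Nat.exists_eq_pow_mul_and_not_dvd (orderOf_pos g).ne' p hp.ne_one
  have hc := (hp.coprime_iff_not_dvd.mpr hm).symm
  by_cases h : g ^ m = 1
  · exact Or.inr (hc.coprime_dvd_left (orderOf_dvd_of_pow_eq_one h))
  · exact Or.inl ⟨a, P.eq_one_of_comm hN hp hNp hs (Commute.pow_pow_self g _ _).eq h
      ⟨a, by rw [← pow_mul, mul_comm, ← e, pow_orderOf_eq_one]⟩ (hc.coprime_dvd_left
        (orderOf_dvd_of_pow_eq_one (by rw [← pow_mul, ← e, pow_orderOf_eq_one])))⟩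

end split

theorem norm_zero {E : Subgroup G} (hE : ∀ a ∈ E, ∀ b ∈ E, a * b = b * a) {y : G}
    (hy : y ∈ normalizer (E : Set G)) {x : G} (hx : x ∈ E) (hx1 : x ≠ 1) (hyx : y * x = x * y)
    {p : ℕ} (hp : x ^ p = 1) {a b : G} (ha : a ∈ E) (hb : b ∈ E) (h1 : a ∉ P.c x) (h2 : b ∉ P.c x)
    (h3 : a * b⁻¹ ∉ P.c x) {m : G} (hm : m ∈ E) : (m * y) ^ p = y ^ p := by
  have key : ∀ n ∈ E, n * y ∉ P.c x → (n * y) ^ p = 1 := fun n hn h =>
    P.pow_eq_one_of_comm hx1 (P.mem x) h (by rw [mul_assoc, hyx, ← mul_assoc, hE n hn x hx, mul_assoc]) hp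
  have h4 : ∀ z s t : G, s * t⁻¹ ∉ P.c x → s * z ∈ P.c x → t * z ∉ P.c x := fun z s t h e e' =>
    h (by simpa using mul_mem e (inv_mem e'))
  obtain ⟨n, hn, h5, h6⟩ : ∃ n ∈ E, n * y ∉ P.c x ∧ n * (m * y) ∉ P.c x := by
    by_contra h
    push Not at h
    have e1 := fun z => h4 z a 1 (by simpa using h1)
    have e2 := fun z => h4 z b 1 (by simpa using h2)
    have e3 := fun z => h4 z a b h3
    have f1 := h 1 E.one_mem
    have f2 := h a ha
    have f3 := h b hb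
    have := e1 y; have := e2 y; have := e3 y
    have := e1 (m * y); have := e2 (m * y); have := e3 (m * y)
    tauto
  have h7 := norm_mul hE hy hn hm p
  rw [key n hn h5, key _ (mul_mem hn hm) (by rwa [mul_assoc]), left_eq_mul] at h7
  exact mul_inv_eq_one.mp h7

theorem case_split {N : Subgroup G} (hN : IsMinNormal N) (hc : IsMulCommutative N)
    (hs : ∀ x, ∃ n ∈ N, n ∉ P.c x) :
    Nonempty (G ≃* Equiv.Perm (Fin 4)) ∨ (∃ p : ℕ, p.Prime ∧ closure {g : G | g ^ p ≠ 1} ≠ ⊤) ∨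
      ∃ H : Subgroup G, IsFrobeniusComplement H := by
  obtain ⟨p, hp, hNp⟩ := hN.exists_pow_eq_one_of_isMulCommutative hc
  have := hN.normal
  have := Fact.mk hp
  have := hN.nontrivial
  have : Nontrivial G := N.subtype_injective.nontrivial
  replace hc : ∀ a ∈ N, ∀ b ∈ N, a * b = b * a := fun a ha b hb =>
    congrArg Subtype.val (hc.1.1 ⟨a, ha⟩ ⟨b, hb⟩)
  by_cases hG : IsPGroup p G
  · have := hG.center_nontrivial
    obtain ⟨⟨z, hz⟩, hz1⟩ := exists_ne (1 : center G)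
    exact Or.inr (Or.inl (P.hughes_of_central (fun e => hz1 (Subtype.ext e)) (mem_center_iff.mp hz)))
  have hm := P.pow_or_coprime hN hp hNp hs
  have hA : ∀ g : G, (orderOf g).Coprime p → ∀ n ∈ N, g * n = n * g → n ≠ 1 → g = 1 :=
    fun g hg n hn h h1 => P.eq_one_of_comm hN hp hNp hs h h1 ⟨1, by rw [pow_one, hNp n hn]⟩ hg
  set C := centralizer (N : Set G)
  have hNC : N ≤ C := fun a ha b hb => hc b hb a ha
  obtain ⟨⟨n₀, hn₀⟩, hn1⟩ := ne_bot_iff_exists_ne_one.mp hN.ne_bot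
  have hC : ∀ c ∈ C, ∃ k, c ^ p ^ k = 1 := fun c hc => (hm c).elim id fun h =>
    ⟨0, by simpa using hA c h n₀ hn₀ (hc n₀ hn₀).symm fun e => hn1 (Subtype.ext e)⟩
  by_cases hB : ∀ g ∉ C, (∃ k, g ^ p ^ k = 1) → g ^ p ∈ C → ∀ n ∈ N, (n * g) ^ p = g ^ p
  · refine Or.inr (Or.inr (frobenius_of_mixed (C := C) (fun e => hN.ne_bot (eq_bot_iff.mpr (e ▸ hNC)))
      (fun e => hG fun g => hC g (e ▸ mem_top g)) hC (hp.coprime_iff_not_dvd.mpr
        (core hN hp hNp hc (fun g hg h n hn e => ?_) hB fun g _ => hm g)) fun g _ => hm g))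
    by_contra h1
    exact hg (hA g h n hn e h1 ▸ one_mem _)
  push Not at hB
  obtain ⟨y, hyC, hy, hyp, m, hmN, hmy⟩ := hB
  obtain ⟨x, hx, hx1, hyx⟩ := exists_comm_of_pow hN hp hNp hy
  have hp2 : p = 2 := by
    by_contra h
    obtain ⟨a, ha, hax⟩ := hs x
    refine hmy (P.norm_zero hc ((normalizer_eq_top N).ge (mem_top y)) hx hx1 hyx (hNp x hx) ha
      (inv_mem ha) hax (fun e => hax (inv_mem_iff.mp e)) (fun e => hax ?_) hmN)
    rw [inv_inv, ← sq] at e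
    rw [eq_one_of_pow_of_coprime ⟨1, (pow_one 2).symm ▸ P.pow_eq_one hax e⟩
      (((Nat.coprime_primes hp Nat.prime_two).mpr h).coprime_dvd_left
        (orderOf_dvd_of_pow_eq_one (hNp a ha)))]
    exact one_mem _
  subst hp2
  have hC2 : ∀ c ∈ C, c ^ 2 = 1 := fun c hc => by
    obtain ⟨n, hn, h1⟩ := hs c
    by_cases h : c = 1
    · simp [h]
    exact P.pow_eq_one_of_comm (a := n) (x := n) (fun e => h1 (e ▸ one_mem _)) (P.mem n)
      (fun e => h1 (P.eq h e ▸ P.mem n)) (hc n hn).symm (hNp n hn)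
  have hCc : ∀ a ∈ C, ∀ b ∈ C, a * b = b * a := fun a ha b hb => by
    calc a * b = (a ^ 2)⁻¹ * a * b * (b ^ 2)⁻¹ := by rw [hC2 a ha, hC2 b hb]; group
      _ = (b * a) * ((b * a) ^ 2)⁻¹ := by rw [sq, sq, sq]; group
      _ = b * a := by rw [hC2 _ (mul_mem hb ha)]; group
  have h2 : ∀ a ∈ C, ∀ b ∈ C, a ∉ P.c x → b ∉ P.c x → a * b⁻¹ ∈ P.c x := fun a ha b hb h1 h2 => by
    by_contra h3
    exact hmy (P.norm_zero hCc ((normalizer_eq_top C).ge (mem_top y)) (hNC hx) hx1 hyx (hNp x hx)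
      ha hb h1 h2 h3 (hNC hmN))
  obtain ⟨g, hg⟩ : ∃ g : G, g * x * g⁻¹ ∉ P.c x := by
    by_contra h
    push Not at h
    have : (P.c x).Normal := ⟨fun a ha g => P.conj_mem (P.mem_normalizer hx1 (P.mem x) (h g)) ha⟩
    obtain ⟨n, hn, h1⟩ := hs x
    exact h1 (((hN.inf_eq_bot_or_le (P.c x)).resolve_left fun e =>
      hx1 (mem_bot.mp (e ▸ ⟨hx, P.mem x⟩))) hn)
  have h3 : ∀ a ∈ C, ∀ b ∈ C, a ∉ P.c (g * x * g⁻¹) → b ∉ P.c (g * x * g⁻¹) →
      a * b⁻¹ ∈ P.c (g * x * g⁻¹) := fun a ha b hb h1 h3 => by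
    have := P.conj g (h2 _ ((inferInstance : C.Normal).conj_mem a ha g⁻¹) _
      ((inferInstance : C.Normal).conj_mem b hb g⁻¹) (fun e => h1 (by simpa [mul_assoc] using P.conj g e))
      fun e => h3 (by simpa [mul_assoc] using P.conj g e))
    simpa [mul_assoc] using this
  have hx' : g * x * g⁻¹ ∈ C := hNC (hN.normal.conj_mem x hx g)
  generalize g * x * g⁻¹ = x' at hg h3 hx'
  have h4 : ∀ c, c ∈ P.c x → c ∈ P.c x' → c = 1 := fun c h1 h2 => by
    by_contra h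
    exact hg (P.eq_of_mem h h1 h2 ▸ P.mem x')
  have h5 : x ∉ P.c x' := fun e => hx1 (h4 x (P.mem x) e)
  have h6 : (C : Set G) ⊆ {1, x, x', x * x'} := fun c hc => by
    by_cases e1 : c ∈ P.c x <;> by_cases e2 : c ∈ P.c x'
    · exact Or.inl (h4 c e1 e2)
    · exact Or.inr (Or.inl (mul_inv_eq_one.mp (h4 _ (mul_mem e1 (inv_mem (P.mem x)))
        (h3 c hc x (hNC hx) e2 h5))))
    · exact Or.inr (Or.inr (Or.inl (mul_inv_eq_one.mp (h4 _ (h2 c hc x' hx' e1 hg)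
        (mul_mem e2 (inv_mem (P.mem x')))))))
    · refine Or.inr (Or.inr (Or.inr (mul_inv_eq_one.mp (h4 _ ?_ ?_))))
      · simpa [mul_assoc] using mul_mem (h2 c hc x' hx' e1 hg) (inv_mem (P.mem x))
      · rw [hCc x (hNC hx) x' hx']
        simpa [mul_assoc] using mul_mem (h3 c hc x (hNC hx) e2 h5) (inv_mem (P.mem x'))
  have h7 : Nat.card C = 4 := by
    have e1 : (C : Set G).ncard ≤ 4 := (Set.ncard_le_ncard h6).trans
      ((Set.ncard_insert_le _ _).trans (Nat.succ_le_succ ((Set.ncard_insert_le _ _).trans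
        (Nat.succ_le_succ ((Set.ncard_insert_le _ _).trans (by simp))))))
    have e2 : 2 < (C : Set G).ncard := (Set.two_lt_ncard (Set.toFinite _)).mpr ⟨1, C.one_mem, x, hNC hx,
      x', hx', hx1.symm, fun e => hg (e ▸ one_mem _), fun e => hg (e ▸ P.mem x)⟩
    have e3 : 2 ∣ Nat.card C := orderOf_eq_of_pow hp (hNp x hx) hx1 ▸ C.orderOf_dvd_natCard (hNC hx)
    change Nat.card C ≤ 4 at e1
    change 2 < Nat.card C at e2
    omega
  have h8 := CL.Four.index_centralizer_dvd_factorial C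
  rw [h7, le_antisymm (centralizer_le hNC) (fun a ha b hb => hCc b hb a ha)] at h8
  have h9 : 2 ∣ C.index := by
    have : orderOf (y : G ⧸ C) = 2 := orderOf_eq_prime ((QuotientGroup.eq_one_iff _).mpr hyp)
      fun e => hyC ((QuotientGroup.eq_one_iff _).mp e)
    exact this ▸ orderOf_dvd_natCard _
  have h10 := C.card_mul_index
  have h11 : C.index ≠ 2 := fun e => hG (IsPGroup.of_card (n := 3) (by rw [← h10, h7, e]; rfl))
  have h12 : C.index = 6 := by
    have := Nat.le_of_dvd (by decide) h8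
    change C.index ≤ 6 at this
    change C.index ∣ 6 at h8
    generalize C.index = i at *
    interval_cases i <;> omega
  refine Or.inl (Cfsg.Agent.S1012.result (by rw [← h10, h7, h12]) fun g hg => ?_)
  rcases hm g with ⟨k, hk⟩ | hk
  · have := Nat.prime_three.dvd_of_dvd_pow ((by norm_num : 3 ∣ 6).trans
      (hg ▸ orderOf_dvd_of_pow_eq_one hk))
    omega
  · rw [hg] at hk
    norm_num at hk

include P in
/-- Baer's theorem. -/
theorem of_solvable_normal {R : Subgroup G} [R.Normal] (h1 : R ≠ ⊥) (hR : Group.IsSolvable R) :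
    Nonempty (G ≃* Equiv.Perm (Fin 4)) ∨ (∃ p : ℕ, p.Prime ∧ closure {g : G | g ^ p ≠ 1} ≠ ⊤) ∨
      ∃ H : Subgroup G, IsFrobeniusComplement H := by
  obtain ⟨N, hN, hNR⟩ := CL.exists_isMinNormal_le R h1
  by_cases hs : ∀ x, ∃ n ∈ N, n ∉ P.c x
  · exact P.case_split hN (hN.isMulCommutative_of_isSolvable (CL.isSolvable_of_le hNR hR)) hs
  push Not at hs
  obtain ⟨x, hx⟩ := hs
  obtain ⟨⟨n, hn⟩, hn1⟩ := ne_bot_iff_exists_ne_one.mp hN.ne_bot
  have : (P.c x).Normal := ⟨fun a ha g => P.conj_mem (P.mem_normalizer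
    (fun e => hn1 (Subtype.ext e)) (hx n hn) (hx _ (hN.normal.conj_mem n hn g))) ha⟩
  exact Or.inr (P.case_normal fun e => hN.ne_bot (eq_bot_iff.mpr (e ▸ hx)))

end CL.Part
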