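import Mathlib
import Cfsg.Agent.PERM.PartSolv
import Cfsg.Agent.PERM.BSWGen
import Cfsg.Agent.KSG.PSL2Basic

/-!
Suzuki's theorem: groups with a partition and trivial solvable radical.
-/

set_option autoImplicit false

namespace CL.Part

open Subgroup Cfsg CL.Inv
open scoped Pointwise MatrixGroups

variable {G : Type*} [Group G] (P : Part G)

theorem mul_self_of_comm {s y : G} (hs : s * s = 1) (hs1 : s ≠ 1) (hy : y ∉ P.c s)
    (h : y * s = s * y) : y * y = 1 :=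
  (sq y).symm.trans (P.pow_eq_one_of_comm hs1 (P.mem s) hy h ((sq s).trans hs))

theorem inverts_of_comm {s y : G} (hs : s * s = 1) (hs1 : s ≠ 1) (hy : y ∉ P.c s)
    (h : y * s = s * y) {k : G} (hk : k ∈ P.c s) : y * k * y⁻¹ = k⁻¹ :=
  P.inverts (P.mem_normalizer_of_comm hs1 (P.mem s) h) hy (P.mul_self_of_comm hs hs1 hy h) hk

theorem comm_of_comm {s y : G} (hs : s * s = 1) (hs1 : s ≠ 1) (hy : y ∉ P.c s)
    (h : y * s = s * y) : ∀ a ∈ P.c s, ∀ b ∈ P.c s, a * b = b * a := fun a ha b hb => by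
  have h1 := P.inverts_of_comm hs hs1 hy h (mul_mem ha hb)
  rw [← conj_mul, P.inverts_of_comm hs hs1 hy h ha, P.inverts_of_comm hs hs1 hy h hb, ← mul_inv_rev,
    inv_inj] at h1
  exact h1.symm

theorem exp_two {s a b : G} (hs : s * s = 1) (hs1 : s ≠ 1) (ha : a ∉ P.c s) (hb : b ∉ P.c s)
    (hab : a * b ∉ P.c s) (h1 : a * s = s * a) (h2 : b * s = s * b) {g : G} (hg : g * s = s * g) :
    g * g = 1 := by
  by_cases h : g ∈ P.c s
  · have h3 := P.inverts_of_comm hs hs1 hab (by rw [mul_assoc, h2, ← mul_assoc, h1, mul_assoc]) h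
    rw [show a * b * g * (a * b)⁻¹ = a * (b * g * b⁻¹) * a⁻¹ by group, P.inverts_of_comm hs hs1 hb h2 h,
      P.inverts_of_comm hs hs1 ha h1 (inv_mem h), inv_inv] at h3
    exact mul_eq_one_iff_eq_inv.mpr h3
  · exact P.mul_self_of_comm hs hs1 h hg

variable [Finite G]

theorem inverts_of_fpf {K : Subgroup G} {z : G} (hz : z * z = 1)
    (hn : ∀ k ∈ K, z * k * z⁻¹ ∈ K) (hf : ∀ k ∈ K, k * z = z * k → k = 1) {k : G} (hk : k ∈ K) :
    z * k * z⁻¹ = k⁻¹ := by
  let f : K → K := fun k => ⟨(k : G)⁻¹ * (z * k * z⁻¹), K.mul_mem (K.inv_mem k.2) (hn k k.2)⟩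
  have hinj : Function.Injective f := fun a b hab => by
    have e : (a : G)⁻¹ * (z * a * z⁻¹) = (b : G)⁻¹ * (z * b * z⁻¹) := congrArg Subtype.val hab
    refine (Subtype.ext (mul_inv_eq_one.1 (hf _ (K.mul_mem b.2 (K.inv_mem a.2)) ?_))).symm
    calc (b : G) * (a : G)⁻¹ * z = b * ((a : G)⁻¹ * (z * a * z⁻¹)) * z * (a : G)⁻¹ := by group
      _ = _ := by rw [e]; group
  obtain ⟨a, ha⟩ := Finite.surjective_of_injective hinj ⟨k, hk⟩
  rw [← show (a : G)⁻¹ * (z * a * z⁻¹) = k from congrArg Subtype.val ha]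
  calc z * ((a : G)⁻¹ * (z * a * z⁻¹)) * z⁻¹ = z * (a : G)⁻¹ * z⁻¹ * (z * z) * a * (z * z)⁻¹ := by group
    _ = _ := by rw [hz]; group

variable (hR : ∀ R : Subgroup G, R.Normal → Group.IsSolvable R → R = ⊥)
include hR

theorem caseA (S : Sylow 2 G) {t : G} (ht : t * t = 1) (ht1 : t ≠ 1) (hS : ∀ s ∈ S, s * t = t * s)
    (hC : ∀ g, g * t = t * g → g ∈ P.c t) :
    (∃ n, 2 ≤ n ∧ Nonempty (G ≃* PSL(2, GaloisField 2 n))) ∨
      ((∃ u ∈ P.c t, ∃ v ∈ P.c t, u * v ≠ v * u) ∧ Lie.IsoSuzuki G) := by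
  have hA : ∀ s ∈ P.c t, s * s = 1 → s ≠ 1 → ∀ g, g * s = s * g → g ∈ P.c t := fun s hs h2 h1 g hg => by
    by_contra h
    have e := P.eq h1 hs
    have := P.inverts_of_comm h2 h1 (e ▸ h) hg (e ▸ P.mem t)
    rw [inv_eq_of_mul_eq_one_right ht, mul_inv_eq_iff_eq_mul] at this
    exact h (hC g this)
  have hH1 : P.c t ≠ ⊥ := fun e => ht1 (mem_bot.mp (e ▸ P.mem t))
  by_cases hM : normalizer (P.c t : Set G) ≤ P.c t
  · obtain ⟨K, -, h1, -, h2, -, h3⟩ := CL.Frob.exists_nilpotent_kernel (H := P.c t) ⟨hH1, P.ne_top t,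
      fun g hg => eq_bot_iff.mpr fun x hx => by
        by_contra h
        exact hg (hM (P.mem_normalizer (a := g⁻¹ * x * g) (by simpa [mul_eq_one_iff_eq_inv] using h)
          (CL.mem_conj_smul_iff.mp hx.2) (by simpa [mul_assoc] using hx.1)))⟩
    exact absurd (hR K h1 inferInstance) h2
  obtain ⟨y, hyn, hy⟩ := SetLike.not_le_iff_exists.mp hM
  have hnil := P.isNilpotent hyn hy
  have hn : ¬ (P.c t).Normal := fun h => hH1 (hR _ h inferInstance)
  obtain ⟨z, hz⟩ := CL.CCZ.exists_cinv_of_nilpotent hnil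
    (orderOf_eq_two_of ht ht1 ▸ (P.c t).orderOf_dvd_natCard (P.mem t))
  have hodd : ∀ d : G, Odd (orderOf d) → d * d = 1 → d = 1 := fun d h1 h2 =>
    eq_one_of_pow_of_coprime (p := 2) ⟨1, by simpa [sq] using h2⟩ (Nat.coprime_two_right.mpr h1)
  have hfix0 : ∀ j d u : G, j ∈ P.c t → j * j = 1 → j * d * j⁻¹ = d⁻¹ → Odd (orderOf d) → u ≠ 1 →
      u * j = j * u → d * u = u * d → d = 1 := fun j d u hj h2 h3 h4 h5 h6 h7 => by
    by_cases hj1 : j = 1
    · exact hodd d h4 (mul_eq_one_iff_eq_inv.mpr (by simpa [hj1] using h3))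
    have h8 := mul_mem (P.conj_mem (P.mem_normalizer_of_comm h5 (hA j hj h2 hj1 u h6) h7) hj) hj
    rw [show d * j * d⁻¹ * j = d * (j * d * j⁻¹)⁻¹ * (j * j) by group, h2, h3, inv_inv, mul_one,
      ← sq] at h8
    by_cases hd : d ∈ P.c t
    · have := CL.FGS.commute_of_mem_nilpotent_of_coprime _ hnil hj hd
        (orderOf_eq_two_of h2 hj1 ▸ Nat.coprime_two_left.mpr h4)
      rw [this.eq, mul_inv_cancel_right] at h3
      exact hodd d h4 (mul_eq_one_iff_eq_inv.mpr h3)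
    · exact hodd d h4 ((sq d).symm.trans (P.pow_eq_one hd h8))
  have hfix : ∀ j d u : G, j * j = 1 → j * d * j⁻¹ = d⁻¹ → Odd (orderOf d) → u ≠ 1 →
      u * j = j * u → d * u = u * d → d = 1 := fun j d u h2 h3 h4 h5 h6 h7 => by
    obtain ⟨g, hg⟩ := exists_conj_mem_sylow S h2
    have := hfix0 _ (g * d * g⁻¹) (g * u * g⁻¹) (hC _ (hS _ hg)) (by rw [conj_mul, h2]; simp)
      (by rw [conj_inv, conj_mul, conj_mul, h3, conj_inv]) (by rwa [orderOf_conj'])
      (by simpa [mul_eq_one_iff_eq_inv] using h5) (by rw [conj_mul, conj_mul, h6])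
      (by rw [conj_mul, conj_mul, h7])
    simpa [mul_eq_one_iff_eq_inv] using this
  have hcc : CL.CCZ.CC (P.c t) := fun x hx hx1 g hg => by
    by_contra hgH
    have hq := P.prime_of_comm hx1 hx hgH hg
    have hq2 : orderOf x ≠ 2 := fun e => hgH (hA x hx (mul_self_of_orderOf_two e) hx1 g hg)
    have hgn := P.mem_normalizer_of_comm hx1 hx hg
    obtain ⟨a, ha⟩ : ∃ a : G, a * z * a⁻¹ ∉ P.c t := by
      by_contra h
      push Not at h
      exact hn ⟨fun k hk a => P.conj_mem (P.mem_normalizer hz.2.1 hz.1 (h a)) hk⟩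
    have hs : a * z * a⁻¹ * (a * z * a⁻¹) = 1 := by rw [conj_mul, hz.2.2.1]; simp
    generalize a * z * a⁻¹ = s at ha hs
    have hsw : ∀ w ∈ P.c t, w * w = 1 → w ≠ 1 → ∃ j : G, j * j = 1 ∧ j * w * j⁻¹ = s :=
      fun w hw h2 h1 => by
        have h3 : Odd (orderOf (s * w)) := by
          by_contra h
          obtain ⟨m, hm⟩ := Nat.not_odd_iff_even.mp h
          obtain ⟨e1, e2, e3⟩ := central_involution_of_even hs h2 (hm.trans (two_mul m).symm)
            (by rintro rfl; exact (orderOf_pos _).ne' hm)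
          exact ha (hA _ (hA w hw h2 h1 _ e3.symm.eq) (mul_self_of_orderOf_two e1)
            (ne_one_of_orderOf_two e1) s e2.eq)
        obtain ⟨k, hk⟩ := exists_pow_conj_of_odd hs h2 h3
        refine ⟨(s * w) ^ k * w, mul_self_mul_of_inverts h2
          (conj_pow_eq_inv (conj_mul_eq_inv' hs h2) k), ?_⟩
        generalize (s * w) ^ k = c at hk
        rw [← hk]; group
    obtain ⟨j, j2, hj⟩ := hsw z hz.1 hz.2.2.1 hz.2.1
    obtain ⟨i, i2, hi⟩ := hsw _ (P.conj_mem hgn hz.1) (by rw [conj_mul, hz.2.2.1]; simp)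
      (by simpa [mul_eq_one_iff_eq_inv] using hz.2.1)
    have h1 : i * j * g⁻¹ ∈ P.c t := by
      have := P.conj_mem hgn (hA z hz.1 hz.2.2.1 hz.2.1 (g⁻¹ * (i * j)) (by
        calc g⁻¹ * (i * j) * z = g⁻¹ * (i * i) * i⁻¹ * (j * z * j⁻¹) * j := by group
          _ = z * (g⁻¹ * i⁻¹ * j) := by rw [hj, ← hi, i2]; group
          _ = _ := by rw [inv_eq_of_mul_eq_one_right i2, mul_assoc g⁻¹]))
      simpa [mul_assoc] using this
    have h2 := conj_mul_eq_inv' i2 j2
    have h3 := P.mul_pow_eq_one hgn hgH h1 (n := orderOf x) (by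
      rw [← P.orderOf_eq_of_comm hx1 hx hgH hg, pow_orderOf_eq_one]; exact one_mem _)
    have h4 : i * j ∉ P.c t := fun e => hgH (inv_mem_iff.mp ((mul_mem_cancel_left e).mp h1))
    have h5 : i * j ∈ normalizer (P.c t : Set G) := by
      simpa using mul_mem (le_normalizer h1) hgn
    rw [inv_mul_cancel_right] at h3
    generalize i * j = d at h2 h3 h4 h5
    have hd1 : d ≠ 1 := fun e => h4 (e ▸ one_mem _)
    have hd := orderOf_eq_of_pow hq h3 hd1
    obtain ⟨x', hx', h6, h7⟩ : ∃ x' ∈ P.c t, x' ≠ 1 ∧ x' * d = d * x' := by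
      by_contra h
      push Not at h
      have := Fact.mk hq
      have h6 := CL.FC.coprime_of_fpf_aut (CL.FC.conjHom (zpowers d) (P.c t) (zpowers_le.mpr h5))
        fun b hb l hl => by
          by_contra hl1
          obtain ⟨k, hk⟩ := mem_zpowers_of_prime_card (g' := (⟨d, mem_zpowers d⟩ : zpowers d))
            ((Nat.card_zpowers d).trans hd) hb
          have h8 : Commute (b : G) l := mul_inv_eq_iff_eq_mul.mp (congrArg Subtype.val hl)
          exact h l l.2 (fun e => hl1 (Subtype.ext e))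
            ((show (b : G) ^ k = d from congrArg Subtype.val hk) ▸ (h8.zpow_left k).symm.eq)
      rw [Nat.card_zpowers, hd] at h6
      exact hq.one_lt.ne' (h6.eq_one_of_dvd ((P.c t).orderOf_dvd_natCard hx))
    have h8 := inverts_of_fpf (K := centralizer {d}) j2 (fun k hk => by
        rw [mem_centralizer_singleton_iff] at hk ⊢
        have e : d = j * d⁻¹ * j⁻¹ := by rw [← conj_inv, h2, inv_inv]
        rw [e, conj_mul, conj_mul, (Commute.inv_right hk).eq])
      (fun k hk e => by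
        by_contra h
        exact hd1 (hfix j d k j2 h2 (hd ▸ hq.odd_of_ne_two hq2) h e
          (mem_centralizer_singleton_iff.mp hk).symm))
      (mem_centralizer_singleton_iff.mpr h7)
    exact ha (hj ▸ P.conj_mem (P.mem_normalizer h6 hx' (h8 ▸ inv_mem hx')) hz.1)
  have : Nontrivial G := ⟨t, 1, ht1⟩
  have : IsSimpleGroup G := ⟨fun N hN => (em (N = ⊥)).imp id fun h =>
    CL.CCZ.eq_top_of_two_dvd hcc hz hn hy hyn (by
      by_contra h2
      exact h (hR N hN (CL.isSolvable_of_not_two_dvd _ h2)))⟩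
  exact (CL.CCZ.psl_or_suzuki hcc hz (P.ne_top t)).imp And.right And.right

theorem caseB (S : Sylow 2 G) {t y : G} (ht : t * t = 1) (ht1 : t ≠ 1) (htS : t ∈ S)
    (hS : ∀ s ∈ S, s * t = t * s) (hy : y ∉ P.c t) (hyt : y * t = t * y) {b : G}
    (hb : b * t = t * b) (hb2 : b * b ≠ 1) :
    ∃ (F : Type) (_ : Field F) (_ : Fintype F), Odd (Fintype.card F) ∧ 3 < Fintype.card F ∧
      (Nonempty (G ≃* PSL(2, F)) ∨ Nonempty (G ≃* PGL(2, F))) := by
  have hc := P.comm_of_comm ht ht1 hy hyt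
  have hmul : ∀ g, g * t = t * g → g ∈ P.c t ∨ g * y ∈ P.c t := fun g hg => by
    by_contra h
    push Not at h
    exact hb2 (P.exp_two ht ht1 h.1 hy h.2 hg hyt hb)
  have hbH : b ∈ P.c t := by
    by_contra h
    exact hb2 (P.mul_self_of_comm ht ht1 h hb)
  by_cases hu : ∀ x ∈ P.c t, x * x = 1 → x = 1 ∨ x = t
  · refine CL.BSWG.psl_or_pgl hR (orderOf_eq_two_of ht ht1) hc (P.mem t)
      (P.mul_self_of_comm ht ht1 hy hyt) hmul (fun x hx => P.inverts_of_comm ht ht1 hy hyt hx) hu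
      (fun g x hx h1 h2 => mul_inv_eq_iff_eq_mul.mp ((hu _ (P.conj_mem (P.mem_normalizer h1 hx h2)
        (P.mem t)) (by rw [conj_mul, ht]; simp)).resolve_left
          (by simpa [mul_eq_one_iff_eq_inv] using ht1))) S hS
  exfalso
  push Not at hu
  obtain ⟨u, huH, hu2, hu1, hut⟩ := hu
  have hexp : ∀ j, j * t = t * j → j ∉ P.c t → ∀ g, g * j = j * g → g * g = 1 := fun j h1 h2 g hg => by
    have h3 : ∀ w ∈ P.c t, w ≠ 1 → w ∉ P.c j := fun w hw hw1 e =>
      h2 (P.eq_of_mem hw1 e hw ▸ P.mem j)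
    have h4 := P.inverts_of_comm ht ht1 h2 h1 huH
    rw [inv_eq_of_mul_eq_one_right hu2, mul_inv_eq_iff_eq_mul] at h4
    exact P.exp_two (P.mul_self_of_comm ht ht1 h2 h1) (fun e => h2 (e ▸ one_mem _))
      (h3 t (P.mem t) ht1) (h3 u huH hu1) (h3 _ (mul_mem (P.mem t) huH) fun e => hut
        ((eq_inv_of_mul_eq_one_right e).trans (inv_eq_of_mul_eq_one_right ht))) h1.symm h4.symm hg
  have hinv : ∀ j ∈ normalizer (P.c t : Set G), j ∉ P.c t → j * j = 1 → j * t = t * j :=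
    fun j h1 h2 h3 => by
      have := P.inverts h1 h2 h3 (P.mem t)
      rwa [inv_eq_of_mul_eq_one_right ht, mul_inv_eq_iff_eq_mul] at this
  have hev : ∀ g ∈ normalizer (P.c t : Set G), g ∉ P.c t → Even (orderOf g) → g * t = t * g :=
    fun g h1 h2 ⟨m, hm⟩ => by
      have h3 := orderOf_pow_half (hm.trans (two_mul m).symm)
        (by rintro rfl; exact (orderOf_pos _).ne' hm)
      have h4 : g ^ m ∉ P.c t := fun e => ne_one_of_orderOf_two h3 (P.pow_eq_one h2 e)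
      exact hinv g h1 h2 (hexp _ (hinv _ (pow_mem h1 m) h4 (mul_self_of_orderOf_two h3)) h4 g
        (Commute.self_pow g m).eq)
  have hyn := P.mem_normalizer_of_comm ht1 (P.mem t) hyt
  have hy2 := P.mul_self_of_comm ht ht1 hy hyt
  have hM : ∀ g ∈ normalizer (P.c t : Set G), g * t = t * g := fun g hg => by
    by_cases h1 : g ∈ P.c t
    · exact hc g h1 t (P.mem t)
    have h2 : y * g * t = t * (y * g) → g * t = t * g := fun e => by
      rw [mul_assoc, ← mul_assoc t, ← hyt, mul_assoc] at e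
      exact mul_left_cancel e
    by_cases h3 : y * g ∈ P.c t
    · exact h2 (hc _ h3 t (P.mem t))
    rcases Nat.even_or_odd (orderOf g) with h4 | h4
    · exact hev g hg h1 h4
    rcases Nat.even_or_odd (orderOf (y * g)) with h5 | h5
    · exact h2 (hev _ (mul_mem hyn hg) h3 h5)
    exfalso
    have h6 : g * y * g⁻¹ ∉ P.c t := fun e => hy ((mem_normalizer_iff.mp hg y).mpr e)
    have h7 := (hmul _ (hinv _ (mul_mem (mul_mem hg hyn) (inv_mem hg)) h6
      (by rw [conj_mul, hy2]; simp))).resolve_left h6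
    let π := QuotientGroup.mk' ((P.c t).subgroupOf (normalizer (P.c t : Set G)))
    have h8 : orderOf (π ⟨y, hyn⟩) = 2 := orderOf_eq_two_of
      (by rw [← map_mul]; exact (congrArg π (Subtype.ext hy2)).trans (map_one π))
      fun e => hy ((QuotientGroup.eq_one_iff (⟨y, hyn⟩ : normalizer (P.c t : Set G))).mp e)
    have h9 : Commute (π ⟨y, hyn⟩) (π ⟨g, hg⟩) := by
      have : π ⟨g, hg⟩ * π ⟨y, hyn⟩ * (π ⟨g, hg⟩)⁻¹ * π ⟨y, hyn⟩ = 1 :=
        (QuotientGroup.eq_one_iff _).mpr h7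
      rw [mul_eq_one_iff_eq_inv, inv_eq_of_orderOf_two h8, mul_inv_eq_iff_eq_mul] at this
      exact this.symm
    have h10 : ∀ a : normalizer (P.c t : Set G), Odd (orderOf (a : G)) → Odd (orderOf (π a)) :=
      fun a ha => ha.of_dvd_nat (orderOf_coe a ▸ orderOf_map_dvd π a)
    have h11 := h10 (⟨y, hyn⟩ * ⟨g, hg⟩) h5
    rw [map_mul, h9.orderOf_mul_eq_mul_orderOf_of_coprime
      (h8 ▸ Nat.coprime_two_left.mpr (h10 ⟨g, hg⟩ h4)), h8] at h11
    exact Nat.not_odd_iff_even.mpr (even_two_mul _) h11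
  obtain ⟨N, hN, h1, h2⟩ := Cfsg.Agent.S0215.result S t (orderOf_eq_two_of ht ht1) htS fun g hg => by
    by_cases h : g * t * g⁻¹ ∈ P.c t
    · exact mul_inv_eq_iff_eq_mul.mpr (hM g (P.mem_normalizer ht1 (P.mem t) h))
    · have := hexp _ (hS _ hg) h (g * b * g⁻¹) (by rw [conj_mul, conj_mul, hb])
      rw [conj_mul] at this
      exact absurd (by simpa [mul_eq_one_iff_eq_inv] using this) hb2
  obtain rfl := hR N hN (CL.isSolvable_of_odd _ h1)
  have h9 : center G = ⊥ := hR _ inferInstance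
    (Group.isSolvable_of_comm fun a b => Subtype.ext (mem_center_iff.mp b.2 a))
  refine ht1 (mem_bot.mp (h9 ▸ mem_center_iff.mpr fun g => ?_))
  have := mem_bot.mp (h2 g)
  rw [mul_inv_eq_one, mul_inv_eq_iff_eq_mul] at this
  exact this.symm

include P in
/-- Suzuki's theorem. -/
theorem of_radical_eq_bot [Nontrivial G] :
    (∃ n, 2 ≤ n ∧ Nonempty (G ≃* PSL(2, GaloisField 2 n))) ∨
      ((∃ t : G, ∃ u ∈ P.c t, ∃ v ∈ P.c t, u * v ≠ v * u) ∧ Lie.IsoSuzuki G) ∨
      ∃ (F : Type) (_ : Field F) (_ : Fintype F), Odd (Fintype.card F) ∧ 3 < Fintype.card F ∧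
        (Nonempty (G ≃* PSL(2, F)) ∨ Nonempty (G ≃* PGL(2, F))) := by
  classical
  have hns : ¬ Group.IsSolvable G := fun h => top_ne_bot (hR ⊤ inferInstance inferInstance)
  have h2 : 2 ∣ Nat.card G := by
    by_contra h
    exact hns (CL.isSolvable_of_not_two_dvd _ h)
  obtain ⟨S⟩ : Nonempty (Sylow 2 G) := inferInstance
  by_cases hA : ∃ t : G, t * t = 1 ∧ t ≠ 1 ∧ (∀ s ∈ S, s * t = t * s) ∧ ∀ g, g * t = t * g → g ∈ P.c t
  · obtain ⟨t, h1, h3, h4, h5⟩ := hA
    exact (P.caseA hR S h1 h3 h4 h5).imp id fun h => Or.inl ⟨⟨t, h.1⟩, h.2⟩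
  push Not at hA
  by_cases hB : ∃ t ∈ S, t * t = 1 ∧ t ≠ 1 ∧ (∀ s ∈ S, s * t = t * s) ∧ ∃ b, b * t = t * b ∧ b * b ≠ 1
  · obtain ⟨t, h0, h1, h3, h4, b, h5, h6⟩ := hB
    obtain ⟨y, h7, h8⟩ := hA t h1 h3 h4
    exact Or.inr (Or.inr (P.caseB hR S h1 h3 h0 h4 h8 h7 h5 h6))
  push Not at hB
  have hcomm : ∀ a b : G, a * a = 1 → b * b = 1 → a * b * (a * b) = 1 → a * b = b * a :=
    fun a b h1 h2 h3 => by
      rw [← inv_eq_of_mul_eq_one_right h3, mul_inv_rev, inv_eq_of_mul_eq_one_right h1,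
        inv_eq_of_mul_eq_one_right h2]
  obtain ⟨z, hz⟩ := CL.CCZ.exists_cinv_of_nilpotent S.isPGroup'.isNilpotent (S.dvd_card_of_dvd_card h2)
  have hS := fun s hs => hB z hz.1 hz.2.2.1 hz.2.1 hz.2.2.2 s (hz.2.2.2 s hs)
  rcases Cfsg.Agent.S2202.result (even_iff_two_dvd.mpr h2) (fun t ht => by
    obtain ⟨g, hg⟩ := exists_conj_mem_sylow S (mul_self_of_orderOf_two ht)
    have h3 := (orderOf_conj' g t).trans ht
    have h4 : ∀ a ∈ centralizer ({t} : Set G), a * a = 1 := fun a ha => by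
      have := hB _ hg (mul_self_of_orderOf_two h3) (ne_one_of_orderOf_two h3)
        (fun s hs => hcomm _ _ (hS s hs) (hS _ hg) (hS _ (S.1.mul_mem hs hg))) (g * a * g⁻¹)
        (by rw [conj_mul, conj_mul, mem_centralizer_singleton_iff.mp ha])
      rw [conj_mul] at this
      simpa [mul_eq_one_iff_eq_inv] using this
    exact ⟨⟨fun a b => Subtype.ext (hcomm _ _ (h4 a a.2) (h4 b b.2) (h4 _ (mul_mem a.2 b.2)))⟩⟩)
    with h | h | ⟨F, _, _, A, _, _, _, -, ⟨e⟩⟩
  · exact absurd (CL.GW.isSolvable_of_hasNPC (CL.GW.hasNPC_of_isCyclic S (h S))) hns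
  · exact absurd (hR _ (h S) (CL.isSolvable_of_isPGroup S.isPGroup')) (S.ne_bot_of_dvd_card h2)
  · have h9 : center G = ⊥ := hR _ inferInstance
      (Group.isSolvable_of_comm fun a b => Subtype.ext (mem_center_iff.mp b.2 a))
    have : Unique A := ⟨⟨1⟩, fun a => congrArg Prod.snd (e.symm.injective (a₂ := 1)
      ((mem_bot.mp (h9 ▸ mem_center_iff.mpr fun g => e.injective (by
        rw [map_mul, map_mul, e.apply_symm_apply]
        exact Prod.ext (by simp) (mul_comm _ _)) : e.symm (1, a) ∈ ⊥)).trans (map_one _).symm))⟩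
    obtain ⟨n, h3, -, h4⟩ := CL.PSL2E.exists_psl_galois hns ((e.trans MulEquiv.prodUnique).trans
      (CL.GL2.pslEquivEven (CharP.cast_eq_zero F 2)))
    exact Or.inl ⟨n, h3, h4⟩

end CL.Part
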