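import Mathlib
import Cfsg.Agent.PERM.Ito4
import Cfsg.Agent.S4248
import Cfsg.Agent.S0042
import Cfsg.Agent.SOLV.Frobenius
import Cfsg.Agent.FGS.Kegel
import Cfsg.Agent.FGS.CITSpec
import Cfsg.Agent.PERM.SpecGL2

/-!
# Groups without proper inclusions between centralizers of non-central elements (Rebmann)
-/

set_option autoImplicit false

namespace CL.Ito

open Subgroup Cfsg CL.CS
open scoped commutatorElement

variable {G : Type*} [Group G] [Finite G]

theorem isSolvable_of_abelian {ℓ : ℕ} (hℓ : ℓ.Prime) (B : Subgroup G) [IsMulCommutative B]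
    (h : ∀ (w : ℕ) (y : G) (k : ℕ), w.Prime → w ≠ ℓ → y ^ w ^ k = 1 → y ∈ B) :
    Group.IsSolvable G :=
  isSolvable_of_forall_mem hℓ fun w y k hw hwl hy =>
    let ⟨_, ha⟩ := index_eq_pow_of_forall (H := 𝐂[y]) fun w' y' k' hw' hwl' hy' =>
      mem_cen.2 (mul_comm_of_mem_isMulCommutative B (h w' y' k' hw' hwl' hy') (h w y k hw hwl hy))
    mem_solvableRadical_of_index_eq_pow hℓ ha

omit [Finite G] in
theorem commute_of_pow_mem_center {x y : G} {a b : ℕ} (hab : a.Coprime b) (hx : x ^ a ∈ center G)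
    (hy : y ^ b ∈ center G) (h : ⁅x, y⁆ ∈ center G) : Commute x y := by
  rw [← commutatorElement_eq_one_iff_commute, ← mem_bot]
  refine mem_of_pow_mem_of_coprime hab ?_ ?_
  · rw [← CL.PG.commutator_pow_left (mem_center_iff.1 h x), mem_bot,
      commutatorElement_eq_one_iff_mul_comm]
    exact (mem_center_iff.1 hx y).symm
  · rw [← CL.PG.commutator_pow_right (mem_center_iff.1 h y), mem_bot,
      commutatorElement_eq_one_iff_mul_comm]
    exact mem_center_iff.1 hy x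

omit [Finite G] in
theorem cen_mul_le {x y : G} {a b : ℕ} (hab : a.Coprime b) (hx : x ^ a ∈ center G)
    (hy : y ^ b ∈ center G) (h : Commute x y) : 𝐂[x * y] ≤ 𝐂[x] := fun g hg => by
  have h1 := cen_le_cen_pow (x * y) b hg
  rw [h.mul_pow, cen_mul_of_mem_center _ hy] at h1
  exact mem_cen_comm.1 (mem_of_pow_mem_of_coprime hab (center_le_cen g hx) (mem_cen_comm.1 h1))

/-- A partition into abelian subgroups. -/
structure AbPart {X : Type*} [Group X] (B : X → Subgroup X) : Prop where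
  mem : ∀ x, x ∈ B x
  comm : ∀ x, IsMulCommutative (B x)
  eq : ∀ x y, x ≠ 1 → y ≠ 1 → y ∈ B x → B y = B x
  cop : ∀ (x y : X) (a b : ℕ), x ≠ 1 → a.Coprime b → x ^ a = 1 → y ^ b = 1 → Commute x y → y ∈ B x

namespace AbPart

variable {B : G → Subgroup G} (h : AbPart B)
include h

theorem not_suzuki : ¬ Lie.IsoSuzuki G := by
  rintro ⟨F, _, _, m, hm, hF, ⟨e⟩⟩
  have := Sz.charP_two hF
  let M := (Sz.lieModel hF).ofEquiv e
  have h1 : ∀ x y : F, x ≠ 0 → B (M.u 0 (_ * x)) = B (M.u x y) := fun x y hx =>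
    h.eq _ _ (fun e => hx (M.u_eq_one_iff.1 e).1)
      (fun e => mul_ne_zero (Sz.Model.θ_ne_zero hx) hx (M.u_eq_one_iff.1 e).2)
      (M.u_sq x y ▸ mul_mem (h.mem _) (h.mem _))
  have h2 : ∀ y : F, M.u 0 y ∈ B (M.u 1 0) := fun y => by
    have h3 : M.u 1 y ∈ B (M.u 1 0) := by
      rw [← h1 1 0 one_ne_zero, h1 1 y one_ne_zero]; exact h.mem _
    have h4 : M.u 0 y * M.u 1 0 = M.u 1 y := by rw [M.u_mul]; simp
    exact (mul_mem_cancel_right (h.mem _)).1 (h4 ▸ h3)
  have h3 : ∀ x : F, x ^ 2 = x := fun x => by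
    have h4 : ∀ x : F, M.u x 0 ∈ B (M.u 1 0) := fun x => by
      by_cases hx : x = 0
      · exact hx ▸ h2 0
      rw [← h.eq _ _ (fun e => one_ne_zero (M.u_eq_one_iff.1 e).1)
        (fun e => mul_ne_zero (Sz.Model.θ_ne_zero hx) hx (M.u_eq_one_iff.1 e).2) (h2 _), h1 x 0 hx]
      exact h.mem _
    have := h.comm (M.u 1 0)
    have h5 := fun x => mul_comm_of_mem_isMulCommutative _ (h4 x) (h.mem _)
    simp only [M.u_mul, M.u_eq_iff, mul_one, map_one, one_mul, add_zero, zero_add] at h5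
    rw [← M.tits, (h5 _).2, (h5 _).2]
  have h4 : Fintype.card F ≤ 2 := by
    classical
    rw [← Finset.card_univ]
    refine (Finset.card_le_card (t := {0, 1}) fun x _ => ?_).trans Finset.card_le_two
    simpa [sq, mul_right_eq_self₀, or_comm] using h3 x
  have h5 : 2 ^ 3 ≤ 2 ^ (2 * m + 1) := Nat.pow_le_pow_right two_pos (by omega)
  omega

theorem isSolvable_of_frobenius {H : Subgroup G} (hH : IsFrobeniusComplement H) :
    Group.IsSolvable G := by
  obtain ⟨K, hK, hKn, hKc, hK1, hf⟩ := CL.Frob.exists_kernel hH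
  obtain ⟨K', hK', -, hn⟩ := Agent.S0042.result H hH
  obtain rfl : K = K' := SetLike.coe_injective (hK.trans hK'.symm)
  obtain ⟨z, hz, hz1, hzc⟩ := CL.Frob.exists_central hK1 hH.1 le_normalizer_of_normal hf
  obtain ⟨c, hc, hc1, ℓ, k, hℓ, hk⟩ :
      ∃ c ∈ zpowers z, c ≠ 1 ∧ ∃ ℓ k : ℕ, ℓ.Prime ∧ c ^ ℓ ^ k = 1 := by
    by_contra! h0
    exact hz1 (mem_bot.1 (mem_of_forall_primePow_mem fun y hy q j hq hj =>
      by_contra fun e => h0 y hy e q j hq hj))
  have := h.comm c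
  have h1 : Group.IsSolvable H := isSolvable_of_abelian hℓ ((B c).subgroupOf H)
    fun w y j hw hwl hy => h.cop c y (ℓ ^ k) (w ^ j) hc1
      (((Nat.coprime_primes hℓ hw).2 hwl.symm).pow k j) hk (congrArg Subtype.val hy)
      (mem_cen'.1 (cen_le_cen_of_mem_zpowers hc (mem_cen.2 (hzc y y.2))))
  have h2 := CL.isSolvable_sup_of_normal h1 (inferInstance : Group.IsSolvable K)
  rw [hKc.symm.sup_eq_top] at h2
  exact CL.isSolvable_of_mulEquiv topEquiv

omit h in
theorem isSolvable_of_hughes {p : ℕ} (hp : p.Prime) (h : closure {g : G | g ^ p ≠ 1} ≠ ⊤) :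
    Group.IsSolvable G := by
  have hn : (closure {g : G | g ^ p ≠ 1}).Normal := ⟨fun x hx g => by
    induction hx using closure_induction with
    | mem x hx => exact subset_closure (by simpa [conj_pow] using hx)
    | one => simp
    | mul x y _ _ hx hy => simpa [mul_assoc] using mul_mem hx hy
    | inv x _ hx => simpa [mul_assoc] using inv_mem hx⟩
  have h1 : ∀ g, g ∉ closure {g : G | g ^ p ≠ 1} → g ^ p = 1 := fun g hg =>
    by_contra fun e => hg (subset_closure e)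
  have := CL.FGS.isNilpotent_of_forall_not_mem_pow_prime hp G _ hn h h1
  refine isSolvable_of_forall_mem hp fun w y k hw hwp hy =>
    CL.SR.le_solvableRadical (N := closure {g : G | g ^ p ≠ 1}) inferInstance (by_contra fun e => e ?_)
  exact mem_of_pow_mem_of_coprime (((Nat.coprime_primes hw hp).2 hwp).pow_left k)
    (by rw [hy]; exact one_mem _) (by rw [h1 y e]; exact one_mem _)

theorem classify (hs : ¬ Group.IsSolvable G) :
    ∃ (F : Type) (_ : Field F) (_ : Fintype F), 4 ≤ Fintype.card F ∧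
      (Nonempty (G ≃* Matrix.ProjectiveSpecialLinearGroup (Fin 2) F) ∨
      Odd (Fintype.card F) ∧ Nonempty (G ≃* (GL (Fin 2) F ⧸ center (GL (Fin 2) F)))) := by
  have h1 : ∀ x, ∃ y, y ∉ B x := fun x => by
    by_contra! h0
    have := h.comm x
    exact hs (isSolvable_of_abelian Nat.prime_two (B x) fun _ y _ _ _ _ => h0 y)
  have h2 : ∀ {x y}, y ∉ B x → y ≠ 1 := fun hy e => hy (e ▸ one_mem _)
  obtain ⟨x, hx⟩ := h1 1
  obtain ⟨y, hy⟩ := h1 x
  rcases Agent.S4248.result {H | ∃ x, x ≠ 1 ∧ B x = H}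
    ⟨_, ⟨x, h2 hx, rfl⟩, _, ⟨y, h2 hy, rfl⟩, fun e => hy (e ▸ h.mem y)⟩
    (by rintro _ ⟨x, hx, rfl⟩ e; exact hx (mem_bot.1 (e ▸ h.mem x)))
    (fun g hg => ⟨B g, ⟨⟨g, hg, rfl⟩, h.mem g⟩, by
      rintro _ ⟨⟨x, hx, rfl⟩, e⟩; exact (h.eq x g hx hg e).symm⟩) with
    ⟨⟨e⟩⟩ | ⟨p, hp, h3⟩ | ⟨H, hH⟩ | ⟨F, _, _, h3, e⟩ | ⟨F, _, _, h3, h4, e⟩ | h3
  · refine (hs (CL.Char.isSolvable_of_primes_subset_pair Nat.prime_two Nat.prime_three
      fun r hr hd => ?_)).elim
    rw [Nat.card_congr e.toEquiv, Nat.card_perm, Nat.card_fin,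
      show Nat.factorial 4 = 2 ^ 3 * 3 from rfl] at hd
    exact (hr.dvd_mul.1 hd).imp (fun h => (Nat.prime_dvd_prime_iff_eq hr Nat.prime_two).1
      (hr.dvd_of_dvd_pow h)) (Nat.prime_dvd_prime_iff_eq hr Nat.prime_three).1
  · exact (hs (isSolvable_of_hughes hp h3)).elim
  · exact (hs (h.isSolvable_of_frobenius hH)).elim
  · exact ⟨F, _, _, h3, .inl e⟩
  · exact ⟨F, _, _, by omega, .inr ⟨h4, e⟩⟩
  · exact (h.not_suzuki h3).elim

end AbPart

variable (G) in
/-- no proper inclusions between centralizers of non-central elements -/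
def FG : Prop := ∀ x y : G, y ∉ center G → 𝐂[x] ≤ 𝐂[y] → 𝐂[x] = 𝐂[y]

namespace FG

variable (h : FG G)
include h

omit [Finite G] in
theorem cen_eq {x y : G} {a b : ℕ} (hab : a.Coprime b) (hx : x ^ a ∈ center G)
    (hy : y ^ b ∈ center G) (hc : Commute x y) (hxZ : x ∉ center G) (hyZ : y ∉ center G) :
    𝐂[x] = 𝐂[y] :=
  (h _ _ hxZ (cen_mul_le hab hx hy hc)).symm.trans
    (h _ _ hyZ (hc.eq ▸ cen_mul_le hab.symm hy hx hc.symm))

omit [Finite G] in
theorem abPart : ∃ B : G ⧸ center G → Subgroup (G ⧸ center G), AbPart B := by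
  set f := QuotientGroup.mk' (center G)
  choose s hs using QuotientGroup.mk'_surjective (center G)
  have h0 : ∀ x, f x = 1 ↔ x ∈ center G := QuotientGroup.eq_one_iff
  have h1 : ∀ x y, f x = f y → 𝐂[x] = 𝐂[y] := fun x y e => by
    obtain ⟨z, hz, rfl⟩ := (QuotientGroup.mk'_eq_mk' _).1 e
    exact (cen_mul_of_mem_center x hz).symm
  have h2 : ∀ x, x ≠ 1 → s x ∉ center G := fun x hx e => hx (hs x ▸ (h0 _).2 e)
  refine ⟨fun x => (centralizer (𝐂[s x] : Set G)).map f, fun x => ⟨s x, le_cen_iff.1 le_rfl, hs x⟩,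
    fun x => ?_, ?_, fun x y a b hx hab hxa hyb hc => ?_⟩
  · have : IsMulCommutative (centralizer (𝐂[s x] : Set G)) := ⟨⟨fun u v => Subtype.ext
      (v.2 u (mem_cen_comm.1 (le_cen_iff.2 u.2 (self_mem_cen _))))⟩⟩
    infer_instance
  · rintro x _ - hy ⟨y, hyx, rfl⟩
    rw [h1 _ _ (hs (f y)), ← h _ _ (fun e => hy ((h0 y).2 e)) (le_cen_iff.2 hyx)]
  · by_cases hy : y = 1
    · exact hy ▸ one_mem _
    have h3 : s x ^ a ∈ center G := (h0 _).1 (by rw [map_pow, hs, hxa])
    have h4 : s y ^ b ∈ center G := (h0 _).1 (by rw [map_pow, hs, hyb])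
    refine ⟨s y, le_cen_iff.1 (h.cen_eq hab h3 h4 (commute_of_pow_mem_center hab h3 h4 ((h0 _).1 ?_))
      (h2 x hx) (h2 y hy)).le, hs y⟩
    rwa [map_commutatorElement, hs, hs, commutatorElement_eq_one_iff_commute]

/-- **Rebmann.** -/
theorem classify (hs : ¬ Group.IsSolvable G) :
    ∃ (F : Type) (_ : Field F) (_ : Fintype F), 4 ≤ Fintype.card F ∧
      (Nonempty (G ⧸ center G ≃* Matrix.ProjectiveSpecialLinearGroup (Fin 2) F) ∨
      Odd (Fintype.card F) ∧
        Nonempty (G ⧸ center G ≃* (GL (Fin 2) F ⧸ center (GL (Fin 2) F)))) :=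
  h.abPart.elim fun _ hB => hB.classify fun h => hs (isSolvable_of_quotient_center h)

end FG

/-- **Ito.** Groups with at most two non-central class sizes are solvable. -/
theorem isSolvable_of_two {n n' : ℕ}
    (h : ∀ y : G, y ∉ center G → (𝐂[y]).index = n ∨ (𝐂[y]).index = n') : Group.IsSolvable G := by
  by_contra hs
  have hF : FG G := fun g x hx hle => by_contra fun hne => hs (isSolvable_of_lt (hle.lt_of_ne hne) hx
    fun y hy => by
      have h1 := h g fun e => hx (cen_eq_top_iff.1 (eq_top_iff.2 (cen_eq_top_iff.2 e ▸ hle)))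
      have h2 := h x hx
      have h3 := h y hy
      have h4 : (𝐂[g]).index ≠ (𝐂[x]).index := fun e => hne (eq_of_le_of_index_eq hle e)
      omega)
  have key : ∀ p : ℕ, p.Prime → (∃ x : G ⧸ center G, orderOf x = p) →
      ∃ s : ℕ, s.Prime ∧ s ≠ p ∧ ∃ x : G ⧸ center G, orderOf x = p * s := by
    rintro p hp ⟨x, hx⟩
    obtain ⟨x, rfl⟩ := QuotientGroup.mk'_surjective _ x
    have hxZ : x ∉ center G := fun e => hp.one_lt.ne' (by
      rw [← hx, orderOf_eq_one_iff]; exact (QuotientGroup.eq_one_iff x).2 e)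
    obtain ⟨s, c, hcx, hc⟩ : ∃ (s : ℕ) (c : G), c ∈ 𝐂[x] ∧ Good p s c := by
      by_contra! h0
      have h1 : ∀ y : G, (orderOf y).Coprime p → y ∉ center G → (𝐂[y]).index ≠ (𝐂[x]).index :=
        fun y hy hyZ e => by
          obtain ⟨s, c, hcy, hc⟩ := exists_good hp hy hyZ
          obtain ⟨d, hd, hd'⟩ := exists_good_mem (g := x) hc (by
            rw [← hF _ _ hc.nc (cen_le_cen_of_mem_zpowers hcy), relIndex_center_eq e])
          exact h0 s d hd hd'
      refine hs (isSolvable_of_index hp (m := n + n' - (𝐂[x]).index) fun y hy hyZ => ?_)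
      have := h1 y hy hyZ
      have := h x hxZ
      have := h y hyZ
      omega
    obtain ⟨k, hk⟩ := hc.pow
    have := Fact.mk hc.prime
    obtain ⟨j, -, hj⟩ := (Nat.dvd_prime_pow hc.prime).1 (orderOf_dvd_of_pow_eq_one
      (show QuotientGroup.mk' (center G) c ^ s ^ k = 1 by rw [← map_pow, hk, map_one]))
    refine ⟨s, hc.prime, hc.ne, Spec.exists_orderOf_eq_of_dvd
      (QuotientGroup.mk' _ x * QuotientGroup.mk' _ c) ?_⟩
    rw [((mem_cen'.1 hcx).map _).orderOf_mul_eq_mul_orderOf_of_coprime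
      (by rw [hx, hj]; exact ((Nat.coprime_primes hp hc.prime).2 hc.ne.symm).pow_right j), hx, hj]
    refine Nat.mul_dvd_mul_left p (dvd_pow_self s ?_)
    rintro rfl
    exact hc.nc ((QuotientGroup.eq_one_iff c).1 (orderOf_eq_one_iff.1 hj))
  obtain ⟨F, _, _, h4, h5⟩ := hF.classify hs
  have hp := CharP.char_is_prime F (ringChar F)
  have hq : ringChar F ∣ Fintype.card F :=
    (CharP.cast_eq_zero_iff F _ _).1 (FiniteField.cast_card_eq_zero F)
  have fin : ∀ s : ℕ, s.Prime → ¬ (ringChar F * s ∣ ringChar F ∨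
      ringChar F * s ∣ Fintype.card F - 1 ∨ ringChar F * s ∣ Fintype.card F + 1) := by
    rintro s hs (e | e | e)
    · exact hs.one_lt.ne' (Nat.dvd_one.1 (Nat.dvd_of_mul_dvd_mul_left hp.pos (by simpa using e)))
    · exact hp.not_dvd_one ((Nat.dvd_add_right ((dvd_mul_right _ s).trans e)).1
        (by rwa [Nat.sub_add_cancel (by omega)]))
    · exact hp.not_dvd_one ((Nat.dvd_add_right hq).1 ((dvd_mul_right _ s).trans e))
  rcases h5 with ⟨⟨e⟩⟩ | ⟨-, ⟨e⟩⟩
  · have h6 := (Spec.range_orderOf_congr e).trans Spec.spec_PSL2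
    obtain ⟨s, hs, -, h7⟩ := key _ hp (h6.ge (.inl dvd_rfl))
    exact fin s hs ((h6.le h7).imp_right (.imp
      (·.trans (Nat.div_dvd_of_dvd (Nat.gcd_dvd_left _ _)))
      (·.trans (Nat.div_dvd_of_dvd (Nat.gcd_dvd_left _ _)))))
  · have h6 := (Spec.range_orderOf_congr e).trans Spec.spec_PGL2
    obtain ⟨s, hs, -, h7⟩ := key _ hp (h6.ge (.inl dvd_rfl))
    exact fin s hs (h6.le h7)

end CL.Ito
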