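import Mathlib
import Cfsg.Agent.PERM.Ito5
import Cfsg.Agent.FGS.ClassSizeCount
import Cfsg.Agent.FGS.PSL2Even
import Cfsg.Agent.S0252
import Cfsg.Agent.S0253
import Cfsg.Agent.S2507
import Cfsg.Agent.S2508

/-!
# Groups with trivial centre and three non-trivial class sizes
-/

set_option autoImplicit false

namespace CL.Ito

open Subgroup Cfsg CL.CS

variable {G : Type*} [Group G] [Finite G]

theorem exists_not_dvd {q : ℕ} (hq : q.Prime) (h : q ∣ Nat.card G) :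
    ∃ y : G, y ≠ 1 ∧ (∃ k, y ^ q ^ k = 1) ∧ ¬ q ∣ (𝐂[y]).index := by
  have := Fact.mk hq
  obtain ⟨Q⟩ : Nonempty (Sylow q G) := inferInstance
  obtain ⟨⟨y, hy, hc⟩, h1⟩ := ne_bot_iff_exists_ne_one.1
    (CL.Frob.center_ne_bot_of_isPGroup Q.2 (Q.ne_bot_of_dvd_card h))
  exact ⟨y, fun e => h1 (Subtype.ext e), pow_eq_one_of_mem_isPGroup Q.2 hy,
    not_dvd_index_of_sylow_le (le_cen_iff.2 hc)⟩

theorem exists_residual (G : Type*) [Group G] [Finite G] : ∃ N : Subgroup G, N.Normal ∧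
    (Group.IsSolvable N → Group.IsSolvable G) ∧
      ∀ p : ℕ, p.Prime → HasNormalPComplement p G → ¬ p ∣ Nat.card N := by
  obtain ⟨_, ⟨n, rfl⟩, h⟩ := WellFounded.has_min (wellFounded_lt (α := Subgroup G))
    (Set.range (derivedSeries G)) ⟨_, 0, rfl⟩
  have h1 : ⁅derivedSeries G n, derivedSeries G n⁆ = derivedSeries G n :=
    (commutator_le_left _ _).lt_or_eq.resolve_left (h _ ⟨n + 1, rfl⟩)
  refine ⟨_, derivedSeries_normal G n, fun hs => ⟨n, by_contra fun e =>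
    (CL.commutator_lt_of_isSolvable hs e).ne h1⟩, ?_⟩
  rintro p hp ⟨P, M, hM, hc⟩ hd
  have := Fact.mk hp
  obtain ⟨k, hk⟩ := P.2.exists_card_eq
  have := (IsPGroup.of_card (G := G ⧸ M) (hc.symm.index_eq_card.trans hk)).isNilpotent
  have h2 : (derivedSeries G n).map (QuotientGroup.mk' M) = ⊥ := by_contra fun e =>
    (CL.commutator_lt_of_isSolvable inferInstance e).ne (by rw [← map_commutator, h1])
  rw [Subgroup.map_eq_bot_iff, QuotientGroup.ker_mk'] at h2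
  exact P.not_dvd_index (hc.index_eq_card ▸ hd.trans (card_dvd_of_le h2))

theorem relIndex_eq_pow (hZ : center G = ⊥) {g x : G} (hgx : 𝐂[g] < 𝐂[x]) (hx : x ∉ center G)
    (hloc : ∀ y, y ∉ center G → (𝐂[x]).index ∣ (𝐂[y]).index →
      (𝐂[y]).index = (𝐂[x]).index ∨ (𝐂[y]).index = (𝐂[g]).index)
    (hdiv : ∀ y, y ∉ center G → (𝐂[y]).index ∣ (𝐂[x]).index → (𝐂[y]).index = (𝐂[x]).index) :
    Group.IsSolvable 𝐂[x] ∧ ∃ u a : ℕ, u.Prime ∧ (𝐂[g]).relIndex 𝐂[x] = u ^ a := by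
  have h0 : ∀ y, y ∉ center G → 𝐂[x] ≤ 𝐂[y] → 𝐂[y] = 𝐂[x] := fun y hy hle =>
    (eq_of_le_of_index_eq hle (hdiv y hy (index_dvd_of_le hle)).symm).symm
  have h1 : ∀ y, y ∉ center G → 𝐂[y] ≤ 𝐂[x] →
      𝐂[y] = 𝐂[x] ∨ (𝐂[y]).relIndex 𝐂[x] = (𝐂[g]).relIndex 𝐂[x] := fun y hy hle =>
    (hloc y hy (index_dvd_of_le hle)).imp (eq_of_le_of_index_eq hle) fun e =>
      Nat.eq_of_mul_eq_mul_right (index_cen_pos x) (by
        rw [relIndex_mul_index hgx.le, relIndex_mul_index hle, e])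
  obtain ⟨c, hc, hcZ, r, k, hr, hk⟩ := exists_primePow hx
  have h2 := index_local hk hcZ (h0 c hcZ (cen_le_cen_of_mem_zpowers hc)) h1
  refine ⟨isSolvable_of_index hr h2, ?_⟩
  by_cases hq : ∀ q : ℕ, q.Prime → q ∣ (𝐂[g]).relIndex 𝐂[x] → q = r
  · exact ⟨r, _, hr, Nat.eq_prime_pow_of_unique_prime_dvd FiniteIndex.index_ne_zero
      fun {q} h => hq q h⟩
  push Not at hq
  obtain ⟨q, hq, hd, hqr⟩ := hq
  obtain ⟨y, hy1, ⟨j, hj⟩, hy⟩ := exists_not_dvd hq (hd.trans (relIndex_dvd_card _ _))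
  have hyZ : (y : G) ∉ center G := by simpa [hZ] using hy1
  have h3 : y ∈ center 𝐂[x] := by_contra fun e =>
    hy (h2 y (coprime_of_pow_of_ne hr hq hqr hj) e ▸ hd)
  obtain ⟨u, hu, h4⟩ := exists_prime_of_index hr hq hqr.symm h2
    (index_local (congrArg Subtype.val hj) hyZ (h0 _ hyZ (mem_center_subgroup.1 h3)) h1)
  obtain ⟨a, ha⟩ := index_eq_pow_of_forall (H := (𝐂[g]).subgroupOf 𝐂[x])
    fun w y k hw hwu hy => (mem_cen_comm.1 (mem_center_subgroup.1 (h4 w y k hw hwu hy)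
      (hgx.le (self_mem_cen g))) :)
  exact ⟨u, a, hu, ha⟩

theorem fg_of_three (hZ : center G = ⊥) (hs : ¬ Group.IsSolvable G) {a b c : ℕ}
    (h : ∀ y : G, y ∉ center G → (𝐂[y]).index = a ∨ (𝐂[y]).index = b ∨ (𝐂[y]).index = c) :
    FG G := by
  intro g x hx hle
  by_contra hne
  have hgx := hle.lt_of_ne hne
  have hnc : ∀ {y z : G}, z ∉ center G → 𝐂[y] ≤ 𝐂[z] → y ∉ center G := fun hz hle e =>
    hz (cen_eq_top_iff.1 (eq_top_iff.2 (cen_eq_top_iff.2 e ▸ hle)))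
  have h12 : ¬ (𝐂[g]).index ∣ (𝐂[x]).index := fun e =>
    hne (eq_of_le_of_index_eq hle (Nat.dvd_antisymm e (index_dvd_of_le hle)))
  obtain ⟨n, h⟩ : ∃ n, ∀ y : G, y ∉ center G →
      (𝐂[y]).index = (𝐂[g]).index ∨ (𝐂[y]).index = (𝐂[x]).index ∨ (𝐂[y]).index = n :=
    ⟨a + b + c - (𝐂[g]).index - (𝐂[x]).index, fun y hy => by
      have := h g (hnc hx hle)
      have := h x hx
      have := h y hy
      have : (𝐂[g]).index ≠ (𝐂[x]).index := fun e => h12 e.dvd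
      omega⟩
  have hZ' : ∀ {y : G}, y ≠ 1 → y ∉ center G := by simp [hZ]
  have h3 : ∀ p : ℕ, p.Prime → p ∣ (𝐂[x]).index →
      ∃ y : G, y ≠ 1 ∧ (∃ k, y ^ p ^ k = 1) ∧ (𝐂[y]).index = n ∧ ¬ p ∣ n := fun p hp hd => by
    obtain ⟨y, hy1, hk, hy⟩ := exists_not_dvd hp (hd.trans (index_dvd_card _))
    rcases h y (hZ' hy1) with e | e | e <;> rw [e] at hy
    exacts [(hy (hd.trans (index_dvd_of_le hle))).elim, (hy hd).elim, ⟨y, hy1, hk, e, hy⟩]
  have hco : (𝐂[x]).index.Coprime n :=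
    Nat.coprime_of_dvd fun p hp hd => let ⟨_, _, _, _, h⟩ := h3 p hp hd; h
  have hx1 : ¬ (𝐂[x]).index ∣ n := fun e =>
    hx (index_cen_eq_one_iff.1 (Nat.eq_one_of_dvd_coprimes hco dvd_rfl e))
  have hn1 : ∀ {y : G}, y ∉ center G → (𝐂[y]).index = n → ¬ n ∣ (𝐂[x]).index := fun hy e e' =>
    hy (index_cen_eq_one_iff.1 (e.trans (Nat.eq_one_of_dvd_coprimes hco e' dvd_rfl)))
  have hdiv : ∀ y : G, y ∉ center G → (𝐂[y]).index ∣ n → (𝐂[y]).index = n := fun y hy hd => by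
    rcases h y hy with e | e | e <;> rw [e] at hd
    exacts [(hx1 ((index_dvd_of_le hle).trans hd)).elim, (hx1 hd).elim, e]
  obtain ⟨hA, u, i, hu, hm⟩ := relIndex_eq_pow hZ hgx hx
    (fun y hy hd => by
      rcases h y hy with e | e | e
      exacts [.inr e, .inl e, (hx1 (e ▸ hd)).elim])
    fun y hy hd => by
      rcases h y hy with e | e | e
      exacts [(h12 (e ▸ hd)).elim, e, (hn1 hy e (e ▸ hd)).elim]
  have hi := relIndex_mul_index hle
  rw [hm] at hi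
  have hprime : ∀ p : ℕ, p.Prime → p ∣ Nat.card G → p ≠ u → p ∣ (𝐂[x]).index ∨ p ∣ n := by
    intro p hp hd hpu
    have := Fact.mk hp
    obtain ⟨y, hy⟩ := exists_dvd_index_cen_of_dvd_index_center (G := G) (p := p)
      (by rwa [hZ, index_bot])
    rcases h y (fun e => hp.not_dvd_one (index_cen_eq_one_iff.2 e ▸ hy)) with e | e | e <;>
      rw [e] at hy
    · exact .inl ((((Nat.coprime_primes hp hu).2 hpu).pow_right i).dvd_of_dvd_mul_left (hi ▸ hy))
    exacts [.inl hy, .inr hy]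
  have hT : ∀ y z : G, z ∉ center G → (𝐂[z]).index = n → 𝐂[y] ≤ 𝐂[z] → 𝐂[y] = 𝐂[z] := by
    intro y z hz hzn hyz
    by_contra hne'
    have h4 : (𝐂[y]).index = (𝐂[g]).index := by
      rcases h y (hnc hz hyz) with e | e | e
      · exact e
      · exact (hn1 hz hzn (e ▸ hzn ▸ index_dvd_of_le hyz)).elim
      · exact (hne' (eq_of_le_of_index_eq hyz (e.trans hzn.symm))).elim
    obtain ⟨-, v, j, hv, hj⟩ := relIndex_eq_pow hZ (hyz.lt_of_ne hne') hz
      (fun w hw hd => by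
        rcases h w hw with e | e | e
        exacts [.inr (e.trans h4.symm), (hn1 hz hzn (e ▸ hzn ▸ hd)).elim, .inl (e.trans hzn.symm)])
      fun w hw hd => (hdiv w hw (hzn ▸ hd)).trans hzn.symm
    have h5 := relIndex_mul_index hyz
    rw [hj, h4, hzn, ← hi] at h5
    refine hs (CL.Char.isSolvable_of_primes_subset_pair hu hv fun p hp hd => ?_)
    by_contra! h6
    have h7 : p ∣ (𝐂[x]).index ↔ p ∣ n := by
      rw [← (((Nat.coprime_primes hp hu).2 h6.1).pow_right i).dvd_mul_left, ← h5,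
        (((Nat.coprime_primes hp hv).2 h6.2).pow_right j).dvd_mul_left]
    have h8 := hprime p hp hd h6.1
    exact hp.not_dvd_one (hco ▸ Nat.dvd_gcd (h8.elim id h7.2) (h8.elim h7.1 id))
  have hall : ∀ p q : ℕ, p.Prime → q.Prime → p ≠ q → p ∣ (𝐂[x]).index → q ∣ (𝐂[x]).index →
      ∀ (y : G) (k : ℕ), y ≠ 1 → y ^ q ^ k = 1 → (𝐂[y]).index = n := by
    intro p q hp hq hpq hpd hqd y k hy1 hy
    have := Fact.mk hq
    obtain ⟨z, hz1, ⟨j, hj⟩, hzn, -⟩ := h3 p hp hpd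
    obtain ⟨-, -, -, -, hqn⟩ := h3 q hq hqd
    obtain ⟨Q, hQ⟩ := exists_sylow_le_of_not_dvd_index (H := 𝐂[z]) (hzn ▸ hqn)
    obtain ⟨t, ht⟩ := exists_conj_mem_sylow Q hy
    have h4 := hT _ z (hZ' hz1) hzn ((cen_mul_of_coprime (mem_cen'.1 (hQ ht))
      (coprime_of_pows (j := k) hp hq hpq hj (by rw [conj_pow, hy]; simp))).trans_le inf_le_left)
    rw [cen_mul_of_coprime (mem_cen'.1 (hQ ht))
      (coprime_of_pows (j := k) hp hq hpq hj (by rw [conj_pow, hy]; simp))] at h4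
    exact hdiv y (hZ' hy1) (by
      rw [← index_cen_conj t y, ← hzn]; exact index_dvd_of_le (inf_eq_left.1 h4))
  obtain ⟨N, hN, hNs, hNp⟩ := exists_residual G
  by_cases hp : ∀ p : ℕ, p.Prime → p ∣ (𝐂[x]).index → HasNormalPComplement p G
  · exact hs (hNs (CL.isSolvable_of_le (le_cen_of_coprime_card
      (Nat.coprime_of_dvd fun p h1 h2 => hNp p h1 (hp p h1 h2))) hA))
  push Not at hp
  obtain ⟨p, hp, hpd, hpn⟩ := hp
  have h4 : ∀ q : ℕ, q.Prime → q ∣ Nat.card N → q ≠ u → ¬ q ∣ n := fun q hq hqN hqu hqn => by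
    have hqx : ¬ q ∣ (𝐂[x]).index := fun e => hq.not_dvd_one (hco ▸ Nat.dvd_gcd e hqn)
    refine hNp q hq ((hasNPC_or_hasNPC_of_not_mul_dvd hp hq (fun e => hqx (e ▸ hpd))
      fun y hy => ?_).resolve_left hpn) hqN
    by_cases hyZ : y ∈ center G
    · exact hp.not_dvd_one (index_cen_eq_one_iff.2 hyZ ▸ (dvd_mul_right p q).trans hy)
    rcases h y hyZ with e | e | e <;> rw [e] at hy
    · exact hqx ((((Nat.coprime_primes hq hu).2 hqu).pow_right i).dvd_of_dvd_mul_left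
        (hi ▸ (dvd_mul_left q p).trans hy))
    · exact hqx ((dvd_mul_left q p).trans hy)
    · exact hp.not_dvd_one (hco ▸ Nat.dvd_gcd hpd ((dvd_mul_right p q).trans hy))
  have h5 : ∀ (q : ℕ) (y : N) (k : ℕ), q.Prime → q ≠ u → y ≠ 1 → y ^ q ^ k = 1 →
      q ∣ (𝐂[x]).index := fun q y k hq hqu hy1 hy => by
    have := Fact.mk hq
    have h6 : q ∣ Nat.card N := by
      simpa using dvd_relIndex_of_pElement (Z := ⊥) (H := ⊤) trivial hy1 hy
    exact (hprime q hq (h6.trans (card_subgroup_dvd_card N)) hqu).resolve_right (h4 q hq h6 hqu)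
  by_cases hNs' : Group.IsSolvable N
  · exact hs (hNs hNs')
  obtain ⟨r, w, y, z, hy, hz, hrw⟩ := exists_two_good hNs' hu
  have h6 : ∀ {r : ℕ} {y : N}, Good u r y → r ∣ (𝐂[x]).index := fun hy =>
    let ⟨k, hk⟩ := hy.pow
    h5 _ _ k hy.prime hy.ne (fun e => hy.nc (by rw [e]; exact one_mem _)) hk
  refine hNs' (isSolvable_of_forall_mem hu fun q v k hq hqu hv => ?_)
  by_cases hv1 : v = 1
  · exact hv1 ▸ one_mem _
  have h7 : (𝐂[(v : G)]).index = n := by
    by_cases e : r = q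
    · exact hall w q hz.prime hq (e ▸ hrw.symm) (h6 hz) (e ▸ h6 hy) v k (by simpa using hv1)
        (congrArg Subtype.val hv)
    · exact hall r q hy.prime hq e (h6 hy) (h5 q v k hq hqu hv1 hv) v k (by simpa using hv1)
        (congrArg Subtype.val hv)
  exact mem_solvableRadical_of_index_eq_pow hu (Nat.eq_prime_pow_of_unique_prime_dvd
    FiniteIndex.index_ne_zero fun {d} hd hdd => by_contra fun e =>
      h4 d hd (hdd.trans (index_dvd_card _)) e (h7 ▸ hdd.trans (index_cen_normal_dvd v)))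

omit [Finite G] in
theorem FG.of_equiv {H : Type*} [Group H] (h : FG G) (e : G ≃* H) : FG H := fun x y hy hle => by
  obtain ⟨x, rfl⟩ := e.surjective x
  obtain ⟨y, rfl⟩ := e.surjective y
  have h1 : ∀ x g, e g ∈ 𝐂[e x] ↔ g ∈ 𝐂[x] := fun x g => by
    simp only [mem_centralizer_singleton_iff, ← map_mul, e.apply_eq_iff_eq]
  have h2 := h x y (fun h0 => hy (mem_center_iff.2 fun g => by
    obtain ⟨g, rfl⟩ := e.surjective g
    rw [← map_mul, ← map_mul, mem_center_iff.1 h0])) fun g hg => (h1 y g).1 (hle ((h1 x g).2 hg))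
  ext g
  obtain ⟨g, rfl⟩ := e.surjective g
  rw [h1, h1, h2]

open Matrix CL.GL2 in
theorem not_fg_pgl2 {F : Type*} [Field F] [Fintype F] (h4 : 4 ≤ Fintype.card F)
    (ho : Odd (Fintype.card F)) (hZ : center (GL (Fin 2) F ⧸ center (GL (Fin 2) F)) = ⊥) :
    ¬ FG (GL (Fin 2) F ⧸ center (GL (Fin 2) F)) := fun h => by
  classical
  obtain ⟨a, ha, ha'⟩ := Spec.exists_orderOf_units (F := F)
  obtain ⟨k, hk⟩ := ho
  have h1 : a ^ k = -1 := (sq_eq_one_iff.1 (by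
    rw [← pow_mul]; exact (ha' _).2 (by rw [hk, mul_comm]; simp))).resolve_left fun e => by
      have := Nat.le_of_dvd (by omega) ((ha' _).1 e)
      omega
  have h2 : (2 : F) ≠ 0 := two_ne_zero_of_odd ⟨k, hk⟩
  set f := QuotientGroup.mk' (center (GL (Fin 2) F))
  let x := GeneralLinearGroup.mkOfDetNeZero !![1, 0; 0, a] (by simpa using ha)
  let w := GeneralLinearGroup.mkOfDetNeZero (!![0, 1; 1, 0] : Matrix (Fin 2) (Fin 2) F) (by simp)
  have hx : ((x ^ k : GL (Fin 2) F) : Matrix (Fin 2) (Fin 2) F) = !![1, 0; 0, -1] := by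
    rw [Units.val_pow_eq_pow_val, coe_mkOfDetNeZero, Spec.diag_pow, one_pow, h1]
  have key : ∀ (y : GL (Fin 2) F) (b : F), (y : Matrix (Fin 2) (Fin 2) F) = !![1, 0; 0, b] →
      (f w ∈ 𝐂[f y] ↔ b ^ 2 = 1) := fun y b hy => by
    have hw : w⁻¹ = w := inv_eq_of_mul_eq_one_right (Units.ext (by
      simp [w, coe_mkOfDetNeZero, one_fin_two]))
    have hb : b ≠ 0 := fun e => y.det_ne_zero (by simp [hy, e])
    have hy' : ((y⁻¹ : GL (Fin 2) F) : Matrix (Fin 2) (Fin 2) F) = !![1, 0; 0, b⁻¹] :=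
      Units.inv_eq_of_mul_eq_one_right (by simp [hy, hb, one_fin_two])
    rw [mem_centralizer_singleton_iff, ← map_mul, ← map_mul, ← mul_inv_eq_one, ← map_inv, ← map_mul,
      QuotientGroup.mk'_apply, QuotientGroup.eq_one_iff, mem_center_GL_iff, _root_.mul_inv_rev, hw]
    simp only [Units.val_mul, hy, hy', w, coe_mkOfDetNeZero, IsScal]
    simp
    rw [← sq_eq_one_iff, sq, mul_eq_one_iff_eq_inv₀ hb]
  have h3 := h (f x) (f x ^ k) (by
    rw [hZ, mem_bot, ← map_pow, QuotientGroup.mk'_apply, QuotientGroup.eq_one_iff,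
      mem_center_GL_iff, hx]
    exact fun e => h2 (by simpa [one_add_one_eq_two, eq_neg_iff_add_eq_zero] using e.2.2))
    (cen_le_cen_pow _ k)
  have h5 := (key _ _ hx).2 (by simp)
  rw [map_pow, ← h3, key x a rfl, ha'] at h5
  have := Nat.le_of_dvd two_pos h5
  omega

theorem exists_subset_triple {s : Set ℕ} (hs : s.Finite) (h : s.ncard ≤ 3) :
    ∃ a b c, s ⊆ {a, b, c} := by
  obtain h | h | h | h : s.ncard = 0 ∨ s.ncard = 1 ∨ s.ncard = 2 ∨ s.ncard = 3 := by omega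
  · exact ⟨0, 0, 0, by simp [(Set.ncard_eq_zero hs).1 h]⟩
  · obtain ⟨a, rfl⟩ := Set.ncard_eq_one.1 h
    exact ⟨a, a, a, by simp⟩
  · obtain ⟨a, b, -, rfl⟩ := Set.ncard_eq_two.1 h
    exact ⟨a, b, b, by simp⟩
  · obtain ⟨a, b, c, -, -, -, rfl⟩ := Set.ncard_eq_three.1 h
    exact ⟨a, b, c, le_rfl⟩

omit [Finite G] in
theorem range_index_congr {H : Type*} [Group H] (e : G ≃* H) :
    Set.range (fun g : G => (𝐂[g]).index) = Set.range (fun g : H => (𝐂[g]).index) := by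
  rw [← e.surjective.range_comp]
  exact congrArg _ (funext fun g => (index_cen_equiv e g).symm)

/-- Groups with trivial centre and at most three non-trivial class sizes. -/
theorem psl2_of_three (hZ : center G = ⊥) (hs : ¬ Group.IsSolvable G) {a b c : ℕ}
    (h : ∀ y : G, y ∉ center G → (𝐂[y]).index = a ∨ (𝐂[y]).index = b ∨ (𝐂[y]).index = c) :
    ∃ a : ℕ, 2 ≤ a ∧
      Nonempty (G ≃* Matrix.ProjectiveSpecialLinearGroup (Fin 2) (GaloisField 2 a)) := by
  classical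
  have hF := fg_of_three hZ hs h
  obtain ⟨F, _, _, h4, h5⟩ := hF.classify hs
  let e₀ : G ≃* G ⧸ center G :=
    ((QuotientGroup.quotientMulEquivOfEq hZ).trans QuotientGroup.quotientBot).symm
  rcases h5 with ⟨⟨e⟩⟩ | ⟨ho, ⟨e⟩⟩ <;> replace e := e₀.trans e
  · by_cases h2 : 2 ∣ Fintype.card F
    · have : CharP F 2 := (CharP.charP_iff_prime_eq_zero Nat.prime_two).2 (GL2.two_eq_zero_of_even h2)
      obtain ⟨n, h1, -, h3⟩ := CL.PSL2E.exists_psl_galois hs e
      exact ⟨n, h1, h3⟩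
    by_cases h5 : Fintype.card F = 5
    · have := Fintype.ofFinite (GaloisField 2 2)
      obtain ⟨f⟩ := Agent.S0253.result h5
      obtain ⟨g⟩ := Agent.S0252.result (F := GaloisField 2 2)
        (by rw [← Nat.card_eq_fintype_card, GaloisField.card 2 2 two_ne_zero]; rfl)
      exact ⟨2, le_rfl, ⟨(e.trans f).trans g.symm⟩⟩
    exfalso
    have h6 := Agent.S2508.result h2 (by omega)
    rw [← range_index_congr e] at h6
    have h7 : ∀ n ∈ Set.range (fun g : G => (𝐂[g]).index), n = 1 ∨ n = a ∨ n = b ∨ n = c := by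
      rintro _ ⟨y, rfl⟩
      exact or_iff_not_imp_left.2 fun e => h y fun hy => e (index_cen_eq_one_iff.2 hy)
    obtain ⟨k, hk⟩ : ∃ k, Fintype.card F = 2 * k + 1 := ⟨Fintype.card F / 2, by omega⟩
    have h8 : 3 * k ≤ k * k := Nat.mul_le_mul_right k (by omega)
    rw [hk, show (2 * k + 1) ^ 2 = 4 * (k * k) + 4 * k + 1 by ring,
      show (2 * k + 1) * (2 * k + 1 + 1) = 4 * (k * k) + 6 * k + 2 by ring,
      show (2 * k + 1) * (2 * k + 1 - 1) = 4 * (k * k) + 2 * k by rw [Nat.add_sub_cancel]; ring] at h6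
    rcases (show (2 * k + 1) % 4 = 1 ∨ (2 * k + 1) % 4 = 3 by omega) with e | e
    · simp only [h6.1 e, Set.mem_insert_iff, Set.mem_singleton_iff, forall_eq_or_imp, forall_eq] at h7
      omega
    · simp only [h6.2 e, Set.mem_insert_iff, Set.mem_singleton_iff, forall_eq_or_imp, forall_eq] at h7
      omega
  · refine (not_fg_pgl2 h4 ho (eq_bot_iff.2 fun y hy => ?_) (hF.of_equiv e)).elim
    obtain ⟨y, rfl⟩ := e.surjective y
    rw [← index_cen_eq_one_iff, index_cen_equiv, index_cen_eq_one_iff, hZ, mem_bot] at hy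
    simp [hy]

end CL.Ito
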