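import Mathlib
import Cfsg.Agent.PERM.Ito6
import Cfsg.Agent.PERM.TwoNil
import Cfsg.Agent.PERM.SpecPerm

/-!
# Groups in which a class size has at most one proper multiple among the class sizes
-/

set_option autoImplicit false

namespace CL.Ito

open Subgroup Cfsg CL.CS

variable {G : Type*} [Group G] [Finite G]

theorem mem_core_of_pCore_le [Group.IsSolvable G] {r j : ℕ} (hr : r.Prime) (hr2 : r ≠ 2) {w : G}
    (hw : w ^ r ^ j = 1) (h : ∀ s : ℕ, s.Prime → pCore s G ≤ 𝐂[w]) : w ∈ pPrimeCore 2 G := by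
  have := Fact.mk hr
  have h1 : fittingSubgroup G ≤ 𝐂[w] := by
    rw [fittingSubgroup_eq_iSup_pCore]
    exact iSup_le fun s => h s s.2
  exact pCore_le_pPrimeCore_of_ne hr2 (le_pCore_of_le_fittingSubgroup
    (zpowers_le.2 (centralizer_fittingSubgroup_le G (le_cen_iff.1 h1))) (isPGroup_zpowers hw)
    (mem_zpowers w))

theorem mem_core_of_odd_index [Group.IsSolvable G] {w : G} (hw : Odd (orderOf w))
    (h : ¬ 2 ∣ (𝐂[w]).index) : w ∈ pPrimeCore 2 G := by
  have h1 : ¬ 2 ∣ (𝐂[(w : G ⧸ pPrimeCore 2 G)]).index := fun e => h (e.trans (index_cen_mk'_dvd _ w))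
  have h2 := centralizer_pCore_le_of_isSolvable (pPrimeCore_quotient_pPrimeCore 2 G)
    (le_cen_iff.1 (le_cen_of_normal_isPGroup h1 (isPGroup_pCore 2 _)))
  obtain ⟨k, hk⟩ := pow_eq_one_of_mem_isPGroup (isPGroup_pCore 2 _) h2
  exact mem_of_pow_mem_of_coprime ((Nat.coprime_two_right.2 hw).pow_right k)
    (by rw [pow_orderOf_eq_one]; exact one_mem _) ((QuotientGroup.eq_one_iff _).1 hk)

theorem odd_of_mem_core {w : G} (h : w ∈ pPrimeCore 2 G) : Odd (orderOf w) :=
  (Nat.coprime_two_right.1 (coprime_card_pPrimeCore 2 G)).of_dvd_nat (Subgroup.orderOf_dvd_natCard _ h)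

variable (G) in
/-- every non-trivial class size has at most one proper multiple among the class sizes -/
def DH : Prop := ∀ x y z : G, x ≠ 1 → (𝐂[x]).index ∣ (𝐂[y]).index → (𝐂[x]).index ∣ (𝐂[z]).index →
  (𝐂[y]).index = (𝐂[x]).index ∨ (𝐂[z]).index = (𝐂[x]).index ∨ (𝐂[y]).index = (𝐂[z]).index

theorem index_ne_of_lt {A B : Subgroup G} (h : A < B) : A.index ≠ B.index :=
  fun e => h.ne (eq_of_le_of_index_eq h.le e)

namespace DH

variable (h : DH G)
include h

theorem loc {s t : G} (ht : t ≠ 1) (hst : 𝐂[s] < 𝐂[t]) (y : G) (hy : (𝐂[t]).index ∣ (𝐂[y]).index) :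
    (𝐂[y]).index = (𝐂[t]).index ∨ (𝐂[y]).index = (𝐂[s]).index :=
  (h t y s ht hy (index_dvd_of_le hst.le)).imp_right (·.resolve_left (index_ne_of_lt hst))

theorem loc' {s t : G} (ht : t ≠ 1) (hst : 𝐂[s] < 𝐂[t]) (y : G) (hle : 𝐂[y] ≤ 𝐂[t]) :
    𝐂[y] = 𝐂[t] ∨ (𝐂[y]).relIndex 𝐂[t] = (𝐂[s]).relIndex 𝐂[t] :=
  (h.loc ht hst y (index_dvd_of_le hle)).imp (eq_of_le_of_index_eq hle) fun e =>
    Nat.eq_of_mul_eq_mul_right (index_cen_pos t) (by
      rw [relIndex_mul_index hst.le, relIndex_mul_index hle, e])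

theorem head {s t : G} (hst : 𝐂[s] < 𝐂[t]) {y : G} (hy1 : y ≠ 1)
    (hy : (𝐂[y]).index ∣ (𝐂[t]).index) : (𝐂[y]).index = (𝐂[t]).index := by
  rcases h y t s hy1 hy (hy.trans (index_dvd_of_le hst.le)) with e | e | e
  · exact e.symm
  · exact (index_ne_of_lt hst (Nat.dvd_antisymm (e ▸ hy) (index_dvd_of_le hst.le))).elim
  · exact (index_ne_of_lt hst e.symm).elim

theorem isSolvable (hZ : center G = ⊥) {t : G} (ht : t ≠ 1) {r k : ℕ} (hr : r.Prime)
    (hk : t ^ r ^ k = 1) : Group.IsSolvable 𝐂[t] := by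
  have hZ' : t ∉ center G := by simpa [hZ] using ht
  by_cases h1 : ∃ s, 𝐂[s] < 𝐂[t]
  · obtain ⟨s, hs⟩ := h1
    exact isSolvable_of_index hr (index_local hk hZ' rfl fun y _ => h.loc' ht hs y)
  · exact isSolvable_of_index (m := 0) hr (index_local hk hZ' rfl fun y _ hy =>
      .inl (hy.lt_or_eq.resolve_left fun e => h1 ⟨y, e⟩))

theorem mem_core (hZ : center G = ⊥) {s t : G} {k : ℕ} (hs : s ^ 2 ^ k = 1) (ht : orderOf t = 2)
    (hst : 𝐂[s] < 𝐂[t]) (w : 𝐂[t]) (hw : Odd (orderOf w)) : w ∈ pPrimeCore 2 𝐂[t] := by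
  have ht1 : t ≠ 1 := by rintro rfl; simp at ht
  have hZ' : ∀ {y : G}, y ∉ center G ↔ y ≠ 1 := by simp [hZ]
  obtain ⟨hA, u, a, hu, hm⟩ := relIndex_eq_pow hZ hst (hZ'.2 ht1) (fun y _ => h.loc ht1 hst y)
    fun y hy => h.head hst (hZ'.1 hy)
  have h1 := index_local (r := 2) (k := 1) (by rw [← ht, pow_one, pow_orderOf_eq_one]) (hZ'.2 ht1) rfl
    fun y _ => h.loc' ht1 hst y
  refine mem_of_forall_primePow_mem fun y hy q j hq hj => ?_
  have hyo : Odd (orderOf y) := hw.of_dvd_nat (orderOf_dvd_of_mem_zpowers hy)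
  by_cases h2 : 2 ∣ (𝐂[y]).index
  swap
  · exact mem_core_of_odd_index hyo h2
  have hyZ : y ∉ center 𝐂[t] := fun e => by simp [index_cen_eq_one_iff.2 e] at h2
  have h3 := (h1 y (Nat.coprime_two_right.2 hyo) hyZ).trans hm
  obtain rfl : 2 = u := (Nat.prime_dvd_prime_iff_eq Nat.prime_two hu).1
    (Nat.prime_two.dvd_of_dvd_pow (h3 ▸ h2))
  have hq2 : q ≠ 2 := by
    rintro rfl
    exact hyZ (mem_of_pow_mem_of_coprime ((Nat.coprime_two_right.2 hyo).pow_right j)
      (by rw [pow_orderOf_eq_one]; exact one_mem _) (hj ▸ one_mem _))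
  have := Fact.mk hq
  refine mem_core_of_pCore_le hq hq2 hj fun r hr => ?_
  have := Fact.mk hr
  by_cases hr2 : r = 2
  swap
  · exact le_cen_of_normal_isPGroup (fun e => hr2 ((Nat.prime_dvd_prime_iff_eq hr Nat.prime_two).1
      (hr.dvd_of_dvd_pow (h3 ▸ e)))) (isPGroup_pCore r _)
  subst hr2
  let S : 𝐂[t] := ⟨s, hst.le (self_mem_cen s)⟩
  obtain ⟨R, hR⟩ := exists_sylow_le_of_not_dvd_index (p := q) (H := 𝐂[S]) fun e => hq2 (by
    rw [index_cen_mk, hm] at e
    exact (Nat.prime_dvd_prime_iff_eq hq Nat.prime_two).1 (hq.dvd_of_dvd_pow e))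
  obtain ⟨g, hg⟩ := exists_conj_mem_sylow R hj
  set y' := g * y * g⁻¹ with hy'
  have h4 : Commute s (y' : G) := congrArg Subtype.val (mem_cen'.1 (hR hg)).eq
  have h5 : (y' : G) ^ q ^ j = 1 := by
    rw [← coe_pow, hy', conj_pow, hj]; simp
  have h6 := cen_mul_of_coprime h4 (coprime_of_pows Nat.prime_two hq hq2.symm hs h5)
  have h7 : 𝐂[s] ≤ 𝐂[(y' : G)] := by
    have h8 : 𝐂[s * y'] ≤ 𝐂[s] := h6.trans_le inf_le_left
    refine inf_eq_left.1 (h6.symm.trans (eq_of_le_of_index_eq h8 ?_))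
    exact (h.loc ht1 hst _ (index_dvd_of_le (h8.trans hst.le))).resolve_left
      (index_ne_of_lt (h8.trans_lt hst))
  have h8 : pCore 2 𝐂[t] ≤ 𝐂[y'] := by
    rw [← cen_zpowers y']
    refine thompson_p_times_q (zpowers S) (zpowers y') _ (isPGroup_zpowers (Subtype.ext hs))
      (by rw [Nat.card_zpowers]; exact coprime_of_pow_of_ne Nat.prime_two hq hq2 (Subtype.ext h5))
      (isPGroup_pCore 2 _) (by rw [cen_zpowers]; exact zpowers_le.2 (mem_cen_comm.1 (hR hg)))
      le_normalizer_of_normal le_normalizer_of_normal fun v hv => ?_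
    rw [cen_zpowers] at hv ⊢
    exact mem_cen.2 (Subtype.ext (mem_cen.1 (h7 (mem_cen.2 (congrArg Subtype.val (mem_cen.1 hv.2).eq)))))
  intro v hv
  have h9 := mem_cen.1 (h8 ((inferInstance : (pCore 2 𝐂[t]).Normal).conj_mem v hv g))
  exact mem_cen.2 ((MulAut.conj g).injective (by simpa [hy'] using h9.eq))

end DH

variable (G) in
/-- two elements of odd order with product `s` of order four centralize `s ^ 2` -/
def Bad : Prop := ∃ x y : G, Odd (orderOf x) ∧ Odd (orderOf y) ∧ orderOf ((x * y) ^ 2) = 2 ∧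
  Commute x ((x * y) ^ 2)

omit [Finite G] in
theorem Bad.of_injective {H : Type*} [Group H] (h : Bad H) (f : H →* G) (hf : Function.Injective f) :
    Bad G :=
  let ⟨x, y, h1, h2, h3, h4⟩ := h
  ⟨f x, f y, by rwa [orderOf_injective f hf], by rwa [orderOf_injective f hf],
    by rwa [← map_mul, ← map_pow, orderOf_injective f hf], by
      rw [← map_mul, ← map_pow]; exact h4.map f⟩

theorem DH.not_bad (h : DH G) (hZ : center G = ⊥) : ¬ Bad G := by
  rintro ⟨x, y, hx, hy, ho, hc⟩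
  have h1 : ¬ Odd (orderOf (x * y)) := fun e => by
    have := e.of_dvd_nat (orderOf_pow_dvd 2)
    rw [ho] at this
    exact absurd this (by decide)
  have hxc : x ∈ 𝐂[(x * y) ^ 2] := mem_cen.2 hc
  have hyc : y ∈ 𝐂[(x * y) ^ 2] :=
    (mul_mem_cancel_left hxc).1 (cen_le_cen_pow _ 2 (self_mem_cen (x * y)))
  rcases (cen_le_cen_pow (x * y) 2).lt_or_eq with e | e
  · have h2 := fun w => h.mem_core hZ (k := 2) (by
      rw [pow_two 2, pow_mul, ← orderOf_dvd_iff_pow_eq_one, ho]) ho e w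
    exact h1 (by simpa using odd_of_mem_core (mul_mem (h2 ⟨x, hxc⟩ (by simpa)) (h2 ⟨y, hyc⟩ (by simpa))))
  · have h2 : Commute x y := by
      simpa using (Commute.refl x).inv_right.mul_right (mem_cen.1 (e.ge hxc))
    exact h1 ((hx.mul hy).of_dvd_nat h2.orderOf_mul_dvd_mul_orderOf)

open TwoNil in
theorem bad_of_SL2 {B K : Type*} [Group B] [Finite B] [Field K]
    [Finite K] (hK : Odd (Nat.card K)) (f : Matrix.SpecialLinearGroup (Fin 2) K →* B)
    (hf : Function.Injective f) (hZ : ¬ 2 ∣ Nat.card (center B))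
    (e : G ≃* B ⧸ center B) : Bad G := by
  let φ : Matrix.SpecialLinearGroup (Fin 2) K →* G :=
    e.symm.toMonoidHom.comp ((QuotientGroup.mk' (center B)).comp f)
  have hker : ∀ x, φ x = 1 ↔ f x ∈ center B := fun x => by
    simp [φ]
  have := Fintype.ofFinite K
  have hp : Odd (ringChar K) := by
    obtain ⟨n, hp, hn⟩ := FiniteField.card K (ringChar K)
    rw [Nat.card_eq_fintype_card, hn] at hK
    exact (Nat.odd_pow_iff n.ne_zero).1 hK
  have h2 : (2 : K) ≠ 0 := fun h0 => by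
    have h1 : ringChar K = 2 := CharP.ringChar_of_prime_eq_zero Nat.prime_two (by exact_mod_cast h0)
    rw [h1] at hp
    exact absurd hp (by decide)
  have hz1 : (-1 : Matrix.SpecialLinearGroup (Fin 2) K) ≠ 1 := fun h0 => by
    have h1 := congrFun (congrFun (congrArg Subtype.val h0) 0) 0
    simp at h1
    exact h2 (by linear_combination -h1)
  have hz2 : orderOf (-1 : Matrix.SpecialLinearGroup (Fin 2) K) = 2 :=
    orderOf_eq_prime (by simp) hz1
  have ht1 : φ (-1) ≠ 1 := fun h0 => by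
    have h1 := Subgroup.orderOf_dvd_natCard _ ((hker _).1 h0)
    rw [orderOf_injective f hf, hz2] at h1
    exact hZ h1
  have ht2 : orderOf (φ (-1)) = 2 := orderOf_eq_prime (by rw [← map_pow]; simp) ht1
  have hodd : ∀ g : Matrix.SpecialLinearGroup (Fin 2) K, g ^ ringChar K = 1 →
      Odd (orderOf (φ g)) := fun g hg =>
    hp.of_dvd_nat (orderOf_dvd_of_pow_eq_one (by rw [← map_pow, hg, map_one]))
  refine ⟨φ (up 1), φ (lo (-2)),
    hodd _ (by rw [up_pow, ringChar.Nat.cast_ringChar, zero_mul, up_zero]),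
    hodd _ (by rw [lo_pow, ringChar.Nat.cast_ringChar, zero_mul, lo_zero]), ?_, ?_⟩ <;>
    rw [← map_mul, ← map_pow, up_lo_sq]
  · exact ht2
  · exact (show Commute (up (1 : K)) (-1) by simp [Commute, SemiconjBy]).map φ

theorem bad_psl3 {F : Type*} [Field F] [Fintype F]
    (hF : Odd (Fintype.card F)) (e : G ≃* Matrix.ProjectiveSpecialLinearGroup (Fin 3) F) : Bad G :=
  bad_of_SL2 (K := F) (by rwa [Nat.card_eq_fintype_card])
    (CL.Fus.gl2ToSL3.comp Matrix.SpecialLinearGroup.toGL)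
    (CL.Fus.gl2ToSL3_injective.comp Matrix.SpecialLinearGroup.toGL_injective)
    (by
      rw [CL.SL.card_center_SL]
      intro h
      have := h.trans (Nat.gcd_dvd_left _ _)
      simp at this) e

theorem bad_psu3_odd {F : Type*} [Field F] [Fintype F] {q : ℕ}
    (hF : Fintype.card F = q ^ 2) (hq : Odd q) (e : G ≃* PSU 3 F q) : Bad G := by
  obtain ⟨i⟩ := CL.Uni.nonempty_SU_two_equiv hF (CL.SqField.card_fixedSubfield hF)
  let j : SU 2 F q →* GU 2 F q :=
    (Matrix.SpecialLinearGroup.toGL.comp (SU 2 F q).subtype).codRestrict _ fun g => g.2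
  have hj : Function.Injective j := fun a b hab =>
    Subtype.ext (Matrix.SpecialLinearGroup.toGL_injective (congrArg Subtype.val hab))
  exact bad_of_SL2 (K := CL.SqField.fixedSubfield hF)
    (by rwa [CL.SqField.card_fixedSubfield hF])
    ((CL.Fus.gu2ToSU3 hF).comp (j.comp i.symm.toMonoidHom))
    ((CL.Fus.gu2ToSU3_injective hF).comp (hj.comp i.symm.injective))
    (by
      rw [CL.Uni.card_center_SU hF (by norm_num)]
      intro h
      have := h.trans (Nat.gcd_dvd_left _ _)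
      simp at this) e

theorem bad_psu3_even {F : Type*} [Field F] [Fintype F] {n : ℕ}
    (hn : 2 ≤ n) (hF : Fintype.card F = (2 ^ n) ^ 2) (e : G ≃* PSU 3 F (2 ^ n)) : Bad G := by
  have : CharP F 2 := charP_of_card_eq_prime_pow (p := 2) (f := n * 2) (by rw [hF, pow_mul])
  have h2 : (2 : F) = 0 := CharTwo.two_eq_zero
  have h4 : 4 ≤ 2 ^ n := Nat.pow_le_pow_right (n := 2) (i := 2) two_pos hn
  generalize hq : 2 ^ n = q at hF e h4
  obtain ⟨P⟩ : Nonempty (Sylow 2 G) := inferInstance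
  obtain ⟨B⟩ := CL.U3.nonempty_bMod_PSU hF e 2 P
  obtain ⟨g, hg⟩ := IsCyclic.exists_generator (α := Fˣ)
  have hc : Nat.card Fˣ = (q - 1) * (q + 1) := by
    rw [Nat.card_units, Nat.card_eq_fintype_card, hF, mul_comm, ← Nat.sq_sub_sq, one_pow]
  have ho : orderOf g = (q - 1) * (q + 1) := by rw [orderOf_eq_card_of_forall_mem_zpowers hg, hc]
  set c := g ^ (q - 1) with hcdef
  have c1 : c ^ q * c = 1 := by rw [← pow_succ, hcdef, ← pow_mul, ← ho, pow_orderOf_eq_one]
  have c2 : c ^ q = c⁻¹ := eq_inv_of_mul_eq_one_left c1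
  have c3 : c ^ 3 ≠ 1 := fun h0 => by
    rw [hcdef, ← pow_mul] at h0
    have h1 := orderOf_dvd_of_pow_eq_one h0
    rw [ho] at h1
    have := Nat.le_of_dvd (by norm_num) (Nat.dvd_of_mul_dvd_mul_left (by omega) h1)
    omega
  set d := c ^ q * (c ^ q * c⁻¹) with hd
  have d1 : d = (c ^ 3)⁻¹ := by rw [hd, c2]; group
  have d2 : d ^ q * d = 1 := by
    rw [d1, ← pow_succ, inv_pow, ← pow_mul, mul_comm, pow_mul, pow_succ c q, c1, one_pow, inv_one]
  have d3 : (d : F) ^ q * d = 1 := by simpa using congrArg Units.val d2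
  obtain ⟨x, hx⟩ := CL.U3.S.exists_a hF 1
  have hodd : Odd (orderOf (B.τ c)) := by
    refine Odd.of_dvd_nat ?_ ((orderOf_map_dvd _ _).trans (orderOf_dvd_natCard c))
    have : Even q := hq ▸ (Nat.even_pow.2 ⟨even_two, by omega⟩)
    rw [hc]
    exact (Nat.Even.sub_odd (by omega) this odd_one).mul this.add_one
  set y := CL.U3.S.tor d x * x⁻¹ with hy
  have h5 : B.τ c * (B.φ x * (B.τ c)⁻¹ * (B.φ x)⁻¹) = B.φ y := by
    rw [← mul_assoc, ← mul_assoc, B.conj, ← map_inv, ← map_mul]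
  have h6 : y.a ≠ 0 := fun h6 => by
    simp only [hy, CL.U3.S.mul_a, CL.U3.S.tor_a, CL.U3.S.inv_a, hx, mul_one] at h6
    have h7 : d = 1 := Units.ext (by simpa using (add_neg_eq_zero.1 h6))
    exact c3 (inv_eq_one.1 (d1 ▸ h7))
  have h7 : (y ^ 2).a = 0 := by simp [CL.U3.S.pow_a, h2]
  refine ⟨B.τ c, B.φ x * (B.τ c)⁻¹ * (B.φ x)⁻¹, hodd,
    by rwa [← MulAut.conj_apply, MulEquiv.orderOf_eq, orderOf_inv], ?_, ?_⟩ <;> rw [h5, ← map_pow]
  · rw [orderOf_injective _ B.inj]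
    refine orderOf_eq_prime ?_ fun h0 => ?_
    · ext
      · rw [CL.U3.S.pow_a, h7]; simp
      · rw [CL.U3.S.pow_b_of_a h7]; simp [h2]
    · have h8 := congrArg CL.U3.S.b h0
      rw [pow_two, CL.U3.S.mul_b, ← two_mul, h2] at h8
      simp [h6] at h8
  · rw [Commute, SemiconjBy, ← mul_inv_eq_iff_eq_mul, B.conj]
    congr 1
    ext
    · rw [CL.U3.S.tor_a, h7, mul_zero]
    · rw [CL.U3.S.tor_b, ← hd, d3, one_mul]

theorem bad_M11 [IsSimpleGroup G] (hG : Nat.card G = 7920) : Bad G := by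
  obtain ⟨e⟩ := CL.Ord.iso_K12 hG
  refine Bad.of_injective ?_ e.symm.toMonoidHom e.symm.injective
  let X : CL.Ord.K12 := ⟨CL.Ord.X12, subset_closure (by simp)⟩
  let Y : CL.Ord.K12 := ⟨CL.Ord.Y12, subset_closure (by simp)⟩
  let Z : CL.Ord.K12 := ⟨CL.Ord.Z12, subset_closure (by simp)⟩
  have h3 : ∀ g : CL.Ord.K12, g ^ 3 = 1 → Odd (orderOf g) := fun g hg =>
    Odd.of_dvd_nat (by decide) (orderOf_dvd_of_pow_eq_one hg)
  exact ⟨X * Z * Y * Z * X, X * Y * X * Y * Z * X * Z, h3 _ (Subtype.ext (by decide +kernel)),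
    h3 _ (Subtype.ext (by decide +kernel)), orderOf_eq_prime (Subtype.ext (by decide +kernel))
      fun h0 => absurd (congrArg Subtype.val h0) (by decide +kernel), Subtype.ext (by decide +kernel)⟩

end CL.Ito
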