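import Mathlib
import Cfsg.Agent.PERM.Ito10

/-!
# Simple groups in which a class size has at most one proper multiple among the class sizes
-/

set_option autoImplicit false

namespace CL.Ito

open Subgroup Cfsg CL.CS
open scoped commutatorElement

variable {G : Type*} [Group G] [Finite G]

section

variable (hc : ∀ s : G, orderOf (s ^ 2) = 2 → 𝐂[s] = 𝐂[s ^ 2])
include hc

omit [Finite G] in
theorem commute_of_pow {u v : G} (hu : u ^ 2 = 1) (hv : v ^ 2 = 1) {k : ℕ}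
    (h : (u * v) ^ 2 ^ k = 1) : Commute u v := by
  have hu' : u⁻¹ = u := inv_eq_of_mul_eq_one_right (pow_two u ▸ hu)
  have hv' : v⁻¹ = v := inv_eq_of_mul_eq_one_right (pow_two v ▸ hv)
  have h1 : ∀ n : ℕ, u * (u * v) ^ n * u⁻¹ = ((u * v) ^ n)⁻¹ := fun n => by
    rw [← conj_pow, ← inv_pow, ← mul_assoc, ← pow_two, hu, one_mul, mul_inv_rev, hv']
  obtain ⟨j, -, hj⟩ := (Nat.dvd_prime_pow Nat.prime_two).1 (orderOf_dvd_of_pow_eq_one h)
  by_cases h2 : (u * v) ^ 2 = 1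
  · have h3 : u * v = (u * v)⁻¹ := eq_inv_of_mul_eq_one_left (pow_two (u * v) ▸ h2)
    rwa [mul_inv_rev, hu', hv'] at h3
  obtain ⟨j, rfl⟩ : ∃ i, j = i + 2 := by
    rcases j with _ | _ | j
    · exact (h2 (orderOf_dvd_iff_pow_eq_one.1 (by simp [hj]))).elim
    · exact (h2 (orderOf_dvd_iff_pow_eq_one.1 (by simp [hj]))).elim
    · exact ⟨j, rfl⟩
  set s := (u * v) ^ 2 ^ j with hs
  have h3 : orderOf (s ^ 2) = 2 := by
    rw [hs, ← pow_mul, ← pow_succ, orderOf_pow_of_dvd (by simp) (hj ▸ pow_dvd_pow 2 (by omega)), hj,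
      pow_succ _ (j + 1), Nat.mul_div_cancel_left _ (by simp)]
  have h4 : u ∈ 𝐂[s ^ 2] := by
    rw [mem_cen, Commute, SemiconjBy, ← mul_inv_eq_iff_eq_mul, hs, ← pow_mul, h1, pow_mul, ← hs]
    refine inv_eq_of_mul_eq_one_right ?_
    rw [← pow_two, ← orderOf_dvd_iff_pow_eq_one, h3]
  have h5 := mem_cen.1 ((hc s h3).ge h4)
  rw [Commute, SemiconjBy, ← mul_inv_eq_iff_eq_mul, hs, h1, ← hs, inv_eq_iff_mul_eq_one,
    ← pow_two] at h5
  simp [h5] at h3

theorem commute_of_commute {t : G} [Group.IsSolvable 𝐂[t]] (hO : pPrimeCore 2 𝐂[t] = ⊥) {u v : G}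
    (hu : u ^ 2 = 1) (hv : v ^ 2 = 1) (hut : Commute u t) (hvt : Commute v t) : Commute u v := by
  set Q := pCore 2 𝐂[t]
  have hQ : Q.Normal := inferInstance
  have h1 : ∀ a b : 𝐂[t], a ^ 2 = 1 → b ^ 2 = 1 → (a * b) ^ 2 ∈ Q → Commute a b := fun a b ha hb h => by
    obtain ⟨k, hk⟩ := pow_eq_one_of_mem_isPGroup (isPGroup_pCore 2 _) h
    exact Subtype.ext (commute_of_pow hc (congrArg Subtype.val ha) (congrArg Subtype.val hb)
      (k := k + 1) (by rw [pow_succ', pow_mul]; exact congrArg Subtype.val hk))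
  let E : Subgroup 𝐂[t] :=
    { carrier := {q | q ∈ Q ∧ q ^ 2 = 1}
      one_mem' := ⟨one_mem _, one_pow _⟩
      mul_mem' := fun {a b} ha hb => ⟨mul_mem ha.1 hb.1, by
        rw [(h1 a b ha.2 hb.2 (pow_mem (mul_mem ha.1 hb.1) 2)).mul_pow, ha.2, hb.2, one_mul]⟩
      inv_mem' := fun {a} ha => ⟨inv_mem ha.1, by rw [inv_pow, ha.2, inv_one]⟩ }
  have hE : E.Normal := ⟨fun q hq g => ⟨hQ.conj_mem q hq.1 g, by rw [conj_pow, hq.2]; simp⟩⟩
  set f := QuotientGroup.mk' E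
  have hQ' : (Q.map f).Normal := hQ.map f (QuotientGroup.mk'_surjective E)
  let K : Subgroup 𝐂[t] := centralizer (E : Set 𝐂[t]) ⊓ (centralizer (Q.map f : Set _)).comap f
  have h2 : ∀ g ∈ K, ∀ q ∈ Q, ⁅g, q⁆ ∈ E := fun g hg q hq =>
    commutator_mem_of_commute_mk (hg.2 _ ⟨q, hq, rfl⟩).symm
  have h3 : K ≤ Q := le_pCore fun g => by
    have h4 : (g : 𝐂[t]) ^ 2 ∈ Q := centralizer_pCore_le_of_isSolvable hO fun q hq => by
      rw [eq_comm, ← commutatorElement_eq_one_iff_mul_comm,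
        CL.PG.commutator_pow_left (g.2.1 _ (h2 g g.2 q hq)).symm, (h2 g g.2 q hq).2]
    obtain ⟨k, hk⟩ := pow_eq_one_of_mem_isPGroup (isPGroup_pCore 2 _) h4
    exact ⟨k + 1, Subtype.ext (by rw [pow_succ', pow_mul]; exact hk)⟩
  have h4 : ∀ e : 𝐂[t], e ^ 2 = 1 → e ∈ Q := fun e he => by
    have he' : e⁻¹ = e := inv_eq_of_mul_eq_one_right (pow_two e ▸ he)
    refine h3 ⟨fun q hq => (h1 e q he hq.2 ?_).symm, ?_⟩
    · have := mul_mem (hQ.conj_mem q hq.1 e) hq.1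
      rwa [he', mul_assoc, ← pow_two] at this
    · rintro _ ⟨q, hq, rfl⟩
      have h5 : e * (q * e * q⁻¹) ∈ Q := by
        have := mul_mem (hQ.conj_mem q hq e) (inv_mem hq)
        rwa [he', mul_assoc, mul_assoc, ← mul_assoc q] at this
      have h6 : (q * e * q⁻¹) ^ 2 = 1 := by rw [conj_pow, he]; simp
      have h7 : e * (q * e * q⁻¹) ∈ E :=
        ⟨h5, by rw [(h1 _ _ he h6 (pow_mem h5 2)).mul_pow, he, h6, one_mul]⟩
      rw [eq_comm, ← commutatorElement_eq_one_iff_mul_comm, ← map_commutatorElement,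
        QuotientGroup.mk'_apply, QuotientGroup.eq_one_iff, commutatorElement_def, he']
      simpa [mul_assoc] using h7
  have h5 := h1 ⟨u, mem_cen.2 hut⟩ ⟨v, mem_cen.2 hvt⟩ (Subtype.ext hu) (Subtype.ext hv)
    (pow_mem (mul_mem (h4 _ (Subtype.ext hu)) (h4 _ (Subtype.ext hv))) 2)
  exact h5.map (Subgroup.subtype _)

theorem exists_stronglyEmbedded [IsSimpleGroup G] (hG : ¬ IsMulCommutative G) (hev : 2 ∣ Nat.card G)
    (hs : ∀ t : G, orderOf t = 2 → Group.IsSolvable 𝐂[t])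
    (hO : ∀ t : G, orderOf t = 2 → pPrimeCore 2 𝐂[t] = ⊥) :
    ∃ M : Subgroup G, IsStronglyEmbedded M := by
  have h1 : ∀ {t u v : G}, orderOf t = 2 → u ^ 2 = 1 → v ^ 2 = 1 → Commute u t → Commute v t →
      Commute u v := fun ht =>
    have := hs _ ht
    commute_of_commute hc (hO _ ht)
  obtain ⟨t, ht⟩ := exists_prime_orderOf_dvd_card' 2 hev
  have ht2 : t ^ 2 = 1 := by rw [← ht, pow_orderOf_eq_one]
  let E : Subgroup G :=
    { carrier := {q | Commute q t ∧ q ^ 2 = 1}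
      one_mem' := ⟨Commute.one_left t, one_pow _⟩
      mul_mem' := fun {a b} ha hb => ⟨ha.1.mul_left hb.1, by
        rw [(h1 ht ha.2 hb.2 ha.1 hb.1).mul_pow, ha.2, hb.2, one_mul]⟩
      inv_mem' := fun {a} ha => ⟨ha.1.inv_left, by rw [inv_pow, ha.2, inv_one]⟩ }
  have htE : t ∈ E := ⟨Commute.refl t, ht2⟩
  have h2 : ∀ u ∈ normalizer (E : Set G), u ^ 2 = 1 → u ∈ E := fun u hu hu2 => by
    have h3 := (mem_normalizer_iff.1 hu t).1 htE
    refine ⟨commute_of_pow hc hu2 ht2 (k := 2) ?_, hu2⟩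
    rw [pow_two 2, pow_mul, pow_two (u * t), ← mul_assoc,
      show u * t * u = u * t * u⁻¹ by rw [inv_eq_of_mul_eq_one_right (pow_two u ▸ hu2)],
      h3.1.mul_pow, h3.2, ht2, one_mul]
  refine ⟨normalizer (E : Set G), fun h => ?_, ?_, fun g hg => ?_⟩
  · rcases (normalizer_eq_top_iff.1 h).eq_bot_or_eq_top with e | e
    · rw [mem_bot.1 (e.le htE)] at ht
      simp at ht
    · exact hG ⟨⟨fun a b => h1 ht (e.ge (mem_top a)).2 (e.ge (mem_top b)).2 (e.ge (mem_top a)).1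
        (e.ge (mem_top b)).1⟩⟩
  · exact even_iff_two_dvd.2 (ht ▸ Subgroup.orderOf_dvd_natCard _ (le_normalizer htE))
  · rw [← Nat.not_even_iff_odd, even_iff_two_dvd]
    intro hd
    obtain ⟨⟨_, hu, u, hu', rfl⟩, ho⟩ := exists_prime_orderOf_dvd_card' 2 hd
    rw [← orderOf_coe] at ho
    have hu2 : u ^ 2 = 1 := by
      rw [← orderOf_dvd_iff_pow_eq_one, ← ho]
      exact (MulEquiv.orderOf_eq (MulAut.conj g) u).symm.dvd
    have h3 := h2 _ hu (by rw [← ho]; exact pow_orderOf_eq_one _)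
    have h4 := h2 _ hu' hu2
    refine hg (mem_normalizer_fintype fun v hv => ?_)
    have h5 : (g * v * g⁻¹) ^ 2 = 1 := by rw [conj_pow, hv.2]; simp
    exact ⟨h1 ho h5 ht2 ((h1 ht hv.2 hu2 hv.1 h4.1).map (MulAut.conj g)) h3.1.symm, h5⟩

end

omit [Finite G] in
theorem DH.of_equiv {H : Type*} [Group H] (h : DH G) (e : G ≃* H) : DH H := fun x y z hx => by
  obtain ⟨x, rfl⟩ := e.surjective x
  obtain ⟨y, rfl⟩ := e.surjective y
  obtain ⟨z, rfl⟩ := e.surjective z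
  simp only [index_cen_equiv]
  exact h x y z (by simpa using hx)

theorem spec_A7 (g : alternatingGroup (Fin 7)) : orderOf g ∈ [1, 2, 3, 4, 5, 6, 7] := by
  have h := CL.Spec.range_orderOf_alternating (α := Fin 7)
  rw [Fintype.card_fin, CL.Spec.setOf_mem_eq_of_all (l' := [1, 2, 3, 4, 5, 6, 7])
    (by decide +kernel) (by decide +kernel)] at h
  exact h.le ⟨g, rfl⟩

theorem exists_orderOf_mul {x : G} {p : ℕ} (hp : p.Prime) (h : p ∣ Nat.card 𝐂[x])
    (hx : ¬ p ∣ orderOf x) : ∃ g : G, orderOf g = orderOf x * p := by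
  have := Fact.mk hp
  obtain ⟨y, hy⟩ := exists_prime_orderOf_dvd_card' p h
  rw [← orderOf_coe] at hy
  exact ⟨x * y, by rw [(mem_cen'.1 y.2).orderOf_mul_eq_mul_orderOf_of_coprime
    (hy ▸ (hp.coprime_iff_not_dvd.2 hx).symm), hy]⟩

theorem card_cen_eq {x y : G} (h : (𝐂[x]).index = (𝐂[y]).index) : Nat.card 𝐂[x] = Nat.card 𝐂[y] :=
  Nat.eq_of_mul_eq_mul_right (index_cen_pos x) (by rw [card_mul_index, h, card_mul_index])

open Equiv in
theorem exists_A7 : ∃ t s w : alternatingGroup (Fin 7), orderOf t = 2 ∧ 𝐂[s] < 𝐂[t] ∧ 𝐂[w] < 𝐂[t] ∧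
    ¬ 3 ∣ Nat.card 𝐂[s] ∧ 3 ∣ orderOf w := by
  let s : alternatingGroup (Fin 7) :=
    ⟨swap 0 1 * swap 1 2 * swap 2 3 * swap 4 5, Perm.mem_alternatingGroup.2 (by decide +kernel)⟩
  let w : alternatingGroup (Fin 7) :=
    ⟨swap 4 5 * swap 5 6, Perm.mem_alternatingGroup.2 (by decide +kernel)⟩
  have : Fact (Nat.Prime 3) := ⟨Nat.prime_three⟩
  have ht : orderOf (s ^ 2) = 2 := orderOf_eq_prime (Subtype.ext (by decide +kernel))
    fun e => absurd (congrArg Subtype.val e) (by decide +kernel)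
  have hs : orderOf s = 2 ^ 2 := orderOf_eq_prime_pow
    (fun e => absurd (congrArg Subtype.val e) (by decide +kernel)) (Subtype.ext (by decide +kernel))
  have hw : orderOf w = 3 := orderOf_eq_prime (Subtype.ext (by decide +kernel))
    fun e => absurd (congrArg Subtype.val e) (by decide +kernel)
  have hc : Commute (s ^ 2) w := Subtype.ext (by decide +kernel)
  have hn : ¬ Commute s w := fun e => absurd (congrArg Subtype.val e) (by decide +kernel)
  have hco : (orderOf (s ^ 2)).Coprime (orderOf w) := by rw [ht, hw]; norm_num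
  refine ⟨s ^ 2, s, s ^ 2 * w, ht, (cen_le_cen_pow s 2).lt_of_ne fun e =>
    hn (mem_cen'.1 (e.ge (mem_cen'.2 hc))), ?_, fun h => ?_, ?_⟩
  · rw [cen_mul_of_coprime hc hco]
    exact inf_le_left.lt_of_ne fun e =>
      hn (mem_cen.1 (inf_eq_left.1 e (cen_le_cen_pow s 2 (self_mem_cen s))))
  · obtain ⟨g, hg⟩ := exists_orderOf_mul Nat.prime_three h (by rw [hs]; norm_num)
    have := spec_A7 g
    rw [hg, hs] at this
    simp at this
  · rw [hc.orderOf_mul_eq_mul_orderOf_of_coprime hco, hw]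
    exact dvd_mul_left _ _

theorem not_DH_A7 : ¬ DH (alternatingGroup (Fin 7)) := fun h => by
  obtain ⟨t, s, w, ht, hs, hw, h1, h2⟩ := exists_A7
  have h3 := (h.loc (by rintro rfl; simp at ht) hs w (index_dvd_of_le hw.le)).resolve_left
    (index_ne_of_lt hw)
  exact h1 (card_cen_eq h3 ▸ h2.trans (Subgroup.orderOf_dvd_natCard _ (self_mem_cen w)))

theorem center_eq_bot [IsSimpleGroup G] (hG : ¬ IsMulCommutative G) : center G = ⊥ :=
  (inferInstance : (center G).Normal).eq_bot_or_eq_top.resolve_right fun e =>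
    hG ⟨⟨fun a b => mem_center_iff.1 (e.ge (mem_top b)) a⟩⟩

theorem DH.simple [IsSimpleGroup G] (hG : ¬ IsMulCommutative G) (h : DH G)
    (hE : ∀ s z w t : G, IsPGroup 2 𝐂[z] → t ≠ 1 → 𝐂[s] < 𝐂[z] → 𝐂[w] < 𝐂[t] →
      (𝐂[s]).index = (𝐂[w]).index) :
    (∃ (F : Type) (_ : Field F) (_ : Fintype F), 3 < Fintype.card F ∧
        Nonempty (G ≃* Matrix.ProjectiveSpecialLinearGroup (Fin 2) F)) ∨
      Lie.IsoSuzuki G ∨ (∃ (F : Type) (_ : Field F) (_ : Fintype F), Fintype.card F = 4 ∧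
        Nonempty (G ≃* Matrix.ProjectiveSpecialLinearGroup (Fin 3) F)) := by
  have hZ := center_eq_bot hG
  have hO := h.not_bad hZ
  have hs : ∀ t : G, orderOf t = 2 → Group.IsSolvable 𝐂[t] := fun t ht =>
    h.isSolvable hZ (by rintro rfl; simp at ht) Nat.prime_two (k := 1)
      (by rw [pow_one, ← ht, pow_orderOf_eq_one])
  by_cases hr : PRankLE 2 2 G
  · rcases CL.ABG.rank_two_of_solvable hG hr hs with ⟨F, _, _, -, h1, e⟩ | ⟨F, _, _, h1, ⟨e⟩⟩ |
      ⟨F, _, _, q, h1, h2, ⟨e⟩⟩ | ⟨F, _, _, h1, ⟨e⟩⟩ | ⟨⟨e⟩⟩ | h1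
    · exact Or.inl ⟨F, _, _, by omega, e⟩
    · exact absurd (bad_psl3 h1 e) hO
    · exact absurd (bad_psu3_odd h1 h2 e) hO
    · exact absurd (bad_psu3_even (n := 2) le_rfl h1 e) hO
    · exact absurd (h.of_equiv e) not_DH_A7
    · exact absurd (bad_M11 h1.2) hO
  by_cases hse : ∃ M : Subgroup G, IsStronglyEmbedded M
  · obtain ⟨M, hM⟩ := hse
    obtain ⟨t, Q, hS, -⟩ := CL.Bender.setup_of_simple hG hM
    obtain ⟨n, hn, h1⟩ := CL.PS.suzuki_simple hS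
    have h4 : 4 ≤ 2 ^ n := Nat.pow_le_pow_right two_pos hn
    obtain ⟨F, _, _, _, e, h1⟩ | h1 | ⟨F, _, _, e, ⟨h1⟩⟩ := h1
    · exact Or.inl ⟨F, _, _, by omega, h1⟩
    · exact Or.inr (Or.inl h1.1)
    · exact absurd (bad_psu3_even hn e h1) hO
  have h1 : ∀ t : G, orderOf t = 2 → pPrimeCore 2 𝐂[t] = ⊥ := fun t ht =>
    TwoNil.core_eq_bot hG hr hse (fun t ht => CL.PC.isPConstrained_of_isSolvable (hs t ht)) ht
  obtain ⟨s, hs2, hs1⟩ : ∃ s : G, orderOf (s ^ 2) = 2 ∧ 𝐂[s] ≠ 𝐂[s ^ 2] := by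
    by_contra! h0
    exact hse (exists_stronglyEmbedded h0 hG (CL.SFM.even_card_of_not_prankLE hr).two_dvd hs h1)
  replace hs1 := (cen_le_cen_pow s 2).lt_of_ne hs1
  have h2 : ∀ {A : Subgroup G}, ¬ IsPGroup 2 A → ∃ w : A, Odd (orderOf w) ∧ w ≠ 1 := fun {A} hA => by
    by_contra! h0
    refine hA (IsPGroup.of_card (Nat.eq_prime_pow_of_unique_prime_dvd Nat.card_pos.ne'
      fun {r} hr hd => by_contra fun e => ?_))
    have := Fact.mk hr
    obtain ⟨w, hw⟩ := exists_prime_orderOf_dvd_card' r hd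
    rw [h0 w (hw ▸ hr.odd_of_ne_two e), orderOf_one] at hw
    exact hr.one_lt.ne hw
  have h3 : IsPGroup 2 𝐂[s ^ 2] := by_contra fun e =>
    let ⟨w, hw, hw1⟩ := h2 e
    hw1 (mem_bot.1 (h1 _ hs2 ▸ h.mem_core hZ (k := 2)
      (by rw [pow_two 2, pow_mul, ← orderOf_dvd_iff_pow_eq_one, hs2]) hs2 hs1 w hw))
  have hC : ∀ t : G, orderOf t = 2 → IsPGroup 2 𝐂[t] := fun t ht => by_contra fun e => by
    obtain ⟨w, hw, hw1⟩ := h2 e
    have := hs t ht
    have h4 := cen_mul_of_coprime (mem_cen'.1 w.2) (by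
      rw [ht, orderOf_coe]; exact Nat.coprime_two_left.2 hw)
    have h5 := hE s _ (t * w) t h3 (by rintro rfl; simp at ht) hs1 (h4.trans_lt
      (inf_le_left.lt_of_ne fun e => hw1 (mem_bot.1 (h1 t ht ▸ mem_core_of_odd_index hw (by
        simp [index_cen_eq_one_iff.2 (mem_center_subgroup.2 (inf_eq_left.1 e))])))))
    obtain ⟨k, hk⟩ := (h3.to_le hs1.le).exists_card_eq
    have h6 := Subgroup.orderOf_dvd_natCard _ (h4.ge ⟨w.2, self_mem_cen _⟩)
    rw [← card_cen_eq h5, hk, orderOf_coe] at h6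
    exact hw1 (orderOf_eq_one_iff.1 (Nat.eq_one_of_dvd_coprimes
      ((Nat.coprime_two_right.2 hw).pow_right k) dvd_rfl h6))
  rcases CL.CIT.simple hG hC with ⟨F, _, _, -, ⟨e⟩⟩ | h1 | h1
  · exact Or.inl ⟨F, _, _, TwoNil.three_lt_of_psl2 hG e, ⟨e⟩⟩
  · exact Or.inr (Or.inr h1)
  · exact Or.inr (Or.inl h1)

end CL.Ito
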