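import Mathlib
import Cfsg.Agent.PERM.Ito11
import Cfsg.Agent.PERM.Ito12
import Cfsg.Agent.INV.ZStar
import Cfsg.Agent.S1221
import Cfsg.Agent.S2476

/-!
# Simple groups with four non-trivial class sizes
-/

set_option autoImplicit false

namespace CL.Ito

open Subgroup Cfsg CL.CS
open scoped commutatorElement

variable {G : Type*} [Group G] [Finite G]

theorem hasNPC_of_odd_index [Group.IsSolvable G]
    (h : ∀ w : G, Odd (orderOf w) → ¬ 2 ∣ (𝐂[w]).index) : HasNormalPComplement 2 G := by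
  obtain ⟨k, hk⟩ := index_eq_pow_of_forall (u := 2) (H := pPrimeCore 2 G) fun r y k hr hr2 hy =>
    have := Nat.coprime_two_right.1 (coprime_of_pow_of_ne Nat.prime_two hr hr2 hy)
    mem_core_of_odd_index this (h y this)
  exact hasNPC_of_normal _ (coprime_card_pPrimeCore 2 G) (IsPGroup.of_card hk)

omit [Finite G] in
theorem ne_one_of_le {x y : G} (hZ : center G = ⊥) (hy : y ≠ 1) (h : 𝐂[x] ≤ 𝐂[y]) : x ≠ 1 := by
  rintro rfl
  exact hy (mem_bot.1 (hZ ▸ cen_eq_top_iff.1 (eq_top_iff.2 ((cen_eq_top_iff.2 (one_mem _)).ge.trans h))))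

section

variable [IsSimpleGroup G] (hG : ¬ IsMulCommutative G)
include hG

theorem index_ne_pow {x : G} (hx : x ≠ 1) {u : ℕ} (hu : u.Prime) (k : ℕ) : ¬ (𝐂[x]).index ∣ u ^ k :=
  fun h => let ⟨_, _, e⟩ := (Nat.dvd_prime_pow hu).1 h
    hG ⟨⟨CL.Char.mul_comm_of_simple_of_prime_pow_class hu hx e⟩⟩

theorem exists_prime_dvd_index {x : G} (hx : x ≠ 1) (r : ℕ) :
    ∃ p : ℕ, p.Prime ∧ p ≠ r ∧ p ∣ (𝐂[x]).index := by
  by_contra! h
  obtain ⟨p, hp, hd⟩ := Nat.exists_prime_and_dvd fun e => index_ne_pow hG hx Nat.prime_two 0 e.dvd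
  obtain rfl : p = r := by_contra fun e => h p hp e hd
  exact index_ne_pow hG hx hp _ (Nat.eq_prime_pow_of_unique_prime_dvd FiniteIndex.index_ne_zero
    fun {d} h1 h2 => by_contra fun e => h d h1 e h2).dvd

theorem not_commute_of_coprime {x y : G} (hx : x ≠ 1) (hy : y ≠ 1)
    (h : (𝐂[x]).index.Coprime (𝐂[y]).index) : ¬ Commute x y := fun hc => by
  have h1 : normalClosure {x} ≤ 𝐂[y] := (closure_le _).2 fun z hz => by
    obtain ⟨_, rfl, hz'⟩ := Group.mem_conjugatesOfSet_iff.1 hz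
    obtain ⟨g, rfl⟩ := isConj_iff.1 hz'
    obtain ⟨c, hc', d, hd, rfl⟩ := exists_mul_eq_of_coprime_index _ _ h.symm g
    rw [mul_inv_rev, ← mul_assoc, mul_assoc c, (mem_cen.1 hd).eq, mul_assoc c, mul_inv_cancel_right]
    exact mul_mem (mul_mem hc' (mem_cen.2 hc)) (inv_mem hc')
  rcases (normalClosure_normal (s := {x})).eq_bot_or_eq_top with e | e
  · exact hx (mem_bot.1 (e.le (subset_normalClosure rfl)))
  · exact hy (mem_bot.1 ((center_eq_bot hG).le (cen_eq_top_iff.1 (eq_top_iff.2 (e.ge.trans h1)))))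

theorem index_mul_ne {x y : G} (hx : x ≠ 1) (hy : y ≠ 1)
    (h : (𝐂[x]).index.Coprime (𝐂[y]).index) : (𝐂[x * y]).index ≠ (𝐂[y]).index := fun e => by
  obtain ⟨M, hM, h1, h2⟩ := exists_normal_of_index_mul_eq h e
  rcases hM.eq_bot_or_eq_top with rfl | rfl
  · exact hx (mem_bot.1 ((center_eq_bot hG).le (mem_center_iff.2 fun g =>
      commutatorElement_eq_one_iff_mul_comm.1 (mem_bot.1 (h2 g)))))
  · rw [card_top, ← card_mul_index 𝐂[y]] at h1
    have h3 : Nat.card 𝐂[y] = 1 :=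
      Nat.dvd_one.1 (Nat.dvd_of_mul_dvd_mul_right (index_cen_pos y) (by rwa [one_mul]))
    exact hy (mem_bot.1 ((card_eq_one.1 h3).le (self_mem_cen y)))

theorem not_dvd_index_mul {x y : G} (hx : x ≠ 1) (hy : y ≠ 1)
    (h : (𝐂[x]).index.Coprime (𝐂[y]).index) (h1 : (𝐂[x]).index ∣ (𝐂[x * y]).index) :
    ¬ (𝐂[y]).index ∣ (𝐂[x * y]).index := fun h2 => by
  have h3 := eq_of_le_of_index_eq (inf_le_cen_mul x y) (Nat.dvd_antisymm
    (index_inf_of_coprime_index _ _ h ▸ h.mul_dvd_of_dvd_of_dvd h1 h2)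
    (index_dvd_of_le (inf_le_cen_mul x y)))
  exact not_commute_of_coprime hG hx hy h
    (mem_cen'.1 ((mul_mem_cancel_left (self_mem_cen x)).1 (h3.ge (self_mem_cen _)).1))

theorem oddCore_eq_bot : oddCore G = ⊥ :=
  (inferInstance : (oddCore G).Normal).eq_bot_or_eq_top.resolve_right fun e =>
    CL.PSL2E.not_solvable_of_simple hG (Cfsg.Agent.S0205.result (by
      have h1 := coprime_card_pPrimeCore 2 G
      rw [show pPrimeCore 2 G = ⊤ from e, card_top] at h1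
      exact Nat.coprime_two_right.1 h1))

/-- a head `b` coprime to a class size, without proper inclusions below it -/
theorem cen_eq_of_coprime {x y : G} (hx : x ≠ 1) (hy : y ≠ 1)
    (hco : (𝐂[x]).index.Coprime (𝐂[y]).index) (h1 : ∀ g, 𝐂[g] ≤ 𝐂[y] → 𝐂[g] = 𝐂[y])
    (h2 : ∀ g, g ≠ 1 → 𝐂[y] ≤ 𝐂[g] → 𝐂[g] = 𝐂[y]) : ∀ v ∈ 𝐂[y], v ≠ 1 → 𝐂[v] = 𝐂[y] := by
  have hZ := center_eq_bot hG
  have h3 : ∀ u v : G, 𝐂[u] = 𝐂[y] → v ∈ 𝐂[y] → v ≠ 1 → (orderOf u).Coprime (orderOf v) →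
      𝐂[v] = 𝐂[y] := fun u v hu hv hv1 ho => by
    have h4 := cen_mul_of_coprime (mem_cen'.1 (hu.ge hv)) ho
    rw [hu] at h4
    exact h2 v hv1 (inf_eq_left.1 (h4.symm.trans (h1 _ (h4.trans_le inf_le_left))))
  obtain ⟨c, hc, hcZ, r, k, hr, hk⟩ := exists_primePow (x := y) (by simpa [hZ] using hy)
  have hc1 := h2 c (by simpa [hZ] using hcZ) (cen_le_cen_of_mem_zpowers hc)
  obtain ⟨p, hp, hpr, hd⟩ := exists_prime_dvd_index hG hx r
  have := Fact.mk hp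
  obtain ⟨z, hz⟩ := exists_prime_orderOf_dvd_card' (G := 𝐂[y]) p
    (((hp.dvd_mul.1 (card_mul_index 𝐂[y] ▸ hd.trans (index_dvd_card _))).resolve_right
      fun e => hp.not_dvd_one (hco ▸ Nat.dvd_gcd hd e)))
  rw [← orderOf_coe] at hz
  have hz1 : (z : G) ^ p ^ 1 = 1 := by rw [pow_one, ← hz, pow_orderOf_eq_one]
  have hz2 := h3 c z hc1 z.2 (fun e => hp.one_lt.ne (by rw [← hz, e, orderOf_one]))
    (coprime_of_pows hr hp hpr.symm hk hz1)
  intro v hv hv1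
  obtain ⟨w, hw, hwZ, s, j, hs, hj⟩ := exists_primePow (x := v) (by simpa [hZ] using hv1)
  have hw1 : w ≠ 1 := by simpa [hZ] using hwZ
  refine h1 v ((cen_le_cen_of_mem_zpowers hw).trans_eq ?_)
  by_cases e : s = r
  · exact h3 z w hz2 (zpowers_le.2 hv hw) hw1 (coprime_of_pows hp hs (e ▸ hpr) hz1 hj)
  · exact h3 c w hc1 (zpowers_le.2 hv hw) hw1 (coprime_of_pows hr hs (Ne.symm e) hk hj)

/-- exact factorization by a centralizer and a self-centralizing abelian subgroup -/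
theorem isolated_of_free {x y : G} (hx : x ≠ 1) (hy : y ≠ 1)
    (hco : (𝐂[x]).index.Coprime (𝐂[y]).index) (hB : ∀ v ∈ 𝐂[y], v ≠ 1 → 𝐂[v] = 𝐂[y]) :
    (𝐂[x]).index = Nat.card 𝐂[y] ∧ ∀ g : G, Commute (g * x * g⁻¹) x → g ∈ 𝐂[x] := by
  have h1 : ∀ v ∈ 𝐂[y], v ≠ 1 → ∀ g : G, g⁻¹ * v * g ∉ 𝐂[x] := fun v hv hv1 g hg =>
    not_commute_of_coprime hG hx (y := g⁻¹ * v * g⁻¹⁻¹) (fun e => hv1 (conj_eq_one_iff.1 e))
      (by rwa [index_cen_conj, hB v hv hv1]) (by simpa using mem_cen'.1 hg)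
  have h2 : 𝐂[x] ⊓ 𝐂[y] = ⊥ := eq_bot_iff.2 fun v hv => by_contra fun e =>
    h1 v hv.2 e 1 (by simpa using hv.1)
  have h3 := index_inf_of_coprime_index _ _ hco
  rw [h2, index_bot, ← card_mul_index 𝐂[y]] at h3
  have h4 := (Nat.eq_of_mul_eq_mul_right (index_cen_pos y) h3).symm
  refine ⟨h4, fun g hg => ?_⟩
  simpa using eq_of_commute_conj hG hB (h4 ▸ hco) hx h4 h1 hx h4 (g := 1) (h := g⁻¹)
    (by simpa using self_mem_cen x) (by simpa using mem_cen.2 hg)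

theorem list_of_free {x y : G} (hx : x ≠ 1) (hy : y ≠ 1)
    (hco : (𝐂[x]).index.Coprime (𝐂[y]).index) (hB : ∀ v ∈ 𝐂[y], v ≠ 1 → 𝐂[v] = 𝐂[y]) {c d : ℕ}
    (h : ∀ g : G, g ≠ 1 → (𝐂[g]).index = (𝐂[x]).index ∨ (𝐂[g]).index = (𝐂[y]).index ∨
      (𝐂[g]).index = c ∨ (𝐂[g]).index = d) (hc : (𝐂[x]).index ∣ c) (hd : (𝐂[x]).index ∣ d) :
    (∃ (F : Type) (_ : Field F) (_ : Fintype F), 3 < Fintype.card F ∧
        Nonempty (G ≃* Matrix.ProjectiveSpecialLinearGroup (Fin 2) F)) ∨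
      Lie.IsoSuzuki G ∨ Nonempty (G ≃* ↥(alternatingGroup (Fin 7))) ∨
      (∃ (F : Type) (_ : Field F) (_ : Fintype F), Fintype.card F = 4 ∧
        Nonempty (G ≃* Matrix.ProjectiveSpecialLinearGroup (Fin 3) F)) := by
  have hZ := center_eq_bot hG
  have hO := oddCore_eq_bot hG
  obtain ⟨h1, hiso⟩ := isolated_of_free hG hx hy hco hB
  have hi1 : ∀ {t : G}, orderOf t = 2 → t ≠ 1 := by
    rintro _ ht rfl
    simp at ht
  have hi2 : ∀ {t : G}, orderOf t = 2 → t ^ 2 ^ 1 = 1 := fun ht => by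
    rw [pow_one, ← ht, pow_orderOf_eq_one]
  by_cases h2 : 2 ∣ (𝐂[x]).index
  · refine TwoNil.simple hG fun t ht => ?_
    obtain ⟨T, hT⟩ := exists_sylow_le_of_not_dvd_index (p := 2) (H := 𝐂[y])
      fun e => Nat.prime_two.not_dvd_one (hco ▸ Nat.dvd_gcd h2 e)
    obtain ⟨g, hg⟩ := exists_conj_mem_sylow T (hi2 ht)
    have h3 := hB _ (hT hg) (by simpa using hi1 ht)
    have h4 : ∀ u v : 𝐂[t], u * v = v * u := fun u v => by
      have h5 : ∀ u : 𝐂[t], g * u * g⁻¹ ∈ 𝐂[y] := fun u => by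
        rw [← h3, cen_conj]; exact ⟨u, u.2, rfl⟩
      by_cases hu : u = 1
      · simp [hu]
      have h6 := mem_cen'.1 ((hB _ (h5 u) (by simpa using hu)).ge (h5 v))
      exact Subtype.ext ((MulAut.conj g).injective (by simpa using h6.eq))
    have : IsMulCommutative 𝐂[t] := ⟨⟨h4⟩⟩
    have := CL.isSolvable_of_isMulCommutative 𝐂[t]
    exact hasNPC_of_odd_index fun w _ => by
      simp [index_cen_eq_one_iff.2 (mem_center_iff.2 fun v => h4 v w)]
  have hxy : ¬ (𝐂[x]).index ∣ (𝐂[y]).index := fun e =>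
    index_ne_pow hG hx Nat.prime_two 0 (Nat.eq_one_of_dvd_coprimes hco dvd_rfl e).dvd
  have h3 : ∀ t : G, orderOf t = 2 → (𝐂[t]).index ≠ (𝐂[x]).index := fun t ht e =>
    hi1 ht (mem_bot.1 (hZ.le (CL.BS.zstar_center ⟨ht, fun g hg => by
      rw [(mem_cen.1 ((isolated_of_free hG (hi1 ht) hy (e ▸ hco) hB).2 g hg.symm)).eq,
        mul_inv_cancel_right]⟩ hO)))
  have h4 : ∀ t : G, orderOf t = 2 → (𝐂[t]).index = c ∨ (𝐂[t]).index = d := fun t ht =>
    ((h t (hi1 ht)).resolve_left (h3 t ht)).resolve_left fun e => h2 (by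
      rw [h1, ← card_cen_eq e, ← ht]
      exact Subgroup.orderOf_dvd_natCard _ (self_mem_cen t))
  have h5 : ∀ t : G, orderOf t = 2 → ∀ g, 𝐂[g] ≤ 𝐂[t] → (𝐂[g]).index = c ∨ (𝐂[g]).index = d := by
    intro t ht g hg
    have h6 : (𝐂[x]).index ∣ (𝐂[t]).index := (h4 t ht).elim (· ▸ hc) (· ▸ hd)
    exact ((h g (ne_one_of_le hZ (hi1 ht) hg)).resolve_left fun e => h3 t ht
      (Nat.dvd_antisymm (e ▸ index_dvd_of_le hg) h6)).resolve_left
      fun e => hxy (e ▸ h6.trans (index_dvd_of_le hg))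
  by_cases hN : ∀ t : G, orderOf t = 2 → ∀ w : 𝐂[t], Odd (orderOf w) → ¬ 2 ∣ (𝐂[w]).index
  · refine TwoNil.simple hG fun t ht => ?_
    have := isSolvable_of_index (m := (c + d - (𝐂[t]).index) / (𝐂[t]).index) Nat.prime_two
      (index_local (hi2 ht) (by simpa [hZ] using hi1 ht) rfl fun g _ hg =>
        or_iff_not_imp_left.2 fun e => Nat.eq_div_of_mul_eq_left (index_cen_pos t).ne' (by
          have := h4 t ht
          have := h5 t ht g hg
          have := index_ne_of_lt (hg.lt_of_ne e)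
          rw [relIndex_mul_index hg]
          omega))
    exact hasNPC_of_odd_index (hN t ht)
  exfalso
  push Not at hN
  obtain ⟨t, ht, w, hw, hw2⟩ := hN
  have h6 := cen_mul_of_coprime (mem_cen'.1 w.2) (by
    rw [ht, orderOf_coe]; exact Nat.coprime_two_left.2 hw)
  have h7 : 2 * (𝐂[t]).index ∣ (𝐂[t * w]).index := by
    rw [← relIndex_mul_index (h6.trans_le inf_le_left), h6, inf_relIndex_left, ← index_cen_subgroup]
    exact Nat.mul_dvd_mul_right hw2 _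
  have h8 : ∀ u : G, orderOf u = 2 → ∀ g, 𝐂[g] ≤ 𝐂[u] →
      (𝐂[g]).index = (𝐂[t]).index ∨ (𝐂[g]).index = (𝐂[t * w]).index := fun u hu g hg => by
    have := h5 u hu g hg
    have := h4 t ht
    have := h5 t ht _ (h6.trans_le inf_le_left)
    have := Nat.le_of_dvd (index_cen_pos _) h7
    have := index_cen_pos t
    omega
  have h9 : ¬ 2 ∣ (𝐂[t]).index := by
    obtain ⟨z, hz1, ⟨k, hk⟩, hz⟩ := exists_not_dvd Nat.prime_two (ht ▸ orderOf_dvd_natCard t)
    obtain ⟨j, -, hj⟩ := (Nat.dvd_prime_pow Nat.prime_two).1 (orderOf_dvd_of_pow_eq_one hk)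
    have h10 : 2 ∣ orderOf z := hj ▸ dvd_pow_self 2 (by
      rintro rfl
      exact hz1 (orderOf_eq_one_iff.1 hj))
    rcases h8 _ (orderOf_pow_orderOf_div (orderOf_pos z).ne' h10) z (cen_le_cen_pow _ _) with e | e
    · exact e ▸ hz
    · exact (hz (e ▸ (dvd_mul_right _ _).trans h7)).elim
  have hxo : Odd (orderOf x) := Nat.not_even_iff_odd.1 fun e => by
    have h10 := orderOf_pow_orderOf_div (orderOf_pos x).ne' e.two_dvd
    exact h3 _ h10 (Nat.dvd_antisymm (index_cen_pow_dvd _ _) ((h4 _ h10).elim (· ▸ hc) (· ▸ hd)))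
  have h10 : ∀ u : G, orderOf u = 2 → ∀ g : G, u ∈ 𝐂[g * x * g⁻¹] →
      𝐂[u * (g * x * g⁻¹)] = 𝐂[u] ⊓ 𝐂[g * x * g⁻¹] := fun u hu g hg =>
    cen_mul_of_coprime (mem_cen.1 hg) (by
      rw [hu, ← MulAut.conj_apply, MulEquiv.orderOf_eq]; exact Nat.coprime_two_left.2 hxo)
  have hse : IsStronglyEmbedded 𝐂[x] := by
    refine ⟨fun e => hx (mem_bot.1 (hZ.le (cen_eq_top_iff.1 e))), even_iff_two_dvd.2
      ((Nat.prime_two.dvd_mul.1 (card_mul_index 𝐂[x] ▸ ht ▸ orderOf_dvd_natCard t)).resolve_right h2),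
      fun g hg => Nat.not_even_iff_odd.1 fun e => hg (hiso g ?_)⟩
    obtain ⟨⟨u, hu, hu'⟩, ho⟩ := exists_prime_orderOf_dvd_card' 2 e.two_dvd
    rw [← orderOf_coe] at ho
    replace hu' : u ∈ 𝐂[g * x * g⁻¹] := by rw [cen_conj]; exact hu'
    suffices 𝐂[u] ≤ 𝐂[x] from mem_cen.1 (this (mem_cen_comm.1 hu'))
    rcases h8 u ho u le_rfl with e | e
    · obtain ⟨T, huT, hT⟩ := exists_sylow_le_of_not_dvd_index' (e ▸ h9) (isPGroup_zpowers (hi2 ho))
        (zpowers_le_cen u)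
      obtain ⟨k, hk⟩ := exists_conj_mem_centralizer_sylow h2 T
      have h11 := h10 u ho k (le_cen_iff.2 hk (huT (mem_zpowers u)))
      have h12 : 𝐂[u] ≤ 𝐂[k * x * k⁻¹] := inf_eq_left.1 (h11.symm.trans (eq_of_le_of_index_eq
        (h11.trans_le inf_le_left) (((h8 u ho _ (h11.trans_le inf_le_left)).resolve_right fun e' =>
          not_dvd_index_of_sylow_le (h11.ge.trans' (le_inf hT (le_cen_iff.2 hk)))
            (e' ▸ (dvd_mul_right _ _).trans h7)).trans e.symm)))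
      rwa [(mem_cen.1 (hiso k (mem_cen'.1 (h12 (mem_cen_comm.1 hu))))).eq, mul_inv_cancel_right] at h12
    · have h11 := h10 u ho 1 (by simpa using hu)
      simp only [one_mul, inv_one, mul_one] at h11
      refine inf_eq_left.1 (h11.symm.trans (eq_of_le_of_index_eq (h11.trans_le inf_le_left)
        (((h8 u ho _ (h11.trans_le inf_le_left)).resolve_left fun e' => ?_).trans e.symm)))
      have := Nat.le_of_dvd (index_cen_pos _) (index_dvd_of_le (h11.trans_le inf_le_left))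
      have := Nat.le_of_dvd (index_cen_pos _) h7
      have := index_cen_pos t
      omega
  have : (zpowers (⟨x, self_mem_cen x⟩ : 𝐂[x])).Normal :=
    normal_of_le_center (zpowers_le.2 (mem_center_subgroup.2 le_rfl))
  exact hx (mem_bot.1 (hO.le (Agent.S1221.result _ hse ⟨⟨x, self_mem_cen x⟩, le_pPrimeCore (by
    rw [Nat.card_zpowers, ← orderOf_coe]; exact Nat.coprime_two_right.2 hxo) (mem_zpowers _), rfl⟩)))

end

end CL.Ito
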