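import Mathlib
import Cfsg.Agent.PERM.Ito13

/-!
# Simple groups with four non-trivial class sizes, conclusion
-/

set_option autoImplicit false

namespace CL.Ito

open Subgroup Cfsg CL.CS

variable {G : Type*} [Group G] [Finite G]

theorem pigeon {a b c d x y z u v : ℕ} (hx : x = a ∨ x = b ∨ x = c ∨ x = d)
    (hy : y = a ∨ y = b ∨ y = c ∨ y = d) (hz : z = a ∨ z = b ∨ z = c ∨ z = d)
    (hu : u = a ∨ u = b ∨ u = c ∨ u = d) (hv : v = a ∨ v = b ∨ v = c ∨ v = d) (h1 : x ≠ y)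
    (h2 : x ≠ z) (h3 : x ≠ u) (h4 : x ≠ v) (h5 : y ≠ z) (h6 : y ≠ u) (h7 : y ≠ v) (h8 : z ≠ u)
    (h9 : z ≠ v) (h10 : u ≠ v) : False := by
  have h : ({x, y, z, u, v} : Finset ℕ).card ≤ ({a, b, c, d} : Finset ℕ).card :=
    Finset.card_le_card fun t ht => by
      simp only [Finset.mem_insert, Finset.mem_singleton] at ht ⊢
      rcases ht with rfl | rfl | rfl | rfl | rfl <;> assumption
  rw [Finset.card_insert_of_notMem (by simp [*]), Finset.card_insert_of_notMem (by simp [*]),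
    Finset.card_insert_of_notMem (by simp [*]), Finset.card_pair h10] at h
  exact absurd (h.trans Finset.card_le_four) (by decide)

theorem dvd_of_components {ι : Type*} {n : ι → ℕ} (hn : Pairwise fun i j => (n i).Coprime (n j))
    (h : ∀ g : G, ∃ i, orderOf g ∣ n i) {x : G} (hx : x ≠ 1) {i : ι} (hi : orderOf x ∣ n i) {r : ℕ}
    (hr : r.Prime) (hd : r ∣ Nat.card 𝐂[x]) : r ∣ n i := by
  by_cases e : r ∣ orderOf x
  · exact e.trans hi
  obtain ⟨g, hg⟩ := exists_orderOf_mul hr hd e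
  obtain ⟨j, hj⟩ := h g
  rw [hg] at hj
  by_cases e' : i = j
  · exact e' ▸ (dvd_mul_left _ _).trans hj
  · exact (hx (orderOf_eq_one_iff.1
      (Nat.eq_one_of_dvd_coprimes (hn e') hi ((dvd_mul_right _ _).trans hj)))).elim

theorem fg_of_components (hZ : center G = ⊥) {n : Fin 4 → ℕ}
    (hn : Pairwise fun i j => (n i).Coprime (n j)) (h : ∀ g : G, ∃ i, orderOf g ∣ n i)
    (h1 : ∀ i, ∃ g : G, g ≠ 1 ∧ orderOf g ∣ n i) {a b c d : ℕ}
    (h4 : ∀ y : G, y ≠ 1 →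
      (𝐂[y]).index = a ∨ (𝐂[y]).index = b ∨ (𝐂[y]).index = c ∨ (𝐂[y]).index = d) : FG G := by
  choose g hg1 hg using h1
  have h2 : ∀ (x : G) (i j), x ≠ 1 → ∀ y z : G, 𝐂[x] ≤ 𝐂[y] → 𝐂[x] ≤ 𝐂[z] →
      (𝐂[y]).index = (𝐂[g i]).index → (𝐂[z]).index = (𝐂[g j]).index → i = j := by
    intro x i j hx y z hy hz e e'
    obtain ⟨p, hp, hd⟩ := Nat.exists_prime_and_dvd (mt orderOf_eq_one_iff.1 hx)
    have h3 : ∀ {y : G} {i}, 𝐂[x] ≤ 𝐂[y] → (𝐂[y]).index = (𝐂[g i]).index → p ∣ n i := fun hy e =>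
      dvd_of_components hn h (hg1 _) (hg _) hp
        (card_cen_eq e ▸ hd.trans (Subgroup.orderOf_dvd_natCard _ (hy (self_mem_cen x))))
    by_contra hij
    exact hp.not_dvd_one (hn hij ▸ Nat.dvd_gcd (h3 hy e) (h3 hz e'))
  have h3 : ∀ i j, i ≠ j → (𝐂[g i]).index ≠ (𝐂[g j]).index := fun i j hij e =>
    hij (h2 (g i) i j (hg1 i) _ _ le_rfl le_rfl rfl e)
  have h5 : ∀ y : G, y ≠ 1 → ∃ i, (𝐂[y]).index = (𝐂[g i]).index := fun y hy => by
    by_contra! h0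
    exact pigeon (h4 y hy) (h4 _ (hg1 0)) (h4 _ (hg1 1)) (h4 _ (hg1 2)) (h4 _ (hg1 3)) (h0 0) (h0 1)
      (h0 2) (h0 3) (h3 0 1 (by decide)) (h3 0 2 (by decide)) (h3 0 3 (by decide))
      (h3 1 2 (by decide)) (h3 1 3 (by decide)) (h3 2 3 (by decide))
  intro x y hy hle
  have hy1 : y ≠ 1 := by simpa [hZ] using hy
  have hx1 := ne_one_of_le hZ hy1 hle
  obtain ⟨i, hi⟩ := h5 x hx1
  obtain ⟨j, hj⟩ := h5 y hy1
  obtain rfl := h2 x i j hx1 x y le_rfl hle hi hj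
  exact eq_of_le_of_index_eq hle (hi.trans hj.symm)

theorem fg_of_suzuki (hZ : center G = ⊥) (hS : Lie.IsoSuzuki G) {a b c d : ℕ}
    (h4 : ∀ y : G, y ≠ 1 →
      (𝐂[y]).index = a ∨ (𝐂[y]).index = b ∨ (𝐂[y]).index = c ∨ (𝐂[y]).index = d) : FG G := by
  obtain ⟨F, _, _, m, hm, hF, ⟨e⟩⟩ := hS
  have h := CITC.spec_suzuki hm hF e
  have h1 : 8 ≤ 2 ^ (2 * m + 1) := Nat.pow_le_pow_right (n := 2) (i := 3) two_pos (by omega)
  have h2 := Sz.kPlus_mul_kMinus m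
  have h3 := Sz.coprime_kPlus_kMinus m
  obtain ⟨k, hk⟩ : ∃ k, 2 ^ (2 * m + 1) = 2 * k + 2 := ⟨2 ^ (2 * m) - 1, by
    have := Nat.one_le_two_pow (n := 2 * m); rw [pow_succ]; omega⟩
  have h5 : (2 * k + 1).Coprime (Sz.kPlus m * Sz.kMinus m) := by
    rw [h2, hk, show (2 * k + 2) ^ 2 + 1 = 2 + (2 * k + 3) * (2 * k + 1) by ring,
      Nat.coprime_add_mul_right_right]
    simp
  have h6 : (2 : ℕ).Coprime ((2 * k + 1) * (Sz.kPlus m * Sz.kMinus m)) := by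
    rw [h2, hk, Nat.coprime_two_left]
    exact (odd_two_mul_add_one k).mul ⟨2 * (k + 1) ^ 2, by ring⟩
  replace h6 := h6.pow_left 2
  simp only [Nat.coprime_mul_iff_right] at h5 h6
  have h7 : ∀ n, 1 < n → (∃ g : G, orderOf g = n) → ∃ g : G, g ≠ 1 ∧ orderOf g ∣ n := by
    rintro _ h1 ⟨g, rfl⟩
    exact ⟨g, fun e => by simp [e] at h1, dvd_rfl⟩
  rw [hk] at h h1
  refine fg_of_components hZ (n := ![2 ^ 2, 2 * k + 1, Sz.kPlus m, Sz.kMinus m]) (fun i j hij => ?_)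
    (fun g => ?_) (fun i => ?_) h4
  · fin_cases i <;> fin_cases j <;> first | exact absurd rfl hij | tauto | (apply Nat.Coprime.symm; tauto)
  · rcases (h _).1 ⟨g, rfl⟩ with e | e | e | e
    exacts [⟨0, e⟩, ⟨1, e⟩, ⟨2, e⟩, ⟨3, e⟩]
  · fin_cases i
    exacts [h7 4 (by norm_num) ((h _).2 (.inl dvd_rfl)),
      h7 (2 * k + 1) (by omega) ((h _).2 (.inr (.inl dvd_rfl))),
      h7 _ (Sz.one_lt_kPlus m) ((h _).2 (.inr (.inr (.inl dvd_rfl)))),
      h7 _ (Sz.one_lt_kMinus hm) ((h _).2 (.inr (.inr (.inr dvd_rfl))))]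

theorem fg_of_psl3 (hZ : center G = ⊥) {F : Type*} [Field F] [Fintype F] (hF : Fintype.card F = 4)
    (e : G ≃* Matrix.ProjectiveSpecialLinearGroup (Fin 3) F) {a b c d : ℕ}
    (h4 : ∀ y : G, y ≠ 1 →
      (𝐂[y]).index = a ∨ (𝐂[y]).index = b ∨ (𝐂[y]).index = c ∨ (𝐂[y]).index = d) : FG G := by
  have : CharP F 2 := charP_of_card_eq_prime_pow (p := 2) (f := 2) (by simpa using hF)
  have h := Agent.S2476.result (F := F) 2
  rw [← Spec.range_orderOf_congr e, hF] at h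
  have h7 : ∀ n, 1 < n → (∃ g : G, orderOf g = n) → ∃ g : G, g ≠ 1 ∧ orderOf g ∣ n := by
    rintro _ h1 ⟨g, rfl⟩
    exact ⟨g, fun e => by simp [e] at h1, dvd_rfl⟩
  refine fg_of_components hZ (n := ![7, 5, 3, 4]) (by unfold Pairwise; decide) (fun g => ?_) (fun i => ?_) h4
  · rcases h.le ⟨g, rfl⟩ with e | e | e | e | e
    exacts [⟨0, e⟩, ⟨1, e⟩, ⟨2, e⟩, ⟨3, e.trans (by decide)⟩, ⟨3, e.2⟩]
  · fin_cases i <;> exact h7 _ (by decide) (h.ge (by simp))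

theorem not_four_A7 (e : G ≃* alternatingGroup (Fin 7)) {a b c d : ℕ}
    (h4 : ∀ y : G, y ≠ 1 →
      (𝐂[y]).index = a ∨ (𝐂[y]).index = b ∨ (𝐂[y]).index = c ∨ (𝐂[y]).index = d) : False := by
  replace h4 := fun (y : alternatingGroup (Fin 7)) (hy : y ≠ 1) => h4 (e.symm y) (by simpa using hy)
  simp only [index_cen_equiv] at h4
  obtain ⟨t, s, w, ht, hs, hw, h1, h2⟩ := exists_A7
  have hc : Nat.card (alternatingGroup (Fin 7)) = 2520 := by
    rw [nat_card_alternatingGroup]; simp [Nat.factorial]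
  have : Fact (Nat.Prime 5) := ⟨by norm_num⟩
  have : Fact (Nat.Prime 7) := ⟨by norm_num⟩
  obtain ⟨u, hu⟩ := exists_prime_orderOf_dvd_card' (G := alternatingGroup (Fin 7)) 5 (by rw [hc]; norm_num)
  obtain ⟨v, hv⟩ := exists_prime_orderOf_dvd_card' (G := alternatingGroup (Fin 7)) 7 (by rw [hc]; norm_num)
  have h3 : ∀ g : alternatingGroup (Fin 7), ∃ i, orderOf g ∣ ![12, 5, 7] i := fun g => by
    have := spec_A7 g
    generalize orderOf g = n at this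
    revert n
    decide
  have h5 : ∀ {x : alternatingGroup (Fin 7)} {i : Fin 3}, x ≠ 1 → orderOf x ∣ ![12, 5, 7] i →
      ∀ {y z : alternatingGroup (Fin 7)} {r}, r.Prime → orderOf z = r → z ∈ 𝐂[y] →
        ¬ r ∣ ![12, 5, 7] i → (𝐂[y]).index ≠ (𝐂[x]).index := fun hx hi _ _ _ hr hz hy h e =>
    h (dvd_of_components (by unfold Pairwise; decide) h3 hx hi hr
      (card_cen_eq e ▸ hz ▸ Subgroup.orderOf_dvd_natCard _ hy))
  have hu1 : u ≠ 1 := by rintro rfl; simp at hu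
  have hv1 : v ≠ 1 := by rintro rfl; simp at hv
  have ht1 : t ≠ 1 := by rintro rfl; simp at ht
  have h6 : ∀ {y}, 𝐂[y] ≤ 𝐂[t] → (𝐂[y]).index ≠ (𝐂[u]).index ∧ (𝐂[y]).index ≠ (𝐂[v]).index :=
    fun hy => ⟨h5 (i := 1) hu1 hu.dvd Nat.prime_two ht (mem_cen_comm.1 (hy (self_mem_cen _))) (by decide),
      h5 (i := 2) hv1 hv.dvd Nat.prime_two ht (mem_cen_comm.1 (hy (self_mem_cen _))) (by decide)⟩
  have h7 := h5 (i := 2) hv1 hv.dvd (by norm_num) hu (self_mem_cen u) (by decide)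
  have h8 : (𝐂[w]).index ≠ (𝐂[s]).index := fun e =>
    h1 (card_cen_eq e ▸ h2.trans (Subgroup.orderOf_dvd_natCard _ (self_mem_cen w)))
  have hZ : ∀ {y}, 𝐂[y] < 𝐂[t] → y ≠ 1 := by
    rintro _ hy rfl
    exact hy.not_ge (le_top.trans (cen_eq_top_iff.2 (one_mem _)).ge)
  exact pigeon (h4 w (hZ hw)) (h4 s (hZ hs)) (h4 t ht1) (h4 u hu1) (h4 v hv1) h8 (index_ne_of_lt hw)
    (h6 hw.le).1 (h6 hw.le).2 (index_ne_of_lt hs) (h6 hs.le).1 (h6 hs.le).2 (h6 le_rfl).1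
    (h6 le_rfl).2 h7

variable [IsSimpleGroup G] (hG : ¬ IsMulCommutative G)
include hG

theorem psl2_of_fg (hF : FG G) : ∃ (F : Type) (_ : Field F) (_ : Fintype F), 3 < Fintype.card F ∧
    Nonempty (G ≃* Matrix.ProjectiveSpecialLinearGroup (Fin 2) F) := by
  have hZ := center_eq_bot hG
  obtain ⟨F, _, _, h4, h5⟩ := hF.classify (CL.PSL2E.not_solvable_of_simple hG)
  let e₀ : G ≃* G ⧸ center G :=
    ((QuotientGroup.quotientMulEquivOfEq hZ).trans QuotientGroup.quotientBot).symm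
  rcases h5 with ⟨⟨e⟩⟩ | ⟨ho, ⟨e⟩⟩ <;> replace e := e₀.trans e
  · exact ⟨F, _, _, h4, ⟨e⟩⟩
  · refine (not_fg_pgl2 h4 ho (eq_bot_iff.2 fun y hy => ?_) (hF.of_equiv e)).elim
    obtain ⟨y, rfl⟩ := e.surjective y
    rw [← index_cen_eq_one_iff, index_cen_equiv, index_cen_eq_one_iff, hZ, mem_bot] at hy
    simp [hy]

theorem exists_not_dvd_index {x : G} {p : ℕ} (hp : p.Prime) (hd : p ∣ (𝐂[x]).index) :
    ∃ y : G, y ≠ 1 ∧ ¬ p ∣ (𝐂[y]).index :=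
  let ⟨y, h1, _, h2⟩ := exists_not_dvd hp (hd.trans (index_dvd_card _))
  ⟨y, h1, h2⟩

theorem list_of_not_dvd {x y : G} (hx : x ≠ 1) (hy : y ≠ 1)
    (hco : (𝐂[x]).index.Coprime (𝐂[y]).index) {c d : ℕ}
    (h : ∀ g : G, g ≠ 1 → (𝐂[g]).index = (𝐂[x]).index ∨ (𝐂[g]).index = (𝐂[y]).index ∨
      (𝐂[g]).index = c ∨ (𝐂[g]).index = d) (hc : (𝐂[x]).index ∣ c) (hd : (𝐂[x]).index ∣ d)
    (hb : ¬ (𝐂[y]).index ∣ c) :
    (∃ (F : Type) (_ : Field F) (_ : Fintype F), 3 < Fintype.card F ∧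
        Nonempty (G ≃* Matrix.ProjectiveSpecialLinearGroup (Fin 2) F)) ∨
      Lie.IsoSuzuki G ∨ Nonempty (G ≃* ↥(alternatingGroup (Fin 7))) ∨
      (∃ (F : Type) (_ : Field F) (_ : Fintype F), Fintype.card F = 4 ∧
        Nonempty (G ≃* Matrix.ProjectiveSpecialLinearGroup (Fin 3) F)) := by
  have hZ := center_eq_bot hG
  have hZ' : ∀ {y : G}, y ∉ center G ↔ y ≠ 1 := by simp [hZ]
  have hxy : ¬ (𝐂[x]).index ∣ (𝐂[y]).index := fun e =>
    index_ne_pow hG hx Nat.prime_two 0 (Nat.eq_one_of_dvd_coprimes hco dvd_rfl e).dvd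
  have hyx : ¬ (𝐂[y]).index ∣ (𝐂[x]).index := fun e =>
    index_ne_pow hG hy Nat.prime_two 0 (Nat.eq_one_of_dvd_coprimes hco e dvd_rfl).dvd
  have h1 : ∀ g : G, g ≠ 1 → (𝐂[g]).index ∣ (𝐂[y]).index → (𝐂[g]).index = (𝐂[y]).index :=
    fun g hg e => by
      rcases h g hg with e' | e' | e' | e' <;> rw [e'] at e
      exacts [(hxy e).elim, e', (hxy (hc.trans e)).elim, (hxy (hd.trans e)).elim]
  have h2 : ∀ g : G, g ≠ 1 → (𝐂[y]).index ∣ (𝐂[g]).index →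
      (𝐂[g]).index = (𝐂[y]).index ∨ (𝐂[g]).index = d := fun g hg e => by
    rcases h g hg with e' | e' | e' | e' <;> rw [e'] at e
    exacts [(hyx e).elim, .inl e', (hb e).elim, .inr e']
  refine list_of_free hG hx hy hco (cen_eq_of_coprime hG hx hy hco (fun g hg => by_contra fun hne => ?_)
    fun g hg hle => (eq_of_le_of_index_eq hle (h1 g hg (index_dvd_of_le hle)).symm).symm) h hc hd
  have h3 := (h2 g (ne_one_of_le hZ hy hg) (index_dvd_of_le hg)).resolve_left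
    (index_ne_of_lt (hg.lt_of_ne hne))
  obtain ⟨-, u, k, hu, hk⟩ := relIndex_eq_pow hZ (hg.lt_of_ne hne) (hZ'.2 hy)
    (fun z hz e => h3 ▸ h2 z (hZ'.1 hz) e) fun z hz => h1 z (hZ'.1 hz)
  rw [← h3, ← relIndex_mul_index hg, hk] at hd
  exact index_ne_pow hG hx hu k (hco.dvd_of_dvd_mul_right hd)

theorem psl2_of_four {a b c d : ℕ} (h4 : ∀ y : G, y ≠ 1 →
      (𝐂[y]).index = a ∨ (𝐂[y]).index = b ∨ (𝐂[y]).index = c ∨ (𝐂[y]).index = d) :
    ∃ (F : Type) (_ : Field F) (_ : Fintype F), 3 < Fintype.card F ∧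
      Nonempty (G ≃* Matrix.ProjectiveSpecialLinearGroup (Fin 2) F) := by
  have hZ := center_eq_bot hG
  suffices h : (∃ (F : Type) (_ : Field F) (_ : Fintype F), 3 < Fintype.card F ∧
        Nonempty (G ≃* Matrix.ProjectiveSpecialLinearGroup (Fin 2) F)) ∨
      Lie.IsoSuzuki G ∨ Nonempty (G ≃* ↥(alternatingGroup (Fin 7))) ∨
      (∃ (F : Type) (_ : Field F) (_ : Fintype F), Fintype.card F = 4 ∧
        Nonempty (G ≃* Matrix.ProjectiveSpecialLinearGroup (Fin 3) F)) by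
    rcases h with h | h | ⟨⟨e⟩⟩ | ⟨F, _, _, hF, ⟨e⟩⟩
    exacts [h, psl2_of_fg hG (fg_of_suzuki hZ h h4), (not_four_A7 e h4).elim,
      psl2_of_fg hG (fg_of_psl3 hZ hF e h4)]
  by_cases hD : DH G
  · refine (hD.simple hG fun s z w t hz ht hs hw => by_contra fun hne => ?_).imp_right (.imp_right .inr)
    have hz1 : z ≠ 1 := by
      rintro rfl
      rw [cen_eq_top_iff.2 (one_mem _)] at hz
      have := (hz.of_equiv topEquiv).isNilpotent
      exact CL.PSL2E.not_solvable_of_simple hG inferInstance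
    obtain ⟨p, hp, hp2, hd⟩ := exists_prime_dvd_index hG ht 2
    obtain ⟨y, hy1, hy⟩ := exists_not_dvd_index hG hp hd
    have h1 : p ∣ (𝐂[z]).index := by
      obtain ⟨k, hk⟩ := hz.exists_card_eq
      refine (hp.dvd_mul.1 (card_mul_index 𝐂[z] ▸ hd.trans (index_dvd_card _))).resolve_left fun e => ?_
      exact hp2 ((Nat.prime_dvd_prime_iff_eq hp Nat.prime_two).1 (hp.dvd_of_dvd_pow (hk ▸ e)))
    have h2 : ∀ {g : G}, p ∣ (𝐂[g]).index → (𝐂[y]).index ≠ (𝐂[g]).index := fun h e => hy (e ▸ h)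
    have h3 : (𝐂[z]).index ≠ (𝐂[t]).index := fun e => hne
      ((hD.loc ht hw s (e ▸ index_dvd_of_le hs.le)).resolve_left (e ▸ index_ne_of_lt hs))
    have h5 : (𝐂[s]).index ≠ (𝐂[t]).index := fun e =>
      h3 (hD.head hw hz1 (e ▸ index_dvd_of_le hs.le))
    have h6 : (𝐂[w]).index ≠ (𝐂[z]).index := fun e =>
      h3 (hD.head hs ht (e ▸ index_dvd_of_le hw.le)).symm
    exact pigeon (h4 y hy1) (h4 s (ne_one_of_le hZ hz1 hs.le)) (h4 w (ne_one_of_le hZ ht hw.le))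
      (h4 z hz1) (h4 t ht) (h2 (h1.trans (index_dvd_of_le hs.le)))
      (h2 (hd.trans (index_dvd_of_le hw.le))) (h2 h1) (h2 hd) hne (index_ne_of_lt hs) h5 h6
      (index_ne_of_lt hw) h3
  simp only [DH, not_forall, not_or] at hD
  obtain ⟨x, u, v, hx, hu, hv, h1, h2, h3⟩ := hD
  have h0 : ∀ {g : G}, (𝐂[x]).index ∣ (𝐂[g]).index → g ≠ 1 := by
    rintro _ h rfl
    exact index_ne_pow hG hx Nat.prime_two 0 (h.trans index_cen_one.dvd)
  have h5 : ∀ p : ℕ, p ∣ (𝐂[x]).index → ∀ y : G, y ≠ 1 → ¬ p ∣ (𝐂[y]).index → ∀ g : G, g ≠ 1 →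
      (𝐂[g]).index = (𝐂[x]).index ∨ (𝐂[g]).index = (𝐂[y]).index ∨
      (𝐂[g]).index = (𝐂[u]).index ∨ (𝐂[g]).index = (𝐂[v]).index := fun p hd y hy1 hy g hg => by
    have h6 : ∀ {g : G}, p ∣ (𝐂[g]).index → (𝐂[y]).index ≠ (𝐂[g]).index := fun h e => hy (e ▸ h)
    by_contra! h7
    exact pigeon (h4 g hg) (h4 y hy1) (h4 u (h0 hu)) (h4 v (h0 hv)) (h4 x hx) h7.2.1 h7.2.2.1 h7.2.2.2
      h7.1 (h6 (hd.trans hu)) (h6 (hd.trans hv)) (h6 hd) h3 h1 h2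
  obtain ⟨p, hp, -, hd⟩ := exists_prime_dvd_index hG hx 0
  obtain ⟨y, hy1, hy⟩ := exists_not_dvd_index hG hp hd
  replace h5 := h5 p hd y hy1 hy
  have hco : (𝐂[x]).index.Coprime (𝐂[y]).index := Nat.coprime_of_dvd fun q hq hqx hqy => by
    obtain ⟨z, hz1, hz⟩ := exists_not_dvd_index hG hq hqx
    rcases h5 z hz1 with e | e | e | e <;> rw [e] at hz
    exacts [hz hqx, hz hqy, hz (hqx.trans hu), hz (hqx.trans hv)]
  have h6 : x * y ≠ 1 := fun e => not_commute_of_coprime hG hx hy1 hco (by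
    rw [eq_inv_of_mul_eq_one_left e]; simp)
  rcases h5 _ h6 with e | e | e | e
  · refine (index_mul_ne hG hy1 hx hco.symm ?_).elim
    rw [← e, show x * y = x * (y * x) * x⁻¹ by group, index_cen_conj]
  · exact (index_mul_ne hG hx hy1 hco e).elim
  · exact list_of_not_dvd hG hx hy1 hco h5 hu hv (e ▸ not_dvd_index_mul hG hx hy1 hco (e ▸ hu))
  · exact list_of_not_dvd hG hx hy1 hco (fun g hg => (h5 g hg).imp_right (.imp_right Or.symm)) hv hu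
      (e ▸ not_dvd_index_mul hG hx hy1 hco (e ▸ hv))

end CL.Ito
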