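import Mathlib
import Cfsg.Agent.INV.EltP
import Cfsg.Agent.PERM.ZassFeit
import Cfsg.Agent.CLAS.DicksonSub

/-!
# Recognition of `PSL₂(q)` from its order and strongly self-centralizing Sylow `p`-subgroups
-/

set_option autoImplicit false

namespace CL.Ito

open Subgroup Cfsg CL.Zass MulAction

variable {G : Type*} [Group G] [Finite G] {p : ℕ} [hp : Fact p.Prime]

theorem card_sylow_of_TI (hTI : ∀ P R : Sylow p G, R ≠ P → (P : Subgroup G) ⊓ R = ⊥)
    (hC : ∀ P : Sylow p G, ∀ x ∈ (P : Subgroup G), x ≠ 1 → ∀ g : G, g * x = x * g →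
      g ∈ (P : Subgroup G)) (P : Sylow p G) {q d : ℕ} (hP : Nat.card P = q) (hq : 1 < q)
    (hd : 0 < d) (hd2 : d ≤ 2) (hG : d * Nat.card G = q * (q ^ 2 - 1)) :
    Nat.card (Sylow p G) = q + 1 := by
  obtain ⟨m, h1, h2⟩ : ∃ m, m ∣ Nat.card P - 1 ∧
      Nat.card G = Nat.card (Sylow p G) * (Nat.card P * m) := by
    let N := normalizer ((P : Subgroup G) : Set G)
    let Q := P.subtype (N := N) le_normalizer
    have : (Q : Subgroup N).Normal := normal_in_normalizer
    obtain ⟨H, hH⟩ := exists_right_complement'_of_coprime Q.card_coprime_index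
    have hc : Nat.card Q = Nat.card P := Nat.card_congr (subgroupOfEquivOfLe le_normalizer).toEquiv
    refine ⟨Nat.card H, ?_, ?_⟩
    · rw [← card_map_of_injective (K := H) N.subtype_injective]
      refine CL.BG.regular_norm_dvd_pred (map_subtype_le H) ?_
      rintro _ ⟨x, hx, rfl⟩ h1
      refine eq_bot_iff.2 fun y hy => ?_
      by_contra h2
      have h3 := hC P y hy.1 h2 x (mem_centralizer_singleton_iff.1 hy.2).symm
      exact h1 (congrArg Subtype.val (mem_bot.1 (hH.disjoint.le_bot ⟨h3, hx⟩)))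
    · rw [← hc, hH.card_mul_card, P.card_eq_index_normalizer]
      exact N.index_mul_card.symm
  have h3 := CL.Small.card_sylow_modEq_of_TI P (hTI P)
  rw [hP] at h1 h2 h3
  obtain ⟨k, hk⟩ := (Nat.modEq_iff_dvd' Nat.card_pos).1 h3.symm
  have h4 : 0 < Nat.card (Sylow p G) := Nat.card_pos
  obtain ⟨r, rfl⟩ : ∃ r, q = r + 1 := ⟨q - 1, by omega⟩
  have h5 : m ≤ r := Nat.le_of_dvd (by omega) h1
  have h6 : Nat.card (Sylow p G) = (r + 1) * k + 1 := by omega
  rw [h2, h6, show (r + 1) ^ 2 - 1 = r * (r + 2) from Nat.sub_eq_of_eq_add (by ring)] at hG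
  have h7 : ((r + 1) * k + 1) * (d * m) = r * (r + 2) :=
    Nat.eq_of_mul_eq_mul_left (show 0 < r + 1 by omega) (by linear_combination hG)
  have h8 : r + 1 ∣ d * m + 1 := by
    have : d * m + 1 + (r + 1) * (k * (d * m)) = (r + 1) * (r + 1) := by linear_combination h7
    exact (Nat.dvd_add_left (Dvd.intro _ rfl)).1 (this ▸ Dvd.intro _ rfl)
  obtain ⟨j, hj⟩ := h8
  have h9 : d * m ≤ 2 * r := Nat.mul_le_mul hd2 h5
  obtain rfl : j = 1 := by
    rcases j with _ | _ | j
    · omega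
    · rfl
    · nlinarith
  have h10 : d * m = r := by omega
  rw [h10, mul_comm r] at h7
  rw [h6, Nat.eq_of_mul_eq_mul_right (by omega) h7]

theorem no_regular (P : Sylow p G)
    (hC : ∀ x ∈ (P : Subgroup G), x ≠ 1 → ∀ g : G, g * x = x * g → g ∈ (P : Subgroup G)) {q r : ℕ}
    (hP : Nat.card P = q) (hq : Odd q) (hr : r.Prime) (hr2 : r ≠ 2) (hrq : ¬ r ∣ q)
    (hrG : r ∣ Nat.card G) (h2r : ∀ g : G, orderOf g ≠ 2 * r)
    (N : Subgroup G) [N.Normal] (hN : Nat.card N = q + 1) : False := by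
  obtain ⟨t, ht⟩ := exists_prime_orderOf_dvd_card' (G := N) 2 (hN ▸ hq.add_one.two_dvd)
  have ht1 : (t : G) ≠ 1 := fun e => by
    rw [show t = 1 from Subtype.ext e, orderOf_one] at ht; omega
  let f : P → {y : N // y ≠ 1} := fun u => ⟨⟨u * t * u⁻¹, ‹N.Normal›.conj_mem _ t.2 _⟩,
    fun e => ht1 (by simpa [mul_inv_eq_one] using congrArg Subtype.val e)⟩
  have hf : Function.Injective f := fun u v huv => by
    have h1 : (u : G) * t * (u : G)⁻¹ = v * t * (v : G)⁻¹ :=
      congrArg (fun y : {y : N // y ≠ 1} => (y.1 : G)) huv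
    by_contra hne
    have h2 := hC ((v : G)⁻¹ * u) (mul_mem (inv_mem v.2) u.2)
      (fun e => hne (Subtype.ext (inv_mul_eq_one.1 e).symm)) t (by
        calc _ = (v : G)⁻¹ * (v * t * (v : G)⁻¹) * u := by group
          _ = _ := by rw [← h1]; group)
    have h5 := orderOf_dvd_natCard (⟨t, h2⟩ : (P : Subgroup G))
    rw [orderOf_mk, orderOf_coe, ht, hP] at h5
    exact Nat.not_even_iff_odd.2 hq (even_iff_two_dvd.2 h5)
  have hc : Nat.card {y : N // y ≠ 1} = Nat.card P := by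
    have := Finite.card_option (α := {y : N // y ≠ 1})
    classical
    rw [Nat.card_congr (Equiv.optionSubtypeNe 1), hN] at this
    omega
  have hs := ((Nat.bijective_iff_injective_and_card f).2 ⟨hf, hc.symm⟩).2
  have h2 : ∀ y ∈ N, y ≠ 1 → orderOf y = 2 := fun y hy h1 => by
    obtain ⟨u, hu⟩ := hs ⟨⟨y, hy⟩, fun e => h1 (congrArg Subtype.val e)⟩
    rw [← show (u : G) * t * (u : G)⁻¹ = y from congrArg (fun y : {y : N // y ≠ 1} => (y.1 : G)) hu,
      ← ht, ← orderOf_coe]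
    exact (MulAut.conj (u : G)).orderOf_eq t
  have := Fact.mk hr
  obtain ⟨g, hg⟩ := exists_prime_orderOf_dvd_card' r hrG
  have h3 := CL.BG.regular_norm_dvd_pred (K := N) (R := zpowers g) le_normalizer_of_normal
    fun x hx hx1 => eq_bot_iff.2 fun y hy => by_contra fun hy1 => h2r (y * x) (by
      have hx' : orderOf x = r := ((Nat.dvd_prime hr).1
        (hg ▸ orderOf_dvd_of_mem_zpowers hx)).resolve_left (mt orderOf_eq_one_iff.1 hx1)
      rw [Commute.orderOf_mul_eq_mul_orderOf_of_coprime (mem_centralizer_singleton_iff.1 hy.2)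
        (by rw [h2 y hy.1 hy1, hx']; exact (Nat.coprime_primes Nat.prime_two hr).2 hr2.symm),
        h2 y hy.1 hy1, hx'])
  rw [Nat.card_zpowers, hg, hN] at h3
  exact hrq h3

theorem psl2_of_TI {F : Type*} [Field F] [Fintype F] [CharP F p] (hF : 3 < Fintype.card F)
    (hTI : ∀ P R : Sylow p G, R ≠ P → (P : Subgroup G) ⊓ R = ⊥)
    (hC : ∀ P : Sylow p G, ∀ x ∈ (P : Subgroup G), x ≠ 1 → ∀ g : G, g * x = x * g →
      g ∈ (P : Subgroup G)) (hc : ∀ P : Sylow p G, Nat.card P = Fintype.card F)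
    (hG : Nat.gcd 2 (Fintype.card F - 1) * Nat.card G = Fintype.card F * (Fintype.card F ^ 2 - 1))
    (hr : Odd (Fintype.card F) → ∃ r : ℕ, r.Prime ∧ r ≠ 2 ∧ ¬ r ∣ Fintype.card F ∧
      r ∣ Nat.card G ∧ ∀ g : G, orderOf g ≠ 2 * r) :
    Nonempty (G ≃* Matrix.ProjectiveSpecialLinearGroup (Fin 2) F) := by
  obtain ⟨n, -, hn⟩ := FiniteField.card F p
  obtain ⟨P⟩ : Nonempty (Sylow p G) := inferInstance
  have hs := card_sylow_of_TI hTI hC P (hc P) (by omega) (Nat.gcd_pos_of_pos_left _ two_pos)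
    (Nat.gcd_le_left _ two_pos) hG
  have hZ := CL.Small.z2_sylow hTI hC (fun R => by rw [hs, hc R])
    ((hn ▸ dvd_pow_self p n.ne_zero : p ∣ Fintype.card F).trans
      (hc P ▸ card_subgroup_dvd_card (P : Subgroup G)))
  rcases Nat.even_or_odd (Fintype.card F) with he | ho
  · rw [CL.PGL2.gcd_two_of_even he (by omega), one_mul] at hG
    exact CL.Small.psl_of_z2_even hZ hs he hG
  rw [CL.PGL2.gcd_two_of_odd ho] at hG
  obtain ⟨b, hb⟩ := hZ.exists_ne P
  have hd : 2 * Nat.card (St G P b) = Fintype.card F - 1 := by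
    have h3 := CL.Small.card_eq_of_z2 hZ hb.symm
    rw [hs] at h3
    rw [h3, show Fintype.card F ^ 2 - 1 = (Fintype.card F + 1) * (Fintype.card F - 1) by
      rw [← Nat.sq_sub_sq], Nat.add_sub_cancel] at hG
    exact Nat.eq_of_mul_eq_mul_left (show 0 < Fintype.card F * (Fintype.card F + 1) by positivity)
      (by linear_combination hG)
  have hZ' : IsZassenhausGroup G (Sylow p G) := by
    refine ⟨hZ.faithful, hZ.two_trans, fun g a b c h1 h2 h3 => hZ.sharp g h1 h3 h2, ?_,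
      fun N hN ht => ?_⟩
    · obtain ⟨⟨g, hg⟩, hg1⟩ := ne_bot_iff_exists_ne_one.1
        ((St G P b).one_lt_card_iff_ne_bot.1 (by omega))
      exact ⟨g, fun e => hg1 (Subtype.ext e), P, b, hb.symm, hg.1, hg.2⟩
    · obtain ⟨r, h1, h2, h3, h4, h5⟩ := hr ho
      refine ⟨P, fun e => no_regular P (hC P) (hc P) ho h1 h2 h3 h4 h5 N ?_⟩
      rw [← hs, ← (stabilizer N P).index_mul_card, e, card_bot, mul_one, ← e,
        index_stabilizer_of_transitive]
  obtain ⟨K, hK⟩ := hZ.exists_ker P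
  rcases sharp_or_psl_of_comm hZ' hb.symm hK (hK.comm_of_card_le hZ hb.symm (by omega)) with
    h3 | ⟨-, K, _, _, h3, -, e⟩
  · omega
  · exact CL.Small.psl_transfer (by omega) e

end CL.Ito
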