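import Mathlib
import Cfsg.Agent.PERM.Ito6
import Cfsg.Agent.PERM.Ito7
import Cfsg.Agent.FUS.PSL2Dih
import Cfsg.Agent.S0088

/-!
# Groups with the class sizes of `PSL₂(q)`
-/

set_option autoImplicit false

namespace CL.Ito

open Subgroup Cfsg CL.CS
open scoped commutatorElement

variable {G : Type*} [Group G] [Finite G]

theorem cen_eq_of_free {x : G} (hx : x ∉ center G)
    (hup : ∀ y, y ∉ center G → (𝐂[x]).index ∣ (𝐂[y]).index → (𝐂[y]).index = (𝐂[x]).index)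
    (hdown : ∀ y, y ∉ center G → (𝐂[y]).index ∣ (𝐂[x]).index → (𝐂[y]).index = (𝐂[x]).index)
    {r w : ℕ} (hr : r.Prime) (hw : w.Prime) (hrw : r ≠ w) (hrd : r ∣ (center G).relIndex 𝐂[x])
    (hwd : w ∣ (center G).relIndex 𝐂[x]) {y : G} (hy : y ∈ 𝐂[x]) (hyZ : y ∉ center G) :
    𝐂[y] = 𝐂[x] := by
  have h0 : ∀ y, y ∉ center G → 𝐂[x] ≤ 𝐂[y] → 𝐂[y] = 𝐂[x] := fun y hy hle =>
    (eq_of_le_of_index_eq hle (hdown y hy (index_dvd_of_le hle)).symm).symm
  have key : ∀ (a : G) (t k : ℕ), t.Prime → a ^ t ^ k = 1 → a ∉ center G → 𝐂[a] = 𝐂[x] →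
      ∀ (b : G) (v j : ℕ), v.Prime → v ≠ t → b ^ v ^ j = 1 → b ∈ 𝐂[x] → 𝐂[x] ≤ 𝐂[b] := by
    intro a t k ht ha haZ hax b v j hv hvt hb hbx
    have h1 := coprime_of_pows ht hv hvt.symm ha hb
    have h2 := mem_cen'.1 (hax.ge hbx)
    have h3 := hup _ (mul_not_mem_center h2 h1 haZ)
    rw [cen_mul_of_coprime h2 h1, hax] at h3
    exact inf_eq_left.1 (eq_of_le_of_index_eq inf_le_left (h3 (index_dvd_of_le inf_le_left)))
  obtain ⟨a, ha, haZ, t, k, ht, hk⟩ := exists_primePow hx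
  have hax := h0 a haZ (cen_le_cen_of_mem_zpowers ha)
  obtain ⟨v, hv, hvt, hvd⟩ : ∃ v : ℕ, v.Prime ∧ v ≠ t ∧ v ∣ (center G).relIndex 𝐂[x] := by
    by_cases e : r = t
    exacts [⟨w, hw, e ▸ hrw.symm, hwd⟩, ⟨r, hr, e, hrd⟩]
  have := Fact.mk hv
  obtain ⟨c, hcx, hcZ, j, hj⟩ := exists_pElement_not_mem_of_dvd_relIndex hvd
  have hc := h0 c hcZ (key a t k ht hk haZ hax c v j hv hvt hj hcx)
  refine h0 y hyZ (le_cen_iff.2 (mem_of_forall_primePow_mem fun b hb u i hu hi => le_cen_iff.1 ?_))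
  by_cases e : u = t
  · exact key c v j hv hj hcZ hc b u i hu (e ▸ hvt.symm) hi (zpowers_le.2 hy hb)
  · exact key a t k ht hk haZ hax b u i hu e hi (zpowers_le.2 hy hb)

omit [Finite G] in
theorem dvd_relIndex_center {r k : ℕ} (hr : r.Prime) {H : Subgroup G} {g : G} (hg : g ∈ H)
    (hZ : g ∉ center G) (hk : g ^ r ^ k ∈ center G) : r ∣ (center G).relIndex H :=
  by_contra fun h => hZ (mem_of_pow_mem_of_coprime ((hr.coprime_iff_not_dvd.2 h).pow_left k) hk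
    (pow_relIndex_mem _ hg))

variable (G) in
/-- the class sizes are those of `PSL₂(q)` -/
structure CSL (p q s n : ℕ) : Prop where
  prime : p.Prime
  pow : ∃ f, q = p ^ f
  hq : 1 < q
  hs : 1 < s
  hn : 2 < n
  cqs : q.Coprime s
  cqn : q.Coprime n
  csn : s.Coprime n
  size : ∀ x : G, x ∉ center G → (𝐂[x]).index = q * s ∨ (2 ∣ n ∧ (𝐂[x]).index = 2 * (q * s)) ∨
    (𝐂[x]).index = q * n ∨ (𝐂[x]).index = s * n
  exA : ∃ x : G, (𝐂[x]).index = q * s
  exB : ∃ x : G, (𝐂[x]).index = q * n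
  exC : ∃ x : G, (𝐂[x]).index = s * n

theorem not_dvd_aux {a b c : ℕ} (ha : 1 < a) (hn : 2 < c) (hab : a.Coprime b) (hac : a.Coprime c)
    (hbc : b.Coprime c) (hb : 1 < b) :
    ¬ a * c ∣ 2 * (a * b) ∧ ¬ a * b ∣ a * c ∧ ¬ a * c ∣ b * c := by
  refine ⟨fun h => ?_, fun h => ?_, fun h => ?_⟩
  · have := Nat.le_of_dvd two_pos ((Nat.Coprime.mul_left hac hbc).symm.dvd_of_dvd_mul_right
      ((dvd_mul_left c a).trans h))
    omega
  · exact hb.ne' (hbc.eq_one_of_dvd (Nat.dvd_of_mul_dvd_mul_left (by omega) h))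
  · exact ha.ne' (hab.eq_one_of_dvd (Nat.dvd_of_mul_dvd_mul_right (by omega) h))

namespace CSL

variable {p q s n : ℕ} (H : CSL G p q s n)
include H

omit [Finite G] in
theorem dvd : p ∣ q := by
  obtain ⟨f, rfl⟩ := H.pow
  exact dvd_pow_self p (by rintro rfl; exact H.hq.ne rfl)

omit [Finite G] in
theorem eq_of_dvd {r : ℕ} (hr : r.Prime) (h : r ∣ q) : r = p :=
  let ⟨_, hf⟩ := H.pow
  (Nat.prime_dvd_prime_iff_eq hr H.prime).1 (hr.dvd_of_dvd_pow (hf ▸ h))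

theorem cen_eq {x y : G} (hx : (𝐂[x]).index = q * n ∨ (𝐂[x]).index = s * n)
    {r w : ℕ} (hr : r.Prime) (hw : w.Prime) (hrw : r ≠ w) (hrd : r ∣ (center G).relIndex 𝐂[x])
    (hwd : w ∣ (center G).relIndex 𝐂[x]) (hy : y ∈ 𝐂[x]) (hyZ : y ∉ center G) :
    𝐂[y] = 𝐂[x] := by
  obtain ⟨h1, h2, h3⟩ := not_dvd_aux H.hq H.hn H.cqs H.cqn H.csn H.hs
  obtain ⟨h4, h5, h6⟩ := not_dvd_aux H.hs H.hn H.cqs.symm H.csn H.cqn H.hq
  rw [mul_comm s q] at h4 h5
  refine cen_eq_of_free (fun e => ?_) (fun z hz hd => ?_) (fun z hz hd => ?_) hr hw hrw hrd hwd hy hyZ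
  · rw [index_cen_eq_one_iff.2 e] at hx
    exact hx.elim (fun e => h1 (e ▸ one_dvd _)) fun e => h4 (e ▸ one_dvd _)
  · rcases hx with e | e <;> rcases H.size z hz with e' | ⟨-, e'⟩ | e' | e' <;> rw [e, e'] at hd ⊢
    exacts [(h1 (hd.mul_left 2)).elim, (h1 hd).elim, (h3 hd).elim, (h4 (hd.mul_left 2)).elim,
      (h4 hd).elim, (h6 hd).elim]
  · rcases hx with e | e <;> rcases H.size z hz with e' | ⟨-, e'⟩ | e' | e' <;> rw [e, e'] at hd ⊢
    exacts [(h2 hd).elim, (h2 ((dvd_mul_left _ 2).trans hd)).elim, (h6 hd).elim, (h5 hd).elim,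
      (h5 ((dvd_mul_left _ 2).trans hd)).elim, (h3 hd).elim]

theorem index_center : (center G).index = q * s * n := by
  obtain ⟨a, ha⟩ := H.exA
  obtain ⟨b, hb⟩ := H.exB
  obtain ⟨c, hc⟩ := H.exC
  obtain ⟨κ, hκ⟩ : q * s * n ∣ (center G).index :=
    (Nat.Coprime.mul_left H.cqn H.csn).mul_dvd_of_dvd_of_dvd (ha ▸ index_cen_dvd_index_center a)
      ((dvd_mul_left n q).trans (hb ▸ index_cen_dvd_index_center b))
  by_contra hne
  obtain ⟨r, hr, hd⟩ := Nat.exists_prime_and_dvd (n := κ) (by rintro rfl; exact hne (by simpa using hκ))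
  have := Fact.mk hr
  have key : ∀ x y : G, ¬ r ∣ (𝐂[x]).index → (𝐂[x]).index ≠ 1 → (𝐂[x]).index ≠ (𝐂[y]).index →
      ((𝐂[y]).index = q * n ∨ (𝐂[y]).index = s * n) → ∀ w m : ℕ, w.Prime → r ≠ w → w ∣ m →
      m * (𝐂[y]).index = q * s * n → False := by
    intro x y h1 h2 h3 h4 w m hw hrw hwm h5
    have h6 : (center G).relIndex 𝐂[y] = m * κ := Nat.eq_of_mul_eq_mul_right (index_cen_pos y) (by
      rw [relIndex_center_mul_index, hκ, ← h5]; ring)
    obtain ⟨z, hzy, hzZ, k, hk⟩ := exists_pElement_not_mem_of_dvd_relIndex (p := r)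
      (Z := center G) (H := 𝐂[y]) (h6 ▸ hd.mul_left m)
    obtain ⟨R, hR⟩ := exists_sylow_le_of_not_dvd_index h1
    obtain ⟨g, hg⟩ := exists_conj_mem_sylow R hk
    have h7 := fun {v} => H.cen_eq (y := v) h4 hr hw hrw (h6 ▸ hd.mul_left m) (h6 ▸ hwm.mul_right κ)
    have h8 : g⁻¹ * x * g⁻¹⁻¹ ∈ 𝐂[y] := by
      rw [← h7 hzy hzZ, mem_cen_comm, cen_conj]
      exact ⟨_, hR hg, by simp [mul_assoc]⟩
    refine h3 ?_
    rw [← h7 h8 fun e => h2 (index_cen_conj g⁻¹ x ▸ index_cen_eq_one_iff.2 e), index_cen_conj]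
  obtain ⟨h1, h2, h3⟩ := not_dvd_aux H.hq H.hn H.cqs H.cqn H.csn H.hs
  obtain ⟨h4, h5, h6⟩ := not_dvd_aux H.hs H.hn H.cqs.symm H.csn H.cqn H.hq
  rw [mul_comm s q] at h4 h5
  by_cases e : r ∣ q
  · have e1 : ¬ r ∣ s := fun h => hr.not_dvd_one (H.cqs ▸ Nat.dvd_gcd e h)
    obtain ⟨w, hw, hws⟩ := Nat.exists_prime_and_dvd H.hs.ne'
    exact key c b (hc ▸ hr.not_dvd_mul e1 fun h => hr.not_dvd_one (H.cqn ▸ Nat.dvd_gcd e h))
      (fun h => h4 (hc ▸ h ▸ one_dvd _)) (fun h => h6 (hc ▸ hb ▸ h.dvd)) (.inl hb) w s hw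
      (fun h => e1 (h ▸ hws)) hws (by rw [hb]; ring)
  have e0 : r ≠ p := fun h => e (h ▸ H.dvd)
  by_cases e1 : r ∣ s
  · exact key b c (hb ▸ hr.not_dvd_mul e fun h => hr.not_dvd_one (H.csn ▸ Nat.dvd_gcd e1 h))
      (fun h => h1 (hb ▸ h ▸ one_dvd _)) (fun h => h3 (hc ▸ hb ▸ h.dvd)) (.inr hc) p q H.prime
      e0 H.dvd (by rw [hc]; ring)
  · exact key a c (ha ▸ hr.not_dvd_mul e e1)
      (fun h => h2 (ha ▸ h ▸ one_dvd _)) (fun h => h5 (hc ▸ ha ▸ h.dvd)) (.inr hc) p q H.prime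
      e0 H.dvd (by rw [hc]; ring)

theorem relIndex_cases {x : G} (hx : x ∉ center G) : (center G).relIndex 𝐂[x] ∣ n ∨
    (center G).relIndex 𝐂[x] = s ∧ (𝐂[x]).index = q * n ∨
    (center G).relIndex 𝐂[x] = q ∧ (𝐂[x]).index = s * n := by
  have h := (relIndex_center_mul_index x).trans H.index_center
  have h0 := index_cen_pos x
  rcases H.size x hx with e | ⟨-, e⟩ | e | e <;> rw [e] at h h0
  · exact .inl (Nat.eq_of_mul_eq_mul_right h0 (by rw [h]; ring)).dvd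
  · exact .inl ⟨2, Nat.eq_of_mul_eq_mul_right (Nat.pos_of_mul_pos_left h0) (by linear_combination -h)⟩
  · exact .inr (.inl ⟨Nat.eq_of_mul_eq_mul_right h0 (by rw [h]; ring), e⟩)
  · exact .inr (.inr ⟨Nat.eq_of_mul_eq_mul_right h0 (by rw [h]; ring), e⟩)

theorem typeC {x : G} (hx : x ∉ center G) {k : ℕ} (hk : x ^ p ^ k ∈ center G) :
    (center G).relIndex 𝐂[x] = q ∧ (𝐂[x]).index = s * n := by
  have h := dvd_relIndex_center H.prime (self_mem_cen x) hx hk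
  rcases H.relIndex_cases hx with e | e | e
  · exact (H.prime.not_dvd_one (H.cqn ▸ Nat.dvd_gcd H.dvd (h.trans e))).elim
  · exact (H.prime.not_dvd_one (H.cqs ▸ Nat.dvd_gcd H.dvd (e.1 ▸ h))).elim
  · exact e

theorem not_dvd : ¬ p ∣ s * n := H.prime.not_dvd_mul
  (fun h => H.prime.not_dvd_one (H.cqs ▸ Nat.dvd_gcd H.dvd h))
  fun h => H.prime.not_dvd_one (H.cqn ▸ Nat.dvd_gcd H.dvd h)

theorem isPGroup_map {x : G} (hx : x ∉ center G) {k : ℕ} (hk : x ^ p ^ k ∈ center G) :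
    IsPGroup p ((𝐂[x]).map (QuotientGroup.mk' (center G))) :=
  let ⟨f, hf⟩ := H.pow
  IsPGroup.of_card (n := f) (by rw [← relIndex_ker, QuotientGroup.ker_mk', (H.typeC hx hk).1, hf])

omit H in
theorem dvd_of_commute {x y : G ⧸ center G} {r w k : ℕ} (hr : r.Prime) (hw : w.Prime) (hrw : r ≠ w)
    (hx1 : x ≠ 1) (hx : x ^ r ^ k = 1) (hy : orderOf y = w) (h : Commute x y) :
    ∃ a : G, a ∉ center G ∧ a ^ r ^ k ∈ center G ∧ w ∣ (center G).relIndex 𝐂[a] := by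
  obtain ⟨x, rfl⟩ := QuotientGroup.mk'_surjective _ x
  obtain ⟨y, rfl⟩ := QuotientGroup.mk'_surjective _ y
  have h0 : ∀ x, QuotientGroup.mk' (center G) x = 1 ↔ x ∈ center G := QuotientGroup.eq_one_iff
  have h1 : x ^ r ^ k ∈ center G := (h0 _).1 (by rwa [map_pow])
  have h2 : y ^ w ^ 1 ∈ center G := (h0 _).1 (by rw [map_pow, pow_one, ← hy, pow_orderOf_eq_one])
  refine ⟨x, mt (h0 x).2 hx1, h1, dvd_relIndex_center hw (mem_cen'.2 (commute_of_pow_mem_center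
    (((Nat.coprime_primes hr hw).2 hrw).pow k 1) h1 h2 ((h0 _).1 ?_))) (fun e => ?_) h2⟩
  · rwa [map_commutatorElement, commutatorElement_eq_one_iff_commute]
  · rw [(h0 y).2 e, orderOf_one] at hy
    exact hw.one_lt.ne hy

theorem isPGroup_cen {x : G ⧸ center G} (hx1 : x ≠ 1) {k : ℕ} (hx : x ^ p ^ k = 1) :
    IsPGroup p 𝐂[x] :=
  IsPGroup.of_card (Nat.eq_prime_pow_of_unique_prime_dvd Nat.card_pos.ne' fun {r} hr hd => by
    by_contra hne
    have := Fact.mk hr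
    obtain ⟨y, hy⟩ := exists_prime_orderOf_dvd_card' r hd
    obtain ⟨a, h1, h2, h3⟩ := dvd_of_commute H.prime hr (Ne.symm hne) hx1 hx
      ((orderOf_coe y).trans hy) (mem_cen'.1 y.2)
    exact hne (H.eq_of_dvd hr ((H.typeC h1 h2).1 ▸ h3)))

theorem pow_mem_center [Fact p.Prime] {P : Sylow p G} (hP : ¬ IsMulCommutative P) {w : G} {k : ℕ}
    (hk : w ^ p ^ k ∈ center G) : w ^ p ∈ center G := by
  classical
  by_contra hwp
  have hw : w ∉ center G := fun e => hwp (pow_mem e p)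
  have h0 : ∀ {a b : G} {i j : ℕ}, b ∉ center G → a ^ p ^ i ∈ center G → b ^ p ^ j ∈ center G →
      𝐂[a] ≤ 𝐂[b] → 𝐂[a] = 𝐂[b] := fun hb hi hj hle => eq_of_le_of_index_eq hle
    ((H.typeC (fun e => hb (cen_eq_top_iff.1 (eq_top_iff.2 (cen_eq_top_iff.2 e ▸ hle)))) hi).2.trans
      (H.typeC hb hj).2.symm)
  obtain ⟨R, hR⟩ := exists_sylow_le_of_not_dvd_index ((H.typeC hw hk).2 ▸ H.not_dvd)
  obtain ⟨a, b, hab⟩ : ∃ a b : R, a * b ≠ b * a := by
    by_contra! h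
    exact hP ⟨⟨fun a b => (P.equiv R).injective (by rw [map_mul, map_mul, h])⟩⟩
  obtain ⟨i, hi⟩ := pow_eq_one_of_mem_isPGroup R.2 a.2
  have h1 : ∃ j, (a : G) ^ p ^ j ∈ center G := ⟨i, hi ▸ one_mem _⟩
  obtain ⟨j, hj⟩ := Nat.exists_eq_succ_of_ne_zero (n := Nat.find h1) fun e =>
    hab (Subtype.ext (mem_center_iff.1 (show (a : G) ∈ center G by simpa [e] using Nat.find_spec h1)
      b).symm)
  have h2 : (a : G) ^ p ^ j ∉ center G := Nat.find_min h1 (by omega)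
  have h3 : ((a : G) ^ p ^ j) ^ p ^ 1 ∈ center G := by
    have := Nat.find_spec h1
    rw [pow_one]
    rwa [hj, pow_succ, pow_mul] at this
  have h4 := h0 h2 (Nat.find_spec h1) h3 (cen_le_cen_pow _ _)
  set y := (a : G) ^ p ^ j
  have h5 : Commute w y := mem_cen'.1 (hR (pow_mem a.2 _))
  have h6 : (w ^ p) ^ p ^ k ∈ center G := by rw [← pow_mul, mul_comm, pow_mul]; exact pow_mem hk _
  have h7 : 𝐂[w * y] ≤ 𝐂[w] := by
    refine (cen_le_cen_pow _ p).trans (le_of_eq ?_)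
    rw [h5.mul_pow, cen_mul_of_mem_center (w ^ p) (pow_one p ▸ h3)]
    exact (h0 hwp hk h6 (cen_le_cen_pow _ _)).symm
  have h8 : (w * y) ^ p ^ (k + 1) ∈ center G := by
    rw [h5.mul_pow]
    exact mul_mem (by rw [pow_succ, pow_mul]; exact pow_mem hk _)
      (by rw [pow_succ', pow_mul]; exact pow_mem (pow_one p ▸ h3) _)
  have h9 : (b : G) ∈ 𝐂[w * y] := h0 hw h8 hk h7 ▸ hR b.2
  refine hab (Subtype.ext (mem_cen'.1 (h4.ge (mem_cen_comm.1 ?_))))
  exact (mul_mem_cancel_left (mem_cen_comm.1 (hR b.2))).1 (mem_cen_comm.1 h9)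

theorem sylow_TI [Fact p.Prime] (P R : Sylow p (G ⧸ center G)) (hPR : R ≠ P) :
    (P : Subgroup (G ⧸ center G)) ⊓ R = ⊥ := by
  by_cases h : ∀ P : Sylow p G, IsMulCommutative P
  · have key : ∀ (P : Sylow p (G ⧸ center G)) (w : G), w ∉ center G →
        QuotientGroup.mk' _ w ∈ (P : Subgroup (G ⧸ center G)) →
        (𝐂[w]).map (QuotientGroup.mk' (center G)) = P := by
      intro P w hw hwP
      obtain ⟨P, rfl⟩ := Sylow.mapSurjective_surjective (QuotientGroup.mk'_surjective _) p P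
      obtain ⟨v, hv, e⟩ := hwP
      obtain ⟨z, hz, rfl⟩ := (QuotientGroup.mk'_eq_mk' _).1 e
      obtain ⟨k, hk⟩ := pow_eq_one_of_mem_isPGroup P.2 hv
      have := h P
      rw [cen_mul_of_mem_center _ hz]
      exact Sylow.is_maximal' _ (H.isPGroup_map (fun e => hw (mul_mem e hz)) (hk ▸ one_mem _))
        (map_mono fun u hu => mem_cen.2 (mul_comm_of_mem_isMulCommutative _ hu hv))
    refine eq_bot_iff.2 fun w hw => by_contra fun hw1 => hPR ?_
    obtain ⟨w, rfl⟩ := QuotientGroup.mk'_surjective _ w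
    have h1 : w ∉ center G := fun e => hw1 ((QuotientGroup.eq_one_iff w).2 e)
    exact Sylow.ext ((key R w h1 hw.2).symm.trans (key P w h1 hw.1))
  push Not at h
  obtain ⟨S, hS⟩ := h
  refine CL.EltP.EP.sylow_TI (fun g hg => ?_) P R hPR
  have h1 := orderOf_pow_orderOf_div (orderOf_pos g).ne' hg
  obtain ⟨k, hk⟩ := H.isPGroup_cen (x := g ^ (orderOf g / p)) (k := 1)
    (fun e => H.prime.one_lt.ne (by rw [← h1, e, orderOf_one]))
    (orderOf_dvd_iff_pow_eq_one.1 (by rw [h1, pow_one])) ⟨g, mem_cen.2 (Commute.self_pow g _)⟩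
  obtain ⟨g, rfl⟩ := QuotientGroup.mk'_surjective _ g
  refine Nat.dvd_antisymm (orderOf_dvd_of_pow_eq_one ?_) hg
  exact (QuotientGroup.eq_one_iff _).2 (H.pow_mem_center hS (k := k)
    ((QuotientGroup.eq_one_iff _).1 (congrArg Subtype.val hk)))

theorem mem_sylow [Fact p.Prime] (P : Sylow p (G ⧸ center G)) (x : G ⧸ center G)
    (hx : x ∈ (P : Subgroup (G ⧸ center G))) (h1 : x ≠ 1) (g : G ⧸ center G) (hg : g * x = x * g) :
    g ∈ (P : Subgroup (G ⧸ center G)) := by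
  obtain ⟨k, hk⟩ := pow_eq_one_of_mem_isPGroup P.2 hx
  obtain ⟨R, hR⟩ := (H.isPGroup_cen h1 hk).exists_le_sylow
  obtain rfl : R = P := by_contra fun hne =>
    h1 (mem_bot.1 (H.sylow_TI P R hne ▸ ⟨hx, hR (self_mem_cen x)⟩))
  exact hR (mem_cen.2 hg)

theorem card_sylow [Fact p.Prime] (P : Sylow p (G ⧸ center G)) : Nat.card P = q := by
  obtain ⟨f, hf⟩ := H.pow
  rw [P.card_eq_multiplicity, ← index, H.index_center, mul_assoc, Nat.factorization_mul
    (by have := H.hq; omega) (fun e => H.not_dvd (by rw [e]; exact dvd_zero p)), Finsupp.add_apply,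
    Nat.factorization_eq_zero_of_not_dvd H.not_dvd, hf, H.prime.factorization_pow]
  simp

theorem psl2 {F : Type*} [Field F] [Fintype F] [CharP F p] (hq : Fintype.card F = q) (h3 : 3 < q)
    (hc : Nat.gcd 2 (q - 1) * (q * s * n) = q * (q ^ 2 - 1)) (ho : Odd q → 2 ∣ n) :
    Nonempty (G ⧸ center G ≃* Matrix.ProjectiveSpecialLinearGroup (Fin 2) F) := by
  have := Fact.mk H.prime
  subst hq
  refine psl2_of_TI h3 H.sylow_TI H.mem_sylow H.card_sylow (by rw [← index, H.index_center, hc])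
    fun h => ?_
  obtain ⟨r, hr, hrs⟩ := Nat.exists_prime_and_dvd H.hs.ne'
  have h1 : ∀ {m}, m ∣ n → ¬ r ∣ m := fun hm e =>
    hr.not_dvd_one (H.csn ▸ Nat.dvd_gcd hrs (e.trans hm))
  have h2 : r ≠ 2 := fun e => h1 (ho h) e.dvd
  refine ⟨r, hr, h2, fun e => hr.not_dvd_one (H.cqs ▸ Nat.dvd_gcd e hrs),
    by rw [← index, H.index_center]; exact (hrs.mul_left _).mul_right _, fun g hg => ?_⟩
  have h4 : orderOf (g ^ r) = 2 := by
    rw [orderOf_pow_of_dvd hr.ne_zero (hg ▸ dvd_mul_left r 2), hg, Nat.mul_div_cancel _ hr.pos]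
  obtain ⟨a, h5, h6, h7⟩ := dvd_of_commute (x := g ^ r) (y := g ^ 2) (k := 1) Nat.prime_two hr h2.symm
    (fun e => by simp [e] at h4) (orderOf_dvd_iff_pow_eq_one.1 h4.dvd)
    (by rw [orderOf_pow_of_dvd two_ne_zero (hg ▸ dvd_mul_right 2 r), hg,
      Nat.mul_div_cancel_left _ two_pos]) (Commute.pow_pow_self g _ _)
  have h8 := dvd_relIndex_center Nat.prime_two (self_mem_cen a) h5 h6
  rcases H.relIndex_cases h5 with e | e | e
  · exact h1 e h7
  · exact Nat.prime_two.not_dvd_one (H.csn ▸ Nat.dvd_gcd (e.1 ▸ h8) (ho h))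
  · exact Nat.prime_two.not_dvd_one (H.cqn ▸ Nat.dvd_gcd (e.1 ▸ h8) (ho h))

theorem isMulCommutative [Fact p.Prime] (P : Sylow p G) : IsMulCommutative P := ⟨⟨fun a b => by
  by_cases ha : (a : G) ∈ center G
  · exact Subtype.ext (mem_center_iff.1 ha b).symm
  obtain ⟨k, hk⟩ := pow_eq_one_of_mem_isPGroup P.2 a.2
  obtain ⟨R, hR⟩ := (H.isPGroup_map ha (hk ▸ one_mem _)).exists_le_sylow
  have h1 : R = P.mapSurjective (QuotientGroup.mk'_surjective (center G)) := by_contra fun hne =>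
    ha ((QuotientGroup.eq_one_iff _).1 (mem_bot.1 (H.sylow_TI _ R hne ▸
      ⟨⟨a, a.2, rfl⟩, hR ⟨a, self_mem_cen _, rfl⟩⟩)))
  have h2 := eq_of_le_of_card_ge hR (by
    rw [H.card_sylow, ← relIndex_ker, QuotientGroup.ker_mk', (H.typeC ha (hk ▸ one_mem _)).1])
  obtain ⟨c, hc, e⟩ := h2.ge (h1.ge ⟨b, b.2, rfl⟩)
  obtain ⟨z, hz, e⟩ := (QuotientGroup.mk'_eq_mk' _).1 e
  exact Subtype.ext (mem_cen'.1 (e ▸ mul_mem hc (center_le_cen _ hz)))⟩⟩

theorem commutator_inf_center {y y' : G ⧸ center G} (hy : orderOf y = s)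
    (hy' : orderOf y' = n ∨ 2 * orderOf y' = n ∧
      ∀ z ∈ commutator G, z ∈ center G → z ^ 2 = 1 → z = 1) :
    commutator G ⊓ center G = ⊥ := by
  have := Fact.mk H.prime
  by_contra h
  obtain ⟨r, hr, hd⟩ := Nat.exists_prime_and_dvd (mt card_eq_one.1 h)
  have := Fact.mk hr
  obtain ⟨z, hz⟩ := exists_prime_orderOf_dvd_card' r hd
  rw [← orderOf_coe] at hz
  have h1 : ∀ (y : G ⧸ center G) (m : ℕ), m * orderOf y = q * s * n → r ∣ m := fun y m hm => by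
    have h1 := index_mul_card (zpowers y)
    rw [Nat.card_zpowers, ← index, H.index_center, ← hm,
      ← index_comap_of_surjective _ (QuotientGroup.mk'_surjective _)] at h1
    rw [← Nat.eq_of_mul_eq_mul_right (orderOf_pos y) h1, ← hz]
    exact orderOf_dvd_of_pow_eq_one (Tr.pow_index_eq_one_of_mem_center_commutator
      (H := (zpowers y).comap (QuotientGroup.mk' _)) ((MonoidHom.subgroupComap _ _).isMulCommutative_of_isCyclic_of_ker_le_center fun a ha =>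
        mem_center_iff.2 fun b => Subtype.ext (mem_center_iff.1
          ((QuotientGroup.eq_one_iff _).1 (congrArg Subtype.val ha)) b)) z.2.2 z.2.1)
  obtain ⟨P⟩ : Nonempty (Sylow p G) := inferInstance
  have h2 : ¬ r ∣ q := fun e => P.not_dvd_index ((hz.trans (H.eq_of_dvd hr e)).symm.dvd.trans
    (orderOf_dvd_of_pow_eq_one
      (Tr.pow_index_eq_one_of_mem_center_commutator (H.isMulCommutative P) z.2.2 z.2.1)))
  have h3 : ¬ r ∣ q * s := hr.not_dvd_mul h2 fun e => hr.not_dvd_one (H.csn ▸ Nat.dvd_gcd e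
    ((hr.dvd_mul.1 (h1 y (q * n) (by rw [hy]; ring))).resolve_left h2))
  rcases hy' with e | ⟨e, h4⟩
  · exact h3 (h1 y' _ (by rw [e]))
  · obtain rfl := (Nat.prime_dvd_prime_iff_eq hr Nat.prime_two).1
      ((hr.dvd_mul.1 (h1 y' (2 * (q * s)) (by rw [← e]; ring))).resolve_right h3)
    rw [h4 z z.2.1 z.2.2 (hz ▸ pow_orderOf_eq_one _), orderOf_one] at hz
    omega

end CSL

omit [Finite G] in
theorem pow_index_mem_commutator (H : Subgroup G) [H.FiniteIndex] {z : G} (hz : z ∈ center G)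
    (hz' : z ∈ commutator G) : ∃ h : z ^ H.index ∈ H, (⟨_, h⟩ : H) ∈ commutator H := by
  have h1 := MonoidHom.transfer_eq_pow (Abelianization.of (G := H)) z (fun k g _ => by
    rw [mul_assoc, ← mem_center_iff.mp (pow_mem hz k) g, inv_mul_cancel_left])
  have h2 : MonoidHom.transfer (Abelianization.of (G := H)) z = 1 :=
    Abelianization.commutator_subset_ker _ hz'
  rw [h2] at h1
  exact ⟨_, (QuotientGroup.eq_one_iff _).1 h1.symm⟩

omit [Finite G] in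
open DihedralGroup in
theorem eq_one_of_dihedral {m : ℕ} [NeZero m] (f : G →* DihedralGroup m) (hker : f.ker ≤ center G)
    (h : ∀ d g : G, f d * f d = 1 → Commute (f d) (f g) → Commute d g) {c : G}
    (hc : c ∈ commutator G) (hc1 : f c = 1) : c = 1 := by
  set D := (zpowers (r 1 : DihedralGroup m)).comap f
  have hD : ∀ d, d ∈ D ↔ ∃ i, f d = r i := fun d =>
    ⟨fun ⟨i, hi⟩ => ⟨i, by simpa using hi.symm⟩, fun ⟨i, hi⟩ => ⟨i.val, by simp [hi]⟩⟩
  have h0 : IsMulCommutative D :=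
    (MonoidHom.subgroupComap _ _).isMulCommutative_of_isCyclic_of_ker_le_center fun a ha =>
      mem_center_iff.2 fun b => Subtype.ext (mem_center_iff.1 (hker (congrArg Subtype.val ha)) b)
  have h1 : ∀ {a b}, a ∈ D → b ∈ D → a * b = b * a := mul_comm_of_mem_isMulCommutative D
  have hN : ∀ {d} g, d ∈ D → g * d * g⁻¹ ∈ D := fun {d} g hd => by
    obtain ⟨i, hi⟩ := (hD d).1 hd
    rw [hD, map_mul, map_mul, map_inv, hi]
    rcases f g with j | j <;> simp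
  obtain ⟨b, hb, hb'⟩ : ∃ b, (∀ g, g ∈ D ∨ g * b⁻¹ ∈ D) ∧ (b = 1 ∨ ∃ j, f b = sr j) := by
    by_cases e : ∀ g, g ∈ D
    · exact ⟨1, fun g => .inl (e g), .inl rfl⟩
    obtain ⟨b, hb⟩ := not_forall.1 e
    rw [hD] at hb
    rcases e' : f b with j | j
    · exact (hb ⟨j, e'⟩).elim
    refine ⟨b, fun g => ?_, .inr ⟨j, e'⟩⟩
    simp only [hD, map_mul, map_inv, e']
    rcases f g with i | i <;> simp
  have h2 : ∀ {d}, d ∈ D → ⁅d, b⁆ ∈ D := fun {d} hd => by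
    rw [commutatorElement_def, mul_assoc, mul_assoc, ← mul_assoc b]
    exact mul_mem hd (hN b (inv_mem hd))
  let K : Subgroup G :=
    { carrier := {c | ∃ d ∈ D, c = ⁅d, b⁆}
      one_mem' := ⟨1, one_mem _, by simp⟩
      mul_mem' := by
        rintro _ _ ⟨d, hd, rfl⟩ ⟨d', hd', rfl⟩
        refine ⟨d' * d, mul_mem hd' hd, ?_⟩
        calc ⁅d, b⁆ * ⁅d', b⁆ = d' * ⁅d, b⁆ * d'⁻¹ * ⁅d', b⁆ := by
              rw [h1 hd' (h2 hd), mul_inv_cancel_right]
          _ = _ := by simp only [commutatorElement_def]; group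
      inv_mem' := by
        rintro _ ⟨d, hd, rfl⟩
        refine ⟨d⁻¹, inv_mem hd, ?_⟩
        calc ⁅d, b⁆⁻¹ = d⁻¹ * ⁅d, b⁆⁻¹ * d := by
              rw [h1 (inv_mem hd) (inv_mem (h2 hd)), inv_mul_cancel_right]
          _ = _ := by simp only [commutatorElement_def]; group }
  have hK : K.Normal := ⟨by
    rintro _ ⟨d, hd, rfl⟩ g
    rcases hb g with e | e
    · exact ⟨d, hd, by rw [h1 e (h2 hd), mul_inv_cancel_right]⟩
    · refine ⟨_, hN b hd, ?_⟩
      calc g * ⁅d, b⁆ * g⁻¹ = g * b⁻¹ * ⁅b * d * b⁻¹, b⁆ * (g * b⁻¹)⁻¹ := by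
            simp only [commutatorElement_def]; group
        _ = _ := by rw [h1 e (h2 (hN b hd)), mul_inv_cancel_right]⟩
  have h3 : ∀ {d}, d ∈ D → Commute (QuotientGroup.mk' K d) (QuotientGroup.mk' K b) := fun hd => by
    rw [← commutatorElement_eq_one_iff_commute, ← map_commutatorElement]
    exact (QuotientGroup.eq_one_iff _).2 ⟨_, hd, rfl⟩
  have h4 : ∀ {d}, d ∈ D → ∀ g, Commute (QuotientGroup.mk' K d) (QuotientGroup.mk' K g) :=
    fun hd g => by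
      rcases hb g with e | e
      · exact Commute.map (h1 hd e) _
      · simpa using (Commute.map (h1 hd e) (QuotientGroup.mk' K)).mul_right (h3 hd)
  obtain ⟨d, hd, rfl⟩ : c ∈ K := commutator_le.2 (fun u _ v _ => by
    rw [← QuotientGroup.eq_one_iff, ← QuotientGroup.mk'_apply, map_commutatorElement,
      commutatorElement_eq_one_iff_commute]
    rcases hb u with e | e
    · exact h4 e v
    rcases hb v with e' | e'
    · exact (h4 e' u).symm
    have h5 := (h3 e').symm.mul_right (Commute.refl _)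
    rw [← map_mul, inv_mul_cancel_right] at h5
    have h6 := (h4 e v).mul_left h5
    rwa [← map_mul, inv_mul_cancel_right] at h6) hc
  rcases hb' with rfl | ⟨j, hj⟩
  · simp
  rw [map_commutatorElement, commutatorElement_eq_one_iff_commute] at hc1
  obtain ⟨i, hi⟩ := (hD d).1 hd
  refine commutatorElement_eq_one_iff_commute.2 (h d b ?_ hc1)
  have h5 := hc1.eq
  rw [hi, hj, r_mul_sr, sr_mul_r, sr.injEq] at h5
  rw [hi, r_mul_r, one_def, r.injEq]
  linear_combination -h5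

open CL.GL2 in
theorem card_cen_psl2 {F : Type*} [Field F] [Fintype F] (h2 : (2 : F) ≠ 0)
    {x : Matrix.ProjectiveSpecialLinearGroup (Fin 2) F} (hx : x ≠ 1) (hx2 : orderOf x ≠ 2) :
    Nat.card 𝐂[x] = Fintype.card F ∨ 2 * Nat.card 𝐂[x] = Fintype.card F + 1 ∨
      2 * Nat.card 𝐂[x] = Fintype.card F - 1 := by
  classical
  obtain ⟨g, rfl⟩ := pslMk_surjective x
  have h1 := card_map_pslMk (center_le_centSL (g : Matrix (Fin 2) (Fin 2) F))
  rw [← map_pcent, pcent_eq_centSL h2 (mt (orderOf_pslMk_eq_two_iff h2).2 hx2)]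
  by_cases hr : Reg g
  · rw [gcd_odd h2] at h1
    exact .inr (hr.cases.imp (h1.trans ·.2) (h1.trans ·.2))
  · rw [card_centSL_of_not_reg hr (mt pslMk_eq_one_iff.2 hx), gcd_odd h2] at h1
    exact .inl (by omega)

end CL.Ito
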