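import Mathlib
import Cfsg.Agent.PERM.Ito8
import Cfsg.Agent.PERM.SpecGL2
import Cfsg.Agent.FGS.CITStruct
import Cfsg.Agent.CLAS.OrthIso
import Cfsg.Agent.S2507
import Cfsg.Agent.S2508

/-!
# Groups with the class sizes of `PSL₂(q)`, conclusion
-/

set_option autoImplicit false

namespace CL.Ito

open Subgroup Cfsg CL.CS
open scoped commutatorElement MatrixGroups

variable {G : Type*} [Group G] [Finite G]

theorem csl_of_range {p q s n : ℕ} (hp : p.Prime) (hf : ∃ f, q = p ^ f) (hq : 1 < q) (hs : 1 < s)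
    (hn : 2 < n) (h1 : q.Coprime s) (h2 : q.Coprime n) (h3 : s.Coprime n)
    (h : ∀ t, t ∈ Set.range (fun g : G => (𝐂[g]).index) ↔
      t = 1 ∨ t = q * s ∨ (2 ∣ n ∧ t = 2 * (q * s)) ∨ t = q * n ∨ t = s * n) : CSL G p q s n :=
  ⟨hp, hf, hq, hs, hn, h1, h2, h3,
    fun x hx => ((h _).1 ⟨x, rfl⟩).resolve_left (mt index_cen_eq_one_iff.1 hx),
    (h _).2 (by simp), (h _).2 (by simp), (h _).2 (by simp)⟩

theorem exists_csl {F : Type*} [Field F] [Fintype F]
    (hq : (2 ∣ Fintype.card F ∧ 2 < Fintype.card F) ∨ (¬ 2 ∣ Fintype.card F ∧ 7 ≤ Fintype.card F))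
    (h : Set.range (fun g : G => (𝐂[g]).index) = Set.range fun g : PSL(2, F) => (𝐂[g]).index) :
    ∃ s n, CSL G (ringChar F) (Fintype.card F) s n ∧
      (2 ∣ Fintype.card F ∧ s + 1 = Fintype.card F ∧ n = Fintype.card F + 1 ∨
        ¬ 2 ∣ Fintype.card F ∧ (n + 1 = Fintype.card F ∧ 2 * s = Fintype.card F + 1 ∨
          n = Fintype.card F + 1 ∧ 2 * s + 1 = Fintype.card F)) := by
  obtain ⟨f, hp, hf⟩ := FiniteField.card F (ringChar F)
  have c1 : ∀ k : ℕ, (k + 1).Coprime k := fun k => by simp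
  have c2 : ∀ k : ℕ, (2 * k + 1).Coprime (4 * k) := fun k =>
    ((c1 (2 * k)).pow_right 2).coprime_dvd_right ⟨k, by ring⟩
  rcases hq with ⟨h2, h3⟩ | ⟨h2, h7⟩
  · rw [Agent.S2507.result h2 (by omega)] at h
    obtain ⟨k, hk⟩ : ∃ k, Fintype.card F = 2 * k + 2 := ⟨Fintype.card F / 2 - 1, by omega⟩
    refine ⟨2 * k + 1, 2 * k + 3, csl_of_range hp ⟨f, hf⟩ (by omega) (by omega) (by omega)
      (hk ▸ c1 _) (hk ▸ (c1 _).symm) ?_ fun t => ?_, .inl ⟨h2, by omega⟩⟩
    · rw [show 2 * k + 3 = 2 + (2 * k + 1) by ring]; simp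
    · rw [h, hk, show (2 * k + 2) ^ 2 = (2 * k + 1) * (2 * k + 3) + 1 by ring]
      simp only [Set.mem_insert_iff, Set.mem_singleton_iff, Nat.add_sub_cancel,
        show ¬ 2 ∣ 2 * k + 3 by omega, false_and, false_or]
      exact or_congr_right (or_congr_right or_comm)
  obtain ⟨h4, h5⟩ := Agent.S2508.result h2 h7
  rw [← h] at h4 h5
  rcases (show Fintype.card F % 4 = 1 ∨ Fintype.card F % 4 = 3 by omega) with e | e
  · obtain ⟨k, hk⟩ : ∃ k, Fintype.card F = 4 * k + 1 := ⟨Fintype.card F / 4, by omega⟩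
    refine ⟨2 * k + 1, 4 * k, csl_of_range hp ⟨f, hf⟩ (by omega) (by omega) (by omega)
      ?_ (hk ▸ c1 _) (c2 k) fun t => ?_, .inr ⟨h2, by omega⟩⟩
    · exact hk ▸ (c1 (4 * k + 1)).symm.coprime_dvd_right ⟨2, by ring⟩
    · rw [h4 e, hk, show (4 * k + 1) ^ 2 = 2 * ((2 * k + 1) * (4 * k)) + 1 by ring,
        show (4 * k + 1) * (4 * k + 1 + 1) = 2 * ((4 * k + 1) * (2 * k + 1)) by ring]
      simp only [Set.mem_insert_iff, Set.mem_singleton_iff, Nat.add_sub_cancel,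
        show 2 ∣ 4 * k by omega, true_and, Nat.mul_div_cancel_left _ two_pos]
      tauto
  · obtain ⟨k, hk⟩ : ∃ k, Fintype.card F = 4 * k + 3 := ⟨Fintype.card F / 4, by omega⟩
    refine ⟨2 * k + 1, 4 * k + 4, csl_of_range hp ⟨f, hf⟩ (by omega) (by omega) (by omega)
      ?_ (hk ▸ (c1 _).symm) ?_ fun t => ?_, .inr ⟨h2, by omega⟩⟩
    · exact hk ▸ (c1 (4 * k + 2)).coprime_dvd_right ⟨2, by ring⟩
    · exact ((c1 (2 * k + 1)).symm.pow_right 2).coprime_dvd_right ⟨k + 1, by ring⟩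
    · rw [h5 e, hk, show (4 * k + 3) ^ 2 = 2 * ((2 * k + 1) * (4 * k + 4)) + 1 by ring,
        show (4 * k + 3) * (4 * k + 3 - 1) = 2 * ((4 * k + 3) * (2 * k + 1)) by
          rw [show 4 * k + 3 - 1 = 4 * k + 2 from rfl]; ring]
      simp only [Set.mem_insert_iff, Set.mem_singleton_iff, Nat.add_sub_cancel,
        show 2 ∣ 4 * k + 4 by omega, true_and, Nat.mul_div_cancel_left _ two_pos]
      tauto

theorem CSL.psl2' {F : Type*} [Field F] [Fintype F] {s n : ℕ}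
    (H : CSL G (ringChar F) (Fintype.card F) s n)
    (h : 2 ∣ Fintype.card F ∧ s + 1 = Fintype.card F ∧ n = Fintype.card F + 1 ∨
        ¬ 2 ∣ Fintype.card F ∧ (n + 1 = Fintype.card F ∧ 2 * s = Fintype.card F + 1 ∨
          n = Fintype.card F + 1 ∧ 2 * s + 1 = Fintype.card F)) :
    Nonempty (G ⧸ center G ≃* PSL(2, F)) := by
  have h1 := H.hs
  have h2 := H.hn
  refine H.psl2 rfl (by omega) ?_ fun h3 => by have := Nat.odd_iff.1 h3; omega
  generalize Fintype.card F = q at *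
  rcases h with ⟨h3, rfl, rfl⟩ | ⟨h3, ⟨rfl, h4⟩ | ⟨rfl, rfl⟩⟩
  · rw [Nat.add_sub_cancel, (Nat.coprime_two_left.2 (Nat.odd_iff.2 (by omega))).gcd_eq_one,
      show (s + 1) ^ 2 = s * (s + 1 + 1) + 1 by ring, Nat.add_sub_cancel]
    ring
  · rw [Nat.add_sub_cancel, Nat.gcd_eq_left (by omega),
      show (n + 1) ^ 2 = (n + 1 + 1) * n + 1 by ring, Nat.add_sub_cancel, ← h4]
    ring
  · rw [Nat.add_sub_cancel, Nat.gcd_eq_left (by omega),
      show (2 * s + 1) ^ 2 = 2 * s * (2 * s + 1 + 1) + 1 by ring, Nat.add_sub_cancel]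
    ring

theorem CSL.cen_eq_comap {p q s n : ℕ} (H : CSL G p q s n) {L : Type*} [Group L] {φ : G →* L}
    (hφ : Function.Surjective φ) (hZ : center L = ⊥) (hk : ∀ g, φ g = 1 ↔ g ∈ center G)
    (h : Set.range (fun g : G => (𝐂[g]).index) = Set.range fun g : L => (𝐂[g]).index) {x : G}
    (hx : (𝐂[x]).index = q * s) : 𝐂[x] = (𝐂[φ x]).comap φ := by
  refine eq_of_le_of_index_eq (map_le_iff_le_comap.1 (map_cen_le φ x)) ?_
  rw [index_comap_of_surjective _ hφ, hx]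
  have h0 : 1 < q * s := one_lt_mul'' H.hq H.hs
  have h1 := index_cen_map_dvd hφ x
  obtain ⟨y, hy⟩ := h.ge ⟨φ x, rfl⟩
  obtain ⟨h2, -, -⟩ := not_dvd_aux H.hq H.hn H.cqs H.cqn H.csn H.hs
  obtain ⟨h3, -, -⟩ := not_dvd_aux H.hs H.hn H.cqs.symm H.csn H.cqn H.hq
  rw [mul_comm s q] at h3
  rw [hx] at h1
  simp only at hy
  rcases H.size y (fun e => h0.ne' (hx.symm.trans (index_cen_eq_one_iff.2 ((hk x).1 (mem_bot.1
    (hZ ▸ index_cen_eq_one_iff.1 (hy.symm.trans (index_cen_eq_one_iff.2 e)))))))) with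
    e | ⟨-, e⟩ | e | e <;> rw [hy] at e <;> rw [e] at h1 ⊢
  · have := Nat.le_of_dvd (by omega) h1
    omega
  · exact (h2 (h1.mul_left 2)).elim
  · exact (h3 (h1.mul_left 2)).elim

theorem CSL.eq_one_of_odd {F : Type*} [Field F] [Fintype F] {s n : ℕ}
    (H : CSL G (ringChar F) (Fintype.card F) s n) (ho : ¬ 2 ∣ Fintype.card F)
    (hn : n + 1 = Fintype.card F ∨ n = Fintype.card F + 1) (h3 : 4 ≤ Fintype.card F)
    {φ : G →* PSL(2, F)} (hφ : Function.Surjective φ) (hk : ∀ g, φ g = 1 ↔ g ∈ center G)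
    (hZ : center PSL(2, F) = ⊥)
    (h : Set.range (fun g : G => (𝐂[g]).index) = Set.range fun g : PSL(2, F) => (𝐂[g]).index)
    (z : G) (hz : z ∈ commutator G) (hz' : z ∈ center G) (hz2 : z ^ 2 = 1) : z = 1 := by
  have ho' : Odd (Fintype.card F) := Nat.odd_iff.2 (by omega)
  obtain ⟨x, hx⟩ := H.exA
  have h0 : 1 < Fintype.card F * s := one_lt_mul'' H.hq H.hs
  have h1 : orderOf (φ x) = 2 := by
    by_contra h1
    have h2 := card_cen_psl2 (fun e => ho (by
      have := (CharP.charP_iff_prime_eq_zero Nat.prime_two).2 e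
      obtain ⟨f, -, hf⟩ := FiniteField.card F 2
      exact hf ▸ dvd_pow_self 2 f.ne_zero))
      (fun e => h0.ne' (hx.symm.trans (index_cen_eq_one_iff.2 ((hk x).1 e)))) h1
    have h4 := index_mul_card 𝐂[φ x]
    rw [← index_comap_of_surjective _ hφ, ← H.cen_eq_comap hφ hZ hk h hx, hx,
      ← index_bot (G := PSL(2, F)), ← index_comap_of_surjective _ hφ, MonoidHom.comap_bot,
      show φ.ker = center G from ext hk, H.index_center] at h4
    have := Nat.eq_of_mul_eq_mul_left (by omega) h4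
    omega
  have h2 : ∀ d g, φ d * φ d = 1 → Commute (φ d) (φ g) → Commute d g := fun d g hd hdg => by
    by_cases e : φ d = 1
    · exact (mem_center_iff.1 ((hk d).1 e) g).symm
    obtain ⟨c, hc⟩ := isConj_iff.1
      (CITC.isConj_psl2_two _ _ h1 (orderOf_eq_prime (by rwa [sq]) e))
    obtain ⟨c, rfl⟩ := hφ c
    refine mem_cen'.1 ((H.cen_eq_comap hφ hZ hk h ?_).ge (mem_cen'.2 hdg))
    rw [← hx, ← index_cen_conj c x, ← cen_mul_of_mem_center (c * x * c⁻¹) ((hk ((c * x * c⁻¹)⁻¹ * d)).1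
      (by rw [map_mul, map_inv, map_mul, map_mul, map_inv, hc, inv_mul_cancel])),
      mul_inv_cancel_left]
  obtain ⟨S⟩ : Nonempty (Sylow 2 PSL(2, F)) := inferInstance
  obtain ⟨m, hm, -, ⟨ψ⟩⟩ := Fus.sylow_psl2_dihedral ho' S
  have := NeZero.mk hm
  obtain ⟨h4, h5⟩ := pow_index_mem_commutator ((S : Subgroup PSL(2, F)).comap φ) hz' hz
  have h6 : ∀ a, (ψ.toMonoidHom.comp (φ.subgroupComap S)) a = 1 ↔ (a : G) ∈ center G := fun a =>
    ψ.map_eq_one_iff.trans (Subtype.ext_iff.trans (hk a))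
  have h7 := congrArg Subtype.val (eq_one_of_dihedral (ψ.toMonoidHom.comp (φ.subgroupComap S))
    (fun a ha => mem_center_iff.2 fun b => Subtype.ext (mem_center_iff.1 ((h6 a).1 ha) b))
    (fun d g hd hdg => Subtype.ext (h2 d g ?_ ?_)) h5 ((h6 _).2 (pow_mem hz' _)))
  · refine orderOf_eq_one_iff.1 (Nat.eq_one_of_dvd_coprimes ?_ (orderOf_dvd_of_pow_eq_one hz2)
      (orderOf_dvd_of_pow_eq_one h7))
    rw [index_comap_of_surjective _ hφ]
    exact Nat.prime_two.coprime_iff_not_dvd.2 S.not_dvd_index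
  · rw [← map_mul] at hd ⊢
    exact (hk _).2 ((h6 _).1 hd)
  · exact congrArg Subtype.val (ψ.injective (by simpa using hdg.eq) :
      φ.subgroupComap S d * φ.subgroupComap S g = φ.subgroupComap S g * φ.subgroupComap S d)

theorem split_of_range {F : Type*} [Field F] [Fintype F]
    (hq : (2 ∣ Fintype.card F ∧ 2 < Fintype.card F) ∨ (¬ 2 ∣ Fintype.card F ∧ 7 ≤ Fintype.card F))
    (h : Set.range (fun g : G => (𝐂[g]).index) = Set.range fun g : PSL(2, F) => (𝐂[g]).index) :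
    commutator G ⊓ center G = ⊥ ∧ commutator G ⊔ center G = ⊤ ∧
      Nonempty (commutator G ≃* PSL(2, F)) := by
  obtain ⟨s, n, H, hsn⟩ := exists_csl hq h
  obtain ⟨e⟩ := H.psl2' hsn
  let φ : G →* PSL(2, F) := e.toMonoidHom.comp (QuotientGroup.mk' _)
  have hφ : Function.Surjective φ := e.surjective.comp (QuotientGroup.mk'_surjective _)
  have hk : ∀ g, φ g = 1 ↔ g ∈ center G := fun g =>
    e.map_eq_one_iff.trans (QuotientGroup.eq_one_iff g)
  have h4 : 4 ≤ Fintype.card F := by omega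
  have := CITC.isSimpleGroup_psl2 h4
  have h1 : commutator PSL(2, F) = ⊤ := by
    have := map_commutator (⊤ : Subgroup SL(2, F)) ⊤ (QuotientGroup.mk' (center _))
    rwa [← _root_.commutator_def, OrthE.commutator_SL_two (by rwa [Nat.card_eq_fintype_card]),
      map_top_of_surjective _ (QuotientGroup.mk'_surjective _), eq_comm] at this
  have hZ : center PSL(2, F) = ⊥ := (Subgroup.Normal.eq_bot_or_eq_top inferInstance).resolve_right
    fun e => top_ne_bot (h1.symm.trans (commutator_eq_bot_iff_le_centralizer.2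
      (by rw [coe_top, centralizer_univ, e])))
  have h2 : ∀ m, m ∣ (Fintype.card F - 1) / Nat.gcd (Fintype.card F - 1) 2 ∨
      m ∣ (Fintype.card F + 1) / Nat.gcd (Fintype.card F + 1) 2 →
      ∃ y : G ⧸ center G, orderOf y = m := fun m hm =>
    let ⟨y, hy⟩ := (Spec.spec_PSL2 (F := F)).ge (.inr hm)
    ⟨e.symm y, (e.symm.orderOf_eq y).trans hy⟩
  have h3 : commutator G ⊓ center G = ⊥ := by
    rcases hsn with ⟨h5, h6, h7⟩ | ⟨h5, h6⟩
    · rw [(Nat.coprime_two_right.2 (Nat.odd_iff.2 (by omega))).gcd_eq_one,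
        (Nat.coprime_two_right.2 (Nat.odd_iff.2 (by omega))).gcd_eq_one, Nat.div_one,
        Nat.div_one] at h2
      obtain ⟨y, hy⟩ := h2 s (.inl (by rw [← h6, Nat.add_sub_cancel]))
      obtain ⟨y', hy'⟩ := h2 n (.inr h7.dvd)
      exact H.commutator_inf_center hy (.inl hy')
    · rw [Nat.gcd_eq_right (by omega), Nat.gcd_eq_right (by omega)] at h2
      obtain ⟨y, hy⟩ := h2 s (h6.symm.imp (fun _ => Eq.dvd (by omega)) fun _ => Eq.dvd (by omega))
      obtain ⟨y', hy'⟩ := h2 (n / 2) (h6.imp (fun _ => Eq.dvd (by omega)) fun _ => Eq.dvd (by omega))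
      exact H.commutator_inf_center hy (y' := y') (.inr ⟨by omega,
        H.eq_one_of_odd h5 (h6.imp And.left And.left) h4 hφ hk hZ h⟩)
  have hmap : (commutator G).map φ = ⊤ := by
    rw [_root_.commutator_def, map_commutator, map_top_of_surjective φ hφ, ← _root_.commutator_def, h1]
  refine ⟨h3, ?_, ⟨MulEquiv.ofBijective (φ.comp (commutator G).subtype) ⟨?_, fun y => ?_⟩⟩⟩
  · rw [← show φ.ker = center G from ext hk, ← comap_map_eq, hmap, comap_top]
  · rw [injective_iff_map_eq_one]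
    exact fun g hg => Subtype.ext (mem_bot.1 (h3 ▸ mem_inf.2 ⟨g.2, (hk g).1 hg⟩))
  · obtain ⟨g, hg, rfl⟩ := hmap.ge (mem_top y)
    exact ⟨⟨g, hg⟩, rfl⟩

end CL.Ito
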