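import Mathlib
import Cfsg.Agent.PERM.J2
import Cfsg.Agent.PERM.U33

/-!
The subgroup `U₃(3)` of index `100` in the Hall–Janko group.
-/

set_option autoImplicit false
set_option maxRecDepth 100000
set_option exponentiation.threshold 2000

namespace CL.J2

open CL.K CL.PM CL.CG Cfsg Cfsg.Spor


def ck : ℕ := 0x14000110000280001100000c0001200003c0000e0000200001000002c000060000100000d00002c0000300000c000080000300000d000028000110000440000900003800002000048000100000080000a000010000050000180000800000c00008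

def cki : ℕ := 0x14000110000180000d0000380000200003c0000e0000300000f0000100000500000c000110000080000300002c00010000020000090000280000800001800001000034000120000280000800002c0000a00002c000100000440001000000c00011

def kx : ℕ := 0x4000080000200001100000000000000020000110000480000b00000000000000020000120000440000b000000000000000440000b00002c000010000000000000000000000000000000000000340000c000000000000000000000000002000006

def ky : ℕ := 0x80000800002c000010000000000000002000012000008000080000000000000002c000010000080000800000000000000008000080000200001200000000000000000000000000000000000001000001000000000000000000000000001800010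

def r1 : ℕ := 0x1c000030000000000a0000280000000003400007000024000000000000000a000000000000000400000c00001c000100000000000000001c0000d00001800007000034000070000280000000000000009000030000100000000000a00002800000

def r2 : ℕ := 0x4000000000000000000000000000000000000010000000000000000000000000000000000000000000000000400000000000000000000000000000000000001000000000000000040000000000000000000000000000000000000100000000000

def LK : List ℕ := [c0, ck]

theorem wordsK : wordsB mul one [c0, c1, c2, c3, ca, cb] [(c0, [0]), (ck, [3, 5, 5, 4, 5, 5]), (r1, [2, 3, 1]), (r2, [1]), (one, [])] = true ∧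
    wordsB mul one LK [(c0, [0]), (cki, [1, 1, 1, 1, 1, 1, 1]), (kx, [1, 1, 0, 1, 1]), (ky, [1, 0, 1, 1, 1, 1, 1, 1, 1, 0, 1])] = true := by
  decide +kernel

def kσ : ℕ → ℕ := fld 7 127 0xb63495f9ee520e32ee7051efed093959982804d4cc8f485d788d83d12e88a1f5b0d8465942e8c6ef04556a6a50620985588a60ac25c790b141651b40378dcd4b05d11965ae0050e2a2b0920ebd5e9d55306f9949

def kτ : ℕ → ℕ := fld 6 63 0xc4b6ee0a176e24588d5a6b77ad7ce0f26f99959086c0c5d31f40394cf7b5395a0b90729dcba47c878dc2af8b18a1c4

noncomputable def tkf : ℕ := mkTree 792 MM (lmul mul [kx, ky]) U33.fA U33.fP 96 one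

noncomputable def tkT : ℕ := mkTree 792 MM (lmul mul LK) U33.tA U33.tP 63 one

noncomputable def tkI : ℕ := mkTree 792 MM (cj mul LK [c0, cki]) U33.tA U33.tP 63 c0

def cA : ℕ → ℕ := fld 2 3 0xee995d5e77edadf74d2964c4b64991d3379de24f76276923e4

def cP : ℕ → ℕ := fld 7 127 0xbb6ac53a54a8509f3664b9526446890e13e7af1d3a72e1b335eb972d5ab15ab54a532446891224284e9d3668d19325cb162a54a942648911224080f1e3c70e1a3468c183058a1424488101c3860c14204080c1820200000

def cJ (s i : ℕ) : ℕ := fld 7 127 0xbb8ac57bf4f1dcb752661c14645abd0eb3e7b39d599729b555eba2ada4c15c073427a67135fbb432562566698c28f1a235825d49f26f1a114641b8f50787161ac8c98547058a4e252224074d862a509080e302820210180c76add3a57285ec38acccaf5a4c6c17e1dd9ef26d872e2ac88f520c4a2b22b754a534e5e8a5ca808da9d36c8e1976b8b422afdf1e28f52a46ce88a01ea1a31663580c2eb55a726490883e1cd1816142101c0c5090c00082c78b0e0bb4afd09f36a4b9526ad9897a15cb73ad3ab15eb338f197535b460ab6ef9ea447311387ec0eb490c8d36331619680552943e494bc76e48204e3da8e36c579818b152814984a13c703970c4c8841a2c2880608001c78b061bb7afdca76abccb35a74bb7422d29f566d8a8e9e488ee68c482b21bd54ae049512a3224c8591d66d539a3c5cc427cfcabb62dc92422e1b2020bda1436c06ad5c3149c269519f1024c96161870f08281870a08080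 (Nat.add (Nat.mul 100 s) i)

def cK (s i : ℕ) : ℕ := fld 13 8191 0x5b7c00073927d800000017c91b8a5c00000006b109c0016b8000000145a0000002390000000af9928c000000000000085a00000028b40015f39ff800000000096280003627f80000001b4800065b800017a4270000000000884000000085b3ff000000000000069100000000000d8a46c000da4000000121b6960002210000000000000000000000000000000000000000001696b520001ffe00000000000012372168002ef400000057bc0003eda08000085000005ebd083a80000000002dbe0004720002d2c00000000027ef6a43cf80001cc90db6fdb7c3ac0810be000000000000000000000002b10000fa217c00032dc0000000005b7c0016df00005f00008849ae800246edf8000000000068100036902f80000000000000000b6f80000009444a6c8dc000000000000000000091b800000000000000000000000000002d2c00001b5a5abe690daf780007da000000000052e000000000196f6b8000000000000000037e0000000000000000000048690b40000000000002be60009ff85f246e00000000000000bd0d88000000d2200002f4000000000000000000000000015340009ff80017f8000000000000091b0d88000000000b5200000016df0000000000000000000000000000000000000000000000000000000000129a00091bda580000004a68dfe020dce135d7cc7103ef8780dfe1a20bd6d302f4b6f3ff17009ac0003883ffc83c9460bd0d880021a8fff48dcffc0016961358000710a9c0000001c492d16d2000036200086a00025a2000486c350362000000000000000000000000008849ffcb44000d2200000000016960000000000da44868000000000000000000088421680000000000000000000000216800000000000000000000000005a91fff6a4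 (Nat.add (Nat.mul 100 s) i)

def eR : ℕ → ℕ := fld 2 3 0x5a555a95669659a6aaaa9aaa6aaaaaa969a96699a665999aa8

def eK1 : ℕ → ℕ := fld 13 8191 0xb91dae401000d0205ac808201fb5b802401801b0095aa000600ab5f14d6d521bf0150016d8c0170035afc2fd6b40218026d4e03f0e401343847b900500acf641810075aec01601c0de008003e0070aa9914388023020005803064d014801800401402386f800a001b5280900516c700a810400801000b809ee440110085ab80036ad29d800ed4c013b56008407f6aaab75a900336b101980002f803801900c4000000

def eK2 : ℕ → ℕ := fld 13 8191 0xb7b1cc80323d515320c2ca60ea66c0cd9ec71c7ad72524e4a1e720bb378f8a50d9a83ff990f64d8462a788db1c41b8bfacf8a6639634ff4a1b6f57f5c4702b21d4905aa783e48821d80ec2a6aeec728d1487474526848041180cde88e3fac842443614a2e1dd85a874c22087608374413425dd91ca7a0982a38e8c000822848428a12503bb1d304485e8912238e8a18188000890bd19530001fff2b32169180000000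

def oX1 : ℕ → ℕ := fld 7 127 0x41359caa772ebac78ad9bbf20cde1070696283ea5a1946b4b9d148d54690506

def oJ1 (s i : ℕ) : ℕ := fld 6 63 0x7457e388d4132a181e05c6da6585d65544911cf38030b2481840c28e285c65e5e06da7d875645438f54b49320c40624d10a0c7142001 (Nat.add (Nat.mul 36 s) i)

def oK1 (s i : ℕ) : ℕ := fld 13 8191 0xbc786d629e1e8a275a7e1c41b531742892e248141f84001cecec0b63ebdb4f51f74c478e1fefec8e68e98bc6fee1d80e99f68100945b85dd305a8b4b128d21a0001700fbc7100004a68dfe1e090d135bffc0015f3000369000000044200027fe37f000000017a1b190780000005b70003488000000 (Nat.add (Nat.mul 36 s) i)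

def oX2 : ℕ → ℕ := fld 7 127 0xf2484270838b0615882a4b13be7b3e1d05684d328e898401d05bb66a79c5812996cc5cbcfa8215cc1788ef05972fe36168a929d24a4a81

def oJ2 (s i : ℕ) : ℕ := fld 6 63 0x5caa9917ebe1f68f3b8fae78df6d74cedcb19b00ae02cae99d49648a07cd79275c6da6165531d140f38c2c920610307dfb9ef2f38db7c74b3ad6b92e8b3c2095f9dda6f6ed6aaa169988e145c41e4ce54c6573d42122462cd10a0c7141080 (Nat.add (Nat.mul 63 s) i)

def oK2 (s i : ℕ) : ℕ := fld 13 8191 0xba0c9a646a4760031526a796a0b50faf646c332002c506a700a037836f6a735446fef3b79da5483d00e716f454abdc058b5e9151a9456159027c805039f8cc983856a36a3d887a1da81c281b8e7c29944e12eae9a4744a4590101606e9f220427c9aa2d51210cb461a8000216800000042d00000003636a413580027fe0007121ffc4d638800000000010d448d8000000a9c0000e221a800096880000000bd0004b440000bd00000000008840003698000000b4b3691b9d0d10d880027ff01000000000000000000000000fff (Nat.add (Nat.mul 63 s) i)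

noncomputable def tc : ℕ := mkTree 792 MM (lmul mul L) cA cP 100 one

theorem chkK : force tkf (fun u => force tkT fun t => force tkI fun s => force tc fun c =>
    invB mul one LK [c0, cki] 2 && treeB (cj mul LK [c0, cki]) (fld 792 MM s) U33.tA U33.tP 2 63 c0 &&
    injB (fld 792 MM s) kτ 63 && commB mul [kx, ky] c0 &&
    treeB (lmul mul [kx, ky]) (fld 792 MM u) U33.fA U33.fP 2 96 one && injB (fld 792 MM u) kσ 96 &&
    treeB (lmul mul LK) (fld 792 MM t) U33.tA U33.tP 2 63 one &&
    treeB (lmul mul L) (fld 792 MM c) cA cP 4 100 one &&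
    coverB mul L (fld 792 MM c) (ptab mul (fld 792 MM t) 63 (fld 792 MM u)) cJ cK 100 6048 &&
    dcB mul (fld 792 MM c) (ptab mul (fld 792 MM t) 63 (fld 792 MM u)) [one, r1, r2] eR eK1 eK2 100 6048 &&
    coverB mul LK (fun i => fld 792 MM c (oX1 i)) (ptab mul (fld 792 MM t) 63 (fld 792 MM u)) oJ1 oK1 36 6048 &&
    coverB mul LK (fun i => fld 792 MM c (oX2 i)) (ptab mul (fld 792 MM t) 63 (fld 792 MM u)) oJ2 oK2 63 6048 &&
    allN (fun i => blt (oX1 i) 100) 36 && allN (fun i => blt (oX2 i) 100) 63 &&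
    Nat.beq (fld 792 MM c (oX1 0)) r1 && Nat.beq (fld 792 MM c (oX2 0)) r2) = true := by
  decide +kernel

noncomputable def mul3 : ℕ → ℕ → ℕ := pmul 324 U33.MM U33.mul mul

def one3 : ℕ := U33.one + one * 2 ^ 324

def MM3 : ℕ := 0xfffffffffffffffffffffffffffffffffffffffffffffffffffffffffffffffffffffffffffffffffffffffffffffffffffffffffffffffffffffffffffffffffffffffffffffffffffffffffffffffffffffffffffffffffffffffffffffffffffffffffffffffffffffffffffffffffffffffffffffffffffffffffffffffffffffffffffffffffffffff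

def LH3 : List ℕ := plist 324 U33.LH [kx, ky]

noncomputable def tf3 : ℕ := mkTree 1116 MM3 (lmul mul3 LH3) U33.fA U33.fP 96 one3

noncomputable def tT3 : ℕ := mkTree 1116 MM3 (lmul mul3 (plist 324 U33.L LK)) U33.tA U33.tP 63 one3

theorem chkP3 : force tT3 (fun t => force tf3 fun u =>
    wordsB mul3 one3 (plist 324 U33.L LK) [(U33.cx + kx * 2 ^ 324, [1, 1, 0, 1, 1]), (U33.cy + ky * 2 ^ 324, [1, 0, 1, 1, 1, 1, 1, 1, 1, 0, 1])] &&
    treeB (lmul mul3 LH3) (fld 1116 MM3 u) U33.fA U33.fP 2 96 one3 &&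
    closedB mul3 LH3 (fld 1116 MM3 u) U33.fJ 96 &&
    treeB (lmul mul3 (plist 324 U33.L LK)) (fld 1116 MM3 t) U33.tA U33.tP 2 63 one3 &&
    coverB mul3 (plist 324 U33.L LK) (fld 1116 MM3 t) (fld 1116 MM3 u) U33.tJ U33.tK 63 96) = true := by
  decide +kernel

attribute [local irreducible] tkf tkT tkI tc tf3 tT3 MM3 fld mul U33.mul

namespace Model

variable {Q : Type*} [Group Q] {φ : Q → ℕ} (M : Model φ)
include M

theorem mem3 (c : ℕ) (h : c ∈ [c0, ck, r1, r2, one] := by simp) : Mem φ ⊤ c :=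
  M.C.mem_of_wordsB (fun c hc => M.mem c (by revert c; simp [L, Wd])) wordsK.1 c h

theorem mem_LK : ∀ c ∈ LK, Mem φ ⊤ c := fun c hc => M.mem3 c (by revert c; simp [LK])

theorem mem4 : ∀ c ∈ [c0, cki, kx, ky], Mem φ (gen φ LK) c :=
  M.C.mem_of_wordsB (mem_gen M.mem_LK) wordsK.2

variable [Finite Q]

theorem le_card_K : 6048 ≤ Nat.card (gen φ LK) := by
  have h := chkK
  simp only [force_eq, Bool.and_eq_true] at h
  obtain ⟨⟨⟨⟨⟨⟨⟨⟨⟨⟨⟨⟨⟨⟨⟨h1, h2⟩, h3⟩, h4⟩, h5⟩, h6⟩, -⟩, -⟩, -⟩, -⟩, -⟩, -⟩, -⟩, -⟩, -⟩, -⟩ := h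
  exact M.C.le_card_cj (mem_gen M.mem_LK) (fun c hc => (M.mem4 c (by revert c; simp)).top)
    (fun c hc => M.mem4 c (by revert c; simp)) (M.mem _) (by simp [LK]) (by simp) (by simp)
    h1 h2 h3 h4 h5 h6

theorem nonempty_equiv_K {G : Type*} [Group G] [Finite G] {ψ : G → ℕ} (M' : U33.Model ψ)
    (hW : ∀ g, ψ g < 2 ^ 324) : Nat.card G = 6048 ∧ Nonempty (G ≃* gen φ LK) := by
  have C2 : IsCode (pcode ψ φ 324) mul3 one3 := M'.C.prod M.C (by decide +kernel) hW
  have mL := mem_plist (W := 324) M'.mem_L M.mem_LK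
  have h := chkP3
  simp only [force_eq, Bool.and_eq_true] at h
  obtain ⟨⟨⟨⟨h0, h1⟩, h2⟩, h3⟩, h4⟩ := h
  have mH : ∀ c ∈ LH3, Mem (pcode ψ φ 324) ⊤ c := C2.mem_of_wordsB mL h0
  have hc := card_le_of_cover (C2.cover mL (by norm_num) (C2.sound_tree mL (by simp [plist, LK, U33.L])
    (C2.mem_one _) h3) (treeB_spec h3).1 (C2.sound_tree (mem_gen mH) (by simp [LH3, plist, U33.LH])
    (C2.mem_one _) h1) h4)
  have hc2 := C2.card_le (C2.complete_of_closed (by norm_num) (treeB_spec h1).1 h2)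
  obtain ⟨h5, e, -⟩ := nonempty_equiv_of_plist hW (L := U33.L) (L' := LK) rfl M'.mem_L M.mem_LK
    (N := 6048) (by omega) (U33.le_card M'.C M'.mem_L) M.le_card_K
  rw [M'.gen_L, Subgroup.card_top] at h5
  exact ⟨h5, ⟨(Subgroup.topEquiv.symm.trans (MulEquiv.subgroupCongr M'.gen_L.symm)).trans e⟩⟩

theorem nonempty_equiv_PSU {F : Type*} [Field F] [Fintype F] (hF : Fintype.card F = 3 ^ 2) :
    Nonempty (gen φ LK ≃* PSU 3 F 3) := by
  obtain ⟨ψ, M', hW⟩ := U33.exists_model_SU hF
  obtain ⟨-, ⟨e⟩⟩ := M.nonempty_equiv_K M' hW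
  obtain ⟨e'⟩ := U33.nonempty_equiv hF
  exact ⟨e.symm.trans e'⟩

theorem card_K : Nat.card (gen φ LK) = 6048 := by
  let _ := Fintype.ofFinite (GaloisField 3 2)
  have hF : Fintype.card (GaloisField 3 2) = 3 ^ 2 := by
    rw [← Nat.card_eq_fintype_card, GaloisField.card 3 2 (by norm_num)]
  obtain ⟨ψ, M', hW⟩ := U33.exists_model_SU hF
  obtain ⟨h, ⟨e⟩⟩ := M.nonempty_equiv_K M' hW
  rw [← Nat.card_congr e.toEquiv, h]

theorem index_K : (gen φ LK).index = 100 := by
  have := (gen φ LK).index_mul_card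
  rw [M.card_K, M.card_eq] at this
  omega

theorem orbits_K : (MulAction.orbit (gen φ LK) ((elt φ r1 : Q) : Q ⧸ gen φ LK)).ncard = 36 ∧
    (MulAction.orbit (gen φ LK) ((elt φ r2 : Q) : Q ⧸ gen φ LK)).ncard = 63 ∧
    ∀ x : Q ⧸ gen φ LK, x = (1 : Q) ∨ x ∈ MulAction.orbit (gen φ LK) ((elt φ r1 : Q) : Q ⧸ gen φ LK) ∨
      x ∈ MulAction.orbit (gen φ LK) ((elt φ r2 : Q) : Q ⧸ gen φ LK) := by
  have h := chkK
  simp only [force_eq, Bool.and_eq_true] at h
  obtain ⟨⟨⟨⟨⟨⟨⟨⟨⟨⟨⟨⟨-, h5⟩, -⟩, h7⟩, h8⟩, h9⟩, h10⟩, h11⟩, h12⟩, h13⟩, h14⟩, h15⟩, h16⟩ := h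
  have hf := M.C.sound_ptab (M.C.sound_tree (mem_gen M.mem_LK) (by simp [LK]) (M.C.mem_one _) h7)
    (M.C.sound_tree (L := [kx, ky]) (fun c hc => M.mem4 c (by revert c; simp)) (by simp)
      (M.C.mem_one _) h5)
  have hT := M.C.sound_tree M.mem_L (by simp [L]) (M.C.mem_one _) h8
  have key : ∀ (n : ℕ) (t : ℕ → Q) (r : Q), (∀ g ∈ gen φ LK, ∃ j < n, ∃ h ∈ gen φ LK, g * r = t j * h) →
      (MulAction.orbit (gen φ LK) (r : Q ⧸ gen φ LK)).ncard ≤ n := fun n t r h => by
    refine le_trans (Set.ncard_le_ncard (t := (fun i : Fin n => (t i : Q ⧸ gen φ LK)) '' Set.univ) ?_)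
      ((Set.ncard_image_le).trans (by simp))
    rintro _ ⟨g, rfl⟩
    obtain ⟨j, hj, k, hk, e⟩ := h g g.2
    refine ⟨⟨j, hj⟩, trivial, ?_⟩
    change _ = ((g * r : Q) : Q ⧸ gen φ LK)
    rw [e, QuotientGroup.mk_mul_of_mem _ hk]
  have k1 := key _ _ _ (M.C.cover_from M.mem_LK (by norm_num)
    (fun i hi => hT _ (lt_of_blt (allN_spec h13 i hi))) hf h11)
  have k2 := key _ _ _ (M.C.cover_from M.mem_LK (by norm_num)
    (fun i hi => hT _ (lt_of_blt (allN_spec h14 i hi))) hf h12)
  rw [eq_of_beq h15] at k1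
  rw [eq_of_beq h16] at k2
  have k3 : ∀ x : Q ⧸ gen φ LK, x = (1 : Q) ∨
      x ∈ MulAction.orbit (gen φ LK) ((elt φ r1 : Q) : Q ⧸ gen φ LK) ∨
      x ∈ MulAction.orbit (gen φ LK) ((elt φ r2 : Q) : Q ⧸ gen φ LK) := fun x => by
    obtain ⟨g, rfl⟩ := QuotientGroup.mk_surjective x
    obtain ⟨j, hj, k, hk, rfl⟩ := M.C.cover M.mem_L (by norm_num) hT (treeB_spec h8).1 hf h9 g
      (M.gen_L ▸ Subgroup.mem_top g)
    obtain ⟨c, hc, a, ha, b, hb, e⟩ := M.C.dc hT hf (fun c hc => M.mem3 c (by revert c; simp)) h10 j hj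
    rw [QuotientGroup.mk_mul_of_mem _ hk, e, QuotientGroup.mk_mul_of_mem _ hb]
    simp only [List.mem_cons, List.not_mem_nil, or_false] at hc
    rcases hc with rfl | rfl | rfl
    · left
      rw [M.C.elt_one, mul_one, ← one_mul a, QuotientGroup.mk_mul_of_mem _ ha]
    · exact Or.inr (Or.inl ⟨⟨a, ha⟩, rfl⟩)
    · exact Or.inr (Or.inr ⟨⟨a, ha⟩, rfl⟩)
  have k4 := Set.ncard_le_ncard (s := Set.univ) (t := insert ((1 : Q) : Q ⧸ gen φ LK)
    (MulAction.orbit (gen φ LK) ((elt φ r1 : Q) : Q ⧸ gen φ LK) ∪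
      MulAction.orbit (gen φ LK) ((elt φ r2 : Q) : Q ⧸ gen φ LK))) fun x _ => k3 x
  have k5 := k4.trans ((Set.ncard_insert_le _ _).trans (Nat.succ_le_succ (Set.ncard_union_le _ _)))
  rw [Set.ncard_univ, ← Subgroup.index, M.index_K] at k5
  exact ⟨by omega, by omega, k3⟩

end Model

end CL.J2
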