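/- STUB (S3373): transfer and the Smith–Tyrer theorem modulo a central subgroup.
Hints: V = MonoidHom.transfer θ satisfies V b = θ b ^ M.index on T (CL.Iso.transfer_eq_pow_of_ctrl,
INV/TransferCtl, with `fus`), 3 ∤ M.index, so L0 = V.ker meets T in T0 (Sylow in L0), τ ∈ L0,
L = L0 T. In L0/⟨x⟩ the image P of T0 is an abelian noncyclic Sylow 3-subgroup, N(P) = P⟨τ⟩ (nT0, hM),
τ inverts P: copy the proof of CL.T42.st_le (PERM/T42h: CL.ST.smith_tyrer,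
CL.BG.plength1_iff_sup_sylow_normal); O_{3'}(L0/⟨x⟩) = 1 by CL.BS.pPrimeCore_quotient_central
(INV/ZStarAux) and hO. So T0 is normal in L0, L0 ≤ M. -/
import Mathlib
import Cfsg.Agent.PERM.T42h
import Cfsg.Agent.INV.TransferCtl
import Cfsg.Agent.INV.ZStarAux

set_option autoImplicit false

namespace CL.L43

open Subgroup

namespace XH

open Cfsg
open scoped commutatorElement

theorem st_normal {Q : Type*} [Group Q] [Finite Q] {D : Subgroup Q} {ι : Q} (h3 : ∀ y ∈ D, y ^ 3 = 1)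
    (hn : ¬ IsCyclic D) (hi : ∀ y ∈ D, ι * y * ι⁻¹ = y⁻¹) (iD : ¬ 3 ∣ D.index)
    (hN : ∀ g, (∀ y ∈ D, g * y * g⁻¹ ∈ D) → g ∈ D ∨ g * ι ∈ D) (hO : pPrimeCore 3 Q = ⊥) : D.Normal := by
  have pD : IsPGroup 3 D := fun y => ⟨1, Subtype.ext (by simpa using h3 y.1 y.2)⟩
  have hc : ∀ y ∈ D, ∀ y' ∈ D, y * y' = y' * y := fun y hy y' hy' => inv_injective (by
    rw [← hi _ (mul_mem hy hy'), mul_inv_rev, ← hi _ hy, ← hi _ hy', conj_mul])
  let P : Sylow 3 Q := pD.toSylow iD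
  have cP : ∀ g, g ∈ centralizer ((P : Subgroup Q) : Set Q) ↔ ∀ y ∈ D, g * y * g⁻¹ = y := fun g =>
    ⟨fun h y hy => mul_inv_eq_iff_eq_mul.2 (h y hy).symm, fun h y hy => (mul_inv_eq_iff_eq_mul.1 (h y hy)).symm⟩
  have nt : ¬ ∀ y ∈ D, y = y⁻¹ := fun h => hn (by
    rw [show D = ⊥ from eq_bot_iff.2 fun y hy => by
      have := h3 y hy
      rwa [pow_succ, sq, mul_eq_one_iff_eq_inv.2 (h y hy), one_mul] at this]
    infer_instance)
  have c1 : ∀ g ∈ D, ∀ y ∈ D, g * y * g⁻¹ = y := fun g hg y hy => mul_inv_eq_iff_eq_mul.2 (hc g hg y hy)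
  have key := (CL.BG.plength1_iff_sup_sylow_normal P).1 (CL.ST.smith_tyrer (P := P) (by norm_num)
    ⟨⟨fun y y' => Subtype.ext (hc _ y.2 _ y'.2)⟩⟩ hn
    (relIndex_eq_two_iff.2 ⟨ι, Tr.mem_normalizer_of_conj_mem fun y (hy : y ∈ D) => by
      rw [hi _ hy]; exact inv_mem hy, fun b hb => by
      rw [cP, cP]
      have e : ∀ y ∈ D, b * ι * y * (b * ι)⁻¹ = (b * y * b⁻¹)⁻¹ := fun y hy => by
        rw [conj_inv, ← hi y hy]; simp [mul_assoc]
      rcases hN b (fun y hy => Tr.conj_mem_of_mem_normalizer hb hy) with h | h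
      · exact .inr ⟨c1 b h, fun h' => nt fun y hy => by rw [← c1 b h y hy, ← e y hy, h' y hy, c1 b h y hy]⟩
      · exact .inl ⟨c1 _ h, fun h' => nt fun y hy => by
          have := c1 _ h y hy
          rw [e y hy, h' y hy] at this
          exact this.symm⟩⟩)
    ((Tr.pResidual_eq_top_iff_sylow_le_commutator P).2 fun y (hy : y ∈ D) => by
      rw [show y = ⁅ι, y⁆ by
        rw [commutatorElement_def, hi _ hy, ← mul_inv_rev, eq_inv_iff_mul_eq_one, ← pow_three, h3 _ hy]]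
      exact commutator_mem_commutator trivial trivial))
  rwa [hO, bot_sup_eq] at key

end XH

open Cfsg in
theorem cx_abs {L : Type*} [Group L] [Finite L] {M T T0 : Subgroup L} {x τ : L} (hT : IsPGroup 3 T)
    (iT : ¬ 3 ∣ T.index) (TM : T ≤ M) (τM : τ ∈ M) (ττ : τ * τ = 1) (hM : ∀ m ∈ M, m ∈ T ∨ m * τ ∈ T)
    (x3 : x ^ 3 = 1) (xT : x ∈ T0) (xc : ∀ g, g * x = x * g)
    (θ : M →* Multiplicative (ZMod 3)) (hθ : ∃ b, θ b ≠ 1)
    (h0 : ∀ b, b ∈ T0 ↔ ∃ h : b ∈ T, θ ⟨b, TM h⟩ = 1)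
    (fus : ∀ b ∈ T, ∀ g, g * b * g⁻¹ ∈ M → ∃ m ∈ M, m * b * m⁻¹ = g * b * g⁻¹)
    (h3 : ∀ b ∈ T0, b ^ 3 ∈ zpowers x) (hi : ∀ b ∈ T0, τ * b * τ⁻¹ * b ∈ zpowers x)
    (h27 : 27 ∣ Nat.card T0) (nT0 : ∀ g, (∀ b ∈ T0, g * b * g⁻¹ ∈ T0) → g ∈ M)
    (hO : ∀ X : Subgroup L, X.Normal → (Nat.card X).Coprime 3 → X = ⊥) : M = ⊤ := by
  have z3 : ∀ a : Multiplicative (ZMod 3), a * a = 1 → a = 1 := by decide
  have z3' : ∀ a : Multiplicative (ZMod 3), a ^ 3 = 1 := by decide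
  have z3'' : ∀ a b : Multiplicative (ZMod 3), a ≠ 1 → ∃ k : Fin 3, b = a ^ (k : ℕ) := by decide
  let V := MonoidHom.transfer θ
  have hV : ∀ b (h : b ∈ T), V b = θ ⟨b, TM h⟩ ^ M.index := fun b h =>
    CL.Iso.transfer_eq_pow_of_ctrl θ ⟨b, TM h⟩ fun k a ha => by
      obtain ⟨m, hm, e⟩ := fus _ (pow_mem h k) a⁻¹ (by rwa [inv_inv])
      rw [inv_inv] at e
      rw [show (⟨_, ha⟩ : M) = ⟨m, hm⟩ * ⟨b, TM h⟩ ^ k * ⟨m, hm⟩⁻¹ from Subtype.ext e.symm, map_mul, map_mul,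
        map_inv, mul_inv_cancel_comm, map_pow]
  have iM : (3 : ℕ).Coprime M.index :=
    (Nat.Prime.coprime_iff_not_dvd Nat.prime_three).2 fun h => iT (h.trans (index_dvd_of_le TM))
  have hV' : ∀ b (h : b ∈ T), V b = 1 ↔ θ ⟨b, TM h⟩ = 1 := fun b h => by
    rw [hV b h]
    refine ⟨fun e => ?_, fun e => by rw [e, one_pow]⟩
    have := pow_gcd_eq_one.2 ⟨z3' _, e⟩
    rwa [iM.gcd_eq_one, pow_one] at this
  have e0 : T0 = T ⊓ V.ker := Subgroup.ext fun b => by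
    rw [h0]
    exact ⟨fun ⟨h, e⟩ => ⟨h, (hV' b h).2 e⟩, fun ⟨h, e⟩ => ⟨h, (hV' b h).1 e⟩⟩
  have Vτ : V τ = 1 := z3 _ (by rw [← map_mul, ττ, map_one])
  obtain ⟨b0, b0T, hb0⟩ : ∃ b ∈ T, V b ≠ 1 := by
    obtain ⟨b, hb⟩ := hθ
    rcases hM b b.2 with h | h
    · exact ⟨b, h, fun e => hb ((hV' _ h).1 e)⟩
    · refine ⟨_, h, fun e => hb ?_⟩
      have e1 := (hV' _ h).1 e
      rwa [show (⟨_, TM h⟩ : M) = b * ⟨τ, τM⟩ from rfl, map_mul,
        z3 (θ ⟨τ, τM⟩) (by rw [← map_mul]; exact (congrArg θ (Subtype.ext ττ)).trans θ.map_one), mul_one] at e1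
  have sup : ∀ g, ∃ l ∈ V.ker, ∃ b ∈ T, l * b = g := fun g => by
    obtain ⟨k, hk⟩ := z3'' _ (V g) hb0
    exact ⟨g * (b0 ^ (k : ℕ))⁻¹, by rw [MonoidHom.mem_ker, map_mul, map_inv, map_pow, hk, mul_inv_cancel], _,
      pow_mem b0T k, inv_mul_cancel_right _ _⟩
  have i0 : ¬ 3 ∣ T0.relIndex V.ker := by
    have h1 := relIndex_mul_index (inf_le_left : T ⊓ V.ker ≤ T)
    have h2 := relIndex_mul_index (inf_le_right : T ⊓ V.ker ≤ V.ker)
    have h3 : T ⊔ V.ker = ⊤ := eq_top_iff.2 fun g _ => by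
      obtain ⟨l, hl, b, hb, rfl⟩ := sup g
      exact mul_mem (mem_sup_right hl) (mem_sup_left hb)
    rw [inf_relIndex_left, ← relIndex_sup_right, h3, relIndex_top_right, ← h2, mul_comm] at h1
    rwa [e0, ← mul_right_cancel₀ V.ker.index_ne_zero_of_finite h1]
  have T0V : T0 ≤ V.ker := e0 ▸ inf_le_right
  have zc : (zpowers x).subgroupOf V.ker ≤ center V.ker := fun a ha => mem_center_iff.2 fun g => Subtype.ext (by
    obtain ⟨k, hk⟩ := ha
    have hk' : x ^ k = a.1 := hk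
    rw [coe_mul, coe_mul, ← hk']
    exact (Commute.zpow_right (xc g) k).eq)
  have : ((zpowers x).subgroupOf V.ker).Normal := normal_of_le_center zc
  let f := QuotientGroup.mk' ((zpowers x).subgroupOf V.ker)
  have fs : Function.Surjective f := QuotientGroup.mk'_surjective _
  have f1 : ∀ a : V.ker, f a = 1 ↔ a.1 ∈ zpowers x := fun a => QuotientGroup.eq_one_iff a
  have mD : ∀ a : V.ker, f a ∈ (T0.subgroupOf V.ker).map f ↔ a.1 ∈ T0 := fun a => by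
    rw [← mem_comap, comap_map_eq_self fun y hy => mem_subgroupOf.2 (zpowers_le.2 xT ((f1 y).1 hy)), mem_subgroupOf]
  have ox : orderOf x ∣ 3 := orderOf_dvd_of_pow_eq_one x3
  have d3 : ∀ y ∈ (T0.subgroupOf V.ker).map f, y ^ 3 = 1 := by
    rintro _ ⟨b, hb, rfl⟩
    rw [← map_pow, f1]; exact h3 _ hb
  have nD := XH.st_normal (D := (T0.subgroupOf V.ker).map f) (ι := f ⟨τ, Vτ⟩) d3
    (fun hc => by
      have h1 : Nat.card ((T0.subgroupOf V.ker).map f) ∣ 3 := by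
        rw [← IsCyclic.exponent_eq_card]
        exact Monoid.exponent_dvd_of_forall_pow_eq_one fun y => Subtype.ext (d3 _ y.2)
      have h2 := (f.ker.subgroupOf (T0.subgroupOf V.ker)).index_mul_card
      have h4 : Nat.card (f.ker.subgroupOf (T0.subgroupOf V.ker)) ∣ 3 := by
        refine (card_comap_dvd_of_injective _ _ (subtype_injective _)).trans ?_
        rw [QuotientGroup.ker_mk']
        exact ((card_comap_dvd_of_injective _ _ (subtype_injective _)).trans (Nat.card_zpowers x).dvd).trans ox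
      rw [← relIndex_ker] at h1
      rw [← Nat.card_congr (subgroupOfEquivOfLe T0V).toEquiv, ← h2] at h27
      exact absurd (h27.trans (mul_dvd_mul h1 h4)) (by norm_num))
    (by
      rintro _ ⟨b, hb, rfl⟩
      rw [eq_inv_iff_mul_eq_one, ← map_inv, ← map_mul, ← map_mul, ← map_mul, f1]
      exact hi _ hb)
    (fun h => i0 (h.trans (index_map_dvd _ fs)))
    (fun g hg => by
      obtain ⟨g, rfl⟩ := fs g
      have gM : g.1 ∈ M := nT0 _ fun b hb => (mD (g * ⟨b, T0V hb⟩ * g⁻¹)).1 (by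
        rw [map_mul, map_mul, map_inv]; exact hg _ ((mD _).2 hb))
      rw [← map_mul, mD, mD, e0]
      exact (hM _ gM).imp (fun h => ⟨h, g.2⟩) fun h => ⟨h, mul_mem g.2 Vτ⟩)
    (CL.BS.pPrimeCore_quotient_central 3 (by
      have := CL.map_pPrimeCore_of_normal (p := 3) V.ker
      rwa [hO (pPrimeCore 3 L) inferInstance (CL.coprime_card_pPrimeCore 3 L), bot_inf_eq,
        map_eq_bot_iff_of_injective _ (subtype_injective _)] at this) _ zc
      (IsPGroup.comap_subtype (fun y => ⟨1, Subtype.ext (by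
        obtain ⟨_, k, rfl⟩ := y
        change (x ^ k) ^ 3 = 1
        rw [← zpow_natCast, ← zpow_mul, mul_comm, zpow_mul, zpow_natCast, x3, one_zpow])⟩)))
  refine eq_top_iff.2 fun g _ => ?_
  obtain ⟨l, hl, b, hb, rfl⟩ := sup g
  refine mul_mem (nT0 _ fun b hb => (mD (⟨l, hl⟩ * ⟨b, T0V hb⟩ * ⟨l, hl⟩⁻¹)).1 ?_) (TM hb)
  rw [map_mul, map_mul, map_inv]
  exact nD.conj_mem _ ((mD _).2 hb) _

end CL.L43
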