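/- S3373, case A (x is not conjugate to z): fusion and the easy centralizers. -/
import Mathlib
import Cfsg.Agent.PERM.L43b
import Cfsg.Agent.PERM.T42f

set_option autoImplicit false
set_option synthInstance.maxSize 8192
set_option linter.unusedSectionVars false
set_option linter.unusedVariables false

namespace CL.L43

open Subgroup CL.T42

theorem cls_u2 {b : F} (hb : b ≠ 0) (c u : F) : ∃ k, k * uu b c u b 0 0 * k⁻¹ = u2 :=
  ⟨_, (by decide +kernel : ∀ b c u : F, b ≠ 0 →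
    pm (wit b c u b 0 0) * uu b c u b 0 0 * (pm (wit b c u b 0 0))⁻¹ = u2) b c u hb⟩

theorem cls_x {c : F} (hc : c ≠ 0) (u : F) : ∃ k, k * uu 0 c u 0 0 0 * k⁻¹ = x :=
  ⟨_, (by decide +kernel : ∀ c u : F, c ≠ 0 →
    pm (wit 0 c u 0 0 0) * uu 0 c u 0 0 0 * (pm (wit 0 c u 0 0 0))⁻¹ = x) c u hc⟩

namespace Fr

variable {G : Type*} [Group G] [Finite G] {f : P0 →* G} (h : Fr f) (hA : ∀ g, g * f z * g⁻¹ ≠ f x)
include h hA

theorem nx {c : F} (hc : c ≠ 0) (u : F) (g : G) : g * f z * g⁻¹ ≠ f (uu 0 c u 0 0 0) := fun e => by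
  obtain ⟨k, hk⟩ := cls_x hc u
  refine hA (f k * g) ?_
  rw [← hk, map_mul, map_mul, map_inv, ← e]; group

theorem u2_z (g : G) : g * f z * g⁻¹ ≠ f u2 := fun e => by
  have TU : centralizer {u2} ≤ U := fun p hp => by
    obtain ⟨b, c, u, rfl⟩ := cent_u2 (mem_centralizer_singleton_iff.1 hp); exact uu_mem ..
  obtain ⟨c, hc, hT⟩ := h.sylC (a := u2) (T := centralizer {u2}) TU
    (fun _ => mem_centralizer_singleton_iff.1) (fun _ _ a _ => mem_centralizer_singleton_iff.2 a)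
    (fun k hk _ => by
      have key : ∀ u : F, ∃ c' u', k * f (uu 0 1 u 0 0 0) * k⁻¹ = f (uu 0 c' u' 0 0 0) := fun u => by
        obtain ⟨p, hp, e1⟩ := hk (uu 0 1 u 0 0 0) (mem_centralizer_singleton_iff.2 (by
          simp [u2, uu_mul]))
        obtain ⟨b, c', u', rfl⟩ := cent_u2 (mem_centralizer_singleton_iff.1 hp)
        by_cases hb : b = 0
        · exact ⟨c', u', by rw [← e1, hb]⟩
        obtain ⟨m, hm⟩ := cls_u2 hb c' u'
        refine absurd ?_ (h.nx hA one_ne_zero u (k⁻¹ * (f m)⁻¹ * g))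
        rw [← hm, map_mul, map_mul, map_inv, e1] at e
        calc _ = k⁻¹ * (f m)⁻¹ * (g * f z * g⁻¹) * (k⁻¹ * (f m)⁻¹)⁻¹ := by group
          _ = _ := by rw [e]; group
      obtain ⟨c0, u0, e0⟩ := key 0
      obtain ⟨c1, u1, e1⟩ := key 1
      have e2 : k * f z * k⁻¹ = f (uu 0 (c1 - c0) (u1 - u0) 0 0 0) := by
        rw [show z = (uu 0 1 0 0 0 0)⁻¹ * uu 0 1 1 0 0 0 by decide +kernel,
          show uu 0 (c1 - c0) (u1 - u0) 0 0 0 = (uu 0 c0 u0 0 0 0)⁻¹ * uu 0 c1 u1 0 0 0 by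
            simp [uu_inv, uu_mul, sub_eq_neg_add], map_mul, map_mul, map_inv, map_inv, ← e0, ← e1]
        group
      by_cases hc : c1 - c0 = 0
      · rw [hc] at e2; exact h.nz' e2
      · exact absurd e2 (h.nx hA hc _ _))
    ((pS (f := f) le_rfl).map (MulAut.conj g).toMonoidHom) (by
      rintro _ ⟨_, ⟨p, hp, rfl⟩, rfl⟩
      rw [← e]
      show g * f p * g⁻¹ * _ = _ * (g * f p * g⁻¹)
      rw [conj_mul, conj_mul, ← map_mul, cent_U hp, map_mul])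
  have k0 : ∀ p ∈ U, c * g * f p * (c * g)⁻¹ ∈ U.map f := fun p hp => by
    simpa [mul_assoc] using map_mono TU (hT _ ⟨_, h.mem.2 hp, rfl⟩)
  obtain ⟨k, hk⟩ := h.gam (g := c * g) (p := x12) (q := s) (r := x34) (by decide +kernel)
    (k0 _ (uu_mem ..)) (k0 _ (uu_mem ..)) (k0 _ (uu_mem ..))
  obtain ⟨u, v, w, e'⟩ := conj_tr k 1 0 0
  have : k * z * k⁻¹ = u2 := h.cj (by
    rw [hk]
    calc _ = c * (g * f z * g⁻¹) * c⁻¹ := by group
      _ = _ := by rw [e, hc]; group)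
  have := e'.symm.trans this
  simp [tr, u2, uu_inj] at this

theorem fixz : Fix1 f.range (f z) := by
  rintro g ⟨p, hp⟩
  obtain ⟨k, r, hr, e⟩ := cls3 (p := p) (h.inj (by
    rw [map_pow, hp, conj_pow, ← map_pow, show z ^ 3 = 1 by decide +kernel]; simp))
  have e' : f k * g * f z * (f k * g)⁻¹ = f r := by
    rw [← e, map_mul, map_mul, map_inv, hp]; group
  refine (mul_mem_cancel_left (⟨k, rfl⟩ : f k ∈ f.range)).1 ?_
  simp only [List.mem_cons, List.not_mem_nil, or_false] at hr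
  rcases hr with rfl | rfl | rfl | rfl | rfl | rfl | rfl
  · exact h.nz' (k := 0) e'
  · exact h.nz _ (.inl e')
  · exact absurd e' (hA _)
  · exact absurd e' (h.y_z one_ne_zero _)
  · exact absurd e' (h.y_z (by decide) _)
  · refine absurd ?_ (h.u1J (f k * g)⁻¹)
    rw [← e', show (f k * g)⁻¹ * (f k * g * f z * (f k * g)⁻¹) * (f k * g)⁻¹⁻¹ = f z by group]
    exact h.mem.2 (jj_mem (0, 1, 0, 0))
  · exact absurd e' (h.u2_z hA _)

/-- a 3-group containing a conjugate of `z` -/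
theorem le3 {S : Subgroup G} (hS : IsPGroup 3 S) {l : G} (hl : l ∈ f.range) (hn : l * f z * l⁻¹ ∈ S) :
    S ≤ f.range := fun a ha => by
  obtain ⟨k, hk⟩ := Tr.exists_conj_le_sylow h.P hS
  have kU : ∀ a ∈ S, k * a * k⁻¹ ∈ f.range := fun a ha => map_le_range f U (hk a ha)
  have kL := (h.fixz hA).conj hl k (kU _ hn)
  simpa [mul_assoc] using mul_mem (mul_mem (inv_mem kL) (kU a ha)) kL

omit hA in
theorem cenz {E : Subgroup G} (hE : IsPGroup 3 E) (EL : E ≤ f.range) :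
    ∃ l ∈ f.range, ∀ e ∈ E, e * (l * f z * l⁻¹) = l * f z * l⁻¹ * e := by
  obtain ⟨k, hk⟩ := conj_U (hE.comap_of_injective f h.inj)
  refine ⟨f k⁻¹, ⟨_, rfl⟩, fun e he => ?_⟩
  obtain ⟨p, rfl⟩ := EL he
  have := cent_U (hk p he)
  rw [← map_inv, ← map_mul, ← map_mul, ← map_mul, ← map_mul]
  congr 1
  calc _ = k⁻¹ * (k * p * k⁻¹ * z) * k := by group
    _ = _ := by rw [this]; group

omit h hA in
theorem pg_z (l : G) : IsPGroup 3 (zpowers (l * f z * l⁻¹)) :=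
  pg_zp (k := 1) (by rw [conj_pow, ← map_pow, show z ^ 3 ^ 1 = 1 by decide +kernel]; simp)

theorem FC {E : Subgroup G} (hE : IsPGroup 3 E) (EL : E ≤ f.range) {g : G}
    (hg : ∀ e ∈ E, g * e * g⁻¹ ∈ f.range) :
    ∃ c, (∀ e ∈ E, c * (g * e * g⁻¹) = g * e * g⁻¹ * c) ∧ c * g ∈ f.range := by
  obtain ⟨l, hl, hn⟩ := h.cenz hE EL
  obtain ⟨l', hl', hn'⟩ := h.cenz (hE.map (MulAut.conj g).toMonoidHom) ((Tr.map_conj_le_iff _ _ _).2 hg)
  obtain ⟨S, h1, -, h3, h4⟩ := Tr.exists_sylowIn_ge (pg_z (f := f) l')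
    (H := centralizer (E.map (MulAut.conj g).toMonoidHom : Set G)) (zpowers_le.2 (mem_centralizer_iff.2 hn'))
  obtain ⟨c, hc, h5⟩ := Tr.exists_conj_le_sylowIn h3 h4 (pg_z (f := f) (g * l))
    (zpowers_le.2 (mem_centralizer_iff.2 (by
      rintro _ ⟨e, he, rfl⟩
      show g * e * g⁻¹ * _ = _ * (g * e * g⁻¹)
      calc _ = g * (e * (l * f z * l⁻¹)) * g⁻¹ := by group
        _ = _ := by rw [hn e he]; group)))
  refine ⟨c, fun e he => (mem_centralizer_iff.1 hc _ ⟨e, he, rfl⟩).symm, (h.fixz hA).conj hl _ ?_⟩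
  simpa [mul_assoc] using h.le3 hA h3 hl' (h1 (mem_zpowers _)) (h5 _ (mem_zpowers _))

theorem GT {r1 r2 : P0} (c12 : r1 * r2 = r2 * r1)
    (h3 : ∀ p, p * r1 = r1 * p → p * r2 = r2 * p → ∃ k, p ^ 3 ^ k = 1) {φ : F × F → P0}
    (add : ∀ v v', φ (v + v') = φ v * φ v') (inj : Function.Injective φ)
    (φ1 : ∀ v, φ v * r1 = r1 * φ v) (φ2 : ∀ v, φ v * r2 = r2 * φ v)
    (hφ : ∀ v ≠ 0, ∀ g, g * f (φ v) = f (φ v) * g → g ∈ f.range)
    {g : G} (g1 : g * f r1 = f r1 * g) (g2 : g * f r2 = f r2 * g) : g ∈ f.range := by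
  obtain ⟨L, hL⟩ : ∃ L : Subgroup G, ∀ a, a ∈ L ↔ a * f r1 = f r1 * a ∧ a * f r2 = f r2 * a :=
    ⟨centralizer {f r1} ⊓ centralizer {f r2}, fun a => by
      rw [mem_inf, mem_centralizer_singleton_iff, mem_centralizer_singleton_iff]⟩
  have pS : IsPGroup 3 ↥(L ⊓ f.range) := by
    rintro ⟨_, ha, p, rfl⟩
    obtain ⟨k, hk⟩ := h3 p (h.cm ((hL _).1 ha).1) (h.cm ((hL _).1 ha).2)
    exact ⟨k, Subtype.ext (show f p ^ 3 ^ k = 1 by rw [← map_pow, hk, map_one])⟩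
  have m1 : f r1 ∈ L ⊓ f.range := ⟨(hL _).2 ⟨rfl, by rw [← map_mul, c12, map_mul]⟩, _, rfl⟩
  have m2 : f r2 ∈ L ⊓ f.range := ⟨(hL _).2 ⟨by rw [← map_mul, ← c12, map_mul], rfl⟩, _, rfl⟩
  obtain ⟨l, hl, hn⟩ := h.cenz pS inf_le_right
  have mn : l * f z * l⁻¹ ∈ L ⊓ f.range :=
    mem_inf.2 ⟨(hL _).2 ⟨(hn _ m1).symm, (hn _ m2).symm⟩, mul_mem (mul_mem hl ⟨_, rfl⟩) (inv_mem hl)⟩
  have sy : ¬ 3 ∣ (L ⊓ f.range).relIndex L := Tr.not_dvd_relIndex_of_maximal pS inf_le_left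
    fun Q hQ a b => le_inf b (h.le3 hA hQ hl (a mn))
  let P : Sylow 3 L := (pS.comap_subtype (K := L)).toSylow sy
  obtain ⟨P', N, hN, hc⟩ := Tr.hasNPC_of_sylow_controls P fun a ha k hk => by
    have kL := (hL _).1 k.2
    have E1 : closure {f r1, f r2, (a : G)} ≤ L ⊓ f.range := (closure_le _).2 (by
      rintro _ (rfl | rfl | rfl)
      exacts [m1, m2, ha])
    have E2 : closure {f r1, f r2, (a : G)} ≤ f.range.comap (MulAut.conj (k : G)).toMonoidHom :=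
      (closure_le _).2 (by
        rintro _ (rfl | rfl | rfl)
        · show (k : G) * f r1 * (k : G)⁻¹ ∈ f.range
          rw [kL.1, mul_inv_cancel_right]; exact m1.2
        · show (k : G) * f r2 * (k : G)⁻¹ ∈ f.range
          rw [kL.2, mul_inv_cancel_right]; exact m2.2
        · exact hk.2)
    obtain ⟨c, hc, hck⟩ := h.FC hA (pS.to_le E1) (E1.trans inf_le_right) (g := k) fun e he => E2 he
    have c1 := hc (f r1) (subset_closure (by simp))
    have c2 := hc (f r2) (subset_closure (by simp))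
    have c3 := hc a (subset_closure (by simp))
    rw [kL.1, mul_inv_cancel_right] at c1
    rw [kL.2, mul_inv_cancel_right] at c2
    have cL : c * k ∈ L := mul_mem ((hL _).2 ⟨c1, c2⟩) k.2
    refine ⟨⟨c * k, cL⟩, ⟨cL, hck⟩, Subtype.ext ?_⟩
    show c * k * a * (c * k)⁻¹ = k * a * (k : G)⁻¹
    calc _ = c * (k * a * (k : G)⁻¹) * c⁻¹ := by group
      _ = _ := by rw [c3]; group
  have φL : ∀ v, f (φ v) ∈ L := fun v => (hL _).2
    ⟨by rw [← map_mul, φ1, map_mul], by rw [← map_mul, φ2, map_mul]⟩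
  have NL : N.map L.subtype ≤ f.range :=
    pl_gen (φ := fun v => f (φ v)) (fun v v' => by rw [add, map_mul]) (h.inj.comp inj) (by
      rw [card_map_of_injective L.subtype_injective, ← hc.index_eq_card]
      exact ((Nat.Prime.coprime_iff_not_dvd Nat.prime_three).2 P'.not_dvd_index).symm)
      (by
        rintro v _ ⟨k, hk, rfl⟩
        exact ⟨_, hN.conj_mem k hk ⟨_, φL v⟩, rfl⟩) fun v hv k _ e => hφ v hv k e
  obtain ⟨m, hm⟩ := Tr.exists_conj_le_sylow P P'.isPGroup'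
  obtain ⟨⟨n, p⟩, e⟩ := hc.2 (m⁻¹ * ⟨g, (hL _).2 ⟨g1, g2⟩⟩ * m)
  have e' : (⟨g, (hL _).2 ⟨g1, g2⟩⟩ : L) = m * n * m⁻¹ * (m * p * m⁻¹) := by
    rw [conj_mul, show (n : L) * p = _ from e]; group
  have e'' : g = _ * _ := congrArg Subtype.val e'
  rw [e'']
  exact mul_mem (NL ⟨_, hN.conj_mem _ n.2 m, rfl⟩) (hm _ p.2).2

omit h hA in
theorem tr_add (v v' : F × F) : tr (v + v').1 (v + v').2 0 = tr v.1 v.2 0 * tr v'.1 v'.2 0 := by
  simp [tr, uu_mul]

omit h hA in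
theorem tr_inj : Function.Injective fun v : F × F => tr v.1 v.2 0 := fun v v' e => by
  simp only [tr, uu_inj] at e; ext <;> tauto

omit hA in
theorem tr_cen (v : F × F) (hv : v ≠ 0) (g : G) (e : g * f (tr v.1 v.2 0) = f (tr v.1 v.2 0) * g) :
    g ∈ f.range :=
  h.cN (fun a => hv (by simp only [tr, ← uu_zero, uu_inj] at a; ext <;> tauto)) e

theorem cu1 {g : G} (e : g * f u1 = f u1 * g) : g ∈ f.range := by
  have c : ∀ v : F × F, tr v.1 v.2 0 * u1 = u1 * tr v.1 v.2 0 := fun v => by simp [tr, u1, uu_mul]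
  refine h.GT hA rfl (fun p a _ => ?_) tr_add tr_inj c c h.tr_cen e e
  obtain ⟨b, c, u, v, rfl⟩ := cent_u1 a
  exact ⟨2, U_nine (uu_mem ..)⟩

theorem cu2 (cx : ∀ g, g * f x = f x * g → g ∈ f.range) {g : G} (e : g * f u2 = f u2 * g) :
    g ∈ f.range := by
  have c : ∀ v : F × F, uu 0 v.1 v.2 0 0 0 * u2 = u2 * uu 0 v.1 v.2 0 0 0 := fun v => by simp [u2, uu_mul]
  refine h.GT hA (φ := fun v => uu 0 v.1 v.2 0 0 0) rfl (fun p a _ => ?_) (fun v v' => by simp [uu_mul])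
    (fun v v' e => by simp only [uu_inj] at e; ext <;> tauto) c c (fun v hv k e => ?_) e e
  · obtain ⟨b, c, u, rfl⟩ := cent_u2 a
    exact ⟨2, U_nine (uu_mem ..)⟩
  · by_cases h1 : v.1 = 0
    · rw [h1] at e
      exact h.cN (u := v.2) (v := 0) (w := 0) (fun a => hv (by
        simp only [tr, ← uu_zero, uu_inj] at a; ext <;> tauto)) e
    · obtain ⟨m, hm⟩ := cls_x h1 v.2
      have := cx (f m * k * (f m)⁻¹) (by
        rw [← hm, map_mul, map_mul, map_inv, conj_mul, conj_mul, e])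
      simpa [mul_assoc] using mul_mem (mul_mem (inv_mem (⟨m, rfl⟩ : f m ∈ f.range)) this) ⟨m, rfl⟩

theorem cpl {ε : F} (hε : ε ≠ 0) {X : F × F × F × F} (hX : X.2.2.1 ≠ 0) {g : G}
    (g1 : g * f (yy ε) = f (yy ε) * g) (g2 : g * f (jj X) = f (jj X) * g) : g ∈ f.range := by
  refine h.GT hA (jj_comm (1, 0, 0, ε) X) (fun p a b => ?_) tr_add tr_inj
    (fun v => jj_comm (0, v.1, 0, v.2) (1, 0, 0, ε)) (fun v => jj_comm (0, v.1, 0, v.2) X) h.tr_cen g1 g2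
  obtain ⟨d, g, h', -, e⟩ := cent_yy a
  rcases or_τ d g h' e with ⟨-, a⟩ | ⟨a, -⟩
  · exact ⟨2, U_nine ⟨_, _, _, _, _, _, a⟩⟩
  · have i := ((diag_aux _ _ _ (tri_det d g h')).2.2.1 e).trans a
    have := congrArg (fun q : P0 => q.1.f) b
    simp only [P0.mul_val, Af.mul, dot_eq, jj, uu_val, d, e, i] at this
    exact absurd (by linear_combination -this) hX

end Fr

end CL.L43
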