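/- S3373, case B (x is conjugate to z): `N(J)/J = SO₄⁺(3)`. jj (c,u,f,v) is the block X = [[c,u],[f,v]]. -/
import Mathlib
import Cfsg.Agent.PERM.L43b

set_option autoImplicit false
set_option synthInstance.maxSize 8192
set_option linter.unusedSectionVars false

namespace CL.L43

open Subgroup CL.McL3

/-- product of `2 × 2` matrices -/
def m2 (A B : F × F × F × F) : F × F × F × F :=
  (A.1 * B.1 + A.2.1 * B.2.2.1, A.1 * B.2.1 + A.2.1 * B.2.2.2,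
    A.2.2.1 * B.1 + A.2.2.2 * B.2.2.1, A.2.2.1 * B.2.1 + A.2.2.2 * B.2.2.2)

def dt2 (A : F × F × F × F) : F := A.1 * A.2.2.2 - A.2.1 * A.2.2.1

def lr (L R X : F × F × F × F) : F × F × F × F := m2 (m2 L X) R

theorem dt2_lr (L R X : F × F × F × F) : dt2 (lr L R X) = dt2 L * dt2 R * dt2 X := by
  simp only [lr, m2, dt2]; ring

theorem lr_lr (L R L' R' X : F × F × F × F) : lr L R (lr L' R' X) = lr (m2 L L') (m2 R' R) X := by
  simp only [lr, m2]; ext <;> simp only <;> ring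

theorem dt2_m2 (A B : F × F × F × F) : dt2 (m2 A B) = dt2 A * dt2 B := by simp only [m2, dt2]; ring

theorem det_blk {p : P0} (g : p.1.g = 0) (h : p.1.h = 0) : (p.1.a * p.1.e - p.1.b * p.1.d) * p.1.i = 1 := by
  have := p.2; rw [Af.det_eq, g, h] at this; linear_combination this

theorem act_P {p : P0} (g : p.1.g = 0) (h : p.1.h = 0) (X : F × F × F × F) :
    p * jj X * p⁻¹ = jj (lr (p.1.a, p.1.b, p.1.d, p.1.e) (p.1.i, -p.1.i * p.1.w, 0, 1) X) := by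
  have i : p.1.i * p.1.i = 1 := sq_one _ fun e => by
    have := det_blk g h; rw [e, mul_zero] at this; exact zero_ne_one this
  refine mul_inv_eq_of_eq_mul (Subtype.ext ?_)
  ext <;> simp only [P0.mul_val, Af.mul, dot_eq, jj, uu_val, lr, m2, g, h]
  all_goals first | ring1 | linear_combination (-(p.1.a * X.1 + p.1.b * X.2.2.1)) * i |
    linear_combination (-(p.1.d * X.1 + p.1.e * X.2.2.1)) * i

theorem gh_of {p : P0} (hp : ∀ X, ∃ Y, p * jj X * p⁻¹ = jj Y) : p.1.g = 0 ∧ p.1.h = 0 := by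
  obtain ⟨Y, e⟩ := hp (1, 0, 0, 0)
  obtain ⟨Y', e'⟩ := hp (0, 0, 1, 0)
  have e1 := congrArg (fun q : P0 => q.1.i) (mul_inv_eq_iff_eq_mul.1 e)
  have e2 := congrArg (fun q : P0 => q.1.i) (mul_inv_eq_iff_eq_mul.1 e')
  simp only [P0.mul_val, Af.mul, dot_eq, jj, uu_val] at e1 e2
  exact ⟨by linear_combination e1, by linear_combination e2⟩

theorem cls_yy {X : F × F × F × F} (hX : dt2 X ≠ 0) : ∃ k, k * jj X * k⁻¹ = yy (dt2 X) :=
  ⟨_, (by decide +kernel : ∀ X : F × F × F × F, dt2 X ≠ 0 →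
    pm ⟨dt2 X * X.2.2.2, -dt2 X * X.2.1, 0, 0, -X.2.2.1, X.1, 0, 0, 0, 0, 1, 0⟩ * jj X *
      (pm ⟨dt2 X * X.2.2.2, -dt2 X * X.2.1, 0, 0, -X.2.2.1, X.1, 0, 0, 0, 0, 1, 0⟩)⁻¹ = yy (dt2 X)) X hX⟩

theorem cls_rk {X : F × F × F × F} (h0 : X ≠ 0) (hX : dt2 X = 0) :
    ∃ k, k * jj X * k⁻¹ = z ∨ k * jj X * k⁻¹ = x :=
  ⟨_, (by decide +kernel : ∀ X : F × F × F × F, X ≠ 0 → dt2 X = 0 →
    pm (wit 0 X.1 X.2.1 X.2.2.1 X.2.2.2 0) * jj X * (pm (wit 0 X.1 X.2.1 X.2.2.1 X.2.2.2 0))⁻¹ = z ∨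
    pm (wit 0 X.1 X.2.1 X.2.2.1 X.2.2.2 0) * jj X * (pm (wit 0 X.1 X.2.1 X.2.2.1 X.2.2.2 0))⁻¹ = x) X h0 hX⟩

/-- `g` acts as `X ↦ L X R` -/
def Ac {G : Type*} [Group G] (f : P0 →* G) (g : G) (L R : F × F × F × F) : Prop :=
  ∀ X, g * f (jj X) * g⁻¹ = f (jj (lr L R X))

section Ac
variable {G : Type*} [Group G] {f : P0 →* G} {g k : G} {L R L' R' : F × F × F × F}

theorem Ac.mul (h : Ac f g L R) (h' : Ac f k L' R') : Ac f (g * k) (m2 L L') (m2 R' R) := fun X => by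
  rw [← lr_lr, ← h, ← h']; group

theorem Ac.inv (h : Ac f g L R) (e : ∀ X, lr L R (lr L' R' X) = X) : Ac f g⁻¹ L' R' := fun X => by
  conv_lhs => rw [← e X, ← h]
  group

theorem ac_P {p : P0} (g : p.1.g = 0) (h : p.1.h = 0) :
    Ac f (f p) (p.1.a, p.1.b, p.1.d, p.1.e) (p.1.i, -p.1.i * p.1.w, 0, 1) := fun X => by
  rw [← map_inv, ← map_mul, ← map_mul, act_P g h]

theorem ac_34 (j : F) : Ac f (f (uu 0 0 0 0 0 (-j))) (1, 0, 0, 1) (1, j, 0, 1) := by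
  simpa [uu_val] using ac_P (f := f) (p := uu 0 0 0 0 0 (-j)) rfl rfl

theorem ac_12 : Ac f (f x12) (1, 1, 0, 1) (1, 0, 0, 1) := by
  simpa [uu_val, x12] using ac_P (f := f) (p := x12) rfl rfl

theorem ex_tri (e : dt2 L * dt2 R = 1) (h : R.2.2.1 = 0) : ∃ g, Ac f g L R := by
  have key : ∀ {L R : F × F × F × F}, dt2 L * dt2 R = 1 → R.2.2.1 = 0 → R.2.2.2 = 1 → ∃ g, Ac f g L R := by
    rintro ⟨a, b, d, e⟩ ⟨r1, r2, r3, r4⟩ hd h3 h4
    simp only at h3 h4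
    subst h3 h4
    simp only [dt2] at hd
    have i : r1 * r1 = 1 := sq_one _ fun e => by rw [e] at hd; simp at hd
    have := ac_P (f := f) (p := ⟨⟨a, b, 0, 0, d, e, 0, 0, 0, 0, r1, -r1 * r2⟩, by
      rw [Af.det_eq]; linear_combination hd⟩) rfl rfl
    simp only at this
    rw [show -r1 * (-r1 * r2) = r2 by linear_combination r2 * i] at this
    exact ⟨_, this⟩
  rcases (by decide : ∀ a : F, a = 0 ∨ a = 1 ∨ -a = 1) R.2.2.2 with a | a | a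
  · simp [dt2, h, a] at e
  · exact key e h a
  · obtain ⟨g, hg⟩ := key (L := -L) (R := -R) (by rw [← e]; simp [dt2]) (by simp [h]) a
    refine ⟨g, fun X => (hg X).trans ?_⟩
    congr 2
    simp only [lr, m2, Prod.fst_neg, Prod.snd_neg]
    ext <;> simp only <;> ring

end Ac

namespace Fr

variable {G : Type*} [Group G] [Finite G] {f : P0 →* G} (h : Fr f)
include h

theorem rk1 {g : G} {X : F × F × F × F} (e : g * f z * g⁻¹ = f (jj X)) : dt2 X = 0 := by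
  by_contra hX
  obtain ⟨k, hk⟩ := cls_yy hX
  refine h.y_z hX (f k * g) ?_
  rw [← hk, map_mul, map_mul, map_inv, ← e]; group

theorem rk (hB : ∃ g, g * f z * g⁻¹ = f x) {g : G} {X Y : F × F × F × F} (hX : dt2 X = 0)
    (e : g * f (jj X) * g⁻¹ = f (jj Y)) : dt2 Y = 0 := by
  by_cases h0 : X = 0
  · rw [h0, h.co.zero, mul_one, mul_inv_cancel, eq_comm, h.co.eq_one] at e
    rw [e]; rfl
  obtain ⟨k, hk | hk⟩ := cls_rk h0 hX
  · refine h.rk1 (g := g * (f k)⁻¹) ?_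
    rw [← hk, map_mul, map_mul, map_inv, ← e]; group
  · obtain ⟨m, hm⟩ := hB
    refine h.rk1 (g := g * (f k)⁻¹ * m) ?_
    rw [← hk, map_mul, map_mul, map_inv] at hm
    calc _ = g * (f k)⁻¹ * (m * f z * m⁻¹) * (g * (f k)⁻¹)⁻¹ := by group
      _ = _ := by rw [hm, ← e]; group

theorem rho_aux (hB : ∃ g, g * f z * g⁻¹ = f x) {n k : G} {A : Mt} (hA : Act (fun X => f (jj X)) n A)
    {T : V4 → V4} (hT : ∀ X, k * f (jj X) * k⁻¹ = f (jj (T X))) {y : V4} (A1 : ap A e1 = e0)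
    (y1 : (ap A y).2.1 = 0) (y2 : (ap A y).2.2.1 ≠ 0) (y3 : (ap A y).2.2.2 = 0) (T1 : T e1 = e1) (Ty : T y = y)
    (Tc : ∀ X, ∃ a b : F, T X = X + a • e1 + b • y) (nT : T e2 ≠ e2) :
    ∃ r α, α ≠ 0 ∧ Ac f r (1, 0, 0, 1) (1, 0, α, 1) := by
  have nN := h.co.mem_N hA
  have kN : k ∈ Nm (J.map f) := Tr.mem_normalizer_of_conj_mem fun j hj => by
    obtain ⟨X, rfl⟩ := (h.co.mem _).1 hj
    rw [hT]; exact h.co.mJ _
  obtain ⟨B, hB'⟩ := h.co.exists_act (mul_mem (mul_mem nN kN) (inv_mem nN))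
  have BA : ∀ X, ap B (ap A X) = ap A (T X) := fun X => h.co.inj (by
    refine (hB' _).symm.trans (Eq.trans ?_ (hA _))
    rw [← hA]
    simp only [← hT]; group)
  have iA : Function.Injective (ap A) := fun X Y e => h.co.inj (by
    have := (hA X).trans ((congrArg (fun X => f (jj X)) e).trans (hA Y).symm)
    simpa using this)
  have sA := Finite.injective_iff_surjective.1 iA
  have col : ∀ Y, (ap B Y).2.1 = Y.2.1 ∧ (ap B Y).2.2.2 = Y.2.2.2 := fun Y => by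
    obtain ⟨X, rfl⟩ := sA Y
    obtain ⟨a, b, e⟩ := Tc X
    rw [BA, e, ap_add, ap_add, ap_smul, ap_smul, A1]
    simp [y1, y3, e0]
  have B0 : ap B e0 = e0 := by rw [← A1, BA, T1]
  have B2 : ap B e2 = e2 := by
    have e : e2 = (ap A y).2.2.1 • (ap A y + (-(ap A y).1) • e0) := by
      have := sq_one _ y2
      ext <;> simp [e0, e2, y1, y3, this]
    rw [e, ap_smul, ap_add, ap_smul, B0, BA, Ty]
  have d := fun X hX => h.rk hB hX (hB' X)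
  have d1 := d e1 (by decide)
  have d3 := d e3 (by decide)
  have d13 := d (e1 + e3) (by decide)
  have c1 := col e1
  have c3 := col e3
  rw [ap_add] at d13
  obtain ⟨a0, a1, a2, a3⟩ := ap_e B
  rw [a0] at B0
  rw [a2] at B2
  rw [a1] at d1 d13 c1
  rw [a3] at d3 d13 c3
  obtain ⟨B0', ⟨α, u, β, v⟩, B2', ⟨γ, u', δ, v'⟩⟩ := B
  simp only [e1, e3, dt2, Prod.fst_add, Prod.snd_add] at B0 B2 c1 c3 d1 d3 d13
  obtain ⟨rfl, rfl⟩ := c1
  obtain ⟨rfl, rfl⟩ := c3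
  obtain rfl : β = 0 := by linear_combination -d1
  obtain rfl : γ = 0 := by linear_combination d3
  obtain rfl : α = δ := by linear_combination d13
  subst B0 B2
  have act : ∀ X : V4, ap (e0, (α, 1, 0, 0), e2, (0, 0, α, 1)) X = lr (1, 0, 0, 1) (1, 0, α, 1) X := fun X => by
    ext <;> simp [ap, lr, m2, e0, e2]
  refine ⟨_, α, ?_, fun X => by rw [← act]; exact hB' X⟩
  rintro rfl
  refine nT (iA ?_)
  rw [← BA, act]
  simp [lr, m2]

theorem rho (hB : ∃ g, g * f z * g⁻¹ = f x) : ∃ r α, α ≠ 0 ∧ Ac f r (1, 0, 0, 1) (1, 0, α, 1) := by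
  obtain ⟨g, hg⟩ := id hB
  obtain ⟨n, hn, e⟩ := h.fusJ (g := g) (h.co.mJ e1) (by
    show g * f z * g⁻¹ ∈ _
    rw [hg]; exact h.co.mJ e0)
  obtain ⟨A, hA⟩ := h.co.exists_act hn
  have A1 : ap A e1 = e0 := h.co.inj ((hA e1).symm.trans (e.trans hg))
  have d := fun X hX => h.rk hB hX (hA X)
  have k : ∀ y, dt2 y = 0 → dt2 (y + e1) = 0 → (ap A y).2.2.2 = 0 ∧ ((ap A y).2.2.1 ≠ 0 → (ap A y).2.1 = 0) :=
    fun y h1 h2 => by
      have a := d y h1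
      have b := d _ h2
      rw [ap_add, A1] at b
      simp only [dt2, e0, Prod.fst_add, Prod.snd_add] at a b
      have c : (ap A y).2.2.2 = 0 := by linear_combination b - a
      exact ⟨c, fun h => by simpa [c, h] using a⟩
  obtain ⟨p3, p1⟩ := k e0 (by decide) (by decide)
  obtain ⟨q3, q1⟩ := k e3 (by decide) (by decide)
  by_cases p2 : (ap A e0).2.2.1 = 0
  · by_cases q2 : (ap A e3).2.2.1 = 0
    · exfalso
      obtain ⟨a, b, c, n0, e⟩ := (by decide +kernel : ∀ p0 p1 q0 q1 : F, ∃ a b c : F, (a, b, (0 : F), c) ≠ 0 ∧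
        a * p0 + b + c * q0 = 0 ∧ a * p1 + c * q1 = 0) (ap A e0).1 (ap A e0).2.1 (ap A e3).1 (ap A e3).2.1
      have e' : ap A (a, b, 0, c) = 0 := by
        rw [show ((a, b, 0, c) : V4) = a • e0 + b • e1 + c • e3 by ext <;> simp [e0, e1, e3], ap_add, ap_add, ap_smul,
          ap_smul, ap_smul, A1]
        ext
        · simpa [e0] using e.1
        · simpa [e0] using e.2
        · simp [p2, q2]; simp [e0]
        · simp [p3, q3]; simp [e0]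
      have : n * f (jj (a, b, 0, c)) * n⁻¹ = f (jj (ap A (a, b, 0, c))) := hA (a, b, 0, c)
      rw [e', h.co.zero, conj_eq_one_iff, h.co.eq_one] at this
      exact n0 this
    · exact h.rho_aux hB hA (ac_34 1) A1 (q1 q2) q2 q3 (by decide) (by decide)
        (fun X => ⟨X.1, X.2.2.1, by ext <;> simp [lr, m2, e1, e3] <;> ring⟩) (by decide)
  · exact h.rho_aux hB hA ac_12 A1 (p1 p2) p2 p3 (by decide) (by decide)
      (fun X => ⟨X.2.2.2, X.2.2.1, by ext <;> simp [lr, m2, e1, e0]⟩) (by decide)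

theorem so_tr {g : G} (hg : g ∈ Nm (J.map f)) {u v : F} (e : g * f z * g⁻¹ = f (tr u v 0)) :
    ∃ L R, dt2 L * dt2 R = 1 ∧ Ac f g L R := by
  obtain ⟨p, rfl⟩ := h.fixN (u := 1) (v := 0) (w := 0) (by decide) e
  obtain ⟨a, b⟩ := gh_of (p := p) fun X => by
    obtain ⟨Y, hY⟩ := (h.co.mem _).1 (Tr.conj_mem_of_mem_normalizer hg (h.co.mJ X))
    exact ⟨Y, h.cj hY.symm⟩
  exact ⟨_, _, by simp only [dt2]; linear_combination det_blk a b, ac_P a b⟩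

theorem so_of (hB : ∃ g, g * f z * g⁻¹ = f x) {g : G} (hg : g ∈ Nm (J.map f)) :
    ∃ L R, dt2 L * dt2 R = 1 ∧ ∀ X, g * f (jj X) * g⁻¹ = f (jj (lr L R X)) := by
  obtain ⟨X, hX⟩ := (h.co.mem _).1 (Tr.conj_mem_of_mem_normalizer hg (h.co.mJ e1))
  replace hX : g * f z * g⁻¹ = f (jj X) := hX.symm
  by_cases h0 : X.1 = 0 ∧ X.2.2.1 = 0
  · exact h.so_tr hg (u := X.2.1) (v := X.2.2.2) (by rw [hX, jj, h0.1, h0.2]; rfl)
  obtain ⟨r, α, hα, hr⟩ := h.rho hB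
  obtain ⟨j, j1, j2⟩ := (by decide +kernel : ∀ α : F, ∀ X : F × F × F × F, α ≠ 0 → dt2 X = 0 →
    ¬ (X.1 = 0 ∧ X.2.2.1 = 0) → ∃ j : F, (lr (m2 (1, 0, 0, 1) (1, 0, 0, 1)) (m2 (1, j, 0, 1) (1, 0, α, 1)) X).1 = 0 ∧
      (lr (m2 (1, 0, 0, 1) (1, 0, 0, 1)) (m2 (1, j, 0, 1) (1, 0, α, 1)) X).2.2.1 = 0) α X hα (h.rk1 hX) h0
  have a := hr.mul (ac_34 j)
  generalize r * f (uu 0 0 0 0 0 (-j)) = k at a
  have kN : k ∈ Nm (J.map f) := Tr.mem_normalizer_of_conj_mem fun j hj => by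
    obtain ⟨X, rfl⟩ := (h.co.mem _).1 hj
    rw [a]; exact h.co.mJ _
  obtain ⟨L, R, d, b⟩ := h.so_tr (mul_mem kN hg) (by
    rw [show k * g * f z * (k * g)⁻¹ = k * (g * f z * g⁻¹) * k⁻¹ by group, hX, a, jj, j1, j2]; rfl)
  have c := (a.inv (L' := (1, 0, 0, 1)) (R' := m2 (1, 0, -α, 1) (1, -j, 0, 1)) fun X => by
    ext <;> simp only [lr, m2] <;> ring).mul b
  rw [inv_mul_cancel_left] at c
  exact ⟨_, _, by rw [dt2_m2, dt2_m2, dt2_m2]; simpa [dt2] using d, c⟩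

theorem so_ex (hB : ∃ g, g * f z * g⁻¹ = f x) {L R : F × F × F × F} (e : dt2 L * dt2 R = 1) :
    ∃ g, ∀ X, g * f (jj X) * g⁻¹ = f (jj (lr L R X)) := by
  by_cases h0 : R.2.2.1 = 0
  · exact ex_tri e h0
  obtain ⟨r, α, hα, hr⟩ := h.rho hB
  obtain ⟨j, hj⟩ := (by decide +kernel : ∀ α r1 r3 : F, α ≠ 0 → r3 ≠ 0 → ∃ j : F, -α * (r1 - j * r3) + r3 = 0)
    α R.1 R.2.2.1 hα h0
  obtain ⟨g, hg⟩ := ex_tri (f := f) (L := L) (R := m2 (m2 (1, 0, -α, 1) (1, -j, 0, 1)) R)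
    (by rw [dt2_m2, dt2_m2]; simpa [dt2] using e) (by simp only [m2]; linear_combination hj)
  refine ⟨_, fun X => (hg.mul (hr.mul (ac_34 j)) X).trans ?_⟩
  congr 2
  ext <;> simp only [lr, m2] <;> ring

/-- `dt2` is a class function (Fr.fusJ, so_of) -/
theorem dt2_conj (hB : ∃ g, g * f z * g⁻¹ = f x) {g : G} {X Y : F × F × F × F}
    (e : g * f (jj X) * g⁻¹ = f (jj Y)) : dt2 Y = dt2 X := by
  obtain ⟨n, hn, e'⟩ := h.fusJ (h.mem.2 (jj_mem X)) (e ▸ h.mem.2 (jj_mem Y))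
  obtain ⟨L, R, d, a⟩ := h.so_of hB hn
  rw [← jj_inj (h.inj ((a X).symm.trans (e'.trans e))), dt2_lr, d, one_mul]

end Fr

end CL.L43
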