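/- S3373, case B: the centralizer of a non-singular vector of `J` lies in `N(J)`. -/
import Mathlib
import Cfsg.Agent.PERM.L43e
import Cfsg.Agent.PERM.L43Y

set_option autoImplicit false
set_option synthInstance.maxSize 8192

namespace CL.L43

open Subgroup CL.McL3

namespace GH

/-- an orthogonal frame -/
def Bm (ε : F) : Mt := if ε = 1 then ((1, 0, 0, 1), (0, 1, 2, 0), (2, 2, 2, 1), (1, 2, 2, 2))
  else ((1, 0, 0, 2), (0, 1, 1, 0), (1, 2, 1, 1), (2, 2, 1, 2))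

def ok (B : Mt) (L R : V4) (A : Mt) : Prop :=
  lr L R B.1 = ap B A.1 ∧ lr L R B.2.1 = ap B A.2.1 ∧ lr L R B.2.2.1 = ap B A.2.2.1 ∧ lr L R B.2.2.2 = ap B A.2.2.2

instance (B : Mt) (L R : V4) (A : Mt) : Decidable (ok B L R A) := by unfold ok; infer_instance

def Rf (ε : F) (L : V4) : V4 := (dt2 L * L.2.2.2, -dt2 L * ε * L.2.1, -dt2 L * ε * L.2.2.1, dt2 L * L.1)

theorem B0 : ∀ ε : F, ε ≠ 0 → ap (Bm ε) e0 = (1, 0, 0, ε) := by decide +kernel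

theorem Binj : ∀ ε : F, ∀ v : V4, ap (Bm ε) v = 0 → v = 0 := by decide +kernel

theorem ex_tab : ∀ ε : F, ε ≠ 0 → ∀ i, ∃ L, dt2 L * dt2 (Rf ε L) = 1 ∧ ok (Bm ε) L (Rf ε L) (Rm i) := by
  decide +kernel

theorem rot_tab : ∀ ε : F, ε ≠ 0 → ∀ L, dt2 L ≠ 0 → ∃ i, ok (Bm ε) L (Rf ε L) (Rm i) := by
  decide +kernel

theorem eq_Rf {ε : F} (hε : ε ≠ 0) {L R : V4} (d : dt2 L ≠ 0) (h : lr L R (1, 0, 0, ε) = (1, 0, 0, ε)) :
    R = Rf ε L := by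
  have e := sq_one ε hε
  have d := sq_one _ d
  obtain ⟨a, b, c, k⟩ := L
  obtain ⟨r1, r2, r3, r4⟩ := R
  simp only [lr, m2, Prod.mk.injEq, dt2, Rf] at h d ⊢
  obtain ⟨h1, h2, h3, h4⟩ := h
  refine ⟨?_, ?_, ?_, ?_⟩
  · linear_combination (a * k - b * c) * (k * h1 - b * h3) - r1 * d
  · linear_combination (a * k - b * c) * (k * h2 - b * h4) - r2 * d
  · linear_combination (a * k - b * c) * ε * (a * h3 - c * h1) - r3 * d - r3 * (a * k - b * c) ^ 2 * e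
  · linear_combination (a * k - b * c) * ε * (a * h4 - c * h2) - r4 * d - r4 * (a * k - b * c) ^ 2 * e +
      (a * k - b * c) * a * e

theorem misc : ∀ ε : F, ε ≠ 0 → ok (Bm ε) (2, 0, 0, 2) (1, -1 * 0, 0, 1) W4 ∧
    ok (Bm ε) (1, 1, 0, 1) (1, -1 * ε, 0, 1) (Rm 2) ∧ uu 1 0 0 0 0 ε * w = w * uu 1 0 0 0 0 ε ∧ 1 * ε + 1 * ε ≠ 0 ∧
    uu 1 0 0 0 0 ε * yy ε = uu 1 1 ε 0 ε ε := by decide +kernel

theorem to_yy : ∀ X : V4, dt2 X ≠ 0 → dt2 (dt2 X * X.2.2.2, -dt2 X * X.2.1, -X.2.2.1, X.1) * dt2 (1, 0, 0, 1) = 1 ∧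
    lr (dt2 X * X.2.2.2, -dt2 X * X.2.1, -X.2.2.1, X.1) (1, 0, 0, 1) X = (1, 0, 0, dt2 X) := by decide +kernel

variable {G : Type*} [Group G] {f : P0 →* G}

theorem act_of_ok {g : G} {L R : V4} (a : Ac f g L R) {B A : Mt} (k : ok B L R A) :
    Act (fun v => f (jj (ap B v))) g A := by
  obtain ⟨b0, b1, b2, b3⟩ := ap_e B
  refine act_of_basis (fun x y => by rw [ap_add, jj_add, map_mul]) ?_ ?_ ?_ ?_
  · rw [b0, a, k.1]
  · rw [b1, a, k.2.1]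
  · rw [b2, a, k.2.2.1]
  · rw [b3, a, k.2.2.2]

theorem co (h : Fr f) (ε : F) : Co (J.map f) fun v => f (jj (ap (Bm ε) v)) := by
  have i : Function.Injective (ap (Bm ε)) := fun x y e => sub_eq_zero.1 (Binj ε _ (by
    rw [sub_eq_add_neg, ap_add, ap_neg, e, add_neg_cancel]))
  refine ⟨fun x y => by rw [ap_add, jj_add, map_mul], fun x y e => i (h.co.inj e), fun j => ?_⟩
  rw [h.co.mem]
  refine ⟨fun ⟨X, e⟩ => ?_, fun ⟨v, e⟩ => ⟨_, e⟩⟩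
  obtain ⟨v, rfl⟩ := Finite.injective_iff_surjective.1 i X
  exact ⟨v, e⟩

theorem cy [Finite G] (h : Fr f) (hB : ∃ g, g * f z * g⁻¹ = f x) {ε : F} (hε : ε ≠ 0) {g : G}
    (e : g * f (yy ε) = f (yy ε) * g) : g ∈ Nm (J.map f) := by
  obtain ⟨m1, m2, m3, m4, m5⟩ := misc ε hε
  have y0 : f (jj (ap (Bm ε) e0)) = f (yy ε) := by rw [B0 ε hε]; rfl
  refine cy_of (co h ε) h.cJ (w := f w) (act_of_ok (ac_P (p := w) rfl rfl) m1)
    (by rw [← map_mul, show w * w = 1 by decide +kernel, map_one]) (fun i => ?_) (fun k hk a => ?_) h.sig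
    (r := f (uu 1 0 0 0 0 ε)) (act_of_ok (ac_P (p := uu 1 0 0 0 0 ε) rfl rfl) m2)
    (by rw [← map_mul, m3, map_mul]) (fun c a b => ?_) (by simpa only [y0] using e)
  · obtain ⟨L, d, o⟩ := ex_tab ε hε i
    obtain ⟨k, hk⟩ := h.so_ex hB d
    exact ⟨k, act_of_ok hk o⟩
  · obtain ⟨L, R, d, b⟩ := h.so_of hB hk
    have d' : dt2 L ≠ 0 := fun e => by rw [e, zero_mul] at d; exact zero_ne_one d
    simp only [B0 ε hε] at a
    obtain rfl := eq_Rf hε d' (h.co.inj ((b _).symm.trans (mul_inv_eq_of_eq_mul a)))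
    obtain ⟨i, o⟩ := rot_tab ε hε L d'
    exact ⟨i, act_of_ok b o⟩
  · simp only [y0] at a
    obtain ⟨k, r, -, e1, e2⟩ := cls_U (b := 1) (c := 1) (u := ε) (f := 0) (v := ε) (w := ε) (by simp)
    rw [e2 (by simp) m4, ← m5] at e1
    refine h.u1J (c * (f k)⁻¹) ?_
    have : c * (f k)⁻¹ * f u1 * (c * (f k)⁻¹)⁻¹ = c * f (uu 1 0 0 0 0 ε) * c⁻¹ * f (yy ε) := by
      rw [← e1, map_mul, map_mul, map_mul, map_inv]
      calc _ = c * f (uu 1 0 0 0 0 ε) * c⁻¹ * (c * f (yy ε)) * c⁻¹ := by group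
        _ = _ := by rw [a]; group
    rw [this]
    exact mul_mem b (h.co.mJ (1, 0, 0, ε))

end GH

theorem Fr.cyB {G : Type*} [Group G] [Finite G] {f : P0 →* G} (h : Fr f)
    (hB : ∃ g, g * f z * g⁻¹ = f x) {X : F × F × F × F} (hX : dt2 X ≠ 0) {g : G}
    (e : g * f (jj X) = f (jj X) * g) : g ∈ Nm (J.map f) := by
  obtain ⟨d, a⟩ := GH.to_yy X hX
  obtain ⟨n, hn⟩ := h.so_ex hB d
  have nN : n ∈ Nm (J.map f) := Tr.mem_normalizer_of_conj_mem fun j hj => by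
    obtain ⟨X, rfl⟩ := (h.co.mem _).1 hj
    rw [hn]; exact h.co.mJ _
  have b : n * f (jj X) * n⁻¹ = f (yy (dt2 X)) := by rw [hn, a]; rfl
  have := GH.cy h hB hX (g := n * g * n⁻¹) (by rw [← b, conj_mul, conj_mul, e])
  simpa [mul_assoc] using mul_mem (mul_mem (inv_mem nN) this) nN

end CL.L43
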