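import Mathlib
import Cfsg.Agent.PERM.MultiTrans

/-!
Marggraf's theorems on primitive groups with a small Jordan set.
-/

set_option autoImplicit false

namespace CL.Marg

open MulAction
open scoped Pointwise

variable {G Ω : Type*} [Group G] [MulAction G Ω]

theorem card_smul_mul {X : Type*} [MulAction G X] [Finite G] [Finite X] [IsPretransitive G X]
    (x : X) (P : X → Prop) :
    Nat.card {h : G // P (h • x)} * Nat.card X = Nat.card G * Nat.card {u : X // P u} := by
  classical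
  choose σ hσ using fun u : X => exists_smul_eq G x u
  let e : {h : G // P (h • x)} ≃ {u : X // P u} × stabilizer G x :=
    { toFun := fun h => (⟨h.1 • x, h.2⟩, ⟨(σ (h.1 • x))⁻¹ * h.1, by
        rw [mem_stabilizer_iff, mul_smul, inv_smul_eq_iff, hσ]⟩)
      invFun := fun u => ⟨σ u.1.1 * u.2.1, by rw [mul_smul, u.2.2, hσ]; exact u.1.2⟩
      left_inv := fun h => Subtype.ext (by simp)
      right_inv := fun u => by
        have : (σ u.1.1 * u.2.1) • x = u.1.1 := by rw [mul_smul, u.2.2, hσ]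
        ext <;> simp [this] }
  rw [Nat.card_congr e, Nat.card_prod, ← (stabilizer G x).card_mul_index,
    index_stabilizer_of_transitive]
  ring

theorem card_pattern [Finite Ω] (Γ : Set Ω) {k i : ℕ} (hi : i ≤ k) :
    Nat.card {u : Fin k ↪ Ω // ∀ j, u j ∈ Γ ↔ j.val < i} =
      Γ.ncard.descFactorial i * Γᶜ.ncard.descFactorial (k - i) := by
  classical
  cases nonempty_fintype Ω
  let e : {u : Fin k ↪ Ω // ∀ j, u j ∈ Γ ↔ j.val < i} ≃
      ({j : Fin k // j.val < i} ↪ Γ) × ({j : Fin k // ¬ j.val < i} ↪ (Γᶜ : Set Ω)) :=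
    { toFun := fun u =>
        (⟨fun j => ⟨u.1 j, (u.2 j).2 j.2⟩, fun a b h =>
          Subtype.ext (u.1.injective (congrArg Subtype.val h))⟩,
        ⟨fun j => ⟨u.1 j, fun h => j.2 ((u.2 j).1 h)⟩, fun a b h =>
          Subtype.ext (u.1.injective (congrArg Subtype.val h))⟩)
      invFun := fun v => ⟨⟨fun j => if h : j.val < i then v.1 ⟨j, h⟩ else v.2 ⟨j, h⟩, by
          intro a b h
          dsimp only at h
          split_ifs at h with ha hb hb
          · exact congrArg Subtype.val (v.1.injective (Subtype.ext h))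
          · exact absurd (h ▸ (v.1 ⟨a, ha⟩).2) (v.2 ⟨b, hb⟩).2
          · exact absurd (h ▸ (v.1 ⟨b, hb⟩).2) (v.2 ⟨a, ha⟩).2
          · exact congrArg Subtype.val (v.2.injective (Subtype.ext h))⟩, fun j => by
          change (if h : j.val < i then (v.1 ⟨j, h⟩ : Ω) else v.2 ⟨j, h⟩) ∈ Γ ↔ _
          split_ifs with h
          · exact iff_of_true (v.1 ⟨j, h⟩).2 h
          · exact iff_of_false (v.2 ⟨j, h⟩).2 h⟩
      left_inv := fun u => by
        ext j
        change (if h : j.val < i then u.1 j else u.1 j) = u.1 j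
        simp
      right_inv := fun v => by
        ext j
        · exact dif_pos j.2
        · exact dif_neg j.2 }
  rw [Nat.card_congr e, Nat.card_prod, Nat.card_eq_fintype_card, Nat.card_eq_fintype_card,
    Fintype.card_embedding_eq, Fintype.card_embedding_eq, Fintype.card_subtype_compl,
    Fintype.card_fin_lt_of_le hi, Fintype.card_fin, ← Nat.card_eq_fintype_card,
    ← Nat.card_eq_fintype_card, Nat.card_coe_set_eq, Nat.card_coe_set_eq]

theorem cast_desc (n k : ℕ) :
    ((n.descFactorial (k + 1) : ℕ) : ℤ) = (n - k) * (n.descFactorial k : ℕ) := by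
  rw [Nat.descFactorial_succ]
  rcases le_or_gt k n with h | h
  · push_cast [h]; ring
  · rw [Nat.descFactorial_of_lt h]; simp

theorem desc_lt {a b k : ℕ} (hab : a < b) (hk : k + 1 ≤ b) :
    a.descFactorial (k + 1) < b.descFactorial (k + 1) := by
  rw [Nat.descFactorial_succ, Nat.descFactorial_succ]
  calc _ ≤ (a - k) * b.descFactorial k := Nat.mul_le_mul_left _ (Nat.descFactorial_le k hab.le)
    _ < _ := Nat.mul_lt_mul_of_pos_right (by omega) (Nat.descFactorial_pos.2 (by omega))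

theorem count [Finite G] [Finite Ω] {k : ℕ} (hG : IsMultiplyPretransitive G Ω k) (Γ : Set Ω)
    (z : Fin (k + 1) ↪ Ω) (h0 : ∀ h : G, ¬ ∀ j : Fin (k + 1), h • z j ∈ Γ ↔ j.val < 1)
    (m : ℕ) (hm : 2 * m ≤ k) :
    Γ.ncard * Γᶜ.ncard.descFactorial k ≤
      Γ.ncard.descFactorial (2 * m + 1) * Γᶜ.ncard.descFactorial (k - 2 * m) := by
  classical
  cases nonempty_fintype G
  cases nonempty_fintype Ω
  let A : ℕ → ℕ := fun i => (Finset.univ.filter fun h : G =>
    ∀ j : Fin (k + 1), h • z j ∈ Γ ↔ j.val < i).card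
  set g := Γ.ncard
  set d := Γᶜ.ncard
  set N := Nat.card (Fin k ↪ Ω) with hN
  have hnk : k + 1 ≤ g + d := by
    rw [Set.ncard_add_ncard_compl, Nat.card_eq_fintype_card]
    simpa using Fintype.card_le_of_embedding z
  have hA : ∀ i ≤ k, (A i + A (i + 1)) * N =
      Nat.card G * (g.descFactorial i * d.descFactorial (k - i)) := by
    intro i hi
    let i' : Fin (k + 1) := ⟨i, by omega⟩
    have h1 := card_smul_mul (G := G) (i'.succAboveEmb.trans z) fun u => ∀ j, u j ∈ Γ ↔ j.val < i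
    rw [card_pattern Γ hi] at h1
    rw [← h1, Nat.card_eq_fintype_card, Fintype.card_subtype,
      ← Finset.card_filter_add_card_filter_not (fun h : G => h • z i' ∉ Γ), Finset.filter_filter,
      Finset.filter_filter]
    have e : ∀ j : Fin k, ((i'.succAbove j).val < i ↔ j.val < i) ∧
        ((i'.succAbove j).val < i + 1 ↔ j.val < i) := by
      intro j
      unfold Fin.succAbove
      split_ifs with h
      · have : j.val < i := h
        simp only [Fin.val_castSucc]
        exact ⟨trivial, by omega⟩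
      · have : ¬ j.val < i := h
        simp only [Fin.val_succ]; omega
    congr 2
    · refine congrArg Finset.card (Finset.filter_congr fun h _ => ?_)
      rw [Fin.forall_iff_succAbove i', and_comm]
      refine and_congr (forall_congr' fun j => ?_) (by simp [i'])
      rw [(e j).1]; rfl
    · refine congrArg Finset.card (Finset.filter_congr fun h _ => ?_)
      rw [Fin.forall_iff_succAbove i', and_comm]
      refine and_congr (forall_congr' fun j => ?_) (by simp [i'])
      rw [(e j).2]; rfl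
  let c : ℕ → ℤ := fun i => ((g : ℤ) + d - k) * N * A i -
    Nat.card G * ((g.descFactorial i : ℕ) * (d.descFactorial (k + 1 - i) : ℕ))
  have hc : ∀ i ≤ k, c (i + 1) = - c i := by
    intro i hi
    have h1 : ((A i : ℤ) + A (i + 1)) * N =
        Nat.card G * ((g.descFactorial i : ℕ) * (d.descFactorial (k - i) : ℕ)) := by
      exact_mod_cast hA i hi
    simp only [c]
    rw [show k + 1 - i = (k - i) + 1 by omega, show k + 1 - (i + 1) = k - i by omega, cast_desc,
      cast_desc, Nat.cast_sub hi]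
    linear_combination ((g : ℤ) + d - k) * h1
  have hodd : ∀ m, 2 * m ≤ k → c (2 * m + 1) = c 1 := by
    intro m
    induction m with
    | zero => simp
    | succ m ih =>
      intro hm
      rw [show 2 * (m + 1) + 1 = 2 * m + 1 + 1 + 1 by ring, hc _ (by omega), hc _ (by omega),
        neg_neg, ih (by omega)]
  have hA1 : A 1 = 0 := by
    simp only [A, Finset.card_eq_zero, Finset.filter_eq_empty_iff]
    exact fun h _ => h0 h
  have h1 := hodd m hm
  simp only [c, hA1, Nat.descFactorial_one, Nat.add_sub_cancel] at h1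
  rw [show k + 1 - (2 * m + 1) = k - 2 * m by omega] at h1
  have h2 : (0 : ℤ) ≤ ((g : ℤ) + d - k) * N * A (2 * m + 1) := by
    have : (0 : ℤ) ≤ (g : ℤ) + d - k := by omega
    positivity
  have h3 : (0 : ℤ) < Nat.card G := by exact_mod_cast Nat.card_pos
  have h4 : ((g : ℤ) * (d.descFactorial k : ℕ)) ≤
      (g.descFactorial (2 * m + 1) : ℕ) * (d.descFactorial (k - 2 * m) : ℕ) := by
    refine le_of_mul_le_mul_left ?_ h3
    push_cast at h1 ⊢
    linarith
  exact_mod_cast h4

/-- The pointwise stabiliser of the complement of `Γ` is transitive on `Γ`. -/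
def Jor (G : Type*) {Ω : Type*} [Group G] [MulAction G Ω] (Γ : Set Ω) : Prop :=
  ∀ x ∈ Γ, ∀ y ∈ Γ, ∃ g : G, (∀ z ∉ Γ, g • z = z) ∧ g • x = y

theorem Jor.smul {Γ : Set Ω} (h : Jor G Γ) (g : G) : Jor G (g • Γ) := by
  rintro _ ⟨x, hx, rfl⟩ _ ⟨y, hy, rfl⟩
  obtain ⟨k, hk, hxy⟩ := h x hx y hy
  refine ⟨g * k * g⁻¹, fun z hz => ?_, by simp only [mul_smul, inv_smul_smul, hxy]⟩
  rw [mul_smul, mul_smul, hk _ fun h' => hz (Set.mem_smul_set_iff_inv_smul_mem.2 h'), smul_inv_smul]

theorem Jor.union {A B : Set Ω} (hA : Jor G A) (hB : Jor G B) (h : ¬ Disjoint A B) :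
    Jor G (A ∪ B) := by
  obtain ⟨c, hcA, hcB⟩ := Set.not_disjoint_iff.1 h
  have key : ∀ x ∈ A ∪ B, ∃ g : G, (∀ z ∉ A ∪ B, g • z = z) ∧ g • c = x := by
    rintro x (hx | hx)
    · obtain ⟨g, h1, h2⟩ := hA c hcA x hx
      exact ⟨g, fun z hz => h1 z fun h => hz (Or.inl h), h2⟩
    · obtain ⟨g, h1, h2⟩ := hB c hcB x hx
      exact ⟨g, fun z hz => h1 z fun h => hz (Or.inr h), h2⟩
  intro x hx y hy
  obtain ⟨g, g1, g2⟩ := key x hx
  obtain ⟨k, k1, k2⟩ := key y hy
  refine ⟨k * g⁻¹, fun z hz => ?_, by rw [← g2, mul_smul, inv_smul_smul, k2]⟩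
  rw [mul_smul, inv_smul_eq_iff.2 (g1 z hz).symm, k1 z hz]

theorem exists_smul_set [Finite Ω] {k : ℕ} (hG : IsMultiplyPretransitive G Ω k) {S T : Set Ω}
    (hS : S.ncard = k) (hT : T.ncard = k) : ∃ g : G, g • S = T := by
  classical
  obtain ⟨g, hg⟩ := (Set.powersetCard.isPretransitive_of_isMultiplyPretransitive G hG).exists_smul_eq
    ⟨S.toFinite.toFinset, by rw [Set.powersetCard.mem_iff, ← Set.ncard_eq_toFinset_card, hS]⟩
    ⟨T.toFinite.toFinset, by rw [Set.powersetCard.mem_iff, ← Set.ncard_eq_toFinset_card, hT]⟩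
  have : g • S.toFinite.toFinset = T.toFinite.toFinset := congrArg Subtype.val hg
  refine ⟨g, ?_⟩
  have := congrArg (fun s : Finset Ω => (s : Set Ω)) this
  simpa using this

theorem step [Finite G] [Finite Ω] (hP : IsPreprimitive G Ω) {k : ℕ} (hk : 2 ≤ k)
    (hG : IsMultiplyPretransitive G Ω k) {Γ : Set Ω} (hΓ : Jor G Γ) (h1 : 1 < Γ.ncard)
    (hkd : k ≤ Γᶜ.ncard) (h2 : Γ.ncard < Γᶜ.ncard ∨ (Γ.ncard ≤ Γᶜ.ncard ∧ Even k)) :
    IsMultiplyPretransitive G Ω (k + 1) := by
  classical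
  cases nonempty_fintype Ω
  obtain ⟨C, ⟨hC, hCk⟩, hmax⟩ := Set.exists_max_image {C : Set Ω | Jor G C ∧ k ≤ Cᶜ.ncard}
    Set.ncard (Set.toFinite _) ⟨Γ, hΓ, hkd⟩
  have hΓC := hmax Γ ⟨hΓ, hkd⟩
  have hn := Set.ncard_add_ncard_compl C
  have u0 : ∀ h : G, ¬ Disjoint C (h • C) → k ≤ (C ∪ h • C)ᶜ.ncard → h • C = C := by
    intro h hd hc
    have h3 := hmax _ ⟨hC.union (hC.smul h) hd, hc⟩
    have h4 : C = C ∪ h • C := Set.eq_of_subset_of_ncard_le Set.subset_union_left h3
    exact Set.eq_of_subset_of_ncard_le (Set.subset_union_right.trans h4.ge) (Set.ncard_smul_set h C).ge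
  have u1 : ∀ h : G, k ≤ (C ∪ h • C)ᶜ.ncard → h • C = C := by
    intro h hc
    by_cases hd : Disjoint C (h • C)
    swap
    · exact u0 h hd hc
    exfalso
    have h3 := Set.ncard_add_ncard_compl (C ∪ h • C)
    rw [Set.ncard_union_eq hd, Set.ncard_smul_set] at h3
    have hb : IsBlock G C := by
      rw [isBlock_iff_smul_eq_or_disjoint]
      intro g
      by_cases hg : Disjoint C (g • C)
      · exact Or.inr hg.symm
      · refine Or.inl (u0 g hg ?_)
        have h4 := Set.ncard_add_ncard_compl (C ∪ g • C)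
        have h5 := Set.ncard_union_le C (g • C)
        rw [Set.ncard_smul_set] at h5
        omega
    rcases hP.isTrivialBlock_of_isBlock hb with h4 | h4
    · have := (Set.ncard_le_one_iff_subsingleton).2 h4
      omega
    · rw [h4, Set.compl_univ, Set.ncard_empty] at hCk
      omega
  have uq : ∀ (a b : G) (Y : Set Ω), Y.ncard = k → Y ⊆ (a • C)ᶜ → Y ⊆ (b • C)ᶜ → a • C = b • C := by
    intro a b Y hY ha hb
    have := u1 (a⁻¹ * b) (by
      rw [← hY, ← Set.ncard_smul_set a⁻¹ Y]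
      refine Set.ncard_le_ncard ?_ (Set.toFinite _)
      rintro _ ⟨y, hy, rfl⟩ (h | h)
      · exact ha hy (Set.mem_smul_set_iff_inv_smul_mem.2 h)
      · rw [mul_smul, Set.smul_mem_smul_set_iff] at h
        exact hb hy h)
    rw [mul_smul, inv_smul_eq_iff] at this
    exact this.symm
  have ex : ∀ Y : Set Ω, Y.ncard = k → ∃ a : G, Y ⊆ (a • C)ᶜ := by
    intro Y hY
    obtain ⟨Z, hZ, hZk⟩ := Set.exists_subset_card_eq hCk
    obtain ⟨a, rfl⟩ := exists_smul_set hG hZk hY
    refine ⟨a, ?_⟩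
    rintro _ ⟨y, hy, rfl⟩ h
    exact hZ hy (Set.smul_mem_smul_set_iff.1 h)
  have cc : ∀ a : G, (a • C)ᶜ.ncard = Cᶜ.ncard := fun a => by
    rw [← Set.smul_set_compl, Set.ncard_smul_set]
  rcases hCk.eq_or_lt with hl | hl
  · refine CL.Perm.isMultiplyPretransitive_of_forall_card_eq
      (by rw [← Nat.card_eq_fintype_card]; omega) fun T hT a ha b hb => ?_
    have hT' : (T : Set Ω).ncard = k := by rw [Set.ncard_coe_finset]; omega
    obtain ⟨h, hh⟩ := ex T hT'
    have e : (T : Set Ω) = (h • C)ᶜ := Set.eq_of_subset_of_ncard_le hh (by rw [cc]; omega)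
    obtain ⟨g, g1, g2⟩ := hC.smul h a (by
      by_contra h'; exact ha (show a ∈ (T : Set Ω) from e ▸ h')) b (by
      by_contra h'; exact hb (show b ∈ (T : Set Ω) from e ▸ h'))
    exact ⟨g, fun t ht => g1 t (hh ht), g2⟩
  exfalso
  have S : ∀ (a : G) (Y : Set Ω), Y.ncard = k → Y ⊆ Γᶜ → Y ⊆ (a • C)ᶜ → ∀ x ∈ Γ, x ∉ a • C →
      Γ ⊆ (a • C)ᶜ := by
    intro a Y hY h3 h4 x hx hxa y hy hya
    obtain ⟨u, u1, rfl⟩ := hΓ x hx y hy
    have := uq (u * a) a Y hY (fun y hy h => h4 hy (by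
      rw [mul_smul, ← u1 y (h3 hy), Set.smul_mem_smul_set_iff] at h
      exact h)) h4
    rw [← this, mul_smul, Set.smul_mem_smul_set_iff] at hya
    exact hxa hya
  have sub : ∀ (a : G) (Y : Set Ω), Y.ncard = k → Y ⊆ Γᶜ → Y ⊆ (a • C)ᶜ → Γ ⊆ a • C := by
    intro a Y hY h3 h4 x hx
    by_contra hxa
    have h5 := S a Y hY h3 h4 x hx hxa
    obtain ⟨γ, hγ⟩ : (a • C).Nonempty := by
      rw [← Set.ncard_pos, Set.ncard_smul_set]; omega
    have hγΓ : γ ∉ Γ := fun h => h5 h hγ
    obtain ⟨Y', hY', hY'k⟩ := Set.exists_subset_card_eq (show k - 2 ≤ Y.ncard by omega)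
    have card2 : ∀ p q : Ω, p ∉ Y' → q ∉ Y' → p ≠ q → (insert p (insert q Y')).ncard = k := by
      intro p q hp hq hpq
      rw [Set.ncard_insert_of_notMem (by simp [hp, hpq]), Set.ncard_insert_of_notMem hq]
      omega
    have hxY : ∀ x ∈ Γ, x ∉ Y' := fun x hx h => h3 (hY' h) hx
    have hγY : γ ∉ Y' := fun h => h4 (hY' h) hγ
    have hZ := card2 γ x hγY (hxY x hx) (by rintro rfl; exact hγΓ hx)
    obtain ⟨b, hb⟩ := ex _ hZ
    have hne : b • C ≠ a • C := fun e => hb (Set.mem_insert _ _) (e ▸ hγ)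
    have hbx : x ∉ b • C := hb (by simp)
    have hbY : Y' ⊆ (b • C)ᶜ := fun y hy => hb (by simp [hy])
    obtain ⟨w, hw, hwZ⟩ := Set.exists_mem_notMem_of_ncard_lt_ncard
      (show (insert γ (insert x Y')).ncard < (b • C)ᶜ.ncard by rw [cc]; omega)
    simp only [Set.mem_insert_iff, not_or] at hwZ
    have hwa : w ∈ a • C := by
      by_contra hwa
      refine hne (uq b a _ (card2 w x hwZ.2.2 (hxY x hx) hwZ.2.1) ?_ ?_)
      · exact Set.insert_subset hw (Set.insert_subset hbx hbY)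
      · exact Set.insert_subset hwa (Set.insert_subset hxa (hY'.trans h4))
    have h6 := S b _ (card2 w γ hwZ.2.2 hγY hwZ.1)
      (Set.insert_subset (fun h => h5 h hwa) (Set.insert_subset hγΓ (hY'.trans h3)))
      (Set.insert_subset hw (Set.insert_subset (hb (Set.mem_insert _ _)) hbY)) x hx hbx
    obtain ⟨x', hx', hxx⟩ := Set.exists_ne_of_one_lt_ncard h1 x
    refine hne (uq b a _ (card2 x' x (hxY x' hx') (hxY x hx) hxx) ?_ ?_)
    · exact Set.insert_subset (h6 hx') (Set.insert_subset hbx hbY)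
    · exact Set.insert_subset (h5 hx') (Set.insert_subset hxa (hY'.trans h4))
  obtain ⟨z⟩ : Nonempty (Fin (k + 1) ↪ (Cᶜ : Set Ω)) := Function.Embedding.nonempty_of_card_le (by
    rw [Fintype.card_fin, ← Nat.card_eq_fintype_card, Nat.card_coe_set_eq]; omega)
  have hc := count hG Γ (z.trans (Function.Embedding.subtype _)) (fun h hh => by
    have := sub h (Set.range fun j : Fin k => h • (z j.succ : Ω)) (by
      rw [Set.ncard_range_of_injective, Nat.card_eq_fintype_card, Fintype.card_fin]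
      exact fun i j e => Fin.succ_injective _ (z.injective (Subtype.ext (MulAction.injective h e))))
      (by
        rintro _ ⟨j, rfl⟩ h'
        simpa using (hh j.succ).1 h') (by
        rintro _ ⟨j, rfl⟩ h'
        exact (z j.succ).2 (Set.smul_mem_smul_set_iff.1 h')) ((hh 0).2 (by simp))
    exact (z 0).2 (Set.smul_mem_smul_set_iff.1 this))
  generalize Γ.ncard = g at *
  generalize Γᶜ.ncard = d at *
  obtain ⟨g, rfl⟩ : ∃ g', g = g' + 1 := ⟨g - 1, by omega⟩
  rcases Nat.even_or_odd' k with ⟨m, rfl | rfl⟩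
  · have h3 := hc m le_rfl
    rw [Nat.succ_descFactorial_succ, Nat.sub_self, Nat.descFactorial_zero, mul_one] at h3
    have h4 := Nat.le_of_mul_le_mul_left h3 (by omega)
    obtain ⟨j, hj⟩ : ∃ j, 2 * m = j + 1 := ⟨2 * m - 1, by omega⟩
    rw [hj] at h4
    exact absurd h4 (not_le.2 (desc_lt (by omega) (by omega)))
  · have h3 := hc m (by omega)
    have h5 : g + 1 < d := h2.resolve_right fun h => by simpa using h.2
    obtain ⟨d, rfl⟩ : ∃ d', d = d' + 1 := ⟨d - 1, by omega⟩
    rw [Nat.succ_descFactorial_succ, Nat.succ_descFactorial_succ, Nat.add_sub_cancel_left,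
      Nat.descFactorial_one, mul_assoc, mul_comm (g.descFactorial _)] at h3
    have h4 := Nat.le_of_mul_le_mul_left (Nat.le_of_mul_le_mul_left h3 (by omega)) (by omega)
    obtain ⟨j, hj⟩ : ∃ j, 2 * m = j + 1 := ⟨2 * m - 1, by omega⟩
    rw [hj] at h4
    exact absurd h4 (not_le.2 (desc_lt (by omega) (by omega)))

theorem two_trans [Finite Ω] (hP : IsPreprimitive G Ω) {Γ : Set Ω} (hΓ : Jor G Γ)
    (h1 : 1 < Γ.ncard) (hd : 1 ≤ Γᶜ.ncard) : IsMultiplyPretransitive G Ω 2 := by
  have := Set.ncard_add_ncard_compl Γ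
  refine hP.is_two_pretransitive (s := Γᶜ) (n := Γᶜ.ncard - 1) (by omega) (by omega) ⟨?_⟩
  rintro ⟨x, hx⟩ ⟨y, hy⟩
  obtain ⟨g, g1, g2⟩ := hΓ x (not_not.1 hx) y (not_not.1 hy)
  exact ⟨⟨g, (mem_fixingSubgroup_iff G).2 g1⟩, Subtype.ext g2⟩

theorem high_trans [Finite G] [Finite Ω] (hP : IsPreprimitive G Ω) {Γ : Set Ω} (hΓ : Jor G Γ)
    (h1 : 1 < Γ.ncard) (h2 : Γ.ncard < Γᶜ.ncard) :
    IsMultiplyPretransitive G Ω (Γᶜ.ncard + 1) := by
  have key : ∀ j, j + 1 ≤ Γᶜ.ncard → IsMultiplyPretransitive G Ω (j + 2) := by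
    intro j
    induction j with
    | zero => exact two_trans hP hΓ h1
    | succ j ih => exact fun hj => step hP (by omega) (ih (by omega)) hΓ h1 hj (Or.inl h2)
  have := key (Γᶜ.ncard - 1) (by omega)
  rwa [show Γᶜ.ncard - 1 + 2 = Γᶜ.ncard + 1 by omega] at this

end CL.Marg
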