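import Mathlib
import Cfsg.Agent.PERM.TwoNil
import Cfsg.Agent.FGS.CITSpec
import Cfsg.Agent.INV.StrongEmb

/-!
# Simple groups without elements of order four whose involution centralizers are solvable
-/

set_option autoImplicit false

open Cfsg Subgroup

namespace CL.NoFour

/-- There is no element of order four. -/
def NF (G : Type*) [Group G] : Prop := ∀ g : G, g ^ 4 = 1 → g ^ 2 = 1

theorem NF.of_injective {G H : Type*} [Group G] [Group H] (h : NF G) (f : H →* G)
    (hf : Function.Injective f) : NF H := fun g hg =>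
  hf (by rw [map_pow, map_one]; exact h _ (by rw [← map_pow, hg, map_one]))

theorem exists_four {G : Type*} [Group G] (h : ¬ NF G) : ∃ g : G, orderOf g = 4 := by
  unfold NF at h
  push Not at h
  obtain ⟨g, h1, h2⟩ := h
  exact ⟨g, orderOf_eq_prime_pow (p := 2) (n := 1) h2 h1⟩

theorem nf_of_forall {G : Type*} [Group G] (h : ∀ g : G, orderOf g ≠ 4) : NF G := by
  by_contra h1
  obtain ⟨g, hg⟩ := exists_four h1
  exact h g hg

theorem NF.ne_four {G : Type*} [Group G] (h : NF G) (g : G) : orderOf g ≠ 4 := fun hg => by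
  have := orderOf_dvd_of_pow_eq_one (h g (hg ▸ pow_orderOf_eq_one g))
  rw [hg] at this
  exact absurd this (by decide)

theorem NF.sq_of_pow {G : Type*} [Group G] (h : NF G) {g : G} {k : ℕ} (hk : g ^ 2 ^ k = 1) :
    g ^ 2 = 1 := by
  induction k generalizing g with
  | zero => rw [show g = 1 by simpa using hk, one_pow]
  | succ k ih =>
    exact h g (by rw [show 4 = 2 * 2 from rfl, pow_mul]; exact ih (by rwa [← pow_mul, ← pow_succ']))

theorem comm_of_sq {G : Type*} [Group G] {x y : G} (hx : x ^ 2 = 1) (hy : y ^ 2 = 1)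
    (hxy : (x * y) ^ 2 = 1) : x * y = y * x := by
  rw [pow_two] at hx hy hxy
  calc x * y = x * (x * y * (x * y)) * y := by rw [hxy, mul_one]
    _ = (x * x) * (y * x) * (y * y) := by group
    _ = y * x := by rw [hx, hy, one_mul, mul_one]

theorem not_nf_of_SL2 {G B K : Type*} [Group G] [Finite G] [Group B] [Finite B] [Field K]
    [Finite K] (hK : Odd (Nat.card K)) (f : Matrix.SpecialLinearGroup (Fin 2) K →* B)
    (hf : Function.Injective f) (hZ : ¬ 2 ∣ Nat.card (center B))
    (e : G ≃* B ⧸ center B) : ¬ NF G := fun h => by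
  let φ : Matrix.SpecialLinearGroup (Fin 2) K →* G :=
    e.symm.toMonoidHom.comp ((QuotientGroup.mk' (center B)).comp f)
  have hker : ∀ x, φ x = 1 ↔ f x ∈ center B := fun x => by
    simp [φ]
  have := Fintype.ofFinite K
  have h2 : (2 : K) ≠ 0 := fun h0 => by
    have h1 : ringChar K = 2 := CharP.ringChar_of_prime_eq_zero Nat.prime_two (by exact_mod_cast h0)
    have h3 := FiniteField.even_card_of_char_two h1
    rw [Nat.card_eq_fintype_card, Nat.odd_iff] at hK
    omega
  have hz1 : (-1 : Matrix.SpecialLinearGroup (Fin 2) K) ≠ 1 := fun h0 => by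
    have h1 := congrFun (congrFun (congrArg Subtype.val h0) 0) 0
    simp at h1
    exact h2 (by linear_combination -h1)
  have hz2 : orderOf (-1 : Matrix.SpecialLinearGroup (Fin 2) K) = 2 :=
    orderOf_eq_prime (by simp) hz1
  have ht1 : φ (-1) ≠ 1 := fun h0 => by
    have h1 := Subgroup.orderOf_dvd_natCard _ ((hker _).1 h0)
    rw [orderOf_injective f hf, hz2] at h1
    exact hZ h1
  refine ht1 ?_
  rw [← TwoNil.up_lo_sq K, map_pow]
  refine h _ ?_
  rw [show 4 = 2 * 2 from rfl, pow_mul, ← map_pow, TwoNil.up_lo_sq, ← map_pow]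
  simp

theorem not_nf_psl3_odd {G F : Type*} [Group G] [Finite G] [Field F] [Fintype F]
    (hF : Odd (Fintype.card F)) (e : G ≃* Matrix.ProjectiveSpecialLinearGroup (Fin 3) F) :
    ¬ NF G :=
  not_nf_of_SL2 (K := F) (by rwa [Nat.card_eq_fintype_card])
    (CL.Fus.gl2ToSL3.comp Matrix.SpecialLinearGroup.toGL)
    (CL.Fus.gl2ToSL3_injective.comp Matrix.SpecialLinearGroup.toGL_injective)
    (by
      rw [CL.SL.card_center_SL]
      intro h
      have := h.trans (Nat.gcd_dvd_left _ _)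
      simp at this) e

theorem not_nf_psu3_odd {G F : Type*} [Group G] [Finite G] [Field F] [Fintype F] {q : ℕ}
    (hF : Fintype.card F = q ^ 2) (hq : Odd q) (e : G ≃* PSU 3 F q) : ¬ NF G := by
  obtain ⟨i⟩ := CL.Uni.nonempty_SU_two_equiv hF (CL.SqField.card_fixedSubfield hF)
  let j : SU 2 F q →* GU 2 F q :=
    (Matrix.SpecialLinearGroup.toGL.comp (SU 2 F q).subtype).codRestrict _ fun g => g.2
  have hj : Function.Injective j := fun a b hab =>
    Subtype.ext (Matrix.SpecialLinearGroup.toGL_injective (congrArg Subtype.val hab))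
  exact not_nf_of_SL2 (K := CL.SqField.fixedSubfield hF)
    (by rwa [CL.SqField.card_fixedSubfield hF])
    ((CL.Fus.gu2ToSU3 hF).comp (j.comp i.symm.toMonoidHom))
    ((CL.Fus.gu2ToSU3_injective hF).comp (hj.comp i.symm.injective))
    (by
      rw [CL.Uni.card_center_SU hF (by norm_num)]
      intro h
      have := h.trans (Nat.gcd_dvd_left _ _)
      simp at this) e

theorem not_nf_psu3_even {G F : Type*} [Group G] [Finite G] [Field F] [Fintype F] {n : ℕ}
    (hn : 1 ≤ n) (hF : Fintype.card F = (2 ^ n) ^ 2) (e : G ≃* PSU 3 F (2 ^ n)) : ¬ NF G := by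
  intro h
  have : CharP F 2 := charP_of_card_eq_prime_pow (p := 2) (f := n * 2) (by rw [hF, pow_mul])
  have h2 : (2 : F) = 0 := CharTwo.two_eq_zero
  generalize 2 ^ n = q at hF e
  obtain ⟨P⟩ : Nonempty (Sylow 2 G) := inferInstance
  obtain ⟨B⟩ := CL.U3.nonempty_bMod_PSU hF e 2 P
  obtain ⟨x, hx⟩ := CL.U3.S.exists_a hF 1
  obtain ⟨k, hk⟩ := CL.U3.S.isPGroup hF 2 x
  have h3 := congrArg CL.U3.S.b ((h.of_injective B.φ B.inj).sq_of_pow hk)
  rw [pow_two, CL.U3.S.mul_b, hx, CL.U3.S.one_b, one_pow] at h3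
  exact one_ne_zero (α := F) (by linear_combination h3 - x.b * h2)

theorem not_nf_psl3_even {G F : Type*} [Group G] [Field F] (h2 : (2 : F) = 0)
    (e : G ≃* Matrix.ProjectiveSpecialLinearGroup (Fin 3) F) : ¬ NF G := fun h => by
  have h1 := h.of_injective e.symm.toMonoidHom e.symm.injective
  let u : Matrix.SpecialLinearGroup (Fin 3) F := ⟨!![1, 1, 0; 0, 1, 1; 0, 0, 1], by
    simp [Matrix.det_fin_three]⟩
  let v : Matrix.SpecialLinearGroup (Fin 3) F := ⟨!![1, 0, 1; 0, 1, 0; 0, 0, 1], by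
    simp [Matrix.det_fin_three]⟩
  have h11 : (1 : F) + 1 = 0 := by linear_combination h2
  have hu : u ^ 2 = v := by
    rw [pow_two]
    refine Subtype.ext ?_
    change !![1, 1, 0; 0, 1, 1; 0, 0, 1] * !![1, 1, 0; 0, 1, 1; 0, 0, 1] =
      !![1, 0, 1; 0, 1, 0; 0, 0, (1 : F)]
    simp [h11]
  have hv : v ^ 2 = 1 := by
    rw [pow_two]
    refine Subtype.ext ?_
    change !![1, 0, 1; 0, 1, 0; 0, 0, 1] * !![1, 0, 1; 0, 1, 0; 0, 0, 1] =
      (1 : Matrix (Fin 3) (Fin 3) F)
    simp [h11, Matrix.one_fin_three]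
  have h3 := h1 (QuotientGroup.mk' _ u) (by
    rw [← map_pow, show 4 = 2 * 2 from rfl, pow_mul, hu, hv, map_one])
  rw [← map_pow, hu, QuotientGroup.mk'_apply, QuotientGroup.eq_one_iff,
    Matrix.SpecialLinearGroup.mem_center_iff] at h3
  obtain ⟨r, -, hr⟩ := h3
  have := congrFun (congrFun hr 0) 2
  simp [v] at this

theorem not_nf_M11 {G : Type*} [Group G] [Finite G] [IsSimpleGroup G]
    (hG : Nat.card G = 7920) : ¬ NF G := fun h => by
  obtain ⟨e⟩ := CL.Ord.iso_K12 hG
  have h1 := h.of_injective e.symm.toMonoidHom e.symm.injective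
  let X : CL.Ord.K12 := ⟨CL.Ord.X12, subset_closure (by simp)⟩
  let Y : CL.Ord.K12 := ⟨CL.Ord.Y12, subset_closure (by simp)⟩
  let Z : CL.Ord.K12 := ⟨CL.Ord.Z12, subset_closure (by simp)⟩
  exact absurd (congrArg Subtype.val (h1 (X * Z * Y * Z * X * (X * Y * X * Y * Z * X * Z))
    (Subtype.ext (by decide +kernel)))) (by decide +kernel)

theorem not_nf_A7 {G : Type*} [Group G] (e : G ≃* alternatingGroup (Fin 7)) : ¬ NF G := fun h => by
  have h1 := h.of_injective e.symm.toMonoidHom e.symm.injective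
  let x : alternatingGroup (Fin 7) := ⟨⟨![1, 2, 3, 0, 5, 4, 6], ![3, 0, 1, 2, 5, 4, 6], by decide,
    by decide⟩, Equiv.Perm.mem_alternatingGroup.2 (by decide)⟩
  exact absurd (congrArg Subtype.val (h1 x (Subtype.ext (by decide)))) (by decide)

theorem not_nf_suzuki {G : Type*} [Group G] [Finite G] (h : Lie.IsoSuzuki G) : ¬ NF G := fun h1 => by
  obtain ⟨F, _, _, m, hm, hF, ⟨e⟩⟩ := h
  obtain ⟨g, hg⟩ := (CITC.spec_suzuki hm hF e 4).2 (.inl dvd_rfl)
  exact h1.ne_four g hg

/-- With elementary abelian Sylow `2`-subgroups and involution centralizers of characteristic two,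
a Sylow normalizer is strongly embedded. -/
theorem exists_isStronglyEmbedded {G : Type*} [Group G] [Finite G] [IsSimpleGroup G]
    (hG : ¬ IsMulCommutative G) (h : NF G)
    (hc : ∀ t : G, orderOf t = 2 → centralizer (pCore 2 (centralizer ({t} : Set G)) :
      Set (centralizer ({t} : Set G))) ≤ pCore 2 (centralizer ({t} : Set G))) :
    ∃ M : Subgroup G, IsStronglyEmbedded M := by
  have hcomm : ∀ {X : Subgroup G}, IsPGroup 2 X → ∀ x ∈ X, ∀ y ∈ X, x * y = y * x := by
    intro X hX x hx y hy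
    have h1 : ∀ z ∈ X, z ^ 2 = 1 := fun z hz =>
      let ⟨k, hk⟩ := hX ⟨z, hz⟩
      h.sq_of_pow (k := k) (by simpa using congrArg Subtype.val hk)
    exact comm_of_sq (h1 x hx) (h1 y hy) (h1 _ (X.mul_mem hx hy))
  have key : ∀ t : G, orderOf t = 2 → ∀ S : Sylow 2 G, t ∈ (S : Subgroup G) →
      (S : Subgroup G) = (pCore 2 (centralizer ({t} : Set G))).map (Subgroup.subtype _) := by
    intro t ht S htS
    refine (S.3 ((CL.isPGroup_pCore 2 _).map _) fun x hx => ?_).symm
    let y : centralizer ({t} : Set G) := ⟨x, mem_centralizer_singleton_iff.2 (hcomm S.2 x hx t htS)⟩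
    refine ⟨y, hc t ht fun z hz => ?_, rfl⟩
    obtain ⟨k, hk⟩ := S.2 ⟨x, hx⟩
    have hy : IsPGroup 2 (zpowers y) := by
      obtain ⟨j, -, hj⟩ := (Nat.dvd_prime_pow Nat.prime_two).1 (orderOf_dvd_of_pow_eq_one
        (x := y) (n := 2 ^ k) (Subtype.ext (by simpa using congrArg Subtype.val hk)))
      exact IsPGroup.of_card (by rw [Nat.card_zpowers, hj])
    obtain ⟨P, hP⟩ := hy.exists_le_sylow
    exact Subtype.ext (hcomm (P.2.map (Subgroup.subtype _)) _
      (mem_map_of_mem _ (CL.pCore_le_sylow P hz)) _ (mem_map_of_mem _ (hP (mem_zpowers y))))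
  obtain ⟨S⟩ : Nonempty (Sylow 2 G) := inferInstance
  have hev := CL.PSL2E.even_card_of_simple hG
  have hS : 2 ∣ Nat.card S := S.dvd_card_of_dvd_card (even_iff_two_dvd.1 hev)
  have hmem : ∀ t ∈ normalizer ((S : Subgroup G) : Set G), orderOf t = 2 → t ∈ (S : Subgroup G) := by
    intro t htN ht
    have h1 : IsPGroup 2 (zpowers t) := IsPGroup.of_card (n := 1) (by rw [Nat.card_zpowers, ht, pow_one])
    have h2 := IsPGroup.to_sup_of_normal_left' S.2 h1 (zpowers_le.2 htN)
    exact S.3 h2 le_sup_left ▸ mem_sup_right (mem_zpowers t)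
  refine ⟨normalizer ((S : Subgroup G) : Set G), StrongEmb.isStronglyEmbedded_iff.2 ⟨fun h1 => ?_,
    even_iff_two_dvd.2 (hS.trans (card_dvd_of_le le_normalizer)), fun t htN ht g hg => ?_⟩⟩
  · rcases (normalizer_eq_top_iff.1 h1).eq_bot_or_eq_top with h2 | h2
    · rw [h2, card_bot] at hS
      exact absurd hS (by decide)
    · exact hG ⟨⟨fun x y => hcomm S.2 x (h2 ▸ mem_top x) y (h2 ▸ mem_top y)⟩⟩
  · have h1 := hmem _ hg (by rwa [← MulAut.conj_apply, MulEquiv.orderOf_eq])
    have h2 : t ∈ ((g⁻¹ • S : Sylow 2 G) : Subgroup G) := by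
      rw [Sylow.coe_subgroup_smul, mem_pointwise_smul_iff_inv_smul_mem]
      simpa using h1
    have h3 : g⁻¹ • S = S := Sylow.ext ((key t ht _ h2).trans (key t ht _ (hmem t htN ht)).symm)
    exact inv_mem_iff.1 (Sylow.smul_eq_iff_mem_normalizer.1 h3)

/-- **Simple groups without elements of order four and with solvable involution centralizers.** -/
theorem simple {G : Type*} [Group G] [Finite G] [IsSimpleGroup G] (hG : ¬ IsMulCommutative G)
    (h : NF G) (hs : ∀ t : G, orderOf t = 2 → Group.IsSolvable (centralizer ({t} : Set G))) :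
    ∃ (F : Type) (_ : Field F) (_ : Fintype F), 4 ≤ Fintype.card F ∧
      Nonempty (G ≃* Matrix.ProjectiveSpecialLinearGroup (Fin 2) F) := by
  by_cases hr : PRankLE 2 2 G
  · rcases CL.ABG.rank_two_of_solvable hG hr hs with ⟨F, _, _, -, h1, e⟩ | ⟨F, _, _, h1, ⟨e⟩⟩ |
      ⟨F, _, _, q, h1, h2, ⟨e⟩⟩ | ⟨F, _, _, h1, ⟨e⟩⟩ | ⟨⟨e⟩⟩ | h1
    · exact ⟨F, _, _, by omega, e⟩
    · exact absurd h (not_nf_psl3_odd h1 e)
    · exact absurd h (not_nf_psu3_odd h1 h2 e)
    · exact absurd h (not_nf_psu3_even (n := 2) one_le_two h1 e)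
    · exact absurd h (not_nf_A7 e)
    · exact absurd h (not_nf_M11 h1.2)
  have hse : ∃ M : Subgroup G, IsStronglyEmbedded M := by
    by_contra hse
    have h1 := fun t ht => CL.PC.isPConstrained_of_isSolvable (p := 2) (hs t ht)
    exact hse (exists_isStronglyEmbedded hG h fun t ht =>
      (CL.PC.isPConstrained_iff_of_eq_bot (TwoNil.core_eq_bot hG hr hse h1 ht)).1 (h1 t ht))
  obtain ⟨M, hM⟩ := hse
  obtain ⟨t, Q, hS, -⟩ := CL.Bender.setup_of_simple hG hM
  obtain ⟨n, hn, h1⟩ := CL.PS.suzuki_simple hS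
  have h4 : 4 ≤ 2 ^ n := Nat.pow_le_pow_right two_pos hn
  obtain ⟨F, _, _, _, e, h1⟩ | h1 | ⟨F, _, _, e, ⟨h1⟩⟩ := h1
  · exact ⟨F, _, _, by omega, h1⟩
  · exact absurd h (not_nf_suzuki h1.1)
  · exact absurd h (not_nf_psu3_even (by omega) e h1)

end CL.NoFour
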