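import Mathlib
import Cfsg.Agent.PERM.Oval6
import Cfsg.Agent.PERM.Oval7
import Cfsg.Agent.SOLV.PGroupCyclicSCN
import Cfsg.Agent.TECH.ZC3
import Cfsg.Agent.S0205
import Cfsg.Agent.S0215
import Cfsg.Agent.S1241

/-!
Simple collineation groups preserving an oval: all involutions are homologies, and the Sylow
`2`-subgroups are dihedral or quasi-dihedral.
-/

set_option autoImplicit false
set_option linter.unusedSectionVars false

namespace CL.SymDes

open Finset MulAction Subgroup CL.OvalG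
open scoped Classical

theorem exists_four {G : Type*} [Group G] {z w : G} (hz : z * z = 1) (hw : w * w = 1)
    (c : w * z = z * w) (z1 : z ≠ 1) (w1 : w ≠ 1) (e : z ≠ w) :
    ∃ V : Subgroup G, CL.JC.Four V ∧ ∀ g, g ∈ V ↔ g = 1 ∨ g = z ∨ g = w ∨ g = z * w := by
  have h1 : ∀ g, z * (z * g) = g := fun g => by rw [← mul_assoc, hz, one_mul]
  have h2 : ∀ g, w * (z * g) = z * (w * g) := fun g => by rw [← mul_assoc, c, mul_assoc]
  have h3 : z * w * (z * w) = 1 := by simp [mul_assoc, h2, hw, hz]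
  let V : Subgroup G :=
    { carrier := (({1, z, w, z * w} : Finset G) : Set G)
      one_mem' := by simp
      mul_mem' := by
        intro a b ha hb
        simp only [coe_insert, coe_singleton, Set.mem_insert_iff, Set.mem_singleton_iff] at ha hb ⊢
        rcases ha with rfl | rfl | rfl | rfl <;> rcases hb with rfl | rfl | rfl | rfl <;>
          simp [mul_assoc, h1, h2, hz, hw, c]
      inv_mem' := by
        intro a ha
        simp only [coe_insert, coe_singleton, Set.mem_insert_iff, Set.mem_singleton_iff] at ha ⊢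
        rcases ha with rfl | rfl | rfl | rfl
        · simp
        · simp [inv_eq_of_mul_eq_one_right hz]
        · simp [inv_eq_of_mul_eq_one_right hw]
        · rw [inv_eq_of_mul_eq_one_right h3]; simp }
  have k : ∀ g, g ∈ V ↔ g = 1 ∨ g = z ∨ g = w ∨ g = z * w := fun g => by
    change g ∈ (({1, z, w, z * w} : Finset G) : Set G) ↔ _
    simp
  refine ⟨V, ⟨?_, fun g hg => by rcases (k g).1 hg with rfl | rfl | rfl | rfl <;> simp [*]⟩, k⟩
  have h4 : 1 ≠ z * w := fun e' => e (by rw [← mul_one z, e', h1])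
  change Nat.card (({1, z, w, z * w} : Finset G) : Set G) = 4
  rw [Nat.card_coe_set_eq, Set.ncard_coe_finset, card_insert_of_notMem (by simp [z1.symm, w1.symm, h4]),
    card_insert_of_notMem (by simp [e, w1]), card_insert_of_notMem (by simp [z1]), card_singleton]

theorem exists_conj {G : Type*} [Group G] [Finite G] [IsSimpleGroup G] (hG : ¬ IsMulCommutative G)
    (S : Sylow 2 G) {u : G} (hu : u ∈ S) (u1 : u ≠ 1) (u2 : u * u = 1) :
    ∃ g : G, g * u * g⁻¹ ∈ S ∧ g * u * g⁻¹ ≠ u := by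
  by_contra h
  push Not at h
  have h1 : orderOf u = 2 := orderOf_eq_prime (by rwa [sq]) u1
  obtain ⟨N, hN, h2, h3⟩ := Cfsg.Agent.S0215.result S u h1 hu h
  rcases hN.eq_bot_or_eq_top with rfl | rfl
  · have h4 : u ∈ center G := mem_center_iff.2 fun g => by
      have := mem_bot.1 (h3 g)
      rwa [mul_inv_eq_one, mul_inv_eq_iff_eq_mul, eq_comm] at this
    rcases (inferInstance : (center G).Normal).eq_bot_or_eq_top with e | e
    · exact u1 (mem_bot.1 (e ▸ h4))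
    · exact hG ⟨⟨fun a b => mem_center_iff.1 (e ▸ mem_top b) a⟩⟩
  · rw [card_top] at h2
    exact h2.not_two_dvd_nat (h1 ▸ orderOf_dvd_natCard u)

theorem two_dvd_card {G : Type*} [Group G] [Finite G] [IsSimpleGroup G]
    (hG : ¬ IsMulCommutative G) : 2 ∣ Nat.card G := by
  by_contra h
  exact hG ⟨⟨IsSimpleGroup.comm_iff_isSolvable.2
    (Cfsg.Agent.S0205.result (Nat.odd_iff.2 (by omega)))⟩⟩

theorem exists_central {G : Type*} [Group G] [Finite G] [IsSimpleGroup G]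
    (hG : ¬ IsMulCommutative G) (S : Sylow 2 G) :
    ∃ z w : G, z ∈ S ∧ w ∈ S ∧ z ≠ 1 ∧ z * z = 1 ∧ z ≠ w ∧ w * z = z * w ∧ ∃ g, w = g * z * g⁻¹ := by
  have : Nontrivial S := (S : Subgroup G).nontrivial_iff_ne_bot.2 (S.ne_bot_of_dvd_card (two_dvd_card hG))
  have := S.isPGroup'.center_nontrivial
  obtain ⟨c, hc⟩ := exists_ne (1 : center S)
  obtain ⟨z, hz, z1, z2⟩ := exists_invol S.isPGroup' (g := c) (by simpa using hc)
  replace hz : z ∈ center S := zpowers_le.2 c.2 hz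
  have z1' : (z : G) ≠ 1 := by simpa using z1
  obtain ⟨g, h1, h2⟩ := exists_conj hG S z.2 z1' (congrArg Subtype.val z2)
  exact ⟨z, _, z.2, h1, z1', congrArg Subtype.val z2, h2.symm,
    congrArg Subtype.val (mem_center_iff.1 hz ⟨_, h1⟩), g, rfl⟩

theorem comm_top {G : Type*} [Group G] [IsSimpleGroup G] (hG : ¬ IsMulCommutative G) :
    commutator G = ⊤ :=
  (inferInstance : (commutator G).Normal).eq_bot_or_eq_top.resolve_left fun e =>
    hG ⟨⟨fun a b => commutatorElement_eq_one_iff_mul_comm.1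
      (mem_bot.1 (e ▸ commutator_mem_commutator (mem_top a) (mem_top b)))⟩⟩

namespace Pl

variable {G Ω Y : Type*} [Group G] [Fintype Ω] [Fintype Y] [MulAction G Ω] [MulAction G Y]
  {π : Pl G Ω Y} {O : Ω → Prop}

/-- the invariant set of points -/
def ovalSub (hO : ∀ (g : G) x, O (g • x) ↔ O x) : SubMulAction G Ω :=
  ⟨{x | O x}, fun g x hx => (hO g x).2 hx⟩

theorem sum_ovalSub (hO : ∀ (g : G) x, O (g • x) ↔ O x) (P : Ω → Prop) :
    ∑ x : ovalSub hO, ind (P x) = ∑ x, ind (O x ∧ P x) := by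
  rw [sum_ind_card, sum_ind_card]
  exact congrArg _ (Nat.card_congr (Equiv.subtypeSubtypeEquivSubtypeInter _ _))

/-- `g` is an involutory homology -/
def IsH (π : Pl G Ω Y) (g : G) : Prop := ∃ c a, π.Hom g c a

namespace Oval

variable (h : π.Oval O) (hO : ∀ (g : G) x, O (g • x) ↔ O x)
include h hO

theorem card_sub : (Fintype.card (ovalSub hO) : ℤ) = π.k := by
  simpa [ind, ← h.card] using sum_ovalSub hO fun _ => True

theorem ev_of (hG : commutator G = ⊤) (g : G) (hg : g * g = 1) :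
    4 ∣ π.k - ∑ x, ind (O x ∧ g • x = x) := by
  have := four_dvd_of_perfect (Z := ovalSub hO) hG hg
  rw [h.card_sub hO] at this
  rw [← sum_ovalSub hO]
  simpa only [Subtype.ext_iff, SubMulAction.val_smul] using this

omit hO in
theorem not_ax {g : G} (g1 : g ≠ 1) (g2 : g * g = 1) (hg : ¬ π.IsH g) (a : Y) : g ∉ π.Ax a :=
  fun e => hg ((h.hom_of_ax g1 g2 e).imp fun _ e => ⟨a, e⟩)

variable (ev : ∀ g : G, g * g = 1 → 4 ∣ π.k - ∑ x, ind (O x ∧ g • x = x))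
include ev

theorem exists_fix (hk : 4 ∣ π.k - 2) {g : G} (hg : g * g = 1) : ∃ x, O x ∧ g • x = x := by
  by_contra h0
  have h1 := ev g hg
  rw [sum_eq_zero fun x _ => ind_neg fun e => h0 ⟨x, e⟩] at h1
  omega

theorem bb (hk : 4 ∣ π.k - 2) {s t : G} (s1 : s ≠ 1) (s2 : s * s = 1) (hs : ¬ π.IsH s) (t1 : t ≠ 1)
    (t2 : t * t = 1) (ht : ¬ π.IsH t) (e : s ≠ t) (c : s * t = t * s) : π.IsH (s * t) := by
  by_contra h0
  have h1 : s * t * (s * t) = 1 := by
    rw [mul_assoc, ← mul_assoc t, ← c, mul_assoc, t2, mul_one, s2]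
  exact h.four (hO s) (hO t) s2 t2 c (h.not_ax s1 s2 hs) (h.not_ax t1 t2 ht) (h.not_ax (fun e' =>
    e (by rw [eq_inv_of_mul_eq_one_left e', inv_eq_of_mul_eq_one_right t2])) h1 h0)
    (h.exists_fix hO ev hk s2) (h.exists_fix hO ev hk t2) (h.exists_fix hO ev hk h1)

theorem ab [Finite G] {r : ℤ} (r3 : 3 ≤ r) (hr : (r - 1) ^ 2 = π.k - 1) (hk : 4 ∣ π.k - 2)
    (h4 : 4 ∣ r - 2) {S : Subgroup G} (hS : IsPGroup 2 S) :
    Ab (ovalSub hO) (fun s : S => π.IsH (s : G)) r where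
  p2 := hS
  ne := fun ⟨_, _, H⟩ e => H.ne (congrArg Subtype.val e)
  sq := fun ⟨_, _, H⟩ => Subtype.ext H.sq
  conj := fun g ⟨_, _, H⟩ => ⟨_, _, H.conj (g : G)⟩
  two := fun ⟨_, _, H⟩ => by
    obtain ⟨x, y, hx, hy, e, h1⟩ := h.fix_two' hO ev hk H
    exact ⟨⟨x, hx⟩, ⟨y, hy⟩, fun e' => e (congrArg Subtype.val e'), fun z => by
      simp only [Subtype.ext_iff]; exact h1 z z.2⟩
  agree := fun {a b x y} ⟨_, _, H⟩ ⟨_, _, K⟩ e e1 e2 => by
    simp only [Subtype.ext_iff]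
    exact h.agree (hO a) (hO b) H K (Subtype.coe_ne_coe.2 e) x.2 y.2
      (congrArg Subtype.val e1) (congrArg Subtype.val e2)
  mul := fun {a b} ⟨_, _, H⟩ ⟨_, _, K⟩ e c =>
    h.hom_mul (hO a) (hO b) H K (Subtype.coe_ne_coe.2 e) (congrArg Subtype.val c)
  fix := fun {g} g1 g2 hg => by
    replace g2 : (g : G) * g = 1 := congrArg Subtype.val g2
    obtain ⟨x, hx, e⟩ := h.exists_fix hO ev hk g2
    obtain ⟨s, B, hs⟩ := π.baer g2 (h.not_ax (by simpa using g1) g2 hg) x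
    have h1 := h.baer_fix (hO g) B hx e
    rw [← sum_ovalSub hO, show s = r by have := B.r3; nlinarith] at h1
    simp only [Subtype.ext_iff]; exact h1
  m4 := h4
  bb := fun s1 s2 hs t1 t2 ht e c => h.bb hO ev hk (by simpa using s1) (congrArg Subtype.val s2) hs
    (by simpa using t1) (congrArg Subtype.val t2) ht (Subtype.coe_ne_coe.2 e) (congrArg Subtype.val c)
  cyc := fun H x hx hH => by
    refine (CL.PCyc.isCyclic_or_quaternion (hS.to_subgroup H) fun s t hs ht c => ?_).resolve_right ?_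
    · have k : ∀ s : H, orderOf s = 2 → ((s : S) : G) ≠ 1 ∧ ((s : S) : G) * (s : S) = 1 :=
        fun s hs => ⟨fun e => by
          rw [show s = 1 from Subtype.ext (Subtype.ext e), orderOf_one] at hs; omega,
          congrArg (fun u : H => ((u : S) : G)) (by rw [← sq, ← hs, pow_orderOf_eq_one] : s * s = 1)⟩
      by_contra e
      exact hH _ (s * t).2 (h.bb hO ev hk (k s hs).1 (k s hs).2 (hH _ s.2) (k t ht).1 (k t ht).2
        (hH _ t.2) (fun e' => e (Subtype.ext (Subtype.ext e') ▸ mem_zpowers t))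
        (congrArg (fun u : H => ((u : S) : G)) c.eq))
    · rintro ⟨-, n, ⟨f⟩⟩
      let φ : QuaternionGroup (2 ^ (n + 1)) →* G := (S.subtype.comp H.subtype).comp f.symm
      have h1 : Function.Injective φ :=
        (S.subtype_injective.comp H.subtype_injective).comp f.symm.injective
      have h2 : ∀ u, φ u • (x : Ω) = x := fun u => congrArg Subtype.val (hx _ (f.symm u).2)
      have h3 : ((2 ^ (n + 1) : ℕ) : ZMod (2 * 2 ^ (n + 1))) ≠ 0 := by
        rw [Ne, ZMod.natCast_eq_zero_iff]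
        exact Nat.not_dvd_of_pos_of_lt (by positivity) (by have := Nat.two_pow_pos (n + 1); omega)
      have h5 : φ (.a (2 ^ (n + 1) : ℕ)) * φ (.a (2 ^ (n + 1) : ℕ)) = 1 := by
        rw [← map_mul, QuaternionGroup.a_mul_a, ← Nat.cast_add, ← two_mul, ZMod.natCast_self,
          ← QuaternionGroup.one_def, map_one]
      refine h.quat (g := φ (.a (2 ^ (n + 1) : ℕ))) (s := φ (.a (2 ^ n : ℕ))) (t := φ (.xa 0))
        (hO _) (hO _) ?_ ?_ ?_ h5 (h.not_ax ?_ h5 (hH _ (f.symm _).2)) x.2 (h2 _) (h2 _)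
      · rw [← map_mul, QuaternionGroup.a_mul_a, ← Nat.cast_add, ← mul_two, ← pow_succ]
      · rw [← map_mul, ← sq, QuaternionGroup.xa_sq]
      · rw [← map_mul, QuaternionGroup.a_mul_xa, ← map_mul, ← sq, QuaternionGroup.xa_sq]
      · rw [Ne, map_eq_one_iff φ h1, QuaternionGroup.one_def, QuaternionGroup.a.injEq]
        exact h3
  card := by rw [h.card_sub hO]; exact hk

omit ev

theorem all_hom [Finite G] [IsSimpleGroup G] (hG : ¬ IsMulCommutative G) {g : G} (g1 : g ≠ 1)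
    (g2 : g * g = 1) : π.IsH g := by
  by_contra hg
  have ev := h.ev_of hO (comm_top hG)
  obtain ⟨x0, -⟩ := h.nonempty
  obtain ⟨r, B, hr⟩ := π.baer g2 (h.not_ax g1 g2 hg) x0
  have hk : 4 ∣ π.k - 2 := by
    obtain ⟨u, hu⟩ := h.even
    rcases Int.even_or_odd' r with ⟨v, rfl | rfl⟩
    · exact ⟨v * v - v, by linear_combination -hr⟩
    · have : 2 * (2 * (v * v)) = 2 * u - 1 := by linear_combination hr + hu
      omega
  have h4 : 4 ∣ r - 2 := by
    obtain ⟨x, hx, e⟩ := h.exists_fix hO ev hk g2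
    have := ev g g2
    rw [h.baer_fix (hO g) B hx e] at this
    omega
  have cj : ∀ {s : G} (a : G), ¬ π.IsH s → ¬ π.IsH (a * s * a⁻¹) := fun a hs ⟨_, _, H⟩ =>
    hs ⟨_, _, by simpa [mul_assoc] using H.conj a⁻¹⟩
  have g3 : orderOf g = 2 := orderOf_eq_prime (by rwa [sq]) g1
  obtain ⟨S, hS⟩ := (IsPGroup.of_card (p := 2) (n := 1) (G := zpowers g)
    (by rw [Nat.card_zpowers, g3]; rfl)).exists_le_sylow
  replace hS : g ∈ S := hS (mem_zpowers g)
  obtain ⟨d, hd, c, a, H⟩ : ∃ d ∈ S, π.IsH d := by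
    obtain ⟨z, w, hz, hw, z1, z2, e, c, a, rfl⟩ := exists_central hG S
    by_cases h1 : π.IsH z
    · exact ⟨z, hz, h1⟩
    · exact ⟨_, S.mul_mem hz hw, h.bb hO ev hk z1 z2 h1 (by simpa using z1)
        (by rw [conj_mul, z2]; simp) (cj a h1) e c.symm⟩
  obtain ⟨b, h1, h2⟩ := exists_conj hG S hd H.ne H.sq
  obtain ⟨N, hN, h3, h5⟩ := (h.ab hO ev B.r3 hr hk h4 S.isPGroup').res (a := ⟨d, hd⟩) (b := ⟨_, h1⟩)
    ⟨c, a, H⟩ ⟨_, _, H.conj b⟩ fun e => h2 (congrArg Subtype.val e).symm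
  have k : ∀ (s : G) (hs : s ∈ S), (⟨s, hs⟩ : S) ∈ N → s ∈ N.map (S : Subgroup G).subtype :=
    fun s hs e => ⟨_, e, rfl⟩
  have k1 : ∀ s : S, (s : G) ≠ 1 → (s : G) * s = 1 → ¬ π.IsH (s : G) →
      (s : S ⧸ N) ≠ 1 ∧ (s : S ⧸ N) * s = 1 := fun s s1 s2 hs =>
    ⟨fun e => hs (h5 s ((QuotientGroup.eq_one_iff s).1 e) (by simpa using s1) (Subtype.ext s2)),
      by rw [← QuotientGroup.mk_mul, show s * s = 1 from Subtype.ext s2]; rfl⟩
  refine Cfsg.Agent.S1241.result (p := 2) (S : Subgroup G) (N.map (S : Subgroup G).subtype)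
    (map_subtype_le N) ?_ (fun x hx y hy => ?_)
    ((Nat.Prime.coprime_iff_not_dvd Nat.prime_two).2 S.not_dvd_index) g hS ?_ ⟨1, g3⟩ ?_
    (comm_top hG ▸ mem_top g)
  · rwa [subgroupOf, comap_map_eq_self_of_injective (S : Subgroup G).subtype_injective]
  · refine ⟨⟨x, hx⟩ * ⟨y, hy⟩ * ⟨x, hx⟩⁻¹ * ⟨y, hy⟩⁻¹, (QuotientGroup.eq_one_iff _).1 ?_, rfl⟩
    simp only [QuotientGroup.mk_mul, QuotientGroup.mk_inv]
    rw [IsCyclic.isMulCommutative.is_comm.comm ((⟨x, hx⟩ : S) : S ⧸ N)]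
    simp
  · rintro ⟨s, hs, rfl⟩
    exact (k1 s g1 g2 hg).1 ((QuotientGroup.eq_one_iff s).2 hs)
  · intro m a ha
    have h6 : ∀ v : ℤ, g ^ (2 * v) = 1 := fun v => by rw [zpow_mul, zpow_two, g2, one_zpow]
    rcases Int.even_or_odd' m with ⟨v, rfl | rfl⟩
    · simp [h6]
    rw [zpow_add_one, h6, one_mul] at ha ⊢
    obtain ⟨s1, s2⟩ := k1 ⟨_, ha⟩ (by simpa using g1) (by simp only [conj_mul, g2]; simp) (cj a hg)
    obtain ⟨t1, t2⟩ := k1 ⟨g, hS⟩ g1 g2 hg
    exact ⟨⟨_, ha⟩ * ⟨g, hS⟩⁻¹, (QuotientGroup.eq_one_iff _).1 (by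
      rw [QuotientGroup.mk_mul, QuotientGroup.mk_inv, cyc_invol s1 s2 t1 t2, mul_inv_cancel]), rfl⟩

variable [Finite G] [IsSimpleGroup G] (hG : ¬ IsMulCommutative G)
include hG

theorem not_bad : ¬ Bad G (· = 1) := by
  have k : ∀ {a b : G}, b * b = 1 → ¬ a * b = 1 → a ≠ b := by
    rintro a _ h1 h2 rfl; exact h2 h1
  rintro (⟨a, a', z, z', h1, h2, h3, h4⟩ | ⟨a, b, u, v, r, h1, h2, h3, h4⟩)
  · obtain ⟨_, _, H⟩ := h.all_hom hO hG h2.1 h1.1
    obtain ⟨_, _, H'⟩ := h.all_hom hO hG h2.2.1 h1.2.1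
    obtain ⟨_, _, K⟩ := h.all_hom hO hG h2.2.2.1 h1.2.2.1
    obtain ⟨_, _, K'⟩ := h.all_hom hO hG h2.2.2.2 h1.2.2.2
    exact h.k22 hO H H' K K' (k H'.sq h3.1) (k K'.sq h3.2.1) (k K.sq h3.2.2.1) (k K'.sq h3.2.2.2.1)
      (k K.sq h3.2.2.2.2.1) (k K'.sq h3.2.2.2.2.2) h4.1 h4.2.1 h4.2.2.1 h4.2.2.2
  · obtain ⟨_, _, Ha⟩ := h.all_hom hO hG h2.1 h1.1
    obtain ⟨_, _, Hb⟩ := h.all_hom hO hG h2.2.1 h1.2.1
    obtain ⟨_, _, Hu⟩ := h.all_hom hO hG h2.2.2.1 h1.2.2.1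
    obtain ⟨_, _, Hv⟩ := h.all_hom hO hG h2.2.2.2.1 h1.2.2.2
    obtain ⟨_, _, Hc⟩ := h.hom_mul (hO a) (hO b) Ha Hb (k Hb.sq h2.2.2.2.2.1) h3.1
    exact h.no_odd hO (h.ev_of hO (comm_top hG)) Ha Hb Hc (k Hb.sq h2.2.2.2.2.1)
      (by simpa using Hb.ne) (by simpa using Ha.ne) h3.1 (by rw [mul_assoc, h3.1])
      (by rw [← mul_assoc, h3.1]) Hu Hv (k Hv.sq h2.2.2.2.2.2) h4.1 h4.2.1 h4.2.2 h3.2.1 h3.2.2
      (by rw [mul_assoc, h3.2.2, ← mul_assoc, h3.2.1, mul_assoc])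

theorem dq (S : Sylow 2 G) : (∃ n : ℕ, 2 ≤ n ∧ Nonempty ((S : Subgroup G) ≃* DihedralGroup n)) ∨
    Cfsg.IsQuasiDihedral (S : Subgroup G) := by
  obtain ⟨z, w, hz, hw, z1, z2, e, c, a, ha⟩ := exists_central hG S
  have w1 : w ≠ 1 := by simpa [ha] using z1
  have w2 : w * w = 1 := by rw [ha, conj_mul, z2]; simp
  obtain ⟨V, hV, k⟩ := exists_four z2 w2 c z1 w1 e
  refine CL.ZC.dq_of_four S.isPGroup' hV (fun g hg => ?_) fun g hg => by_contra fun h0 => ?_
  · rcases (k g).1 hg with rfl | rfl | rfl | rfl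
    exacts [one_mem _, hz, hw, mul_mem hz hw]
  obtain ⟨n, hn⟩ := S.isPGroup' ⟨g, hg.1⟩
  obtain ⟨t, ht, h1, h2⟩ := exists_sq_mem (S := V) n h0
    (by rw [show g ^ 2 ^ n = 1 from congrArg Subtype.val hn]; exact one_mem _)
  replace ht : ∀ v ∈ V, v * t = t * v := mem_centralizer_iff.1 (zpowers_le.2 hg.2 ht)
  have mz := (k z).2 (by simp)
  have mw := (k w).2 (by simp)
  obtain ⟨_, _, Hz⟩ := h.all_hom hO hG z1 z2
  obtain ⟨_, _, Hw⟩ := h.all_hom hO hG w1 w2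
  obtain ⟨_, _, Hc⟩ := h.hom_mul (hO z) (hO w) Hz Hw e c.symm
  have ev := h.ev_of hO (comm_top hG)
  rcases (k _).1 h2 with e' | e' | e' | e'
  · obtain ⟨_, _, Ht⟩ := h.all_hom hO hG (by rintro rfl; exact h1 (one_mem _)) e'
    exact h.k22 hO Hz Hw Ht Hc e (by rintro rfl; exact h1 (mul_mem mz mw))
      (by rintro rfl; exact h1 mz) (by simpa using w1) (by rintro rfl; exact h1 mw)
      (by simpa using z1) (ht z mz) (by rw [mul_assoc, c]) (ht w mw) (by rw [← mul_assoc, c])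
  · exact h.no_root hO ev Hz Hw e e' (ht w mw)
  · exact h.no_root hO ev Hw Hz e.symm e' (ht z mz)
  · exact h.no_root hO ev Hc Hz (by simpa using w1) e' (ht z mz)

end Oval

end Pl

end CL.SymDes
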