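import Mathlib
import Cfsg.Agent.PERM.R3F1
import Cfsg.Agent.SOLV.MinNormal

/-!
Rank three groups with Frobenius point stabiliser: the case where non-trivial elements of the
kernel fix further points.
-/

set_option autoImplicit false

namespace CL.R3F

open MulAction CL.Zass CL.TIInv

variable {G X : Type*} [Group G] [MulAction G X]

/-- An elementary abelian subgroup of a point stabiliser of a group acting as a Frobenius group
acts as a group of prime order. -/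
theorem frob_prime [Finite X] (L Z : Subgroup G) (F : Set X) {a q : X} (ha : a ∈ F) (hq : q ∈ F)
    (hqa : q ≠ a) (hF : ∀ g ∈ L, ∀ x ∈ F, g • x ∈ F) (htr : ∀ y ∈ F, ∃ g ∈ L, g • a = y)
    (h2 : ∀ g ∈ L, ∀ y ∈ F, ∀ z ∈ F, y ≠ z → g • y = y → g • z = z → ∀ w ∈ F, g • w = w)
    (hZL : Z ≤ L) (hZa : ∀ y ∈ Z, y • a = a) (hc : ∀ y ∈ Z, ∀ z ∈ Z, y * z = z * y) {p : ℕ}
    (hp : p.Prime) (hZp : ∀ y ∈ Z, y ^ p = 1) {y z : G} (hy : y ∈ Z) (hyq : y • q ≠ q)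
    (hz : z ∈ Z) : ∃ i : ℤ, z • q = y ^ i • q := by
  have : Fact p.Prime := ⟨hp⟩
  let T : SubMulAction L X := ⟨F, fun g x hx => hF g g.2 x hx⟩
  let φ : L →* Equiv.Perm T := MulAction.toPermHom L T
  have hφ : ∀ (g : L) (x : T), ((φ g • x : T) : X) = (g : G) • (x : X) := fun _ _ => rfl
  have h2' : ∀ g ∈ φ.range, ∀ y z : T, y ≠ z → g • y = y → g • z = z → g = 1 := by
    rintro _ ⟨g, rfl⟩ y z hyz e1 e2
    ext w
    exact h2 g g.2 y y.2 z z.2 (fun e => hyz (Subtype.ext e)) (congrArg Subtype.val e1)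
      (congrArg Subtype.val e2) w w.2
  obtain ⟨N, hN, hNt⟩ := exists_frobenius_kernel φ.range (Set.univ : Set T) (y₀ := ⟨a, ha⟩) trivial
    (fun _ _ _ _ => trivial) (fun y _ => by
      obtain ⟨g, hg, e⟩ := htr y y.2
      exact ⟨φ ⟨g, hg⟩, ⟨_, rfl⟩, Subtype.ext e⟩)
    (fun g hg y _ z _ => h2' g hg y z)
  let A : Subgroup (Equiv.Perm T) := (Z.subgroupOf L).map φ
  have hAa : ∀ g ∈ A, g • (⟨a, ha⟩ : T) = ⟨a, ha⟩ := by
    rintro _ ⟨g, hg, rfl⟩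
    exact Subtype.ext (hZa g hg)
  have hAr : A ≤ φ.range := Subgroup.map_le_range _ _
  have : IsMulCommutative A := ⟨⟨by
    rintro ⟨_, g, hg, rfl⟩ ⟨_, k, hk, rfl⟩
    refine Subtype.ext ?_
    change φ g * φ k = φ k * φ g
    rw [← map_mul, ← map_mul, show g * k = k * g from Subtype.ext (hc g hg k hk)]⟩⟩
  have hnorm : ∀ g ∈ φ.range, ∀ n ∈ N, g * n * g⁻¹ ∈ N := by
    intro g hg n hn
    rw [hN] at hn ⊢
    refine ⟨Subgroup.mul_mem _ (Subgroup.mul_mem _ hg hn.1) (Subgroup.inv_mem _ hg), ?_⟩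
    rcases hn.2 with rfl | h1
    · left; simp
    · right
      intro y _ e
      exact h1 (g⁻¹ • y) trivial (by rw [eq_inv_smul_iff, ← mul_smul, ← mul_smul, e])
  have hcyc : IsCyclic A := CL.Frob.isCyclic_of_comm (H := N) (by
    obtain ⟨n, hn, e⟩ := hNt ⟨a, ha⟩ trivial ⟨q, hq⟩ trivial
    intro e1
    rw [e1, Subgroup.mem_bot] at hn
    rw [hn, one_smul] at e
    exact hqa (congrArg Subtype.val e).symm) (fun g hg => by
      rw [Subgroup.mem_normalizer_iff]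
      intro n
      refine ⟨hnorm g (hAr hg) n, fun e => ?_⟩
      simpa [mul_assoc] using hnorm g⁻¹ (Subgroup.inv_mem _ (hAr hg)) _ e) (fun g hg h1 => by
      refine eq_bot_iff.mpr fun n hn => ?_
      have e := Subgroup.mem_centralizer_singleton_iff.mp hn.2
      by_contra h3
      have h4 := ((hN n).mp hn.1).2.resolve_left h3 ⟨a, ha⟩ trivial
      exact h1 (h2' g (hAr hg) _ _ h4 (by rw [← mul_smul, ← e, mul_smul, hAa g hg]) (hAa g hg)))
  obtain ⟨γ, hγ⟩ := hcyc.exists_ofOrder_eq_natCard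
  have hγp : orderOf γ ∣ p := by
    obtain ⟨_, g, hg, rfl⟩ := γ
    refine orderOf_dvd_of_pow_eq_one (Subtype.ext ?_)
    change φ g ^ p = 1
    rw [← map_pow, show g ^ p = 1 from Subtype.ext (hZp g hg), map_one]
  let y' : A := ⟨φ ⟨y, hZL hy⟩, _, hy, rfl⟩
  have hy' : y' ≠ 1 := fun e => hyq (by
    have e1 : φ ⟨y, hZL hy⟩ = 1 := congrArg Subtype.val e
    have := hφ ⟨y, hZL hy⟩ ⟨q, hq⟩
    rw [e1, one_smul] at this
    exact this.symm)
  have hcard : Nat.card A = p := by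
    rcases (Nat.dvd_prime hp).mp hγp with e | e
    · rw [hγ, Nat.card_eq_one_iff_unique] at e
      exact absurd (e.1.elim _ _) hy'
    · rw [← hγ, e]
  obtain ⟨i, hi⟩ := mem_zpowers_of_prime_card hcard hy' (g' := ⟨φ ⟨z, hZL hz⟩, _, hz, rfl⟩)
  have e1 : φ (⟨y, hZL hy⟩ ^ i) = φ ⟨z, hZL hz⟩ := by
    rw [map_zpow]
    exact congrArg Subtype.val hi
  refine ⟨i, ?_⟩
  have e2 := hφ ⟨z, hZL hz⟩ ⟨q, hq⟩
  rw [← e1, hφ] at e2
  exact e2.symm

/-- The elements of order dividing `p` in the centre of `H`. -/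
def Zp (H : Subgroup G) (p : ℕ) : Subgroup G where
  carrier := {y | y ∈ H ∧ (∀ x ∈ H, x * y = y * x) ∧ y ^ p = 1}
  one_mem' := ⟨H.one_mem, by simp, one_pow _⟩
  mul_mem' := fun {y z} hy hz => ⟨H.mul_mem hy.1 hz.1,
    fun x hx => by rw [← mul_assoc, hy.2.1 x hx, mul_assoc, hz.2.1 x hx, mul_assoc], by
      rw [Commute.mul_pow (hz.2.1 y hy.1), hy.2.2, hz.2.2, one_mul]⟩
  inv_mem' := fun {y} hy => ⟨H.inv_mem hy.1,
    fun x hx => (Commute.inv_right (hy.2.1 x hx) : _), by rw [inv_pow, hy.2.2, inv_one]⟩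

theorem mem_Zp {H : Subgroup G} {p : ℕ} {y : G} :
    y ∈ Zp H p ↔ y ∈ H ∧ (∀ x ∈ H, x * y = y * x) ∧ y ^ p = 1 := Iff.rfl

theorem Zp_ne_bot [Finite G] {H : Subgroup G} (hH : Group.IsNilpotent H) {p : ℕ} (hp : p.Prime)
    (hd : p ∣ Nat.card H) : ∃ y ∈ Zp H p, y ≠ 1 := by
  have : Fact p.Prime := ⟨hp⟩
  obtain ⟨P⟩ : Nonempty (Sylow p H) := inferInstance
  have hPn : (P : Subgroup H).Normal := inferInstance
  have h1 := CL.inf_center_ne_bot_of_isNilpotent (P : Subgroup H) (P.ne_bot_of_dvd_card hd)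
  have h2 : IsPGroup p ((P : Subgroup H) ⊓ Subgroup.center H : Subgroup H) := P.2.to_inf_left
  obtain ⟨n, hn0, hn⟩ := (h2.nontrivial_iff_card).mp
    ((Subgroup.nontrivial_iff_ne_bot _).mpr h1)
  obtain ⟨y, hy⟩ := exists_prime_orderOf_dvd_card' (G := ((P : Subgroup H) ⊓ Subgroup.center H :
    Subgroup H)) p (hn ▸ dvd_pow_self p hn0.ne')
  have hy' : orderOf ((y : H) : G) = p := by rw [Subgroup.orderOf_coe, Subgroup.orderOf_coe, hy]
  refine ⟨(y : H), ⟨y.1.2, fun x hx => ?_, orderOf_dvd_iff_pow_eq_one.mp hy'.dvd⟩, fun e => ?_⟩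
  · exact congrArg Subtype.val (Subgroup.mem_center_iff.mp y.2.2 ⟨x, hx⟩)
  · rw [e, orderOf_one] at hy'
    exact hp.one_lt.ne hy'

namespace R3

variable {adj : X → X → Prop} {K : X → Subgroup G} (h : R3 adj K)
include h

theorem conj_Zp (g : G) {a : X} {p : ℕ} {y : G} (hy : y ∈ Zp (K a) p) :
    g * y * g⁻¹ ∈ Zp (K (g • a)) p := by
  refine ⟨h.conj_mem g hy.1, fun x hx => ?_, by rw [conj_pow, hy.2.2]; simp⟩
  have h1 : g⁻¹ * x * g ∈ K a := (h.conj_mem_iff g).mp (by simpa [mul_assoc] using hx)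
  calc x * (g * y * g⁻¹) = g * (g⁻¹ * x * g * y) * g⁻¹ := by group
    _ = _ := by rw [hy.2.1 _ h1]; group

theorem conj_Zp_iff (g : G) {a : X} {p : ℕ} {y : G} :
    g * y * g⁻¹ ∈ Zp (K (g • a)) p ↔ y ∈ Zp (K a) p :=
  ⟨fun e => by simpa [mul_assoc] using h.conj_Zp g⁻¹ e, h.conj_Zp g⟩

theorem exists_adj_nadj (a : X) : ∃ p q, p ≠ a ∧ q ≠ a ∧ ¬ adj a p ∧ ¬ adj a q ∧ adj p q := by
  obtain ⟨b, hb⟩ := h.exE a
  obtain ⟨c, h1, h2, h3, h4⟩ := h.mu' hb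
  obtain ⟨g, hg⟩ := h.trans c a
  refine ⟨g • a, g • b, fun e => h1 (MulAction.injective g (hg.trans e.symm)),
    fun e => h2 (MulAction.injective g (hg.trans e.symm)), fun e => h3 ?_, fun e => h4 ?_,
    h.inv g hb⟩
  · rw [← h.inv_iff g, hg]; exact h.symm e
  · rw [← h.inv_iff g, hg]; exact h.symm e

variable [Finite G]

theorem exists_move {a q : X} (hq1 : q ≠ a) (hq : ¬ adj a q) {p : ℕ} {y : G}
    (hy : y ∈ Zp (K a) p) (h1 : y ≠ 1) : ∃ z ∈ Zp (K a) p, z • q ≠ q := by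
  by_contra h2
  push Not at h2
  have h3 : ∀ r, r ≠ a → ¬ adj a r → y • r = r := by
    intro r hr1 hr
    obtain ⟨g, hg, rfl⟩ := h.trN hq1 hq hr1 hr
    have := h2 (g⁻¹ * y * g) ((h.conj_Zp_iff g).mp (by rw [hg]; simpa [mul_assoc] using hy))
    rwa [mul_smul, mul_smul, inv_smul_eq_iff] at this
  obtain ⟨r, s, e1, e2, e3, e4, e5⟩ := h.exists_adj_nadj a
  exact h1 (h.free (h.memK_of_fix hy.1 (h3 r e1 e3)) e5 (h3 s e2 e4))

section D

variable [Finite X] (hD : ∀ {a q : X}, q ≠ a → ¬ adj a q → ∃ x ∈ K a, x ≠ 1 ∧ x • q = q)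
include hD

omit [Finite X] in
theorem D_eq {a q r s : X} (hq1 : q ≠ a) (hq : ¬ adj a q)
    (hr : ∀ x ∈ K a ⊓ stabilizer G q, x • r = r) (hs : ∀ x ∈ K a ⊓ stabilizer G q, x • s = s)
    (hrs : s ≠ r) : ¬ adj r s ∧ K a ⊓ stabilizer G q = K r ⊓ stabilizer G s := by
  obtain ⟨x, hx, h1, e⟩ := hD hq1 hq
  have hn : ¬ adj r s := fun e1 =>
    h1 (h.free (h.memK_of_fix hx (hr x ⟨hx, e⟩)) e1 (hs x ⟨hx, e⟩))
  refine ⟨hn, Subgroup.eq_of_le_of_card_ge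
    (fun y hy => ⟨h.memK_of_fix hy.1 (hr y hy), hs y hy⟩) ?_⟩
  obtain ⟨g, rfl, rfl⟩ := h.trN hq1 hq hrs hn
  exact (card_conj_eq g fun y => and_congr (h.conj_mem_iff g) conj_smul_iff).ge

omit [Finite X] in
theorem W_trans {a q r : X} (hq1 : q ≠ a) (hq : ¬ adj a q)
    (hr : ∀ x ∈ K a ⊓ stabilizer G q, x • r = r) :
    ∃ w ∈ Subgroup.centralizer ((K a ⊓ stabilizer G q : Subgroup G) : Set G), w • a = r := by
  by_cases hra : r = a
  · exact ⟨1, Subgroup.one_mem _, by rw [one_smul, hra]⟩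
  obtain ⟨p, hp, hd⟩ := Nat.exists_prime_and_dvd
    ((Subgroup.one_lt_card_iff_ne_bot _).mpr (h.K_ne_bot a)).ne'
  obtain ⟨y, hy, h1⟩ := Zp_ne_bot (h.nilpotent a) hp hd
  obtain ⟨w, hw, h2⟩ := h.exists_move hq1 hq hy h1
  obtain ⟨h3, h4⟩ := h.D_eq hD hq1 hq (r := q) (s := w • q) (fun x hx => hx.2)
    (fun x hx => by rw [← mul_smul, hw.2.1 x hx.1, mul_smul, hx.2]) h2
  obtain ⟨h5, h6⟩ := h.D_eq hD hq1 hq (r := a) (s := r) (fun x hx => h.fix hx.1) hr hra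
  obtain ⟨g, e1, e2⟩ := h.trN h2 h3 hra h5
  refine ⟨g * w * g⁻¹, ?_, by rw [← e1, ← e2, conj_smul_iff]⟩
  rw [Subgroup.mem_centralizer_iff]
  intro x hx
  have h7 : g⁻¹ * x * g ∈ K a ⊓ stabilizer G q := by
    rw [h4]
    rw [h6, ← e1, ← e2, show x = g * (g⁻¹ * x * g) * g⁻¹ by group] at hx
    exact ⟨(h.conj_mem_iff g).mp hx.1, conj_smul_iff.mp hx.2⟩
  calc x * (g * w * g⁻¹) = g * (g⁻¹ * x * g * w) * g⁻¹ := by group
    _ = _ := by rw [hw.2.1 _ h7.1]; group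

theorem cyc {a q : X} (hq1 : q ≠ a) (hq : ¬ adj a q) {p : ℕ} (hp : p.Prime) {y z : G}
    (hy : y ∈ Zp (K a) p) (hyq : y • q ≠ q) (hz : z ∈ Zp (K a) p) :
    ∃ i : ℤ, z • q = y ^ i • q := by
  refine frob_prime (Subgroup.centralizer (K a ⊓ stabilizer G q : Subgroup G)) (Zp (K a) p)
    {r | ∀ x ∈ K a ⊓ stabilizer G q, x • r = r} (a := a) (fun x hx => h.fix hx.1)
    (fun x hx => hx.2) hq1 ?_ (fun r hr => h.W_trans hD hq1 hq hr) ?_ ?_
    (fun y hy => h.fix hy.1) (fun y hy z hz => hz.2.1 y hy.1) hp (fun y hy => hy.2.2) hy hyq hz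
  · intro g hg r hr x hx
    rw [← mul_smul, Subgroup.mem_centralizer_iff.mp hg x hx, mul_smul, hr x hx]
  · intro g hg r hr s hs hrs e1 e2 w hw
    apply hw
    obtain ⟨x, hx, h1, e⟩ := hD hq1 hq
    rw [(h.D_eq hD hq1 hq hr hs hrs.symm).2]
    exact ⟨h.mem_of_comm e1 (h.memK_of_fix hx (hr x ⟨hx, e⟩)) h1
      (Subgroup.mem_centralizer_iff.mp hg x ⟨hx, e⟩).symm, e2⟩
  · intro y hy
    rw [Subgroup.mem_centralizer_iff]
    exact fun x hx => hy.2.1 x hx.1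

omit [Finite X] in
theorem E_symm {a q : X} (hq1 : q ≠ a) (hq : ¬ adj a q) {p : ℕ} {y : G} (hy : y ∈ Zp (K a) p)
    (hyq : y • q = q) : y ∈ Zp (K q) p := by
  obtain ⟨w, hw, e⟩ := h.W_trans hD hq1 hq (r := q) (fun x hx => hx.2)
  have := h.conj_Zp w hy
  rwa [e, ← Subgroup.mem_centralizer_iff.mp hw y ⟨hy.1, hyq⟩, mul_inv_cancel_right] at this

theorem exists_E {a q : X} (hq1 : q ≠ a) (hq : ¬ adj a q) :
    ∃ p : ℕ, p.Prime ∧ ∃ y ∈ Zp (K a) p, y ≠ 1 ∧ y • q = q := by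
  by_contra hno
  push Not at hno
  obtain ⟨b, hb⟩ := h.exE a
  rcases h.exists_odd_even hb with hk | hc
  · obtain ⟨u, hu, h1⟩ := Zp_ne_bot (h.nilpotent a) Nat.prime_two (even_iff_two_dvd.mp hk)
    obtain ⟨g, hg1, hga, hgb⟩ := h.exC hb
    have hu' := h.conj_Zp g hu
    rw [hga] at hu'
    obtain ⟨i, hi⟩ := h.cyc hD hq1 hq Nat.prime_two hu (hno 2 Nat.prime_two u hu h1) hu'
    have h2 : (u ^ i)⁻¹ * (g * u * g⁻¹) = 1 := by
      by_contra h2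
      exact hno 2 Nat.prime_two _ (Subgroup.mul_mem _ (Subgroup.inv_mem _
        (Subgroup.zpow_mem _ hu i)) hu') h2 (by rw [mul_smul, hi, inv_smul_smul])
    rw [inv_mul_eq_one] at h2
    have h3 : u ^ (2 : ℤ) = 1 := by exact_mod_cast hu.2.2
    obtain ⟨j, rfl | rfl⟩ := Int.even_or_odd' i
    · rw [zpow_mul, h3, one_zpow, eq_comm] at h2
      exact h1 (by simpa using h2)
    · rw [zpow_add, zpow_mul, h3, one_zpow, one_mul, zpow_one, eq_mul_inv_iff_mul_eq] at h2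
      exact h1 (h.fpf hb hga hgb hg1 hu.1 h2.symm)
  · obtain ⟨x, hx, h1, e⟩ := hD hq1 hq
    obtain ⟨p, k, hp, -, hk⟩ := exists_prime_pow h1
    refine hno p hp (x ^ k) ⟨(K a).pow_mem hx k, fun y hy => h.comm hb hc hy ((K a).pow_mem hx k),
      orderOf_dvd_iff_pow_eq_one.mp hk.dvd⟩ (fun e1 => ?_) ((stabilizer G q).pow_mem e k)
    rw [e1, orderOf_one] at hk
    exact hp.one_lt.ne hk

theorem exists_T (a₀ : X) :
    (∀ {a q r s : X}, q ≠ a → ¬ adj a q → r ≠ a → ¬ adj a r → s ≠ a → ¬ adj a s → ¬ adj q r →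
      ¬ adj r s → ¬ adj q s) ∧
    ∀ {a q : X} {x : G}, q ≠ a → ¬ adj a q → x ∈ K a → ¬ adj q (x • q) := by
  obtain ⟨q₀, hq₀1, hq₀⟩ := h.exN a₀
  obtain ⟨p, hp, y₀, hy₀, hy₀1, hy₀q⟩ := h.exists_E hD hq₀1 hq₀
  let E : X → X → Subgroup G := fun a q => Zp (K a) p ⊓ stabilizer G q
  have hEc : ∀ (g : G) (a q : X) (y : G), g * y * g⁻¹ ∈ E (g • a) (g • q) ↔ y ∈ E a q :=
    fun g a q y => and_congr (h.conj_Zp_iff g) conj_smul_iff
  have hE : ∀ {a q : X}, q ≠ a → ¬ adj a q → ∃ y ∈ E a q, y ≠ 1 := by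
    intro a q h1 h2
    obtain ⟨g, rfl, rfl⟩ := h.trN hq₀1 hq₀ h1 h2
    exact ⟨_, (hEc g _ _ _).mpr ⟨hy₀, hy₀q⟩, by simpa using hy₀1⟩
  have hcard : ∀ {a q b r : X}, q ≠ a → ¬ adj a q → r ≠ b → ¬ adj b r →
      Nat.card (E a q) = Nat.card (E b r) := by
    intro a q b r h1 h2 h3 h4
    obtain ⟨g, rfl, rfl⟩ := h.trN h1 h2 h3 h4
    exact card_conj_eq g (hEc g a q)
  have hsymm : ∀ {a q : X} {y : G}, q ≠ a → ¬ adj a q → y ∈ E a q → y ∈ E q a :=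
    fun h1 h2 hy => ⟨h.E_symm hD h1 h2 hy.1 hy.2, h.fix hy.1.1⟩
  have key : ∀ {a q r : X}, q ≠ a → ¬ adj a q → r ≠ a → ¬ adj a r →
      (¬ adj q r ↔ E a q = E a r) := by
    intro a q r h1 h2 h3 h4
    constructor
    · intro h5
      by_cases hqr : r = q
      · rw [hqr]
      by_contra hne
      obtain ⟨y, hy, hyq⟩ : ∃ y ∈ E a r, y • q ≠ q := by
        by_contra h6
        push Not at h6
        exact hne (Subgroup.eq_of_le_of_card_ge (H := E a r) (K := E a q)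
          (fun y hy => ⟨hy.1, h6 y hy⟩) (hcard h1 h2 h3 h4).le).symm
      have h6 : ∀ e ∈ E q r, e • a = a := by
        intro e he
        have h7 : ∀ z ∈ Zp (K a) p, z • e • a = e • a := by
          intro z hz
          obtain ⟨i, hi⟩ := h.cyc hD h1 h2 hp hy.1 hyq hz
          have h8 : (y ^ i)⁻¹ * z ∈ E a q := ⟨Subgroup.mul_mem _ (Subgroup.inv_mem _
            (Subgroup.zpow_mem _ hy.1 i)) hz, by
              change ((y ^ i)⁻¹ * z) • q = q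
              rw [mul_smul, hi, inv_smul_smul]⟩
          have c1 := he.1.2.1 _ (hsymm h1 h2 h8).1.1
          have c2 := (hsymm hqr h5 he).1.2.1 _ (Subgroup.zpow_mem _ (hsymm h3 h4 hy).1.1 i)
          have c3 : z * e = e * z := by
            calc z * e = y ^ i * ((y ^ i)⁻¹ * z * e) := by group
              _ = e * z := by rw [c1, ← mul_assoc, c2]; group
          rw [← mul_smul, c3, mul_smul, h.fix hz.1]
        have hy1 : y ≠ 1 := fun e1 => hyq (by rw [e1, one_smul])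
        by_contra h8
        by_cases h9 : adj a (e • a)
        · exact hy1 (h.free hy.1.1 h9 (h7 y hy.1))
        · obtain ⟨z, hz, h10⟩ := h.exists_move h8 h9 hy.1 hy1
          exact h10 (h7 z hz)
      have h2' : ¬ adj q a := fun e => h2 (h.symm e)
      have h4' : ¬ adj r a := fun e => h4 (h.symm e)
      have e1 : E q r = E a q := Subgroup.eq_of_le_of_card_ge
        (fun e he => hsymm h1.symm h2' ⟨he.1, h6 e he⟩) (hcard h1 h2 hqr h5).le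
      have e2 : E q r = E a r := Subgroup.eq_of_le_of_card_ge
        (fun e he => hsymm h3.symm h4' ⟨(hsymm hqr h5 he).1, h6 e he⟩) (hcard h3 h4 hqr h5).le
      exact hne (e1.symm.trans e2)
    · intro e h5
      obtain ⟨y, hy, hy1⟩ := hE h1 h2
      exact hy1 (h.free (hsymm h1 h2 hy).1.1 h5 (e ▸ hy : y ∈ E a r).2)
  refine ⟨fun h1 h2 h3 h4 h5 h6 h7 h8 => (key h1 h2 h5 h6).mpr
    (((key h1 h2 h3 h4).mp h7).trans ((key h3 h4 h5 h6).mp h8)), fun {a q x} h1 h2 hx h3 => ?_⟩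
  obtain ⟨y, hy, hy1⟩ := hE h1 h2
  exact hy1 (h.free (hsymm h1 h2 hy).1.1 h3
    (by rw [← mul_smul, ← hy.1.2.1 x hx, mul_smul, show y • q = q from hy.2]))

end D

section Grid

variable (hT : ∀ {a q r s : X}, q ≠ a → ¬ adj a q → r ≠ a → ¬ adj a r → s ≠ a → ¬ adj a s →
    ¬ adj q r → ¬ adj r s → ¬ adj q s)
  (hK : ∀ {a q : X} {x : G}, q ≠ a → ¬ adj a q → x ∈ K a → ¬ adj q (x • q))
include hT hK

omit [Finite G] hT in
theorem exists_proj {a b q : X} (hb : adj a b) (h1 : q ≠ a) (h2 : ¬ adj a q) :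
    ∃ r, r ≠ a ∧ ¬ adj a r ∧ ¬ adj q r ∧ ¬ adj b r := by
  obtain ⟨c, c1, -, c3, c4⟩ := h.mu' hb
  obtain ⟨g, hg, rfl⟩ := h.trN c1 c3 h1 h2
  obtain ⟨x, hx, e⟩ := h.trK (h.adj_smul hg hb) hb
  refine ⟨x • g • c, ne_smul (h.fix hx) h1, h.nadj_smul (h.fix hx) h2, hK h1 h2 hx, ?_⟩
  rw [← e, h.inv_iff, h.inv_iff]
  exact c4

omit [Finite G] hK in
theorem proj_unique {a b q r : X} (hb : adj a b) (h2 : ¬ adj a q)
    (h4 : ¬ adj a r) (h1 : q ≠ a) (h5 : ¬ adj q r) (h6 : ¬ adj b q) (h7 : ¬ adj b r) : q = r := by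
  by_contra hne
  exact hT h1.symm (fun e => h2 (h.symm e)) (Ne.symm hne) h5 (fun e => h2 (e ▸ hb))
    (fun e => h6 (h.symm e)) h4 (fun e => h7 (h.symm e)) hb

omit [Finite G] in
theorem K_trans {a q r : X} (h1 : q ≠ a) (h2 : ¬ adj a q) (h3 : r ≠ a) (h4 : ¬ adj a r)
    (h5 : ¬ adj q r) : ∃ x ∈ K a, x • q = r := by
  obtain ⟨b, hb⟩ := h.exE a
  obtain ⟨c, c1, -, c3, c4⟩ := h.mu' hb
  obtain ⟨g, hg, rfl⟩ := h.trN c1 c3 h1 h2
  obtain ⟨g', hg', rfl⟩ := h.trN c1 c3 h3 h4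
  obtain ⟨x, hx, e⟩ := h.trK (h.adj_smul hg hb) (h.adj_smul hg' hb)
  have h6 := ne_smul (h.fix hx) h1
  have h7 := h.nadj_smul (h.fix hx) h2
  refine ⟨x, hx, h.proj_unique hT (h.adj_smul hg' hb) h7 h4 h6
    (hT h6 h7 h1 h2 h3 h4 (fun e => hK h1 h2 hx (h.symm e)) h5) ?_ ?_⟩
  · rw [← e, h.inv_iff, h.inv_iff]; exact c4
  · rw [h.inv_iff]; exact c4

theorem unique_opp {a q r b c : X} (h1 : q ≠ a) (h2 : ¬ adj a q) (h3 : r ≠ a) (h4 : ¬ adj a r)
    (h5 : adj q r) (hb : adj a b) (hc : adj a c) (b1 : ¬ adj b q) (b2 : ¬ adj b r)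
    (c1 : ¬ adj c q) (c2 : ¬ adj c r) : b = c := by
  obtain ⟨x, hx, e⟩ := h.trK hb hc
  have e1 : q = x • q := h.proj_unique hT hc h2 (h.nadj_smul (h.fix hx) h2) h1 (hK h1 h2 hx) c1
    (by rw [← e, h.inv_iff]; exact b1)
  have e2 : r = x • r := h.proj_unique hT hc h4 (h.nadj_smul (h.fix hx) h4) h3 (hK h3 h4 hx) c2
    (by rw [← e, h.inv_iff]; exact b2)
  rw [← e, h.free (h.memK_of_fix hx e1.symm) h5 e2.symm, one_smul]

omit [Finite G] hK in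
theorem adj_of_common {q r a b : X} (h5 : adj q r) (a1 : ¬ adj q a) (a2 : ¬ adj r a)
    (b1 : ¬ adj q b) (b2 : ¬ adj r b) (hba : b ≠ a) : adj a b := by
  by_contra hn
  exact hT (fun e : q = a => a2 (e ▸ h.symm h5)) (fun e => a1 (h.symm e)) hba hn (fun e : r = a => a1 (e ▸ h5))
    (fun e => a2 (h.symm e)) b1 (fun e => b2 (h.symm e)) h5

theorem two_common {q r a b c : X} (h5 : adj q r) (a1 : ¬ adj q a) (a2 : ¬ adj r a)
    (b1 : ¬ adj q b) (b2 : ¬ adj r b) (c1 : ¬ adj q c) (c2 : ¬ adj r c) (hba : b ≠ a)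
    (hca : c ≠ a) : b = c :=
  h.unique_opp hT hK (fun e : q = a => a2 (e ▸ h.symm h5)) (fun e => a1 (h.symm e))
    (fun e : r = a => a1 (e ▸ h5)) (fun e => a2 (h.symm e)) h5 (h.adj_of_common hT h5 a1 a2 b1 b2 hba)
    (h.adj_of_common hT h5 a1 a2 c1 c2 hca) (fun e => b1 (h.symm e)) (fun e => b2 (h.symm e))
    (fun e => c1 (h.symm e)) (fun e => c2 (h.symm e))

theorem exists_pair {a b : X} (hb : adj a b) : ∃ q r, adj q r ∧ ¬ adj a q ∧ ¬ adj b q ∧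
    ¬ adj a r ∧ ¬ adj b r ∧ ∀ s, ¬ adj a s → ¬ adj b s → s = q ∨ s = r := by
  obtain ⟨q, r, h1, h2, h3, h4, h5⟩ := h.exists_adj_nadj a
  obtain ⟨q', q1, q2, q3, q4⟩ := h.exists_proj hK hb h1 h3
  obtain ⟨r', r1, r2, r3, r4⟩ := h.exists_proj hK hb h2 h4
  have h6 : adj q' r' := by
    by_contra h6
    exact hT h1 h3 r1 r2 h2 h4 (hT h1 h3 q1 q2 r1 r2 q3 h6) (fun e => r3 (h.symm e)) h5
  refine ⟨q', r', h6, q2, q4, r2, r4, fun s s1 s2 => ?_⟩
  by_cases e : s = q'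
  · exact Or.inl e
  · exact Or.inr (h.two_common hT hK hb q2 q4 s1 s2 r2 r4 e (h.ne_of_adj h6))

theorem even_c {a b : X} (hb : adj a b) : Even (Nat.card (St G a b)) := by
  obtain ⟨q, r, h1, q1, q2, r1, r2, hs⟩ := h.exists_pair hT hK hb
  have q0 : q ≠ a := fun e => r1 (e ▸ h1)
  have r0 : r ≠ a := fun e => q1 (e ▸ h.symm h1)
  obtain ⟨g, hg, e⟩ := h.trN q0 q1 r0 r1
  obtain ⟨x, hx, e1⟩ := h.trK (h.adj_smul hg hb) hb
  have ha' : (x * g) • a = a := by rw [mul_smul, hg, h.fix hx]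
  have hb' : (x * g) • b = b := by rw [mul_smul, e1]
  have e2 : (x * g) • q = r := (hs _ (h.nadj_smul ha' q1) (h.nadj_smul hb' q2)).resolve_left
    fun e3 => hK r0 r1 hx (by rw [mul_smul, e] at e3; rw [e3]; exact h.symm h1)
  have e3 : (x * g) • r = q := (hs _ (h.nadj_smul ha' r1) (h.nadj_smul hb' r2)).resolve_right
    fun e3 => h.ne_of_adj h1 (MulAction.injective (x * g) (e3.trans e2.symm))
  by_contra hodd
  obtain ⟨i, hi⟩ := Nat.not_even_iff_odd.mp hodd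
  have e4 : (x * g) ^ (2 * i + 1) = 1 := by
    rw [← hi]
    exact congrArg Subtype.val (pow_card_eq_one' (x := (⟨x * g, ha', hb'⟩ : St G a b)))
  have e5 : ((x * g) ^ 2) ^ i • r = r := (stabilizer G r).pow_mem
    (show ((x * g) ^ 2) • r = r by rw [sq, mul_smul, e3, e2]) i
  rw [← e2, ← mul_smul, ← pow_mul, ← pow_succ, e4, one_smul, e2] at e5
  exact h.ne_of_adj h1 e5.symm

variable (hD : ∀ {a q : X}, q ≠ a → ¬ adj a q → ∃ x ∈ K a, x ≠ 1 ∧ x • q = q)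
include hD

theorem exists_invoN {a q : X} (h1 : q ≠ a) (h2 : ¬ adj a q) :
    ∃ t : G, Invo t ∧ t • a = a ∧ t • q = q := by
  obtain ⟨b, hb⟩ := h.exE a
  obtain ⟨u, r, h3, q1, q2, r1, r2, hs⟩ := h.exists_pair hT hK hb
  have q0 : u ≠ a := fun e => r1 (e ▸ h3)
  obtain ⟨t, ht, ha, htb⟩ := h.exists_invoE hb (h.even_c hT hK hb) hb
  obtain ⟨x, hx, hx1, e⟩ := hD q0 q1
  have e1 : t • u = u := (hs _ (h.nadj_smul ha q1) (h.nadj_smul htb q2)).resolve_right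
    fun e2 => hx1 (inv_eq_one.mp (h.free ((K u).inv_mem (h.memK_of_fix hx e)) h3 (by
      rw [← h.inverts hb ht ha htb hx, ← e2, conj_smul_iff, e])))
  obtain ⟨g, hg, rfl⟩ := h.trN q0 q1 h1 h2
  exact ⟨_, ht.conj g, hg ▸ conj_smul_iff.mpr (hg.symm ▸ ha), conj_smul_iff.mpr e1⟩

theorem part_le [Finite X] {a q : X} (h1 : q ≠ a) (h2 : ¬ adj a q) :
    {s | s ≠ a ∧ ¬ adj a s ∧ ¬ adj q s}.ncard ≤ 3 := by
  classical
  obtain ⟨b, hb⟩ := h.exE a
  have hc := h.even_c hT hK hb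
  set L := {s | s ≠ a ∧ ¬ adj a s ∧ ¬ adj q s} with hL
  have hLL : ∀ u ∈ L, ∀ v ∈ L, ¬ adj u v := fun u hu v hv =>
    hT hu.1 hu.2.1 h1 h2 hv.1 hv.2.1 (fun e => hu.2.2 (h.symm e)) hv.2.2
  have hfix : ∀ y ∈ K a, ∀ u ∈ L, y • u = u → ∀ v ∈ L, y • v = v := by
    intro y hy u hu e v hv
    obtain ⟨w, hw, rfl⟩ := h.K_trans hT hK hu.1 hu.2.1 hv.1 hv.2.1 (hLL u hu v hv)
    rw [← mul_smul, h.comm hb hc hy hw, mul_smul, e]
  obtain ⟨x, hx, hx1, e⟩ := hD h1 h2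
  have hxL := hfix x hx q ⟨h1, h2, h.irrefl q⟩ e
  have hex : ∀ u v : X, ∃ t : G, u ∈ L → v ∈ L → u ≠ v → Invo t ∧ t • u = u ∧ t • v = v := by
    intro u v
    by_cases huv : u ∈ L ∧ v ∈ L ∧ u ≠ v
    · obtain ⟨t, ht⟩ := h.exists_invoN hT hK hD huv.2.2.symm (hLL u huv.1 v huv.2.1)
      exact ⟨t, fun _ _ _ => ht⟩
    · exact ⟨1, fun a b c => absurd ⟨a, b, c⟩ huv⟩
  choose t ht using hex
  have hinv : ∀ u ∈ L, ∀ v ∈ L, u ≠ v → t u v * x * (t u v)⁻¹ = x⁻¹ := fun u hu v hv huv =>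
    h.inverts' hb hc (ht u v hu hv huv).1 (ht u v hu hv huv).2.1 (h.memK_of_fix hx (hxL u hu))
  have htwo : ∀ u ∈ L, ∀ v ∈ L, u ≠ v → ∀ w, (w = a ∨ w ∈ L) → t u v • w = w → w = u ∨ w = v := by
    intro u hu v hv huv w hw e1
    by_cases hwu : w = u
    · exact Or.inl hwu
    right
    obtain ⟨y, hy, rfl⟩ := h.K_trans hT hK huv.symm (hLL u hu v hv) hwu
      (by rcases hw with rfl | hw
          · exact fun e => hu.2.1 (h.symm e)
          · exact hLL u hu w hw)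
      (by rcases hw with rfl | hw
          · exact fun e => hv.2.1 (h.symm e)
          · exact hLL v hv w hw)
    have e2 := h.inverts' hb hc (ht u v hu hv huv).1 (ht u v hu hv huv).2.1 hy
    refine CL.Sidki.mem_of_sq_mem (H := stabilizer G v)
      (Odd.of_dvd_nat (h.odd_K hb hc u) (by simpa using orderOf_dvd_natCard (⟨y, hy⟩ : K u))) ?_
    have e3 : y⁻¹ • v = y • v := by
      rw [← e2, ← e1, mul_smul, mul_smul, inv_smul_eq_iff.mpr (ht u v hu hv huv).2.2.symm]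
    rw [mem_stabilizer_iff, mul_smul, ← e3, smul_inv_smul]
  have hmap : ∀ u ∈ L, ∀ v ∈ L, u ≠ v → t u v • a ∈ L := by
    intro u hu v hv huv
    have e1 : x⁻¹ • t u v • a = t u v • a := by
      rw [← hinv u hu v hv huv, conj_smul_iff, h.fix hx]
    refine ⟨fun e2 => ?_, fun e2 => hx1 (inv_eq_one.mp (h.free ((K a).inv_mem hx) e2 e1)),
      fun e2 => hx1 (inv_eq_one.mp (h.free ((K q).inv_mem (h.memK_of_fix hx e)) e2 e1))⟩
    rcases htwo u hu v hv huv a (Or.inl rfl) e2 with e3 | e3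
    · exact hu.1 e3.symm
    · exact hv.1 e3.symm
  have hsame : ∀ u ∈ L, ∀ v ∈ L, u ≠ v → ∀ u' ∈ L, ∀ v' ∈ L, u' ≠ v' → t u v • a = t u' v' • a →
      ∀ w ∈ L, t u' v' • w = w → w = u ∨ w = v := by
    intro u hu v hv huv u' hu' v' hv' huv' e1 w hw e2
    have i1 := (ht u v hu hv huv).1
    have i2 := (ht u' v' hu' hv' huv').1
    have h3 : t u v * t u' v' ∈ K a := h.mem_of_comm (by rw [mul_smul, ← e1, i1.smul_smul]) hx hx1
      (by
        have e3 := hinv u hu v hv huv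
        have e4 := hinv u' hu' v' hv' huv'
        calc t u v * t u' v' * x = t u v * (t u' v' * x * (t u' v')⁻¹) * t u' v' := by group
          _ = (t u v * x * (t u v)⁻¹)⁻¹ * (t u v * t u' v') := by rw [e4]; group
          _ = _ := by rw [e3, inv_inv])
    have h4 := hfix _ h3 _ (hmap u' hu' v' hv' huv') (by rw [mul_smul, i2.smul_smul, e1]) w hw
    rw [mul_smul, e2] at h4
    exact htwo u hu v hv huv w (Or.inr hw) h4
  have hLf : L.Finite := Set.toFinite _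
  have key := Finset.card_le_mul_card_image_of_maps_to (s := hLf.toFinset.offDiag)
    (t := hLf.toFinset) (f := fun p => t p.1 p.2 • a) (by
      intro p hp
      simp only [Finset.mem_offDiag, Set.Finite.mem_toFinset] at hp ⊢
      exact hmap _ hp.1 _ hp.2.1 hp.2.2) 2 (by
      intro R _
      rcases Finset.eq_empty_or_nonempty {p ∈ hLf.toFinset.offDiag | t p.1 p.2 • a = R}
        with e1 | ⟨⟨u, v⟩, hp⟩
      · simp [e1]
      refine (Finset.card_le_card (t := {(u, v), (v, u)}) ?_).trans Finset.card_le_two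
      rintro ⟨u', v'⟩ hp'
      simp only [Finset.mem_filter, Finset.mem_offDiag, Set.Finite.mem_toFinset] at hp hp'
      have k1 := hsame _ hp.1.1 _ hp.1.2.1 hp.1.2.2 _ hp'.1.1 _ hp'.1.2.1 hp'.1.2.2
        (hp.2.trans hp'.2.symm)
      have k2 := ht _ _ hp'.1.1 hp'.1.2.1 hp'.1.2.2
      have k3 := hp'.1.2.2
      rcases k1 _ hp'.1.1 k2.2.1 with rfl | rfl <;> rcases k1 _ hp'.1.2.1 k2.2.2 with rfl | rfl <;>
        simp at k3 ⊢)
  rw [Finset.offDiag_card] at key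
  rw [Set.ncard_eq_toFinset_card _ hLf]
  generalize hLf.toFinset.card = s at key
  by_contra h3
  have : 4 * s ≤ s * s := Nat.mul_le_mul_right _ (by omega)
  omega

theorem grid [Finite X] (a : X) : Nat.card (K a) = 9 ∧ Nat.card X = 16 := by
  obtain ⟨b, hb⟩ := h.exE a
  obtain ⟨q, r, h1, q1, q2, r1, r2, hs⟩ := h.exists_pair hT hK hb
  have q0 : q ≠ a := fun e => r1 (e ▸ h1)
  have r0 : r ≠ a := fun e => q1 (e ▸ h.symm h1)
  have h3 := h.part_le hT hK hD q0 q1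
  set L := {s | s ≠ a ∧ ¬ adj a s ∧ ¬ adj q s} with hL
  set L' := {s | s ≠ a ∧ ¬ adj a s ∧ ¬ adj r s} with hL'
  have h4 : L.ncard = L'.ncard := by
    obtain ⟨g, hg, rfl⟩ := h.trN q0 q1 r0 r1
    refine ncard_smul_eq g fun s => ?_
    simp only [hL, hL', Set.mem_ofPred_eq, h.inv_iff]
    conv_lhs => rw [← hg, Ne, smul_left_cancel_iff, h.inv_iff]
  have hadj : ∀ u ∈ L, ∀ v ∈ L', adj u v := by
    intro u hu v hv
    by_contra hn
    exact hT q0 q1 hv.1 hv.2.1 r0 r1 (hT q0 q1 hu.1 hu.2.1 hv.1 hv.2.1 hu.2.2 hn)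
      (fun e => hv.2.2 (h.symm e)) h1
  have h5 : {c | c ≠ a ∧ ¬ adj a c}.ncard = L.ncard + L'.ncard := by
    rw [← Set.ncard_union_eq (Set.disjoint_left.mpr fun u hu hu' => h.irrefl u (hadj u hu u hu'))
      (Set.toFinite _) (Set.toFinite _)]
    congr 1
    ext s
    constructor
    · intro hs'
      obtain ⟨s', s1, s2, s3, s4⟩ := h.exists_proj hK hb hs'.1 hs'.2
      rcases hs s' s2 s4 with rfl | rfl
      · exact Or.inl ⟨hs'.1, hs'.2, fun e => s3 (h.symm e)⟩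
      · exact Or.inr ⟨hs'.1, hs'.2, fun e => s3 (h.symm e)⟩
    · rintro (hs' | hs') <;> exact ⟨hs'.1, hs'.2.1⟩
  have h6 : Nat.card (K a) = L.ncard * L'.ncard := by
    rw [h.card_K, ← Nat.card_coe_set_eq, ← Nat.card_coe_set_eq, ← Nat.card_coe_set_eq,
      ← Nat.card_prod]
    choose f f1 f2 f3 f4 using fun c : {c | adj a c} => h.exists_proj hK c.2 q0 q1
    choose g g1 g2 g3 g4 using fun c : {c | adj a c} => h.exists_proj hK c.2 r0 r1
    refine Nat.card_eq_of_bijective (fun c => (⟨f c, f1 c, f2 c, f3 c⟩, ⟨g c, g1 c, g2 c, g3 c⟩))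
      ⟨fun c d e => ?_, ?_⟩
    · have e1 : f c = f d := congrArg (fun p => p.1.1) e
      have e2 : g c = g d := congrArg (fun p => p.2.1) e
      exact Subtype.ext (h.unique_opp hT hK (f1 c) (f2 c) (g1 c) (g2 c)
        (hadj _ ⟨f1 c, f2 c, f3 c⟩ _ ⟨g1 c, g2 c, g3 c⟩) c.2 d.2 (f4 c) (g4 c) (e1 ▸ f4 d)
        (e2 ▸ g4 d))
    · rintro ⟨u, v⟩
      have huv := hadj u u.2 v v.2
      obtain ⟨c, c1, c2, c3⟩ : ∃ c, c ≠ a ∧ ¬ adj u c ∧ ¬ adj v c := by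
        obtain ⟨c, d, k1, k2, k3, k4, k5, -⟩ := h.exists_pair hT hK huv
        by_cases e : c = a
        · exact ⟨d, e ▸ h.ne_of_adj k1, k4, k5⟩
        · exact ⟨c, e, k2, k3⟩
      have hc := h.adj_of_common hT huv (fun e => u.2.2.1 (h.symm e))
        (fun e => v.2.2.1 (h.symm e)) c2 c3 c1
      refine ⟨⟨c, hc⟩, Prod.ext (Subtype.ext ?_) (Subtype.ext ?_)⟩
      · exact h.proj_unique hT hc (f2 _) u.2.2.1 (f1 _) (hT (f1 _) (f2 _) q0 q1 u.2.1 u.2.2.1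
          (fun e => f3 _ (h.symm e)) u.2.2.2) (f4 ⟨c, hc⟩) (fun e => c2 (h.symm e))
      · exact h.proj_unique hT hc (g2 _) v.2.2.1 (g1 _) (hT (g1 _) (g2 _) r0 r1 v.2.1 v.2.2.1
          (fun e => g3 _ (h.symm e)) v.2.2.2) (g4 ⟨c, hc⟩) (fun e => c3 (h.symm e))
  have h7 := h.odd_K hb (h.even_c hT hK hb) a
  have h8 := (Subgroup.one_lt_card_iff_ne_bot _).mpr (h.K_ne_bot a)
  rw [h.card_X a, h5]
  rw [h6, ← h4] at h7 h8 ⊢
  generalize L.ncard = s at *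
  interval_cases s <;> simp_all +decide

end Grid

theorem caseD [Finite X] {a q : X} (h1 : q ≠ a) (h2 : ¬ adj a q) {x : G} (hx : x ∈ K a)
    (hx1 : x ≠ 1) (e : x • q = q) : Nat.card (K a) = 9 ∧ Nat.card X = 16 := by
  have hD : ∀ {a q : X}, q ≠ a → ¬ adj a q → ∃ x ∈ K a, x ≠ 1 ∧ x • q = q := by
    intro b r h3 h4
    obtain ⟨g, rfl, rfl⟩ := h.trN h1 h2 h3 h4
    exact ⟨_, h.conj_mem g hx, by simpa using hx1, conj_smul_iff.mpr e⟩
  obtain ⟨hT, hK⟩ := h.exists_T hD a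
  exact h.grid hT hK hD a

end R3

end CL.R3F
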