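import Mathlib
import Cfsg.Agent.PERM.R3F2
import Cfsg.Agent.PERM.R3F3

/-!
Rank three groups with Frobenius point stabiliser: the case where the kernel is semiregular.
-/

set_option autoImplicit false

namespace CL.R3F

open MulAction CL.Zass CL.TIInv

variable {G X : Type*} [Group G] [MulAction G X]

theorem ncard_fix_conj (g t : G) :
    {p : X | t • p = p}.ncard = {p : X | (g * t * g⁻¹) • p = p}.ncard :=
  ncard_smul_eq g fun _ => conj_smul_iff

theorem isReduced_zmod7 : IsReduced (ZMod 7) := by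
  have : Fact (Nat.Prime 7) := ⟨by norm_num⟩
  have : NoZeroDivisors (ZMod 7) := inferInstance
  infer_instance

namespace R3

variable {adj : X → X → Prop} {K : X → Subgroup G} (h : R3 adj K) [Finite G] [Finite X]
  (h0 : ∀ {a q : X} {x : G}, q ≠ a → x ∈ K a → x • q = q → x = 1)
include h

omit [Finite X] in
theorem lam_dvd {a b : X} (hb : adj a b) :
    Nat.card (St G a b) ∣ {c | adj a c ∧ adj b c}.ncard :=
  card_dvd_ncard_of_free _ _ (fun _ hg _ hc => ⟨h.adj_smul hg.1 hc.1, h.adj_smul hg.2 hc.2⟩)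
    fun _ hg _ hc e => h.frob hb hc.1 (h.ne_of_adj hc.2).symm hg.1 hg.2 e

omit [Finite X] in
theorem eps_dvd {a b : X} (hb : adj a b) :
    Nat.card (St G a b) ∣ {c | adj a c ∧ c ≠ b ∧ ¬ adj b c}.ncard :=
  card_dvd_ncard_of_free _ _
    (fun _ hg _ hc => ⟨h.adj_smul hg.1 hc.1, ne_smul hg.2 hc.2.1, h.nadj_smul hg.2 hc.2.2⟩)
    fun _ hg _ hc e => h.frob hb hc.1 hc.2.1.symm hg.1 hg.2 e

omit [Finite G] in
theorem k_eq {a b : X} (hb : adj a b) : Nat.card (K a) =
    1 + {c | adj a c ∧ adj b c}.ncard + {c | adj a c ∧ c ≠ b ∧ ¬ adj b c}.ncard := by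
  rw [h.card_K, ← Set.ncard_singleton b, ← Set.ncard_union_eq (by simpa using fun _ => h.irrefl b)
    (Set.toFinite _) (Set.toFinite _), ← Set.ncard_union_eq ?_ (Set.toFinite _) (Set.toFinite _)]
  · congr 1
    ext c
    by_cases e : c = b
    · simp [e, hb]
    · by_cases e1 : adj b c <;> simp [e, e1]
  · rw [Set.disjoint_left]
    rintro c (hc | hc) h1
    · exact h1.2.1 hc
    · exact h1.2.2 hc.2

include h0

omit [Finite G] [Finite X] in
theorem k_dvd (a : X) : Nat.card (K a) ∣ {c | c ≠ a ∧ ¬ adj a c}.ncard :=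
  card_dvd_ncard_of_free _ _
    (fun _ hg _ hc => ⟨ne_smul (h.fix hg) hc.1, h.nadj_smul (h.fix hg) hc.2⟩)
    fun _ hg _ hc e => h0 hc.1 hg e

theorem exists_m {a b q : X} (hb : adj a b) (h1 : q ≠ a) (h2 : ¬ adj a q) :
    ∃ m, {c | c ≠ a ∧ ¬ adj a c}.ncard = Nat.card (K a) * m ∧
      Nat.card (St G a b) = m * Nat.card (St G a q) := by
  obtain ⟨m, hm⟩ := h.k_dvd h0 a
  refine ⟨m, hm, Nat.eq_of_mul_eq_mul_left (Nat.card_pos (α := K a)) ?_⟩
  rw [← h.card_stabE hb, h.card_stabN h1 h2, hm, mul_assoc]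

theorem even_c0 {a b : X} (hb : adj a b) : Even (Nat.card (St G a b)) := by
  by_contra hc
  have hk := (h.exists_odd_even hb).resolve_right hc
  obtain ⟨q, h1, h2⟩ := h.exN a
  obtain ⟨m, hm1, hm2⟩ := h.exists_m h0 hb h1 h2
  have hd : ¬ Even (Nat.card (St G a q)) := fun e => hc (hm2 ▸ e.mul_left m)
  obtain ⟨u, hu, hui⟩ := exists_invo_of_even hk
  obtain ⟨b', hb'⟩ := h.exE q
  have h3 := card_dvd_ncard_of_conj (St G q b') {v | v ∈ K q ∧ Invo v}
    (fun g hg v hv => ⟨h.conj_mem' hg.1 hv.1, hv.2.conj g⟩) (fun g hg v hv e => by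
      by_contra h3
      exact hv.2.1 (h.fpf hb' hg.1 hg.2 h3 hv.1 e))
  have h4 : 0 < {v | v ∈ K q ∧ Invo v}.ncard := by
    rw [h.card_K_eq a q] at hk
    obtain ⟨v, hv⟩ := exists_invo_of_even hk
    exact (Set.ncard_pos (Set.toFinite _)).mpr ⟨v, hv⟩
  have h5 : ∀ v : G, ∃ s : G, v ∈ K q ∧ Invo v → s ∈ I G a q ∧ s * u * s⁻¹ = v := by
    intro v
    by_cases hv : v ∈ K q ∧ Invo v
    swap
    · exact ⟨1, fun e => absurd e hv⟩
    rcases invo_dichotomy hui hv.2 with ⟨w, hw, e1, e2⟩ | ⟨s, hs, e⟩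
    · refine absurd (even_of_invo (H := St G a q) ⟨?_, ?_⟩ hw) hd
      · by_contra h5
        exact hui.1 (h0 h5 hu (by rw [← mul_smul, ← e1, mul_smul, h.fix hu]))
      · by_contra h5
        exact hv.2.1 (h0 h5 hv.1 (by rw [← mul_smul, ← e2, mul_smul, h.fix hv.1]))
    · have h5 : s • a = q := by
        by_contra h5
        exact hv.2.1 (h0 h5 hv.1 (by rw [← e, conj_smul_iff, h.fix hu]))
      exact ⟨s, fun _ => ⟨⟨⟨fun e1 => h1 (by rw [← h5, e1, one_smul]), hs⟩, h5⟩, e⟩⟩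
  choose f hf using h5
  have h6 : {v | v ∈ K q ∧ Invo v}.ncard ≤ (I G a q).ncard :=
    Set.ncard_le_ncard_of_injOn f (fun v hv => (hf v hv).1)
      (fun v hv w hw e => by rw [← (hf v hv).2, ← (hf w hw).2, e]) (Set.toFinite _)
  have h7 := (Nat.le_of_dvd h4 h3).trans (h6.trans (ncard_I_le_St a q))
  rw [← h.card_StE hb hb', hm2] at h7
  have h8 := h.one_lt_c hb
  have hm : m = 1 := by
    have : 0 < Nat.card (St G a q) := Nat.card_pos
    rcases m with _ | _ | m
    · omega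
    · rfl
    · nlinarith
  rw [hm, mul_one] at hm1
  rw [hm, one_mul] at hm2
  obtain ⟨x, hx, hx1⟩ := (Subgroup.bot_or_exists_ne_one (St G a q)).resolve_left
    ((Subgroup.one_lt_card_iff_ne_bot _).mp (hm2 ▸ h8))
  obtain ⟨c, hc1, hc2⟩ := h.exists_fix hx.1 fun e => hx1 (h0 h1 e hx.2)
  obtain ⟨r, hr1, hr2⟩ := h.exists_fix hx.2 fun e => hx1 (h0 h1.symm e hx.1)
  by_cases hr : adj a r
  · exact hx1 (h.frob (h.symm hr) (h.symm hr1) h1.symm hr2 hx.1 hx.2)
  have hra : r ≠ a := fun e => h2 (h.symm (e ▸ hr1))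
  let φ : K a → {c | c ≠ a ∧ ¬ adj a c} := fun y =>
    ⟨(y : G) • q, ne_smul (h.fix y.2) h1, h.nadj_smul (h.fix y.2) h2⟩
  have hφ : Function.Injective φ := fun y z e => Subtype.ext (inv_mul_eq_one.mp
    (h0 h1 ((K a).mul_mem ((K a).inv_mem y.2) z.2) (by
      rw [mul_smul, inv_smul_eq_iff]; exact (congrArg Subtype.val e).symm)))
  obtain ⟨y, hy⟩ := (hφ.bijective_of_nat_card_le hm1.le).2 ⟨r, hra, hr⟩
  have e1 : (y : G) • q = r := congrArg Subtype.val hy
  have e2 := h0 h1 ((K a).mul_mem ((K a).inv_mem y.2) (h.conj_mem' hx.1 y.2)) (by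
    rw [mul_smul, inv_smul_eq_iff, ← hx.2, conj_smul_iff.mpr rfl, hx.2, e1, hr2])
  have e3 := h.fpf hc1 hx.1 hc2 hx1 y.2 (mul_inv_eq_iff_eq_mul.mp (inv_mul_eq_one.mp e2).symm)
  rw [e3, one_smul] at e1
  exact h.ne_of_adj hr1 e1.symm

theorem ncard_invo_fix (a : X) : (I G a a).ncard = Nat.card (K a) := by
  obtain ⟨b, hb⟩ := h.exE a
  have hc := h.even_c0 h0 hb
  have := ncard_mul_eq (I G a a) {c | adj a c} (fun t c => t • c = c) (m := 1) (n := 1)
    (fun t ht => by
      obtain ⟨c, h1, h2⟩ := h.exists_fix_invo hb hc ht.1 ht.2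
      refine Set.ncard_eq_one.mpr ⟨c, Set.eq_singleton_iff_unique_mem.mpr ⟨⟨h1, h2⟩, ?_⟩⟩
      intro d hd
      by_contra h3
      exact ht.1.1 (h.frob hd.1 h1 h3 ht.2 hd.2 h2))
    (fun c hc' => by
      obtain ⟨t, h1, h2, h3⟩ := h.exists_invoE hb hc hc'
      exact Set.ncard_eq_one.mpr ⟨t, Set.eq_singleton_iff_unique_mem.mpr ⟨⟨⟨h1, h2⟩, h3⟩,
        fun s hs => h.invo_uniqueE hb hc hc' hs.1.1 h1 hs.1.2 hs.2 h2 h3⟩⟩)
  rwa [mul_one, mul_one, ← h.card_K] at this

theorem ncard_fix_eq {s t : G} {a b : X} (hs : Invo s) (ht : Invo t) (ha : s • a = a)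
    (hb : t • b = b) : {p : X | s • p = p}.ncard = {p : X | t • p = p}.ncard := by
  obtain ⟨b₀, hb₀⟩ := h.exE a
  have hc := h.even_c0 h0 hb₀
  obtain ⟨a', a1, a2⟩ := h.exists_fix_invo hb₀ hc hs ha
  obtain ⟨b', b1, b2⟩ := h.exists_fix_invo hb₀ hc ht hb
  obtain ⟨g, rfl, rfl⟩ := h.trE a1 b1
  rw [← h.invo_uniqueE hb₀ hc b1 (hs.conj g) ht (conj_smul_iff.mpr ha) (conj_smul_iff.mpr a2) hb b2]
  exact ncard_fix_conj g s

theorem ncard_fix_two {t : G} {a : X} (ht : Invo t) (ha : t • a = a) :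
    {p : X | t • p = p}.ncard = {p : X | p ∈ {c | c ≠ a ∧ ¬ adj a c} ∧ t • p = p}.ncard + 2 := by
  obtain ⟨b₀, hb₀⟩ := h.exE a
  obtain ⟨b, b1, b2⟩ := h.exists_fix_invo hb₀ (h.even_c0 h0 hb₀) ht ha
  rw [← Set.ncard_pair (h.ne_of_adj b1), ← Set.ncard_union_eq ?_ (Set.toFinite _) (Set.toFinite _)]
  · congr 1
    ext p
    constructor
    · intro hp
      by_cases e : p = a
      · exact Or.inr (Or.inr e)
      by_cases e1 : adj a p
      · refine Or.inr (Or.inl ?_)
        by_contra h3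
        exact ht.1 (h.frob e1 b1 h3 ha hp b2)
      · exact Or.inl ⟨⟨e, e1⟩, hp⟩
    · rintro (hp | rfl | rfl)
      · exact hp.2
      · exact b2
      · exact ha
  · rw [Set.disjoint_left]
    rintro p hp (rfl | rfl)
    · exact hp.1.2 b1
    · exact hp.1.1 rfl

/-- The two consequences of counting involutions. -/
theorem count {t : G} {a b : X} (hb : adj a b) (ht : Invo t) (ha : t • a = a) :
    {p : X | t • p = p}.ncard ∣ Nat.card X ∧
      Nat.card X ≤ {p : X | t • p = p}.ncard * (1 + 2 * Nat.card (St G a b)) := by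
  classical
  have hc := h.even_c0 h0 hb
  set T := {s : G | Invo s ∧ ∃ p : X, s • p = p} with hT
  have h1 := ncard_mul_eq T (Set.univ : Set X) (fun s p => s • p = p)
    (m := {p : X | t • p = p}.ncard) (n := Nat.card (K a))
    (fun s hs => by
      obtain ⟨p, hp⟩ := hs.2
      simpa using h.ncard_fix_eq h0 hs.1 ht hp ha)
    (fun p _ => by
      rw [h.card_K_eq a p, ← h.ncard_invo_fix h0 p]
      congr 1
      ext s
      exact ⟨fun hs => ⟨hs.1.1, hs.2⟩, fun hs => ⟨⟨hs.1, p, hs.2⟩, hs.2⟩⟩)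
  rw [Set.ncard_univ] at h1
  obtain ⟨j, hj⟩ := card_dvd_ncard_of_conj (K a) T
    (fun g _ s hs => ⟨hs.1.conj g, hs.2.elim fun p hp => ⟨g • p, conj_smul_iff.mpr hp⟩⟩)
    (fun x hx s hs e => by
      by_contra h3
      have h4 : s • a = a := by
        by_contra h4
        exact h3 (h0 h4 hx (by rw [← mul_smul, e, mul_smul, h.fix hx]))
      exact h.not_invo hb hc (h.mem_of_comm h4 hx h3 e.symm) hs.1)
  have hk : 0 < Nat.card (K a) := Nat.card_pos
  have h2 : Nat.card X = {p : X | t • p = p}.ncard * j := by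
    apply Nat.eq_of_mul_eq_mul_right hk
    rw [← h1, hj]; ring
  refine ⟨⟨j, h2⟩, h2 ▸ Nat.mul_le_mul_left _ (Nat.le_of_mul_le_mul_left ?_ hk)⟩
  have := Fintype.ofFinite X
  obtain ⟨q, q1, q2⟩ := h.exN a
  have h3 : T.ncard ≤ {s : G | Invo s}.ncard :=
    Set.ncard_le_ncard (fun s hs => hs.1) (Set.toFinite _)
  rw [TI.ncard_invo a] at h3
  have h4 : ∑ y : X, (I G a y).ncard ≤ ∑ y : X, ((if y = a then Nat.card (K a) else 0) +
      (if adj a y then 1 else 0) * Nat.card (St G a b) +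
      (if y ≠ a ∧ ¬ adj a y then 1 else 0) * Nat.card (St G a q)) := by
    refine Finset.sum_le_sum fun y _ => ?_
    by_cases e : y = a
    · simp [e, h.irrefl, h.ncard_invo_fix h0]
    by_cases e1 : adj a y
    · rw [if_neg e, if_pos e1, if_neg (fun e2 => e2.2 e1), h.card_StE hb e1]
      have := ncard_I_le_St (G := G) a y
      omega
    · rw [if_neg e, if_neg e1, if_pos ⟨e, e1⟩, h.card_StN q1 q2 e e1]
      have := ncard_I_le_St (G := G) a y
      omega
  rw [Finset.sum_add_distrib, Finset.sum_add_distrib, ← Finset.sum_mul, ← Finset.sum_mul,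
    Finset.sum_boole, Finset.sum_boole, Finset.sum_ite_eq', if_pos (Finset.mem_univ _),
    ← Set.toFinset_ofPred, ← Set.toFinset_ofPred, ← Set.ncard_eq_toFinset_card',
    ← Set.ncard_eq_toFinset_card', Nat.cast_id, Nat.cast_id, ← h.card_K, ← h.card_stabN q1 q2,
    h.card_stabE hb] at h4
  rw [← hj]
  linarith

theorem fix_even {t : G} {a q : X} (h1 : q ≠ a) (h2 : ¬ adj a q) (ht : Invo t) (ha : t • a = a)
    (hd : Even (Nat.card (St G a q))) : Nat.card (K a) * ({p : X | t • p = p}.ncard - 2) =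
      {c | c ≠ a ∧ ¬ adj a c}.ncard := by
  obtain ⟨b, hb⟩ := h.exE a
  have := ncard_mul_eq (I G a a) {c | c ≠ a ∧ ¬ adj a c} (fun s p => s • p = p)
    (m := {p : X | t • p = p}.ncard - 2) (n := 1)
    (fun s hs => by
      rw [h.ncard_fix_eq h0 ht hs.1 ha hs.2, h.ncard_fix_two h0 hs.1 hs.2, Nat.add_sub_cancel])
    (fun p hp => by
      rw [h.card_StN h1 h2 hp.1 hp.2] at hd
      obtain ⟨s, hs, hi⟩ := exists_invo_of_even hd
      refine Set.ncard_eq_one.mpr ⟨s, Set.eq_singleton_iff_unique_mem.mpr ⟨⟨⟨hi, hs.1⟩, hs.2⟩,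
        fun s' hs' => ?_⟩⟩
      have := h0 hp.1 (h.mul_mem hb (h.even_c0 h0 hb) hs'.1.1 hi hs'.1.2 hs.1)
        (by rw [mul_smul, show s • p = p from hs.2, hs'.2])
      rw [← hi.inv_eq, eq_inv_iff_mul_eq_one, this])
  rwa [mul_one, h.ncard_invo_fix h0] at this

theorem fix_odd {t : G} {a q : X} (h1 : q ≠ a) (h2 : ¬ adj a q) (ht : Invo t) (ha : t • a = a)
    (hd : ¬ Even (Nat.card (St G a q))) : {p : X | t • p = p}.ncard = 2 := by
  rw [h.ncard_fix_two h0 ht ha, Nat.add_eq_right, Set.ncard_eq_zero (Set.toFinite _),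
    Set.eq_empty_iff_forall_notMem]
  intro p hp
  rw [h.card_StN h1 h2 hp.1.1 hp.1.2] at hd
  exact hd (even_of_invo (H := St G a p) ⟨ha, hp.2⟩ ht)

/-- Averaging over the kernel. -/
theorem kavg {a b : X} (hb : adj a b) {μ r m : ℕ} (hs : CL.SrgT.Srg adj (Nat.card (K a)) 0 μ)
    (hμ : Even μ) (hμ0 : 0 < μ) (hr : r * r + μ * r + μ = Nat.card (K a))
    (hn : Nat.card X = 1 + Nat.card (K a) + Nat.card (K a) * m) :
    2 * Nat.card (St G a b) ≤ r * (m + 1) + 1 ∨ 2 * r + μ ∣ r * (m + 1) + 1 := by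
  classical
  have := Fintype.ofFinite X
  have := Fintype.ofFinite (K a)
  have : Nonempty X := ⟨a⟩
  have hc := h.even_c0 h0 hb
  set k := Nat.card (K a) with hk
  have hk0 : 0 < k := Nat.card_pos
  let α : G → ℕ := fun x => {y : X | adj y (x • y)}.ncard
  have hfix : ∀ x ∈ K a, x ≠ 1 → {y : X | x • y = y}.ncard = 1 := fun x hx h1 =>
    Set.ncard_eq_one.mpr ⟨a, Set.eq_singleton_iff_unique_mem.mpr ⟨h.fix hx, fun y hy => by
      by_contra h2
      exact h1 (h0 h2 hx hy)⟩⟩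
  have hodd : ∀ x ∈ K a, x ≠ 1 → Odd (α x) := by
    intro x hx h1
    have e1 : (μ : ZMod 2) = 0 := (ZMod.natCast_eq_zero_iff_even).mpr hμ
    have e2 : (k : ZMod 2) = 1 := (ZMod.natCast_eq_one_iff_odd).mpr (h.odd_K hb hc a)
    have := hs.modp (R := ZMod 2) h.inv 1 (by rw [e1]; decide) (by rw [e1, e2]; decide)
      (by rw [e1, zero_mul]) x
    rw [hfix x hx h1] at this
    exact (ZMod.natCast_eq_one_iff_odd).mp (by simpa using this)
  have hdvd : ∀ x ∈ K a, k ∣ α x := fun x hx =>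
    card_dvd_ncard_of_free _ _ (fun y hy p hp => by
      change adj (y • p) (x • y • p)
      rw [← mul_smul, h.comm hb hc hx hy, mul_smul]
      exact h.inv y hp) fun y hy p hp e => h0 (fun e1 => by
        rw [Set.mem_ofPred_eq, e1, h.fix hx] at hp
        exact h.irrefl a hp) hy e
  have hge : ∀ x ∈ K a, x ≠ 1 → k ≤ α x ∧ (α x ≠ k → 3 * k ≤ α x) := by
    intro x hx h1
    obtain ⟨j, hj⟩ := hdvd x hx
    have h2 := hodd x hx h1
    rw [hj] at h2 ⊢
    obtain ⟨i, rfl⟩ := (Nat.odd_mul.mp h2).2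
    refine ⟨by nlinarith, fun h3 => ?_⟩
    rcases i with _ | i
    · simp at h3
    · nlinarith
  obtain ⟨N, hN⟩ := hs.avg h.inv (r : ℝ) (-(r + μ)) (by simp)
    (by rw [← hr]; push_cast; ring) (by
      have : (0 : ℝ) < μ := by exact_mod_cast hμ0
      have : (0 : ℝ) ≤ r := by positivity
      linarith) (K a)
  have e1 : ∑ x : K a, ({y : X | (x : G) • y = y}.ncard : ℝ) = Nat.card X + (k - 1) := by
    rw [← Finset.add_sum_erase _ _ (Finset.mem_univ 1), Finset.sum_congr rfl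
      (g := fun _ => (1 : ℝ)) (fun x hx => by
        rw [hfix x x.2 fun e => Finset.ne_of_mem_erase hx (Subtype.ext e), Nat.cast_one])]
    simp only [OneMemClass.coe_one, one_smul, Set.ofPred_true, Set.ncard_univ, Finset.sum_const,
      Finset.card_erase_of_mem (Finset.mem_univ _), Finset.card_univ, nsmul_eq_mul, mul_one,
      ← Nat.card_eq_fintype_card, ← hk]
    rw [Nat.cast_sub hk0, Nat.cast_one]
  rw [Finset.sum_add_distrib, Finset.sum_sub_distrib, ← Finset.mul_sum, e1, Finset.sum_const,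
    Finset.card_univ, ← Nat.card_eq_fintype_card, ← hk, hn, nsmul_eq_mul, ← Nat.cast_sum] at hN
  have hN' : r * (k * (m + 1)) + k * k = ∑ x : K a, α x + k * ((2 * r + μ) * N) := by
    have : (r : ℝ) * (k * (m + 1)) + k * k = (∑ x : K a, α x : ℕ) + k * ((2 * r + μ) * N) := by
      push_cast at hN ⊢
      linear_combination hN
    exact_mod_cast this
  have hα1 : α 1 = 0 := by simp [α, h.irrefl]
  set S := {x : G | x ∈ K a ∧ x ≠ 1 ∧ α x ≠ k} with hS
  rcases S.eq_empty_or_nonempty with e | hne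
  · right
    have e2 : ∑ x : K a, α x + k = k * k := by
      rw [← Finset.add_sum_erase _ _ (Finset.mem_univ 1), Finset.sum_congr rfl
        (g := fun _ => k) (fun x hx => by
          by_contra h1
          exact (Set.eq_empty_iff_forall_notMem.mp e x)
            ⟨x.2, fun e => Finset.ne_of_mem_erase hx (Subtype.ext e), h1⟩)]
      simp only [OneMemClass.coe_one, hα1, Finset.sum_const,
        Finset.card_erase_of_mem (Finset.mem_univ _), Finset.card_univ, smul_eq_mul,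
        ← Nat.card_eq_fintype_card, ← hk]
      obtain ⟨k', hk'⟩ : ∃ k', k = k' + 1 := ⟨k - 1, by omega⟩
      rw [hk']; simp; ring
    exact ⟨N, Nat.eq_of_mul_eq_mul_left hk0 (by linarith)⟩
  · left
    have h1 := Nat.le_of_dvd ((Set.ncard_pos (Set.toFinite _)).mpr hne)
      (card_dvd_ncard_of_conj (St G a b) S (fun g hg x hx => ⟨h.conj_mem' hg.1 hx.1,
        by simpa using hx.2.1, by
          have : α x = α (g * x * g⁻¹) := ncard_smul_eq g fun y => by
            simp only [Set.mem_ofPred_eq, conj_smul_iff.mpr rfl, h.inv_iff]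
          rw [← this]; exact hx.2.2⟩) fun g hg x hx e => by
        by_contra h1
        exact hx.2.1 (h.fpf hb hg.1 hg.2 h1 hx.1 e))
    have e2 : ∑ x : K a, (k + (if (x : G) ∈ S then 1 else 0) * (2 * k)) ≤
        ∑ x : K a, (α x + if x = 1 then k else 0) := by
      refine Finset.sum_le_sum fun x _ => ?_
      by_cases e : x = 1
      · simp [e, hS]
      have e' : (x : G) ≠ 1 := fun e1 => e (Subtype.ext e1)
      by_cases e1 : (x : G) ∈ S
      · have := (hge x x.2 e').2 e1.2.2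
        simp only [e1, e, if_true, if_false]
        omega
      · simpa [e1, e] using (hge x x.2 e').1
    have e3 : (Finset.univ.filter fun x : K a => (x : G) ∈ S).card = S.ncard := by
      rw [← Set.toFinset_ofPred, ← Set.ncard_eq_toFinset_card',
        ← Set.ncard_image_of_injective _ Subtype.val_injective]
      congr 1
      ext x
      exact ⟨fun ⟨y, hy, e⟩ => e ▸ hy, fun hx => ⟨⟨x, hx.1⟩, hx, rfl⟩⟩
    rw [Finset.sum_add_distrib, Finset.sum_add_distrib, ← Finset.sum_mul, Finset.sum_boole,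
      Finset.sum_ite_eq', if_pos (Finset.mem_univ _), Finset.sum_const, Finset.card_univ,
      ← Nat.card_eq_fintype_card, ← hk, Nat.cast_id, e3, smul_eq_mul] at e2
    apply Nat.le_of_mul_le_mul_left _ hk0
    have := Nat.mul_le_mul_right (2 * k) h1
    have : 0 ≤ k * ((2 * r + μ) * N) := Nat.zero_le _
    linarith

theorem case0 {a b : X} (hb : adj a b) :
    (Nat.card X = 10 ∧ Nat.card G = 60) ∨ (Nat.card (K a) = 5 ∧ Nat.card X = 16) := by
  classical
  have := Fintype.ofFinite X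
  have : Nonempty X := ⟨a⟩
  obtain ⟨q, q1, q2⟩ := h.exN a
  have hc := h.even_c0 h0 hb
  obtain ⟨m, hm1, hm2⟩ := h.exists_m h0 hb q1 q2
  have hs := h.srg hb q1 q2
  have hn := h.card_X a
  rw [hm1] at hn
  obtain ⟨α, hα⟩ := h.lam_dvd hb
  obtain ⟨ε, hε⟩ := h.eps_dvd hb
  have hk := h.k_eq hb
  have hG := h.card_G a
  rw [h.card_stabE hb] at hG
  have hμ0 : 0 < {c | adj a c ∧ adj q c}.ncard :=
    (Set.ncard_pos (Set.toFinite _)).mpr (h.mu q1 q2)
  have hpar := srg_param hs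
  have hko := h.odd_K hb hc a
  have hme : Even m := by
    have := srg_even hs
    rw [Nat.even_mul, hn] at this
    have h1 := this.resolve_right (Nat.not_even_iff_odd.mpr hko)
    by_contra h2
    obtain ⟨i, hi⟩ := hko.mul (Nat.not_even_iff_odd.mp h2)
    obtain ⟨j, hj⟩ := hko
    obtain ⟨l, hl⟩ := h1
    omega
  obtain ⟨t, ht, hta, htb⟩ := h.exists_invoE hb hc hb
  obtain ⟨hc1, hc2⟩ := h.count h0 hb ht hta
  have hfe := h.fix_even h0 q1 q2 ht hta
  have hfo := h.fix_odd h0 q1 q2 ht hta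
  have hf2 : 2 ≤ {p : X | t • p = p}.ncard := by rw [h.ncard_fix_two h0 ht hta]; omega
  have hc0 := h.one_lt_c hb
  have hkavg := fun μ r hs hμ hμ0 hr => h.kavg h0 hb (μ := μ) (r := r) hs hμ hμ0 hr hn
  rw [hm1] at hfe
  rw [hα, hε] at hk
  rw [hα] at hs hpar
  have hk0 : 0 < Nat.card (K a) := Nat.card_pos
  have h3 : ∀ y ∈ St G a b, orderOf y = 3 → ¬ 3 ∣ Nat.card (St G a q) →
      {p : X | y • p = p}.ncard = 2 := by
    intro y hy ho hd
    rw [← Set.ncard_pair (h.ne_of_adj hb)]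
    congr 1
    ext p
    refine ⟨fun hp => ?_, by rintro (rfl | rfl); exacts [hy.2, hy.1]⟩
    by_cases e : p = a
    · exact Or.inr e
    by_cases e1 : adj a p
    · left
      by_contra h3
      rw [h.frob e1 hb h3 hy.1 hp hy.2, orderOf_one] at ho
      omega
    · rw [h.card_StN q1 q2 e e1, ← ho] at hd
      have := orderOf_dvd_natCard (⟨y, hy.1, hp⟩ : St G a p)
      rw [← Subgroup.orderOf_coe] at this
      exact absurd this hd
  have h3' : 3 ∣ Nat.card (St G a b) → ∃ y ∈ St G a b, orderOf y = 3 := fun e => by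
    have : Fact (Nat.Prime 3) := ⟨Nat.prime_three⟩
    obtain ⟨y, hy⟩ := exists_prime_orderOf_dvd_card' 3 e
    exact ⟨y, y.2, by rw [Subgroup.orderOf_coe, hy]⟩
  generalize {c | adj a c ∧ adj q c}.ncard = μ at *
  generalize {p : X | t • p = p}.ncard = f at *
  generalize Nat.card (St G a q) = d at *
  generalize Nat.card (K a) = k at *
  generalize hcc : Nat.card (St G a b) = c at *
  subst hm2
  have hm0 : 2 ≤ m := by
    obtain ⟨m, rfl⟩ := hme
    rcases m with _ | m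
    · simp at hc0
    · omega
  have hd0 : 0 < d := Nat.pos_of_ne_zero fun e => by simp [e] at hc0
  have hμ : μ = d * ε := by
    have : (k : ℤ) * (m * μ) = k * (m * (d * ε)) := by
      rw [hn] at hpar
      have e : (k : ℤ) = 1 + m * d * α + m * d * ε := by exact_mod_cast hk
      push_cast at hpar
      linear_combination -hpar + k * e
    have := mul_left_cancel₀ (by omega) (mul_left_cancel₀ (by omega) this)
    exact_mod_cast this
  have hε0 : 0 < ε := Nat.pos_of_ne_zero fun e => by simp [e, hμ] at hμ0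
  by_cases hd : Even d
  swap
  · left
    rw [hfo hd, hn] at hc2
    have h4 : α + ε = 1 ∧ m = 2 := by
      have e1 : m * d * ((α + ε) * (m + 1)) + m ≤ m * d * 4 := by nlinarith
      have e2 : (α + ε) * (m + 1) < 4 := by
        by_contra e2
        have := Nat.mul_le_mul_left (m * d) (not_lt.mp e2)
        omega
      constructor <;> nlinarith
    obtain ⟨h4, rfl⟩ := h4
    obtain rfl : ε = 1 := by omega
    obtain rfl : α = 0 := by omega
    rw [mul_one] at hμ
    subst hμ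
    obtain rfl : k = 2 * μ + 1 := by omega
    obtain ⟨N, hN⟩ := hs.mult 1 (-(μ + 1)) (by simp) (by push_cast; ring) (by
      have : (0 : ℝ) ≤ μ := by positivity
      linarith)
    rw [← Nat.card_eq_fintype_card, hn] at hN
    have e : 8 * (μ + 2) = 12 + (μ + 2) * N := by
      have : (8 : ℝ) * (μ + 2) = 12 + (μ + 2) * N := by
        push_cast at hN; linear_combination hN
      exact_mod_cast this
    have e1 : μ + 2 ∣ 12 := (Nat.dvd_add_left (Dvd.intro _ rfl)).mp (e ▸ Dvd.intro_left _ rfl)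
    have e2 := Nat.le_of_dvd (by omega) e1
    have e3 : μ = 1 := by
      have : μ ≤ 10 := by omega
      interval_cases μ <;> simp_all +decide
    subst e3
    rw [hG, hn]
    exact ⟨rfl, rfl⟩
  right
  have hf : f = m + 2 := by
    have := Nat.eq_of_mul_eq_mul_left hk0 (hfe hd)
    omega
  subst hf
  rw [hn] at hc1 hc2
  have h4 : α + ε ≤ 2 := by
    have e1 : m * d * ((α + ε) * (m + 1)) ≤ m * d * (2 * (m + 2)) := by nlinarith
    have e2 := Nat.le_of_mul_le_mul_left e1 (by omega)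
    by_contra e3
    have := Nat.mul_le_mul_right (m + 1) (show 3 ≤ α + ε by omega)
    omega
  obtain ⟨v, hv⟩ := hs.exists_sq (by nlinarith) (by
    rw [← Nat.card_eq_fintype_card, hn]
    intro e
    have e1 : (k : ℤ) * ((m + 1) * (μ - (m * d * α : ℕ))) = k * 2 := by
      push_cast at e ⊢; linear_combination e
    have e2 := mul_left_cancel₀ (by omega) e1
    have e3 : (m + 1 : ℤ) ∣ 2 := Dvd.intro _ e2
    have := Int.le_of_dvd two_pos e3
    omega)
  obtain rfl : α = 0 := by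
    by_contra e
    obtain rfl : α = 1 := by omega
    obtain rfl : ε = 1 := by omega
    refine num11 (v := v) hm0 hd hd0 ?_
    rw [hv, hμ, hk]; push_cast; ring
  have hk' : k = 1 + m * μ := by rw [hk, hμ]; ring
  have hμe : Even μ := hμ ▸ hd.mul_right ε
  obtain ⟨r, hr0, hr⟩ : ∃ r, 1 ≤ r ∧ r * r + μ * r + μ = 1 + m * μ := by
    have e : (v : ℤ) * v + 4 * μ = μ * μ + 4 * (1 + m * μ) := by
      rw [hk'] at hv; push_cast at hv; linear_combination hv
    have e' : v * v + 4 * μ = μ * μ + 4 * (1 + m * μ) := by exact_mod_cast e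
    have e1 : μ < v := by
      by_contra e1
      have : v * v ≤ μ * μ := Nat.mul_le_mul (by omega) (by omega)
      nlinarith
    obtain ⟨w, rfl⟩ : ∃ w, v = μ + w := ⟨v - μ, by omega⟩
    obtain ⟨r, rfl | rfl⟩ := Nat.even_or_odd' w
    · exact ⟨r, by omega, by nlinarith⟩
    · exfalso
      obtain ⟨μ, rfl⟩ := hμe
      have : 2 * (2 * (μ * (2 * r + 1)) + 2 * (r * r) + 2 * r + 4 * μ) + 1 =
        2 * (2 * (1 + m * (μ + μ))) := by linarith
      omega
  rw [mul_zero] at hs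
  have h5 := numfin hr0 hme hμe hμ0 hr (by
    rw [hk'] at hc1
    have e : 1 + (1 + m * μ) + (1 + m * μ) * m + (m + 2) * μ = (m + 2) * (1 + m * μ) + 2 * μ := by
      ring
    exact (Nat.dvd_add_right (Dvd.intro _ rfl)).mp (e ▸ Dvd.dvd.add hc1 (Dvd.intro _ rfl)))
    ((hkavg μ r hs hμe hμ0 (hr.trans hk'.symm)).imp_left fun e => le_trans (by
      rw [hμ]
      have := Nat.mul_le_mul_left (m * d) (show ε ≤ 2 by omega)
      linarith) e)
  rcases h5 with ⟨rfl, rfl⟩ | ⟨rfl, rfl⟩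
  · rw [hn, hk']
    exact ⟨rfl, rfl⟩
  exfalso
  obtain ⟨y, hy, ho⟩ := h3' ⟨6 * d, by ring⟩
  have e := @CL.SrgT.Srg.modp X _ _ G _ _ (ZMod 7) _ _ _ _ _ isReduced_zmod7 hs h.inv 4
    (by decide) (by rw [hk']; decide) (by rw [hk']; decide) y
  have e1 : {x : X | adj x (y • x)} = ∅ := by
    rw [Set.eq_empty_iff_forall_notMem]
    intro x hx
    have e2 := hs.lam hx
    rw [Set.ncard_eq_zero (Set.toFinite _), Set.eq_empty_iff_forall_notMem] at e2
    refine e2 (y • y • x) ⟨?_, h.inv y hx⟩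
    have e3 := h.inv y (h.inv y hx)
    rw [← mul_smul y y (y • x), ← mul_smul (y * y), ← pow_three', ← ho, pow_orderOf_eq_one,
      one_smul] at e3
    exact h.symm e3
  rw [e1, h3 y hy ho (fun e2 => by
    have : 3 ∣ 20 := hμ ▸ e2.mul_right ε
    omega), Set.ncard_empty] at e
  exact absurd e (by decide)

omit h0 in
theorem classify {a b : X} (hb : adj a b) :
    (Nat.card X = 10 ∧ Nat.card G = 60) ∨
      (Nat.card X = 16 ∧ ∃ p i j : ℕ, p.Prime ∧ Nat.card G = 2 ^ i * p ^ j) := by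
  have hG := h.card_G a
  rw [h.card_stabE hb] at hG
  have hc := h.c_dvd hb
  by_cases h0 : ∀ {a q : X} {x : G}, q ≠ a → x ∈ K a → x • q = q → x = 1
  · refine (h.case0 h0 hb).imp_right fun ⟨h1, h2⟩ => ⟨h2, 5, ?_⟩
    rw [h1] at hc
    obtain ⟨i, -, hi⟩ := (Nat.dvd_prime_pow Nat.prime_two (m := 2)).mp hc
    exact ⟨4 + i, 1, by norm_num, by rw [hG, h1, h2, hi]; ring⟩
  · push Not at h0
    obtain ⟨a', q, x, h1, hx, e, hx1⟩ := h0
    obtain ⟨h2, h3⟩ := h.caseD h1 (fun e1 => hx1 (h.free hx e1 e)) hx hx1 e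
    rw [h.card_K_eq a' a] at h2
    rw [h2] at hc
    obtain ⟨i, -, hi⟩ := (Nat.dvd_prime_pow Nat.prime_two (m := 3)).mp hc
    exact Or.inr ⟨h3, 3, 4 + i, 2, by norm_num, by rw [hG, h2, h3, hi]; ring⟩

end R3

end CL.R3F
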