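import Mathlib
import Cfsg.Agent.PERM.S9Base
import Cfsg.Agent.INV.ZStar
import Cfsg.Agent.INV.IndexTwo
import Cfsg.Agent.REC.Basic

/-! The cases in which the automizer of `3^3` is `Sym(3)` or `2 × Sym(3)`. -/

set_option autoImplicit false
set_option maxRecDepth 100000
set_option synthInstance.maxSize 2000
open Cfsg

namespace CL.Odd

open MO A8

variable {G : Type*} [Group G] [Finite G]

theorem SC3.mem_pCore (h : SC3 G) {y s v : G} (y1 : y ≠ 1) (y3 : y ^ 3 = 1)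
    (sy : s * y * s⁻¹ = y⁻¹) (v2 : v * v = 1) (nc : ¬ IsConj v s) : v ∈ pCore 2 G := by
  by_cases v1 : v = 1
  · exact v1 ▸ one_mem _
  obtain ⟨N, hN, hN3, hnil, hcase⟩ := h.classification y1 y3
  have key : ∀ x : G ⧸ N, (v : G ⧸ N) * (x * v * x⁻¹) ≠ 1 →
      ((v : G ⧸ N) * (x * v * x⁻¹)) ^ 3 ≠ 1 := fun x a b => by
    obtain ⟨x, rfl⟩ := QuotientGroup.mk_surjective x
    refine nc (h.isConj_of_inverts (x := v * (x * v * x⁻¹)) (fun e => a ?_)
      (by simpa using h.cube_mul hN3 (y := v * (x * v * x⁻¹)) a b 1 N.one_mem) ?_ y1 y3 sy)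
    · exact congrArg QuotientGroup.mk e
    · rw [← mul_assoc v v, v2, mul_inv_rev, conj_inv, inv_eq_of_mul_eq_one_right v2, one_mul]
  have v2' : (v : G ⧸ N) * v = 1 := congrArg QuotientGroup.mk v2
  have hv : (v : G ⧸ N) = 1 := by
    by_contra a
    rcases hcase with e | ⟨⟨e⟩⟩ | ⟨-, -, ⟨e⟩⟩ | ⟨⟨e⟩⟩
    · have := orderOf_dvd_natCard (v : G ⧸ N)
      rw [e, orderOf_eq_prime ((pow_two _).trans v2') a] at this; omega
    · obtain ⟨x, b, c⟩ := dec_s3.1 (e v) (by rw [← map_mul, v2', map_one]) (by simpa using a)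
      obtain ⟨x, rfl⟩ := e.surjective x
      exact key x (by simpa only [← map_inv, ← map_mul, map_ne_one_iff _ e.injective] using b)
        (by simpa only [← map_inv, ← map_mul, ← map_pow, map_eq_one_iff _ e.injective] using c)
    · let ε := (alternatingGroup (Fin 5)).subtype.comp e.toMonoidHom
      have εi : Function.Injective ε := Subtype.val_injective.comp e.injective
      obtain ⟨x, d, b, c⟩ := dec_a5.1 (ε v) (by rw [← map_mul, v2', map_one])
        ((map_ne_one_iff _ εi).mpr a) (e _).2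
      obtain ⟨x, rfl⟩ : ∃ z, ε z = x := ⟨e.symm ⟨x, d⟩, by simp [ε]⟩
      exact key x (by simpa only [← map_inv ε, ← map_mul ε, map_ne_one_iff _ εi] using b)
        (by simpa only [← map_inv ε, ← map_mul ε, ← map_pow, map_eq_one_iff _ εi] using c)
    · have : Fact (Nat.Prime 7) := ⟨by norm_num⟩
      have o : ∀ {a : G}, a ≠ 1 → a * a = 1 → orderOf (e a) = 2 := fun a b => by
        rw [e.orderOf_eq, orderOf_eq_prime ((pow_two _).trans b) a]
      have s1 : s ≠ 1 := fun a => by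
        rw [a, one_mul, inv_one, mul_one, eq_inv_iff_mul_eq_one] at sy
        exact y1 (by rwa [pow_succ, pow_two, sy, one_mul] at y3)
      exact nc (by simpa using e.symm.toMonoidHom.map_isConj (CL.CITC.isConj_psl2_two
        (F := ZMod 7) _ _ (o v1 v2) (o s1 (h.sq_of_inverts y1 y3 sy))))
  have m := (QuotientGroup.eq_one_iff v).mp hv
  obtain ⟨P, hP⟩ := (IsPGroup.of_card (p := 2) (n := 1) (card_zpowers_two (t := (⟨v, m⟩ : N))
    (fun e => v1 (congrArg Subtype.val e)) (Subtype.ext v2))).exists_le_sylow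
  have := Sylow.characteristic_of_normal P inferInstance
  exact le_pCore (P.isPGroup'.map N.subtype) ⟨_, hP (Subgroup.mem_zpowers _), rfl⟩

theorem eq_of_small {t y s v : G} (hc : ∀ g, g * t = t * g) (t1 : t ≠ 1) (t2 : t * t = 1)
    (y1 : y ≠ 1) (y3 : y ^ 3 = 1) (cy : ∀ g, g * y = y * g → g ∈ Subgroup.zpowers (y * t))
    (s2 : s * s = 1) (st : s ≠ t) (sy : s * y * s⁻¹ = y⁻¹)
    (cs : ∀ g, g * s = s * g → g = 1 ∨ g = s ∨ g = t ∨ g = s * t) (v2 : v * v = 1)
    (hn : ∀ g, g * v * g⁻¹ ≠ s ∧ g * v * g⁻¹ ≠ s * t) : v = 1 ∨ v = t := by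
  by_contra! hv
  have := normal_zpowers_of_central hc
  obtain ⟨hS, y1'⟩ := sc3_quot hc t2 y1 y3 cy
  let π := QuotientGroup.mk' (Subgroup.zpowers t)
  have y3' : π y ^ 3 = 1 := by rw [← map_pow, y3, map_one]
  have m := hS.mem_pCore (y := π y) (s := π s) (v := π v) y1' y3' (by
    rw [← map_inv, ← map_mul, ← map_mul, sy]; rfl) (by rw [← map_mul, v2, map_one]) fun c => by
      obtain ⟨g, e⟩ := isConj_iff.mp c
      obtain ⟨g, rfl⟩ := QuotientGroup.mk'_surjective _ g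
      rw [← map_inv, ← map_mul, ← map_mul] at e
      rcases (mem_zpowers_two t2).mp (QuotientGroup.eq.mp e.symm) with a | a <;>
        rw [inv_mul_eq_iff_eq_mul] at a
      exacts [(hn g).1 (by simpa using a), (hn g).2 a]
  have hp := isPGroup_pCore 2 (G ⧸ Subgroup.zpowers t)
  obtain ⟨k, hk⟩ := hp.exists_card_eq
  have e := norm_of_cube y3' (hS.cube_inv (by
    rw [hk]; exact fun e => absurd (Nat.prime_three.dvd_of_dvd_pow e) (by norm_num)) y1' y3'
    (fun a ha => (pCore_normal 2 _).conj_mem a ha _) m).1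
  simp only [← map_inv, ← map_mul] at e
  replace e := (mem_zpowers_two t2).mp ((QuotientGroup.eq_one_iff _).mp e)
  have s1 : s ≠ 1 := fun a => by
    rw [a, one_mul, inv_one, mul_one, eq_inv_iff_mul_eq_one] at sy
    exact y1 (by rwa [pow_succ, pow_two, sy, one_mul] at y3)
  let A := extN (Subgroup.zpowers t) s2 fun a ha => this.conj_mem a ha s
  have mA : ∀ {g}, g ∈ A ↔ g = 1 ∨ g = s ∨ g = t ∨ g = s * t := fun {g} => by
    show g ∈ Subgroup.zpowers t ∨ g * s ∈ Subgroup.zpowers t ↔ _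
    rw [mem_zpowers_two t2, mem_zpowers_two t2, ← eq_mul_inv_iff_mul_eq, ← eq_mul_inv_iff_mul_eq,
      inv_eq_of_mul_eq_one_right s2, one_mul, ← hc]
    tauto
  have sA : s ∈ A := self_mem_extN
  have cA : Nat.card A = 4 := by
    rw [card_extN (by rw [mem_zpowers_two t2]; tauto), card_zpowers_two t1 t2]
  obtain ⟨T, hT⟩ := (IsPGroup.of_card (p := 2) (n := 2) cA).exists_le_sylow
  have QT : (pCore 2 _).comap π ≤ T := IsPGroup.le_sylow_of_normal
    (hp.comap_of_ker_isPGroup π (by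
      rw [QuotientGroup.ker_mk']; exact IsPGroup.of_card (n := 1) (card_zpowers_two t1 t2))) T
  have cA' := (Nat.card_congr (Subgroup.subgroupOfEquivOfLe hT).toEquiv).trans cA
  have nA : ∀ g, g * v * g⁻¹ ∉ A := fun g a => by
    rcases mA.mp a with a | a | a | a
    exacts [hv.1 (by simpa using a), (hn g).1 a,
      hv.2 (by rwa [mul_inv_eq_iff_eq_mul, ← hc, mul_right_inj] at a), (hn g).2 a]
  obtain ⟨⟨k, k2, ⟨ε⟩⟩, -⟩ := dihedral_of_four T.isPGroup' cA' (fun a ha => Subtype.ext (by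
    show (a : G) * a = 1
    rcases mA.mp (show (a : G) ∈ A from ha) with a | a | a | a <;> rw [a]
    exacts [mul_one 1, s2, t2, by rw [mul_assoc, ← mul_assoc t, ← hc, mul_assoc, t2, mul_one, s2]]))
    (fun g hg => mA.mpr (cs g (congrArg Subtype.val (hg ⟨s, hT sA⟩ sA)).symm))
    (t := ⟨v, QT m⟩) (Subtype.ext v2) fun g => nA g
  have : NeZero k := ⟨by omega⟩
  let t' : T := ⟨t, hT (mA.mpr (by simp))⟩
  obtain ⟨j, hj⟩ : ∃ j, ε t' = .r j := by
    rcases hj : ε t' with j | j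
    · exact ⟨j, rfl⟩
    obtain ⟨g, hg⟩ := ε.surjective (.r 1)
    have := congrArg ε (show g * t' = t' * g from Subtype.ext (hc g))
    rw [map_mul, map_mul, hg, hj, DihedralGroup.r_mul_sr, DihedralGroup.sr_mul_r,
      DihedralGroup.sr.injEq] at this
    have := Nat.le_of_dvd two_pos ((ZMod.natCast_eq_zero_iff 2 k).mp (by
      push_cast; linear_combination -this))
    have := (Subgroup.eq_top_of_card_eq (A.subgroupOf T) (by
      rw [cA', Nat.card_congr ε.toEquiv, DihedralGroup.nat_card]; omega)).ge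
      (Subgroup.mem_top (⟨v, QT m⟩ : T))
    exact (nA 1 (by simpa [Subgroup.mem_subgroupOf] using this)).elim
  have half : ∀ {a : T} {i}, a * a = 1 → a ≠ 1 → ε a = .r i → 2 * i.val = k := fun {a i} b c d => by
    have := congrArg ε b
    rw [map_mul, d, map_one, DihedralGroup.r_mul_r, DihedralGroup.one_def,
      DihedralGroup.r.injEq] at this
    exact ((ZMod.neg_eq_self_iff i).mp (neg_eq_of_add_eq_zero_left this)).resolve_left fun e =>
      c (ε.injective (by rw [d, e, map_one]; rfl))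
  have refl : ∀ g, ∃ i, ε ⟨g * v * g⁻¹, QT ((Subgroup.Normal.comap (pCore_normal 2 _) π).conj_mem
      v m g)⟩ = .sr i := fun g => by
    rcases hi : ε ⟨g * v * g⁻¹, _⟩ with i | i
    · have a := half (Subtype.ext (by simp [← mul_assoc, mul_assoc g v v, v2]))
        (fun e => nA g (mA.mpr (Or.inl (congrArg Subtype.val e)))) hi
      have b := half (Subtype.ext t2) (fun e => t1 (congrArg Subtype.val e)) hj
      rw [ZMod.val_injective k (show i.val = j.val by omega), ← hj, ε.apply_eq_iff_eq] at hi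
      exact (nA g (mA.mpr (Or.inr (Or.inr (Or.inl (congrArg Subtype.val hi)))))).elim
    · exact ⟨i, rfl⟩
  obtain ⟨a, ha⟩ := refl 1
  obtain ⟨b, hb⟩ := refl y
  obtain ⟨c, hc⟩ := refl (y * y)
  have : ε _ * ε _ * ε _ = _ := congrArg₂ _ (congrArg₂ _ ha hb) hc
  rw [← map_mul, ← map_mul] at this
  rcases e with e | e
  · rw [show _ * _ * _ = (1 : T) from Subtype.ext (by simpa using e), map_one] at this
    cases this
  · rw [show _ * _ * _ = t' from Subtype.ext (by simpa using e), hj] at this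
    cases this

theorem Sig.st {X D Z : Subgroup G} (h : Sig X D Z) (hD : Nat.card D = 9) (h3 : ∀ a ∈ D, a ^ 3 = 1)
    {t : G} (ht : t ∈ X) (t2 : t * t = 1) (hi : ∀ a ∈ D, t * a * t⁻¹ = a⁻¹)
    (hN : ∀ g ∈ X, (∀ y ∈ D, g * y * g⁻¹ ∈ D) → ∃ a ∈ Z, g * a ∈ D ∨ g * t * a ∈ D) :
    ∀ g ∈ X, ∀ y ∈ D, g * y * g⁻¹ ∈ D := by
  have hc' : ∀ a ∈ Z.subgroupOf X, ∀ g : X, g * a = a * g := fun a ha g =>
    Subtype.ext (h.cen a ha g g.2)
  have : (Z.subgroupOf X).Normal := ⟨fun a ha g => by rwa [hc' a ha, mul_inv_cancel_right]⟩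
  let π := QuotientGroup.mk' (Z.subgroupOf X)
  have mE : ∀ {g : X}, π g ∈ (D.subgroupOf X).map π ↔ ∃ a ∈ Z, g * a ∈ D := fun {g} =>
    ⟨fun ⟨d, hd, e⟩ => ⟨((g⁻¹ * d : X) : G), (QuotientGroup.eq (s := Z.subgroupOf X)).mp e.symm,
      by simpa [Subgroup.mem_subgroupOf] using hd⟩, fun ⟨a, ha, e⟩ =>
      ⟨g * ⟨a, h.zle ha⟩, e, QuotientGroup.mk_mul_of_mem g ha⟩⟩
  have nrm : ∀ {g : X}, (∀ a ∈ (D.subgroupOf X).map π, π g * a * (π g)⁻¹ ∈ (D.subgroupOf X).map π) →
      ∀ y ∈ D, g * y * (g : G)⁻¹ ∈ D := fun {g} e y hy => by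
    obtain ⟨a, ha, b⟩ := (mE (g := g * ⟨y, h.le hy⟩ * g⁻¹)).mp (e _ ⟨⟨y, h.le hy⟩, hy, rfl⟩)
    exact h.mem_of g.2 hy ha b
  have cZ : (Nat.card (Z.subgroupOf X)).Coprime 3 := by
    rw [Nat.card_congr (Subgroup.subgroupOfEquivOfLe h.zle).toEquiv]
    exact Nat.Coprime.coprime_dvd_left h.card (by norm_num)
  have key := st_top (E := (D.subgroupOf X).map π) (t := π ⟨t, ht⟩) (by
      have a := Subgroup.card_eq_card_quotient_mul_card_subgroup (π.comp (D.subgroupOf X).subtype).ker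
      rw [Nat.card_congr (QuotientGroup.quotientKerEquivRange _).toEquiv, MonoidHom.range_comp,
        Subgroup.range_subtype, Nat.card_congr (Subgroup.subgroupOfEquivOfLe h.le).toEquiv, hD,
        show (π.comp (D.subgroupOf X).subtype).ker = ⊥ from eq_bot_iff.mpr fun d hd => by
          have : ((d : X) : G) ^ 3 = 1 := h3 _ d.2
          rw [pow_succ, pow_two, h.sq (d : X) ((QuotientGroup.eq_one_iff (N := Z.subgroupOf X) d.1).mp
            hd), one_mul] at this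
          exact Subtype.ext (Subtype.ext this), Subgroup.card_bot] at a
      omega)
    (by rintro _ ⟨a, ha, rfl⟩; rw [← map_pow, show a ^ 3 = 1 from Subtype.ext (h3 a ha), map_one])
    (by rw [← map_mul]; exact congrArg π (Subtype.ext t2))
    (by rintro _ ⟨a, ha, rfl⟩; simp only [← map_inv, ← map_mul]; exact congrArg π (Subtype.ext (hi a ha)))
    (fun g e => by
      obtain ⟨g, rfl⟩ := QuotientGroup.mk'_surjective _ g
      obtain ⟨a, ha, b⟩ := hN g g.2 (nrm e)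
      exact b.imp (fun b => mE.mpr ⟨a, ha, b⟩) fun b => (mE (g := g * ⟨t, ht⟩)).mpr ⟨a, ha, b⟩)
    (eq_bot_iff.mpr fun n hn => by
      obtain ⟨g, rfl⟩ := QuotientGroup.mk_surjective n
      refine (QuotientGroup.eq_one_iff g).mpr (h.sig _ (Subgroup.map_subtype_le (pPrimeCore 3 X)) (by
        rw [Subgroup.card_map_of_injective X.subtype_injective]; exact not_dvd_card_pPrimeCore 3 X)
        (h.le.trans (Subgroup.le_normalizer.trans (normalizer_le_normalizer_map_pPrimeCore X)))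
        ⟨g, ?_, rfl⟩)
      rw [← comap_mk'_pPrimeCore (Z.subgroupOf X) cZ]; exact hn)
  intro g hg
  refine nrm (g := ⟨g, hg⟩) ?_
  rintro _ ⟨a, ha, rfl⟩
  have c : ∀ b ∈ (D.subgroupOf X).map π, b * π a * b⁻¹ ∈ (D.subgroupOf X).map π := fun b hb =>
    mul_mem (mul_mem hb ⟨a, ha, rfl⟩) (inv_mem hb)
  rcases key (π ⟨g, hg⟩) with e | e
  · exact c _ e
  · have := inv_mem (c _ e)
    have i : π ⟨t, ht⟩ * π a * (π ⟨t, ht⟩)⁻¹ = (π a)⁻¹ := by
      simp only [← map_inv, ← map_mul]; exact congrArg π (Subtype.ext (hi a ha))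
    rwa [show (π ⟨g, hg⟩ * π ⟨t, ht⟩ * π a * (π ⟨g, hg⟩ * π ⟨t, ht⟩)⁻¹)⁻¹ =
      π ⟨g, hg⟩ * (π ⟨t, ht⟩ * π a * (π ⟨t, ht⟩)⁻¹)⁻¹ * (π ⟨g, hg⟩)⁻¹ by group, i, inv_inv] at this

namespace S9Hyp

theorem cz_plane {n : Fin 4} {ι : U n →* G} (h : S9Hyp ι) (hn : ∀ w, inW n w → inW 1 w) (x : V3)
    (a : dot (1, 2, 0) x = 0) (b : x ≠ 0) : cz (ι (tau n x)) ≤ ι.range := by
  rcases (by decide +kernel : ∀ x, dot (1, 2, 0) x = 0 → x ≠ 0 → x = cc ∨ x = -cc ∨
    ∀ w, inW 1 w → sg w x = x → Refl (1, 2, 0) w) x a b with rfl | rfl | e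
  · exact h.cent
  · rw [tau_neg, map_inv, A8.cz_inv]; exact h.cent
  · exact h.le_refl (J_le_cz x) (by decide) fun p c => e _ (hn _ p.2) (h.fix.mp c)

theorem one {ι : U 0 →* G} (h : S9Hyp ι) : ι.range = ⊤ := by
  have a := h.cz_sw (h.cz_plane (inW_zero 1)) (v := cc) (by decide) (by decide) (by decide +kernel)
  obtain ⟨K, hK, m⟩ := CL.Iso.thompson_transfer_inv (H := Subgroup.zpowers (ι (sw 0))) (M := ⊥)
    (Nat.odd_iff.mpr (Nat.two_dvd_ne_zero.mp (not_dvd_index_of_normalizer_le' (n := 1)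
      (M := ι.range) (card_zpowers_two h.sw_ne sw_sq) (fun g hg => a (mem_cz.mpr
        (((mem_zpowers_two sw_sq).mp ((Subgroup.mem_normalizer_iff.mp hg _).mp
        (Subgroup.mem_zpowers _))).resolve_left (by simpa using h.sw_ne)))) (by
      rw [← Nat.card_congr (MonoidHom.ofInjective h.inj).toEquiv, card_U]; decide))))
    (by rw [Subgroup.relIndex_bot_left, card_zpowers_two h.sw_ne sw_sq]) (Subgroup.mem_zpowers _)
    (orderOf_eq_prime ((pow_two _).trans sw_sq) h.sw_ne) fun g => by simpa using h.sw_ne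
  have := Subgroup.normal_of_index_eq_two hK
  have k : (S3 0).map ι ≤ K := fun g hg => by
    obtain ⟨j, e⟩ := h.pS ⟨g, hg⟩
    exact T43.mem_of_sq_mem (congrArg Subtype.val e) (Subgroup.mul_self_mem_of_index_two hK g)
  exact h.top_of_normal k fun p c => ((by decide +kernel : ∀ p, p ∈ S3 0 ∨ p * sw 0 ∈ S3 0) p).elim
    id fun e => (m ((K.mul_mem_cancel_left c).mp (k ⟨_, e, map_mul ι _ _⟩))).elim

theorem two {ι : U 1 →* G} (h : S9Hyp ι) : ι.range = ⊤ := by
  have hc := h.cz_plane fun _ => id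
  let t := lin 1 7 false
  let ν := lin 1 0 true
  have t2 : ι t * ι t = 1 := by rw [← map_mul, show t * t = 1 by decide, map_one]
  have t1 : ι t ≠ 1 := (map_ne_one_iff _ h.inj).mpr (by decide)
  have tb : ι t ∈ cz (ι (tau 1 (1, 2, 0))) := h.fix.mpr (by decide)
  have hb : cz (ι (tau 1 (1, 2, 0))) ≤ ι.range := fun g hg => by
    refine (res_le (E := (Js 1 (1, 2, 0)).map ι) (J_le_cz _) (Js_p 0) Js_comm
      (Subgroup.map_mono (Js_le _)) (h.card_J _) Js_cube tb t2 (fun a ha => ?_) (fun a ha => ?_)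
      (fun g hg e => ?_) (fun g hg e => ?_) (h.core (cz _).subtype (cz _).subtype_injective
        (by rw [Subgroup.range_subtype]; exact J_le_cz _)) g hg).elim (Subgroup.map_le_range _ _ ·)
      fun e => (ι.range.mul_mem_cancel_right ⟨_, rfl⟩).mp (Subgroup.map_le_range _ _ e)
    · obtain ⟨x, b, rfl⟩ := mem_Js.mp ha
      rw [tau_conj', ← map_inv, ← tau_neg,
        (by decide : ∀ x, dot (1, 2, 0) x = 0 → act t x = -x) x b]
    · obtain ⟨x, -, rfl⟩ := mem_Js.mp ha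
      exact ⟨_, (by decide +kernel : ∀ x, tau 1 x * t * (tau 1 x)⁻¹ * t⁻¹ ∈ Js 1 (1, 2, 0)) x, by simp⟩
    · obtain ⟨p, rfl⟩ := h.mem_of_norm e
      exact ((by decide +kernel : ∀ p, act p (1, 2, 0) = (1, 2, 0) → p ∈ Js 1 0 ∨ p * t ∈ Js 1 0) p
        (h.fix.mp hg)).imp (⟨p, ·, rfl⟩) (⟨_, ·, map_mul ι _ _⟩)
    · have := mem_cz'.mpr (e _ (mem_Js.mpr ⟨cc, by decide, rfl⟩))
      obtain ⟨p, rfl⟩ := h.cent this
      exact ⟨p, mem_J.mpr ((by decide +kernel : ∀ w, sg w (1, 2, 0) = (1, 2, 0) → sg w cc = cc →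
        w = (0, false)) _ (h.fix.mp hg) (h.fix.mp this)), rfl⟩
  have hs : cz (ι (sw 1)) ≤ ι.range := fun g hg => h.norm_cz h.cz_D ((h.sigD hc).st (h.card_J _)
    Js_cube (t := ι ν) ((mem_cz_hom h.inj).mpr (by decide))
    (by rw [← map_mul, show ν * ν = 1 by decide, map_one]) (fun a ha => by
      obtain ⟨x, -, rfl⟩ := mem_Js.mp ha
      rw [tau_conj', ← map_inv, ← tau_neg, (by decide : ∀ x, act ν x = -x) x]) (fun g hg e => by
      obtain ⟨p, rfl⟩ := h.norm_cz h.cz_D e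
      obtain ⟨j, a⟩ := (by decide +kernel : ∀ p, p * sw 1 = sw 1 * p → ∃ j : Fin 2,
        p * sw 1 ^ j.val ∈ Js 1 (1, 2, 0) ∨ p * ν * sw 1 ^ j.val ∈ Js 1 (1, 2, 0)) p
        ((mem_cz_hom h.inj).mp hg)
      exact ⟨_, Subgroup.npow_mem_zpowers _ j.val, a.imp (⟨_, ·, by simp⟩) (⟨_, ·, by simp⟩)⟩) g hg)
  have cy : ∀ g ∈ cz (ι t), g * ι (tau 1 (1, 2, 0)) = ι (tau 1 (1, 2, 0)) * g →
      ∃ j : Fin 6, ι ((tau 1 (1, 2, 0) * t) ^ j.val) = g := fun g hg e => by
    obtain ⟨p, rfl⟩ := hb (mem_cz'.mpr e)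
    exact ((by decide +kernel : ∀ p, p * t = t * p → act p (1, 2, 0) = (1, 2, 0) →
      ∃ j : Fin 6, (tau 1 (1, 2, 0) * t) ^ j.val = p) p ((mem_cz_hom h.inj).mp hg)
      (h.fix.mp (mem_cz'.mpr e))).imp fun _ => congrArg ι
  have nc : ∀ {s y}, IsConj s (ι t) → y ∈ cz s → y ^ 3 = 1 → y ≠ 1 →
      IsConj y (ι (tau 1 (1, 2, 0))) ∨ IsConj y (ι (tau 1 (-(1, 2, 0)))) := fun c a b d =>
    conj_zp c a b d (h.tau_ne (by decide)) (mem_cz_comm.mp tb) fun g hg e ⟨k, hk⟩ => by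
      obtain ⟨j, rfl⟩ := cy g hg e
      obtain ⟨i, e⟩ := (by decide +kernel : ∀ j : Fin 6, T3 ((tau 1 (1, 2, 0) * t) ^ j.val).1.2 →
        ∃ i : Fin 3, (tau 1 (1, 2, 0) * t) ^ j.val = tau 1 (1, 2, 0) ^ i.val) j
        (t3_of (h.inj (by rw [map_pow, hk, map_one])))
      rw [e, map_pow]; exact Subgroup.npow_mem_zpowers _ _
  have iso : IsIsolatedInvolution (ι t) := ⟨orderOf_eq_prime ((pow_two _).trans t2) t1, fun g c => by
    refine congrArg Subtype.val ((eq_of_small (G := cz (ι t)) (t := ⟨_, mem_cz'.mpr rfl⟩)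
      (y := ⟨_, mem_cz_comm.mp tb⟩) (s := ⟨ι (sw 1), (mem_cz_hom h.inj).mpr (by decide)⟩)
      (v := ⟨_, mem_cz'.mpr c.eq.symm⟩) (fun a => Subtype.ext (mem_cz'.mp a.2))
      (fun e => t1 (congrArg Subtype.val e)) (Subtype.ext t2)
      (fun e => h.tau_ne (by decide) (congrArg Subtype.val e)) (Subtype.ext (tau_cube' _))
      (fun a e => ?_) (Subtype.ext sw_sq) (fun e => absurd (h.inj (congrArg Subtype.val e))
        (by decide)) (Subtype.ext ?_) (fun a e => ?_) (Subtype.ext ?_) fun a => ⟨fun e => ?_,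
        fun e => ?_⟩).resolve_left fun e => t1 (by simpa using congrArg Subtype.val e))
    · obtain ⟨j, b⟩ := cy a a.2 (congrArg Subtype.val e)
      exact ⟨j.val, Subtype.ext (by simpa using b)⟩
    · show _ * _ * _ = _
      rw [Subgroup.coe_inv, Subgroup.coe_inv, tau_conj', ← map_inv, ← tau_neg]; rfl
    · obtain ⟨p, hp⟩ := hs (mem_cz'.mpr (congrArg Subtype.val e))
      simpa only [Subtype.ext_iff (p := (· ∈ cz (ι t))), ← hp, Subgroup.coe_mul, ← map_mul,
        h.inj.eq_iff, OneMemClass.coe_one, map_eq_one_iff _ h.inj] using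
        (by decide +kernel : ∀ p, p * sw 1 = sw 1 * p → p * t = t * p →
        p = 1 ∨ p = sw 1 ∨ p = t ∨ p = sw 1 * t) p ((mem_cz_hom h.inj).mp
          (hp ▸ mem_cz'.mpr (congrArg Subtype.val e))) ((mem_cz_hom h.inj).mp (hp ▸ a.2))
    · show _ * _ = (1 : G)
      rw [conj_mul, t2]; simp
    · rcases nc (s := ι (sw 1)) (IsConj.symm (isConj_iff.mpr ⟨a * g, by
        rw [← show _ = ι (sw 1) from congrArg Subtype.val e]; simp [mul_assoc]⟩))
        (mem_cz_comm.mp (h.fix.mpr (show act _ cc = cc by decide))) (tau_cube' _)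
        (h.tau_ne (by decide)) with b | b <;> obtain ⟨p, b⟩ := h.fusion' b <;> revert p <;>
        decide +kernel
    · rcases nc (s := ι (sw 1 * t)) (y := ι (dd 1)) (IsConj.symm (isConj_iff.mpr ⟨a * g, by
        rw [map_mul, ← show _ = ι (sw 1) * ι t from congrArg Subtype.val e]; simp [mul_assoc]⟩))
        ((mem_cz_hom h.inj).mpr (by decide)) (by rw [← map_pow, show dd 1 ^ 3 = 1 by decide, map_one])
        ((map_ne_one_iff _ h.inj).mpr (by decide)) with b | b <;> exact h.not_dd rfl b⟩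
  have k : ∀ x, ι (t * x * t⁻¹ * x⁻¹) ∈ oddCore G := fun x => by
    simpa using CL.BS.zstar iso (ι x)
  have k' : ∀ d x, ι (d * (t * x * t⁻¹ * x⁻¹) * d⁻¹) ∈ oddCore G := fun d x => by
    rw [map_mul, map_mul, map_inv]; exact Subgroup.Normal.conj_mem inferInstance _ (k x) _
  refine h.top_of_normal (K := oddCore G) ?_ fun p c => ?_
  · rintro _ ⟨p, hp, rfl⟩
    let c := fun x => t * x * t⁻¹ * x⁻¹
    rw [(by decide +kernel : ∀ p ∈ S3 1, p = dd 1 * c (tau 1 (0, 0, p.1.1.1)) * (dd 1)⁻¹ *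
      ((dd 1)⁻¹ * c (tau 1 (0, 0, p.1.1.2.1)) * (dd 1)⁻¹⁻¹) * c (tau 1 (0, 0, p.1.1.2.2)) *
      c ((tau 1 p.1.1)⁻¹ * p)) p hp, map_mul, map_mul, map_mul]
    exact mul_mem (mul_mem (mul_mem (k' _ _) (k' _ _)) (k _)) (k _)
  · refine (by decide +kernel : ∀ w, inW 1 w → T3 w → w ∈ [(0, false), (2, false), (4, false)]) _
      p.2 (t3_of (k := 4) (orderOf_dvd_iff_pow_eq_one.mp ?_))
    have a := orderOf_dvd_natCard p
    rw [card_U] at a
    refine Nat.Coprime.dvd_of_dvd_mul_right (n := 2 ^ 2) (Nat.Coprime.pow_right _ ?_) a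
    rw [Nat.coprime_two_right, ← orderOf_injective ι h.inj]
    exact CL.Rec.odd_orderOf_of_mem CL.Rec.odd_card_oddCore c

end S9Hyp

end CL.Odd
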