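import Mathlib
import Cfsg.Agent.PERM.S9Cl
import Cfsg.Agent.PERM.S9One
import Cfsg.Agent.PERM.S9FourB
import Cfsg.Agent.SOLV.Gaschutz
import Cfsg.Agent.Eqns.CL_Odd_ev

/-! From the centralizer of the diagonal vector to the normalizer of `3^3`. -/

set_option autoImplicit false
set_option maxRecDepth 100000
set_option synthInstance.maxSize 2000
open Cfsg

namespace CL.Odd

open MO

variable {G : Type*} [Group G] {κ : U 0 →* G}

/-- `g` acts on the normal subgroup as `A` -/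
def Act (κ : U 0 →* G) (g : G) (A : V3 → V3) : Prop :=
  ∀ x, g * κ (tau 0 x) * g⁻¹ = κ (tau 0 (A x))

theorem Act.mul {g k : G} {A B : V3 → V3} (a : Act κ g A) (b : Act κ k B) :
    Act κ (g * k) fun x => A (B x) := fun x => by rw [← a, ← b]; group

/-- `A` is induced by an element -/
def PP (κ : U 0 →* G) (A : V3 → V3) : Prop := ∃ g, Act κ g A

theorem PP.mul {A B : V3 → V3} : PP κ A → PP κ B → PP κ fun x => A (B x) :=
  fun ⟨_, a⟩ ⟨_, b⟩ => ⟨_, a.mul b⟩

theorem pp_sg (w : W48) (hw : inW 0 w) : PP κ (sg w) :=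
  ⟨κ ⟨mk 0 w, hw⟩, fun x => by rw [← map_inv, ← map_mul, ← map_mul, tau_conj]; rfl⟩

theorem pp_wm (a b : W48) (ha : PP κ (sg a)) (hb : PP κ (sg b)) : PP κ (sg (wm a b)) :=
  funext (sg_wm a b) ▸ ha.mul hb

theorem pp_ev {D : V3 → V3} (hD : PP κ D) {n : Fin 4} (hn : ∀ w, inW n w → PP κ (sg w)) :
    ∀ l : List (Option W48), l.all (·.all (inW n)) → PP κ (ev D l)
  | [], _ => ⟨1, fun _ => by simp [ev]⟩
  | none :: l, h => hD.mul (pp_ev hD hn l (by simpa using h))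
  | some w :: l, h => by
    rw [List.all_cons, Bool.and_eq_true] at h
    exact (hn w h.1).mul (pp_ev hD hn l h.2)

/-- the change of frame as an automorphism -/
def frH (k : ZMod 3) : U 0 →* U 0 := MonoidHom.mk' (fun p => ⟨mk (fr k p.1.1) p.1.2, p.2⟩)
  fun p q => Subtype.ext (by
    show mk (fr k (p.1.1 + sg p.1.2 q.1.1)) _ = mk (fr k p.1.1 + sg p.1.2 (fr k q.1.1)) _
    rw [fr_add, fr_sg _ _ p.2]; rfl)

/-- the hypothesis -/
structure Pre (κ : U 0 →* G) : Prop where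
  intro ::
  inj : Function.Injective κ
  cent : cz (κ (tau 0 cc)) ≤ κ.range
  sig : ∀ K : Subgroup G, ¬ 3 ∣ Nat.card K → (Js 0 0).map κ ≤ Subgroup.normalizer (K : Set G) →
    K = ⊥

namespace Pre
variable (h : Pre κ)
include h

theorem uniq {g : G} {A B : V3 → V3} (a : Act κ g A) (b : Act κ g B) (x : V3) : A x = B x :=
  tau_inj (h.inj ((a x).symm.trans (b x)))

theorem add {A : V3 → V3} (a : PP κ A) (x y : V3) : A (x + y) = A x + A y := by
  obtain ⟨g, a⟩ := a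
  exact tau_inj (h.inj (by rw [← a, tau_add, tau_add, map_mul, map_mul, ← a, ← a, conj_mul]))

theorem lin {A : V3 → V3} (a : PP κ A) : ∃ u v w, A = ap u v w := by
  refine ⟨A (1, 0, 0), A (0, 1, 0), A (0, 0, 1), funext fun x => ?_⟩
  let f := (AddMonoidHom.mk' A (h.add a)).toZModLinearMap 3
  have e : x = x.1 • (1, 0, 0) + x.2.1 • (0, 1, 0) + x.2.2 • (0, 0, 1) := by simp
  show f x = _
  conv_lhs => rw [e, map_add, map_add, map_smul, map_smul, map_smul]
  rfl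

theorem stab {g : G} {A : V3 → V3} (a : Act κ g A) (e : A cc = cc) :
    ∃ p, κ p = g ∧ ∀ x, A x = sg p.1.2 x := by
  obtain ⟨p, rfl⟩ := h.cent (mem_cz.mpr (e ▸ a cc))
  exact ⟨p, rfl, h.uniq a fun x => by rw [← map_inv, ← map_mul, ← map_mul, tau_conj]; rfl⟩

theorem ok {A : V3 → V3} (a : PP κ A) : Ok A := fun e => by
  obtain ⟨g, a⟩ := a
  obtain ⟨p, -, b⟩ := h.stab a e
  rw [b, b]
  exact (by decide +kernel : ∀ w, inW 0 w → Ok (sg w) ∧ sg w cc = cc) _ p.2 |>.elim id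

theorem inv {A : V3 → V3} (a : PP κ A) : ∃ B, PP κ B ∧ (∀ x, A (B x) = x) ∧ ∀ x, B (A x) = x := by
  obtain ⟨g, a⟩ := a
  let e := Equiv.ofBijective A (Finite.injective_iff_bijective.mp fun x y e => tau_inj (h.inj (by
    simpa [← a y] using (a x).trans (congrArg (κ <| tau 0 ·) e))))
  refine ⟨e.symm, ⟨g⁻¹, fun x => ?_⟩, e.apply_symm_apply, e.symm_apply_apply⟩
  rw [← e.apply_symm_apply x, e.symm_apply_apply]
  exact (congrArg (g⁻¹ * · * g⁻¹⁻¹) (a _).symm).trans (by group)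

theorem good {A : V3 → V3} (a : PP κ A) : ∃ k i, T3 (i, false) ∧
    PP κ (fun x => fr k (sig24 i (fr (-k) x))) ∧
    ∀ x, A (sig24 2 x) = fr k (sig24 i (fr (-k) (A x))) := by
  obtain ⟨B, b, e, e'⟩ := h.inv a
  have d := (a.mul (pp_sg (2, false) (by decide))).mul b
  have d3 : ∀ x, A (sig24 2 (B (A (sig24 2 (B (A (sig24 2 (B x)))))))) = x := fun x => by
    rw [e', e', (by decide +kernel : ∀ x, sig24 2 (sig24 2 (sig24 2 x)) = x), e]
  obtain ⟨u, v, w, m⟩ := h.lin d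
  have m' : ∀ x, A (sig24 2 (B x)) = ap u v w x := congrFun m
  simp only [m'] at d3
  obtain ⟨k, i, f⟩ := cl1 u v w (by simpa [ap] using d3 (1, 0, 0)) (by simpa [ap] using d3 (0, 1, 0))
    (by simpa [ap] using d3 (0, 0, 1)) fun l hl => h.ok (pp_ev (m ▸ d) pp_sg l
      ((by decide +kernel : ∀ l ∈ ws1, l.all (·.all (inW 0))) l hl))
  have f' : ∀ x, ap u v w x = fr k (sig24 i (fr (-k) x)) := fun x => by rw [← f, (fr_fr k x).1]
  refine ⟨k, i, sg_inj fun x => ?_, funext f' ▸ m ▸ d, fun x => by rw [← f', ← m', e']⟩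
  have := d3 (fr k x)
  rw [f, f, f] at this
  rw [sg_wm, sg_wm, sg_one]
  exact (fr_fr k _).2.symm.trans ((congrArg (fr (-k)) this).trans (fr_fr k _).2)

theorem pm {B : V3 → V3} (b : PP κ B) {i : Fin 24} (hi : i ∈ [0, 2, 4])
    (e : ∀ x, B (sig24 2 x) = sig24 i (B x)) : ∃ w, ∀ x, B x = sg w x := by
  obtain ⟨A, -, -, e'⟩ := h.inv b
  have bi : Function.Injective B := Function.LeftInverse.injective e'
  rcases (by decide +kernel : ∀ i ∈ [0, 2, 4], ∀ y, y = sig24 i y → (∀ x, sig24 i x = x) ∨ y = 0 ∨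
    y = cc ∨ y = -cc) i hi (B cc) (e cc) with c | c | c | c
  · exact absurd (bi ((e (1, 0, 0)).trans (c _))) (by decide)
  · exact absurd (bi (show B (cc + cc) = B cc by rw [h.add b, c, add_zero])) (by decide)
  · obtain ⟨g, b⟩ := b
    obtain ⟨p, -, b⟩ := h.stab b c
    exact ⟨_, b⟩
  · obtain ⟨u, v, w, rfl⟩ := h.lin b
    obtain rfl : w = -cc - u - v := by rw [← c]; simp [ap, cc, sub_sub]
    exact cl3 u v (h.ok (pp_ev b pp_sg _ (by decide))) (h.ok (pp_ev b pp_sg _ (by decide)))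

theorem all {i : Fin 24} (hi : T3 (i, false)) (hi' : i ∉ [0, 2, 4]) (d : PP κ (sg (i, false)))
    {A : V3 → V3} (a : PP κ A) : ∃ w, ∀ x, A x = sg w x := by
  have td : ∀ w, inW 2 w → PP κ (sg w) := fun w hw => by
    rcases cl4 i hi hi' w hw with c | ⟨a, ha, b, hb, rfl⟩
    exacts [pp_sg w c, pp_wm _ _ (pp_sg a ha) (pp_wm _ _ d (pp_sg b hb))]
  obtain ⟨k, j, hj, b, e⟩ := h.good a
  obtain ⟨t, ht, l, hl, f⟩ := cl2 k j hj fun l hl => h.ok (pp_ev b td l
    ((by decide +kernel : ∀ l ∈ ws2, l.all (·.all (inW 2))) l hl))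
  obtain ⟨w, hw⟩ := h.pm ((td t ht).mul a) hl fun x => by rw [e, f]
  exact ⟨wm (qi24 t.1, t.2) w, fun x => by
    rw [sg_wm, ← hw, (by decide +kernel : ∀ (t : W48) x, sg (qi24 t.1, t.2) (sg t x) = x)]⟩

theorem frame (k : ZMod 3) : Pre (κ.comp (frH k)) ∧ (Js 0 0).map (κ.comp (frH k)) = (Js 0 0).map κ := by
  have f : ∀ p, frH k (frH (-k) p) = p := fun p => Subtype.ext (Prod.ext (fr_fr k _).1 rfl)
  have e : (Js 0 0).map (κ.comp (frH k)) = (Js 0 0).map κ := Subgroup.ext fun g =>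
    ⟨fun ⟨p, hp, e⟩ => ⟨frH k p, mem_J.mpr (mem_J (p := p).mp hp), e⟩, fun ⟨p, hp, e⟩ =>
      ⟨frH (-k) p, mem_J.mpr (mem_J (p := p).mp hp), (congrArg κ (f p)).trans e⟩⟩
  refine ⟨⟨h.inj.comp fun p q e => Subtype.ext (Prod.ext ((fr_fr k _).2.symm.trans
    ((congrArg (fun p : U 0 => fr (-k) p.1.1) e).trans (fr_fr k _).2))
    (congrArg (·.1.2) e)), fun g hg => ?_, e ▸ h.sig⟩, e⟩
  obtain ⟨p, rfl⟩ := h.cent (by
    rwa [MonoidHom.comp_apply, (by decide +kernel : ∀ k, frH k (tau 0 cc) = tau 0 cc)] at hg)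
  exact ⟨frH (-k) p, congrArg κ (f p)⟩

theorem exists_frame : ∃ κ' : U 0 →* G, Pre κ' ∧ (Js 0 0).map κ' = (Js 0 0).map κ ∧
    ∀ A, PP κ' A → ∃ w, ∀ x, A x = sg w x := by
  by_cases hx : ∃ k i, T3 (i, false) ∧ i ∉ [0, 2, 4] ∧ PP (κ.comp (frH k)) (sg (i, false))
  · obtain ⟨k, i, a, b, c⟩ := hx
    exact ⟨_, (h.frame k).1, (h.frame k).2, fun A => (h.frame k).1.all a b c⟩
  refine ⟨κ, h, rfl, fun A a => ?_⟩
  obtain ⟨k, i, b, ⟨g, c⟩, e⟩ := h.good a
  have hi : i ∈ [0, 2, 4] := by_contra fun hi => hx ⟨k, i, b, hi, g, fun x =>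
    (c (fr k x)).trans (by simp only [(fr_fr _ _).2]; rfl)⟩
  exact h.pm a hi fun x => (e x).trans ((by decide +kernel : ∀ i ∈ [0, 2, 4], ∀ k x,
    fr k (sig24 i (fr (-k) x)) = sig24 i x) i hi k _)

theorem main' [Finite G] (hw : ∀ A, PP κ A → ∃ w, ∀ x, A x = sg w x) :
    ((Js 0 0).map κ).Normal ∨ Nonempty (G ≃* Equiv.Perm (Fin 9)) := by
  obtain ⟨n, hn⟩ := exists_inW (fun w => PP κ (sg w)) pp_wm pp_sg
  set J := (Js 0 0).map κ
  let N := Subgroup.normalizer (J : Set G)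
  have mN : ∀ {g A}, Act κ g A → g ∈ N := fun a => Subgroup.mem_normalizer_fintype fun j hj => by
    obtain ⟨x, -, rfl⟩ := mem_Js.mp hj
    rw [a]; exact tau_memJ _
  choose w aw using fun g : N => show ∃ w, Act κ g (sg w) by
    choose A _ a using fun x => mem_Js.mp ((Subgroup.mem_normalizer_iff.mp g.2 _).mp (tau_memJ x))
    obtain ⟨w, e⟩ := hw A ⟨g, fun x => (a x).symm⟩
    exact ⟨w, fun x => e x ▸ (a x).symm⟩
  let φ : N →* MO := MonoidHom.mk' (fun g => mk 0 (w g)) fun g k => by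
    rw [sg_inj (a := w (g * k)) (b := wm (w g) (w k)) fun x =>
      (h.uniq (aw _) ((aw g).mul (aw k)) x).trans (sg_wm _ _ _).symm]
    exact (by decide +kernel : ∀ a b, mk 0 (wm a b) = mk 0 a * mk 0 b) _ _
  have φk : φ.ker = J.subgroupOf N := Subgroup.ext fun g => ⟨fun e => by
    have e : w g = (0, false) := congrArg Prod.snd e
    obtain ⟨p, a, b⟩ := h.stab (aw g) (by rw [e, sg_one])
    exact ⟨p, mem_J.mpr ((sg_inj b).symm.trans e), a⟩, fun e => congrArg (mk 0) (sg_inj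
      (h.uniq (aw g) fun x => by rw [sg_one, Js_comm g.1 e _ (tau_memJ x), mul_inv_cancel_right]))⟩
  have cJ : Nat.card J = 27 := by rw [Subgroup.card_map_of_injective h.inj, card_Js]; rfl
  have κN : κ.range ≤ N := by
    rintro _ ⟨p, rfl⟩; exact mN (tau_conj' p)
  have : IsMulCommutative φ.ker := φk ▸ ⟨⟨fun a b => Subtype.ext (Subtype.ext (Js_comm _ a.2 _ b.2))⟩⟩
  have cK : Nat.card φ.ker = 27 := by
    rw [φk, Nat.card_congr (Subgroup.subgroupOfEquivOfLe Subgroup.le_normalizer).toEquiv, cJ]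
  let L : Subgroup (U 0) := (cz (mk 0 (0, true))).subgroupOf _
  have mL : ∀ {p : MO}, p ∈ cz (mk 0 (0, true)) ↔ p.1 = 0 :=
    mem_cz'.trans ((by decide +kernel : ∀ p : MO, p * mk 0 (0, true) = mk 0 (0, true) * p ↔ p.1 = 0) _)
  obtain ⟨H, hH⟩ := CL.gaschutz_exists φ.ker (κ.range.subgroupOf N)
    (φk ▸ fun _ a => Subgroup.map_le_range _ _ a) (by
      have a := (κ.range.subgroupOf N).card_mul_index
      have b := Subgroup.card_dvd_of_le (show φ.range ≤ cz (mk 0 (0, true)) by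
        rintro _ ⟨g, rfl⟩; exact mL.mpr rfl)
      rw [Nat.card_congr (Subgroup.subgroupOfEquivOfLe κN).toEquiv,
        ← Nat.card_congr (MonoidHom.ofInjective h.inj).toEquiv, card_U,
        Subgroup.card_eq_card_quotient_mul_card_subgroup φ.ker, cK,
        Nat.card_congr (QuotientGroup.quotientKerEquivRange φ).toEquiv] at a
      rw [show Nat.card (cz (mk 0 (0, true))) = 48 by
        rw [Nat.card_congr (Equiv.subtypeEquivRight fun _ => mem_cz'), Nat.card_eq_fintype_card,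
          Fintype.card_subtype]
        decide +kernel] at b
      change 162 * _ = _ at a
      rw [cK]
      refine Nat.Coprime.coprime_dvd_right (Nat.dvd_of_mul_dvd_mul_left (k := 162)
        (by norm_num) ?_) (by norm_num : Nat.Coprime 27 8)
      rw [a]; exact mul_dvd_mul_right b 27) ((L.map κ).subgroupOf N) (eq_bot_iff.mpr fun g hg => by
      obtain ⟨⟨p, hp, e⟩, q, hq, e'⟩ := And.intro hg.1 (φk.le hg.2)
      obtain rfl := h.inj (e.trans e'.symm)
      exact Subtype.ext (e.symm.trans ((congrArg κ (Subtype.ext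
        (Prod.ext (mL.mp hp) hq.1))).trans (map_one κ)))) (le_antisymm (sup_le
      (φk ▸ fun _ a => Subgroup.map_le_range _ _ a) fun _ a => Subgroup.map_le_range _ _ a) (by
      rintro g ⟨p, hp⟩
      have m := tau_memJ (ι := κ) p.1.1
      refine (Subgroup.mul_mem_cancel_left _ (Subgroup.mem_sup_left (x := ⟨_, Subgroup.le_normalizer m⟩⁻¹)
        (inv_mem (φk.ge m)))).mp (Subgroup.mem_sup_right ⟨(tau 0 p.1.1)⁻¹ * p, mL.mpr ?_, ?_⟩)
      · exact (by decide +kernel : ∀ p : U 0, ((tau 0 p.1.1)⁻¹ * p).1.1 = 0) p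
      · simp [hp]))
  let ψ := φ.comp H.subtype
  have ψi : Function.Injective ψ := (injective_iff_map_eq_one _).mpr fun g e =>
    Subtype.ext (Subgroup.disjoint_def.mp hH.disjoint e g.2)
  have : ∀ v, ∃ r : H, inW n v → ψ r = mk 0 v := fun v => by
    by_cases hv : inW n v
    · obtain ⟨g, a⟩ := (hn v).mpr hv
      obtain ⟨⟨k, r⟩, e⟩ := hH.2 ⟨g, mN a⟩
      refine ⟨r, fun _ => ?_⟩
      have := congrArg φ e
      rw [map_mul, k.2, one_mul] at this
      exact this.trans (congrArg (mk 0) (sg_inj (h.uniq (aw _) a)))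
    · exact ⟨1, fun a => (hv a).elim⟩
  choose r hr using this
  have ar : ∀ v, inW n v → Act κ (r v) (sg v) := fun v hv => by
    have := aw (r v)
    rwa [show w (r v) = v from congrArg Prod.snd (hr v hv)] at this
  have r1 : r (0, false) = 1 := ψi ((hr _ (inW_zero n _ (by decide))).trans (map_one ψ).symm)
  let ι : U n →* G := MonoidHom.mk' (fun p => κ (tau 0 p.1.1) * r p.1.2) fun p q => by
    show κ (tau 0 (p.1.1 + sg p.1.2 q.1.1)) * r (wm p.1.2 q.1.2) = _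
    rw [tau_add, map_mul, ← ar _ p.2, ψi (show ψ (r (wm p.1.2 q.1.2)) = ψ (r p.1.2 * r q.1.2) by
      rw [map_mul, hr _ p.2, hr _ q.2, hr _ (inW_mul n _ _ p.2 q.2)]
      exact (by decide +kernel : ∀ a b, mk 0 (wm a b) = mk 0 a * mk 0 b) _ _)]
    simp [mul_assoc]
  have ιt : ∀ x, ι (tau n x) = κ (tau 0 x) := fun x => by
    show κ (tau 0 x) * r (0, false) = _
    rw [r1]; exact mul_one _
  have ιJ : J ≤ (Js n 0).map ι := fun j hj => by
    obtain ⟨x, -, rfl⟩ := mem_Js.mp hj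
    exact ιt x ▸ tau_memJ x
  have Nι : N ≤ ι.range := fun g hg => by
    have hv := (hn _).mp ⟨g, aw ⟨g, hg⟩⟩
    refine (ι.range.mul_mem_cancel_right (inv_mem ⟨⟨mk 0 _, hv⟩, rfl⟩)).mp
      (Subgroup.map_le_range _ _ (ιJ ?_))
    have := φk.le (show ⟨g, hg⟩ * (r (w ⟨g, hg⟩) : N)⁻¹ ∈ φ.ker by
      rw [MonoidHom.mem_ker, map_mul, map_inv, mul_inv_eq_one]; exact (hr _ hv).symm)
    simpa [ι, mk, tau_zero, Subgroup.mem_subgroupOf] using this
  have hy : S9Hyp ι := ⟨(injective_iff_map_eq_one _).mpr fun p e => by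
    have e' : p.1.2 = (0, false) := sg_inj fun x => (sg_one x).symm ▸ tau_inj (h.inj
      ((ιt _).symm.trans ((tau_conj' p x).symm.trans (by simp [e, ιt]))))
    rw [eq_tau (mem_J.mpr e'), ιt, map_eq_one_iff _ h.inj] at e
    rw [eq_tau (mem_J.mpr e'), tau_inj (e.trans tau_zero.symm), tau_zero], fun g hg => by
      choose A a using hg
      exact Nι (mN (A := A) fun x => by simpa only [ιt] using a x),
    fun g hg => Nι (κN (h.cent (ιt cc ▸ hg))), fun K a b => h.sig K a (ιJ.trans b)⟩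
  have k : ι.range = ⊤ → J.Normal := fun e => Subgroup.normalizer_eq_top_iff.mp (eq_top_iff.mpr (by
    rw [← e]
    rintro _ ⟨p, rfl⟩
    exact mul_mem (Subgroup.le_normalizer (tau_memJ _)) (r p.1.2).1.2))
  refine Or.imp_left k ?_
  clear_value ι
  fin_cases n
  exacts [Or.inl hy.one, Or.inl hy.two, Or.inl hy.three, hy.four]

theorem main [Finite G] : ((Js 0 0).map κ).Normal ∨ Nonempty (G ≃* Equiv.Perm (Fin 9)) := by
  obtain ⟨κ', a, b, c⟩ := h.exists_frame
  exact b ▸ a.main' c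

end Pre

end CL.Odd
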