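import Mathlib
import Cfsg.Agent.PERM.TwoS5
import Cfsg.Agent.PERM.BSWGen
import Cfsg.Agent.S0205

/-!
Doubly transitive groups whose two-point stabilizer `K` has Klein four Sylow 2-subgroups: odd
degree, dihedral Sylow 2-subgroups in the stabilizer of the pair.
-/

set_option autoImplicit false

namespace CL.TwoS

open MulAction CL.Zass CL.TIInv CL.R3F CL.CFix Subgroup Cfsg

variable {G Ω : Type*} [Group G] [MulAction G Ω]

structure CY (a b : Ω) (t v y : G) (s : ℕ) : Prop where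
  ya : y • a = b
  yy : y * y = t
  yv : y * v * y⁻¹ = t * v
  cj : ∀ u w : G, Invo u → Invo w → u • a = b → w • a = b → ∃ g, g * u * g⁻¹ = w
  card : {u : G | Invo u ∧ u • a = b}.ncard = s

theorem corD_of_root [Finite G] {P : Subgroup G} (hP : IsPGroup 2 P) {z y : G} (hz : Invo z)
    (hy : y * y = z) (zP : ∀ x ∈ P, x * z = z * x)
    (root : ∀ x ∈ P, ∀ u, u = x ∨ u = x * y ∨ u = x * y * x⁻¹ → u * u = z → u = y ∨ u = y⁻¹)
    {t v : G} (ht : Invo t) (hv : Invo v) (tP : t ∈ P) (vP : v ∈ P) (hne : v ≠ t) : GW.CorD P := by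
  have uq : ∀ x ∈ P ⊓ centralizer {y}, x * x = 1 → x = 1 ∨ x = z := fun x hx e => by
    have c := mem_cent.1 hx.2
    refine (root x hx.1 (x * y) (.inr (.inl rfl)) (by
      rw [mul_assoc, ← mul_assoc y, ← c, mul_assoc, hy, ← mul_assoc, e, one_mul])).imp
      mul_eq_right.1 fun e => ?_
    rw [← hz.inv_eq, ← hy, mul_inv_rev, ← eq_mul_inv_iff_mul_eq.2 e]
  have inv : ∀ x ∈ P, x ∉ P ⊓ centralizer {y} → x * y * x⁻¹ = y⁻¹ := fun x hx hn =>
    (root x hx _ (.inr (.inr rfl)) (by rw [conj_mul, hy, conj_eq_of_comm (zP x hx)])).resolve_left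
      fun e => hn ⟨hx, mem_cent.2 (mul_inv_eq_iff_eq_mul.1 e)⟩
  have mul : ∀ s ∈ P, ∀ x ∈ P, s ∉ P ⊓ centralizer {y} → x ∉ P ⊓ centralizer {y} →
      s * x ∈ P ⊓ centralizer {y} := fun s hs x hx h1 h2 =>
    ⟨mul_mem hs hx, mem_cent.2 (comm_of_inverts (inv s hs h1) (inv x hx h2))⟩
  have out : ∀ s ∈ P, s ∉ P ⊓ centralizer {y} → s * s = 1 := fun s hs hn => by
    classical
    have ex : ∃ k, s ^ 2 ^ k = 1 := let ⟨k, hk⟩ := hP ⟨s, hs⟩; ⟨k, congrArg Subtype.val hk⟩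
    by_contra h2
    obtain ⟨j, hj⟩ : ∃ j, Nat.find ex = j + 2 := by
      refine ⟨Nat.find ex - 2, (Nat.sub_add_cancel ((Nat.le_find_iff _ _).2 fun m hm e => h2 ?_)).symm⟩
      interval_cases m
      · rw [show s = 1 by simpa using e, one_mul]
      · simpa [sq] using e
    have e1 := Nat.find_spec ex
    have e2 := Nat.find_min ex (m := j + 1) (by omega)
    rw [hj, pow_succ, pow_mul, sq] at e1
    have e3 := (uq _ (by
      rw [pow_succ', pow_mul, sq]; exact pow_mem (mul s hs s hs hn hn) _) e1).resolve_left e2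
    rw [pow_succ, pow_mul, sq] at e3
    refine hn ⟨hs, mem_cent.2 ?_⟩
    have c := (Commute.refl s).pow_right (2 ^ j)
    rcases root _ (pow_mem hs _) _ (.inl rfl) e3 with e | e <;> rw [e] at c
    exacts [c, Commute.inv_right_iff.1 c]
  obtain ⟨s, hs, hn⟩ : ∃ s ∈ P, s ∉ P ⊓ centralizer {y} := by
    by_contra hc
    push Not at hc
    exact hne (((uq v (hc v vP) hv.2).resolve_left hv.1).trans
      ((uq t (hc t tP) ht.2).resolve_left ht.1).symm)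
  have si : ∀ x ∈ P ⊓ centralizer {y}, s * x * s⁻¹ = x⁻¹ := fun x hx => by
    have := out (s * x) (mul_mem hs hx.1) fun e => hn ((mul_mem_cancel_right hx).1 e)
    rw [inv_eq_of_mul_eq_one_right (out s hs hn), eq_inv_iff_mul_eq_one, mul_assoc, this]
  have := BSWG.isCyclic_of_uniq (hP.to_le inf_le_left) (fun x hx w hw => by
    have := si _ (mul_mem hx hw)
    rw [← conj_mul, si x hx, si w hw, ← mul_inv_rev, inv_inj] at this
    exact this.symm) uq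
  obtain ⟨⟨w, hw⟩, gen⟩ := this.exists_generator
  have gen' : ∀ x ∈ P ⊓ centralizer {y}, x ∈ zpowers w := fun x hx =>
    let ⟨k, hk⟩ := gen ⟨x, hx⟩; ⟨k, congrArg Subtype.val hk⟩
  refine GW.corD_of_gen hP hw.1 hs (out s hs hn) (si w hw) fun x hx => ?_
  by_cases e : x ∈ P ⊓ centralizer {y}
  exacts [.inl (gen' x e), .inr (gen' _ (mul s hs x hx hn e))]

namespace Hy

variable {a b : Ω} {t v ρ y : G} {i s : ℕ} (h : Hy a b t v ρ i) (hy : CY a b t v y s)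
include h hy

theorem allY {u : G} (hu : Invo u) : ∃ g, g * t * g⁻¹ = u := by
  obtain ⟨g1, e1⟩ := h.swap_conj h.ht
  obtain ⟨g2, e2⟩ := h.swap_conj hu
  obtain ⟨g, e⟩ := hy.cj _ _ (h.ht.conj g1) (hu.conj g2) e1 e2
  exact ⟨g2⁻¹ * g * g1, by rw [← conj_back g2⁻¹ u, inv_inv, ← e]; group⟩

omit h in
theorem yt : y * t = t * y := by rw [← hy.yy, mul_assoc]

theorem yb : y • b = a := by rw [← hy.ya, ← mul_smul, hy.yy]; exact h.tK.1

theorem yv2 : y * v * (y * v) = 1 := by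
  rw [show y * v * (y * v) = y * v * y⁻¹ * (y * y) * v by group, hy.yv, hy.yy, mul_assoc, h.htv.2]

theorem ytv2 : y * (t * v) * (y * (t * v)) = 1 := by
  have c : t * (y * v) = y * v * t := by rw [← mul_assoc, ← yt hy, mul_assoc, ← h.vt, mul_assoc]
  rw [← mul_assoc y t, yt hy, mul_assoc t y, mul_assoc, ← mul_assoc (y * v), ← c, mul_assoc,
    h.yv2 hy, mul_one, h.ht.2]

variable [Finite G] [Finite Ω]

omit hy in
theorem root_fix (ho : Odd (Nat.card Ω)) {u : G} (hu : u * u = t) :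
    ∃ c, (t • c = c ∧ u • c = c) ∧ ∀ x : Ω, t • x = x ∧ u • x = x → x = c := by
  have ut : u * t = t * u := by rw [← hu, mul_assoc]
  obtain ⟨c, c1, c2⟩ := exists_fix_of_odd (k := 2) (y := u) (by
    rw [show u ^ 2 ^ 2 = u * u * (u * u) by simp [pow_succ, mul_assoc], hu, h.ht.2]) (S := Fx Ω t)
    (fun x hx => smul_mem_Fx ut hx) (by rw [Nat.odd_iff, h.f_mod]; exact Nat.odd_iff.1 ho)
  exact ⟨c, ⟨c1, c2⟩, fun x hx => by_contra fun e =>
    h.ht.1 (hu.symm.trans (h.sq_eq_one hx.1 c1 e ut hx.2 c2))⟩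

theorem root (ho : Odd (Nat.card Ω)) {z : G} (hz : Invo z) {c : Ω} (hc : z • c = c) :
    ∃ y', y' * y' = z ∧ y' • c = c ∧ ∀ u, u * u = z → u • c = c → u = y' ∨ u = y'⁻¹ := by
  have fo : Odd (Fx Ω t).ncard := by rw [Nat.odd_iff, h.f_mod]; exact Nat.odd_iff.1 ho
  have TC : {u | u * u = t} ⊆ centralizer ({t} : Set G) := fun u hu =>
    mem_cent.2 (by rw [← show u * u = t from hu, mul_assoc])
  have Tc : ∀ x ∈ centralizer ({t} : Set G), ∀ u ∈ {u | u * u = t},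
      x * u * x⁻¹ ∈ {u | u * u = t} := fun x hx u hu => by
    rw [Set.mem_ofPred_eq, conj_mul, hu, conj_eq_of_comm (mem_cent.1 hx)]
  have T1 : ∀ u ∈ {u | u * u = t}, {x | x ∈ Fx Ω t ∧ u • x = x}.ncard = 1 := fun u hu =>
    let ⟨_, h1, h2⟩ := h.root_fix ho hu; ncard_one h1 h2
  obtain ⟨d, ⟨d1, d2⟩, -⟩ := h.root_fix ho hy.yy
  have k1 := h.T2C.one_count h.tK.1 h.tK.2 h.ne TC Tc T1
  have k2 := fun {x} (hx : x ∈ Fx Ω t) => count_one (h.T2C.tr1 h.tK.1 h.tK.2 h.ne) Tc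
    (fun u x => u • x = x) (fun g _ u x e => conj_smul_iff.2 e) hx T1
  have k3 := Nat.eq_of_mul_eq_mul_left fo.pos ((k2 d1).symm.trans (k2 h.tK.1))
  have k4 : {u | u ∈ {u | u * u = t} ∧ u • a = b}.ncard ≤ 2 := by
    refine (Set.ncard_le_ncard (t := {y * 1, y * t}) fun u hu => ?_).trans
      ((Set.ncard_insert_le _ _).trans (by rw [Set.ncard_singleton]))
    have e : u * u = t := hu.1
    obtain ⟨k, rfl | rfl | rfl | rfl, rfl⟩ := h.swapC (yt hy) hy.ya (h.yb hy) (mem_cent.1 (TC hu.1))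
      hu.2 (by rw [← hu.2, ← mul_smul, e]; exact h.tK.1)
    exacts [.inl rfl, .inr rfl, absurd (e.symm.trans (h.yv2 hy)) h.ht.1,
      absurd (e.symm.trans (h.ytv2 hy)) h.ht.1]
  have k5 : {y, y⁻¹} = {u | u ∈ {u | u * u = t} ∧ u • d = d} := by
    refine Set.eq_of_subset_of_ncard_le ?_ ?_
    · rintro _ (rfl | rfl)
      · exact ⟨hy.yy, d2⟩
      · exact ⟨by rw [Set.mem_ofPred_eq, ← mul_inv_rev, hy.yy, h.ht.inv_eq], inv_smul_eq_iff.2 d2.symm⟩
    · rw [Set.ncard_pair fun e => h.ht.1 (hy.yy.symm.trans (mul_eq_one_iff_eq_inv.2 e))]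
      omega
  obtain ⟨g, rfl⟩ := h.allY hy hz
  obtain ⟨k, hk, e⟩ := h.T2C.tr1 h.tK.1 h.tK.2 h.ne d d1 (g⁻¹ • c) (by
    rw [← smul_inv_smul g c] at hc; exact conj_smul_iff.1 hc)
  have e1 : (g * k) • d = c := by rw [mul_smul, e, smul_inv_smul]
  have e2 : g * k * t * (g * k)⁻¹ = g * t * g⁻¹ := by
    rw [mul_assoc g, mem_cent.1 hk]; group
  refine ⟨g * k * y * (g * k)⁻¹, by rw [conj_mul, hy.yy, e2], e1 ▸ conj_smul_iff.2 d2,
    fun u u1 u2 => ?_⟩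
  have : (g * k)⁻¹ * u * (g * k)⁻¹⁻¹ ∈ ({y, y⁻¹} : Set G) := k5 ▸ ⟨by
    rw [Set.mem_ofPred_eq, conj_mul, u1, ← e2]; group, inv_conj_fix e1 u2⟩
  rw [← conj_back (g * k) u]
  rcases this with e | e <;> rw [e]
  · exact .inl rfl
  · exact .inr (by group)

theorem d2 (ho : Odd (Nat.card Ω)) : GW.D2 G := by
  have : Fact (Nat.Prime 2) := ⟨Nat.prime_two⟩
  obtain ⟨P, hP⟩ := (IsPGroup.of_card (p := 2) (n := 2) (Four.isKleinFour_closure (invo_iff.1 h.hv)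
    (invo_iff.1 h.ht) h.vne h.vt).card_four).exists_le_sylow
  have tP : t ∈ (P : Subgroup G) := hP (subset_closure (.inr rfl))
  obtain ⟨z, -, hz, zP⟩ := ZD.exists_central_inv P.isPGroup' P.isPGroup' le_normalizer
    fun e => h.ht.1 (mem_bot.1 (e ▸ tP))
  have hz := invo_iff.2 hz
  have m := SR.ncard_modEq_of_isPGroup P.isPGroup' (Fx Ω z) fun g hg x hx =>
    smul_mem_Fx (zP g hg) hx
  obtain ⟨c, c1, c2⟩ := (Set.ncard_pos (Set.toFinite _)).1 (Nat.pos_of_ne_zero fun e => by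
    obtain ⟨g, rfl⟩ := h.allY hy hz
    rw [e, Nat.ModEq, ← ncard_Fx_conj, h.f_mod, Nat.odd_iff.1 ho] at m
    omega : 0 < {x | x ∈ Fx Ω z ∧ ∀ g ∈ (P : Subgroup G), g • x = x}.ncard)
  obtain ⟨y', y1, y2, y3⟩ := h.root hy ho hz c1
  refine GW.d2_of_sylow P (corD_of_root P.isPGroup' hz y1 zP (fun x hx u hu e => y3 u e ?_) h.ht h.hv
    tP (hP (subset_closure (.inl rfl))) h.vne)
  rcases hu with rfl | rfl | rfl
  · exact c2 _ hx
  · rw [mul_smul, y2, c2 _ hx]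
  · rw [mul_smul, mul_smul, c2 _ (inv_mem hx), y2, c2 _ hx]

theorem oddY (ho : Odd (Nat.card Ω)) :
    (∃ M : Subgroup G, M.Normal ∧ M ≠ ⊥ ∧ ∀ x ∈ M, ∀ y ∈ M, x * y = y * x) ∨
      Nonempty (G ≃* alternatingGroup (Fin 7)) := by
  by_cases hO : oddCore G = ⊥
  swap
  · obtain ⟨M, -, h1⟩ := InvT.exists_abelian_normal_le (oddCore G) hO
      (Cfsg.Agent.S0205.result (Nat.coprime_two_right.1 (coprime_card_pPrimeCore 2 G)))
    exact .inl ⟨M, h1⟩
  refine .inr ((((h.d2 hy ho).general hO).resolve_left fun hp => ?_).resolve_left ?_)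
  · have : Fact (Nat.Prime 2) := ⟨Nat.prime_two⟩
    obtain ⟨k, hk⟩ := hp.exists_card_eq
    have h2 := T2.two_le (F := (Set.univ : Set Ω)) trivial trivial h.ne
    rw [Set.ncard_univ] at h2
    obtain ⟨j, -, hj⟩ := (Nat.dvd_prime_pow Nat.prime_two).1 (hk ▸ h.card_G ▸ dvd_mul_right _ _)
    rcases j with _ | j
    · omega
    · rw [hj, pow_succ, Nat.odd_iff] at ho; omega
  rintro ⟨L, hL, -, q, hq, hl⟩
  obtain ⟨u, huL, hu⟩ := exists_invo (l2_even hq hl)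
  have hall : ∀ w, Invo w → w ∈ L := fun w hw => by
    obtain ⟨g, rfl⟩ := h.allY hy hu
    obtain ⟨g', rfl⟩ := h.allY hy hw
    simpa [mul_assoc] using hL.conj_mem _ huL (g' * g⁻¹)
  have yL : y ∈ L := (mul_mem_cancel_right (hall v h.hv)).1 (hall _ ⟨fun e => h.ne (by
    rw [← hy.ya, ← h.vK.1, ← mul_smul, e, one_smul]; exact h.vK.1), h.yv2 hy⟩)
  obtain ⟨c, ⟨c1, c2⟩, c3⟩ := h.root_fix ho hy.yy
  obtain ⟨k, hk, rfl⟩ := h.T2C.tr1 h.tK.1 h.tK.2 h.ne a h.tK.1 c c1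
  have cm := conj_mem_cent (mem_cent.1 hk) (yt hy)
  have := l2_root hq hl (t := ⟨t, hall t h.ht⟩) (y := ⟨y, yL⟩) (c := ⟨_, hL.conj_mem y yL k⟩)
    (invo_coe.1 h.ht) (Subtype.ext hy.yy) (Subtype.ext cm)
  refine h.ne (hy.ya ▸ (conj_smul_iff.1 (c3 _ ⟨smul_mem_Fx cm c1, ?_⟩)).symm)
  rcases this with e | e
  · exact smul_mem_Fx (mul_inv_eq_iff_eq_mul.1 (congrArg Subtype.val e)) c2
  · exact smul_mem_Fx' (congrArg Subtype.val e) c2

end Hy

end CL.TwoS
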