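import Mathlib
import Cfsg.Agent.PERM.TwoS6

/-!
Doubly transitive groups whose two-point stabilizer `K` has Klein four Sylow 2-subgroups: even
degree.
-/

set_option autoImplicit false

namespace CL.TwoS

open MulAction CL.Zass CL.TIInv CL.R3F CL.CFix Subgroup Cfsg

def Chk (i s m σ g : ℕ) : Prop := 2 ≤ g → g % 2 = 0 → g % 3 ≠ 0 →
    (i + s * (g + σ * (g * (g - 1))) = 8 * (1 + σ * g) ^ 2 + 6 * m * (1 + σ * g) + m ^ 2 ∨
      i + s * (g + σ * (g * (g - 1))) + 6 * m * (1 + σ * g) = 8 * (1 + σ * g) ^ 2 + m ^ 2) →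
    m ∣ 1 + σ * g → (i, s) = (3, 3) ∧ σ = 0 ∧ g = 4

instance (i s m σ g : ℕ) : Decidable (Chk i s m σ g) := by unfold Chk; infer_instance

theorem check : ∀ p ∈ [((3 : ℕ), (1 : ℕ)), (3, 3), (3, 4), (15, 1), (15, 15), (15, 16)], ∀ m < 32,
    m ∣ p.1 + p.2 → m % 2 = 1 → ∀ σ < 3, ∀ g < 200, Chk p.1 p.2 m σ g := by
  decide +kernel

theorem arith {i s σ g m x : ℕ} (hp : (i, s) ∈ [(3, 1), (3, 3), (3, 4), (15, 1), (15, 15), (15, 16)])
    (hσ : σ < 3) (g2 : 2 ≤ g) (ge : g % 2 = 0) (g3 : g % 3 ≠ 0) (hx : x = 1 + σ * g) (hm : m ∣ x)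
    (mo : m % 2 = 1)
    (h : i + s * (g + σ * (g * (g - 1))) = 8 * x ^ 2 + 6 * m * x + m ^ 2 ∨
      i + s * (g + σ * (g * (g - 1))) + 6 * m * x = 8 * x ^ 2 + m ^ 2) :
    (i, s) = (3, 3) ∧ σ = 0 ∧ g = 4 := by
  obtain ⟨g, rfl⟩ : ∃ g', g = g' + 1 := ⟨g - 1, by omega⟩
  have hd : m ∣ i + s := by
    have e : i + s * (g + 1 + σ * ((g + 1) * g)) = i + s + s * g * x := by rw [hx]; ring
    rw [Nat.add_sub_cancel, e] at h
    obtain ⟨c, rfl⟩ := hm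
    refine (Nat.dvd_add_left (show m ∣ s * g * (m * c) from ⟨s * g * c, by ring⟩)).1 ?_
    rcases h with h | h
    · exact ⟨8 * m * c ^ 2 + 6 * m * c + m, by rw [h]; ring⟩
    · exact (Nat.dvd_add_left (show m ∣ 6 * m * (m * c) from ⟨6 * m * c, by ring⟩)).1
        ⟨8 * m * c ^ 2 + m, by rw [h]; ring⟩
  have hm32 : m < 32 := by
    have := Nat.le_of_dvd (by simp only [List.mem_cons, Prod.mk.injEq, List.not_mem_nil, or_false] at hp; omega) hd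
    simp only [List.mem_cons, Prod.mk.injEq, List.not_mem_nil, or_false] at hp; omega
  refine check (i, s) hp m hm32 hd mo σ hσ (g + 1) ?_ g2 ge g3 (hx ▸ h) (hx ▸ hm)
  by_contra hg
  subst hx
  simp only [Nat.add_sub_cancel, List.mem_cons, Prod.mk.injEq, List.not_mem_nil, or_false] at hp h
  rcases hp with ⟨rfl, rfl⟩ | ⟨rfl, rfl⟩ | ⟨rfl, rfl⟩ | ⟨rfl, rfl⟩ | ⟨rfl, rfl⟩ | ⟨rfl, rfl⟩ <;>
    interval_cases m <;> first | omega | (interval_cases σ <;> rcases h with h | h <;> nlinarith)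

variable {G Ω : Type*} [Group G] [MulAction G Ω]

theorem exists_second [Finite G] [Finite Ω] {k : ℕ} {y : G} (hy : y ^ 2 ^ k = 1)
    {S : Set Ω} (hS : ∀ x ∈ S, y • x ∈ S) (he : S.ncard % 2 = 0) {c : Ω} (hc : c ∈ S)
    (e : y • c = c) : ∃ d ∈ S, d ≠ c ∧ y • d = d := by
  have := (Set.ncard_pos (Set.toFinite _)).2 ⟨c, hc⟩
  obtain ⟨d, hd, e'⟩ := exists_fix_of_odd hy (S := S \ {c}) (fun x hx => ⟨hS x hx.1, fun e' =>
    hx.2 ((smul_left_cancel_iff y).1 (Eq.trans e' e.symm))⟩) (by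
      rw [Set.ncard_sdiff_singleton_of_mem hc, Nat.odd_iff]; omega)
  exact ⟨d, hd.1, hd.2, e'⟩

/-- the normalizer in `C(t)` of the four-group `⟨t, v⟩`. -/
def NV {t : G} (ht : Invo t) (v : G) : Subgroup G where
  carrier := {g | g * t = t * g ∧ (g * v * g⁻¹ = v ∨ g * v * g⁻¹ = t * v)}
  one_mem' := ⟨by simp, .inl (by simp)⟩
  mul_mem' := by
    rintro g x ⟨h1, h2⟩ ⟨h3, h4⟩
    refine ⟨mem_cent.1 (mul_mem (mem_cent.2 h1) (mem_cent.2 h3)), ?_⟩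
    rw [show g * x * v * (g * x)⁻¹ = g * (x * v * x⁻¹) * g⁻¹ by group]
    rcases h4 with e | e <;> rw [e]
    · exact h2
    · rw [← conj_mul, conj_eq_of_comm h1]
      rcases h2 with e | e <;> rw [e]
      · exact .inr rfl
      · exact .inl (by rw [← mul_assoc, ht.2, one_mul])
  inv_mem' := by
    rintro g ⟨h1, h2⟩
    have h3 := mem_cent.1 (inv_mem (mem_cent.2 h1))
    refine ⟨h3, h2.imp (fun e => by nth_rewrite 1 [← e]; group) fun e => ?_⟩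
    have : g⁻¹ * (t * v) * g⁻¹⁻¹ = v := by rw [← e]; group
    rw [← conj_mul, conj_eq_of_comm h3] at this
    exact (eq_inv_mul_of_mul_eq this).trans (by rw [ht.inv_eq])

/-- the involutions of `C(t)` other than `t` which fix two points fixed by `t`. -/
def TT (Ω : Type*) [MulAction G Ω] (t : G) : Set G :=
  {u | (Invo u ∧ u ≠ t ∧ u * t = t * u) ∧
    ∃ c d : Ω, c ≠ d ∧ t • c = c ∧ t • d = d ∧ u • c = c ∧ u • d = d}

theorem fix_mul {t u : G} (hu : u * t = t * u) :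
    {x : Ω | x ∈ Fx Ω t ∧ (t * u) • x = x} = {x | x ∈ Fx Ω t ∧ u • x = x} :=
  Set.ext fun x => and_congr_right fun hx => by
    rw [mul_smul, show t • u • x = u • x from smul_mem_Fx hu hx]

theorem TT_mul {t u : G} (ht : Invo t) (hu : u ∈ TT Ω t) : t * u ∈ TT Ω t := by
  obtain ⟨⟨h1, h2, h3⟩, c, d, h4, h5, h6, h7, h8⟩ := hu
  refine ⟨⟨⟨fun e => h2 (by rw [eq_inv_of_mul_eq_one_right e, ht.inv_eq]), ?_⟩,
    fun e => h1.1 (mul_eq_left.1 e), by rw [mul_assoc, h3]⟩, c, d, h4, h5, h6,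
    by rw [mul_smul, h7, h5], by rw [mul_smul, h8, h6]⟩
  rw [mul_assoc, ← mul_assoc u, h3, mul_assoc, h1.2, mul_one, ht.2]

namespace Hy

variable {a b : Ω} {t v ρ y z : G} {i s : ℕ} (h : Hy a b t v ρ i)
include h

theorem T2B : T2 (NV h.ht v) {x : Ω | x ∈ Fx Ω t ∧ v • x = x} := by
  refine ⟨fun g hg x hx => ⟨smul_mem_Fx hg.1 hx.1, ?_⟩, fun h1 h2 h3 h4 h5 h6 => ?_⟩
  · have : (g * v * g⁻¹) • g • x = g • x := conj_smul_iff.2 hx.2
    rcases hg.2 with e | e <;> rw [e] at this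
    · exact this
    · rwa [← h.vt, mul_smul, smul_mem_Fx hg.1 hx.1] at this
  · obtain ⟨g, hg, rfl, rfl⟩ := h.T2C.tr h1.1 h2.1 h3.1 h4.1 h5 h6
    refine ⟨g, ⟨mem_cent.1 hg, ((h.cen' h3.1 h4.1 h6 h.hv.1 h.vne h.vt h3.2 h4.2
      (conj_mem_cent (mem_cent.1 hg) h.vt) (conj_smul_iff.2 h1.2) (conj_smul_iff.2 h2.2)).resolve_left
      (h.hv.conj g).1).resolve_left fun e => h.vne ?_⟩, rfl, rfl⟩
    rwa [← conj_eq_of_comm (mem_cent.1 hg), mul_left_inj, mul_right_inj] at e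

theorem aV : a ∈ {x : Ω | x ∈ Fx Ω t ∧ v • x = x} := ⟨h.tK.1, h.vK.1⟩

theorem bV : b ∈ {x : Ω | x ∈ Fx Ω t ∧ v • x = x} := ⟨h.tK.2, h.vK.2⟩

theorem TT_conj : ∀ g ∈ centralizer ({t} : Set G), ∀ u ∈ TT Ω t, g * u * g⁻¹ ∈ TT Ω t := by
  rintro g hg u ⟨⟨h1, h2, h3⟩, c, d, h4, h5, h6, h7, h8⟩
  refine ⟨⟨h1.conj g, fun e => h2 ?_, conj_mem_cent (mem_cent.1 hg) h3⟩, g • c, g • d,
    fun e => h4 ((smul_left_cancel_iff g).1 e), h.T2C.inv g hg c h5, h.T2C.inv g hg d h6,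
    conj_smul_iff.2 h7, conj_smul_iff.2 h8⟩
  rwa [← conj_eq_of_comm (mem_cent.1 hg), mul_left_inj, mul_right_inj] at e

theorem TT_fix : ∀ u ∈ TT Ω t, {x : Ω | x ∈ Fx Ω t ∧ u • x = x}.ncard =
    {x : Ω | x ∈ Fx Ω t ∧ v • x = x}.ncard := by
  rintro u ⟨⟨h1, h2, h3⟩, c, d, h4, h5, h6, h7, h8⟩
  obtain ⟨g, hg, e⟩ := h.cen0 h5 h6 h4
  rcases ((e u h3 h7 h8).resolve_left h1.1).resolve_left h2 with rfl | rfl
  · exact ncard_fix_conj h.T2C.inv (mem_cent.2 hg) v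
  · rw [fix_mul (conj_mem_cent hg h.vt)]
    exact ncard_fix_conj h.T2C.inv (mem_cent.2 hg) v

theorem TT_two : {u | u ∈ TT Ω t ∧ u • a = a ∧ u • b = b}.ncard = 2 := by
  have hv : v ∈ TT Ω t := ⟨⟨h.hv, h.vne, h.vt⟩, a, b, h.ne, h.tK.1, h.tK.2, h.vK.1, h.vK.2⟩
  refine Set.ncard_eq_two.2 ⟨v, t * v, h.tvne'.symm, Set.ext fun u => ⟨fun hu =>
    ((h.cen u hu.2 hu.1.1.2.2).resolve_left hu.1.1.1.1).resolve_left hu.1.1.2.1, ?_⟩⟩
  rintro (rfl | rfl)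
  exacts [⟨hv, h.vK⟩, ⟨TT_mul h.ht hv, mul_mem h.tK h.vK⟩]

variable [Finite G] [Finite Ω]

theorem count_f : {u | u ∈ TT Ω t ∧ u • a = b}.ncard *
    ({x : Ω | x ∈ Fx Ω t ∧ v • x = x}.ncard * ({x : Ω | x ∈ Fx Ω t ∧ v • x = x}.ncard - 1)) +
    2 * {x : Ω | x ∈ Fx Ω t ∧ v • x = x}.ncard = 2 * (Fx Ω t).ncard := by
  have := h.T2C.swap_count h.tK.1 h.tK.2 h.ne (fun u hu => mem_cent.2 hu.1.2.2) h.TT_conj h.TT_fix
  rwa [h.TT_two] at this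

theorem count_A : {u | u ∈ TT Ω t ∧ u • a = a}.ncard *
    ({x : Ω | x ∈ Fx Ω t ∧ v • x = x}.ncard - 1) = ((Fx Ω t).ncard - 1) * 2 := by
  have := (h.T2C.counts h.tK.1 h.tK.2 h.ne (fun u hu => mem_cent.2 hu.1.2.2) h.TT_conj h.TT_fix).1
  rwa [h.TT_two] at this

theorem g_mod : {x : Ω | x ∈ Fx Ω t ∧ v • x = x}.ncard % 2 = Nat.card Ω % 2 :=
  Eq.trans (modEq_elt Nat.prime_two (Invo.pow_two h.hv) (S := Fx Ω t)
    fun _ hx => smul_mem_Fx h.vt hx).symm h.f_mod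

theorem cenB (he : Nat.card Ω % 2 = 0) {x : G} (hx : x ∈ NV h.ht v) {c : Ω}
    (hc : c ∈ {x : Ω | x ∈ Fx Ω t ∧ v • x = x}) (e : x • c = c) : x * v = v * x := by
  obtain ⟨m, k, ⟨j, rfl⟩, hk⟩ := Four.exists_odd_pow x
  have e1 : x ^ (2 * j + 1) • c = c := pow_mem (mem_stabilizer_iff.2 e) _
  obtain ⟨d, hd, h1, h2⟩ := exists_second hk (h.T2B.inv _ (pow_mem hx _)) (h.g_mod.trans he) hc e1
  have h3 : x ^ (2 * j + 1) ∈ centralizer {v} := by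
    rcases h.cen' hc.1 hd.1 h1.symm h.hv.1 h.vne h.vt hc.2 hd.2 (pow_mem hx _).1 e1 h2
      with e | e | e | e <;> rw [e]
    exacts [one_mem _, mem_cent.2 h.vt.symm, mem_cent.2 rfl,
      mul_mem (mem_cent.2 h.vt.symm) (mem_cent.2 rfl)]
  have h4 : x ^ 2 ∈ centralizer {v} := by
    rcases hx.2 with e | e
    · exact pow_mem (mem_cent.2 (mul_inv_eq_iff_eq_mul.1 e)) _
    · refine mem_cent.2 (mul_inv_eq_iff_eq_mul.1 ?_)
      rw [show x ^ 2 * v * (x ^ 2)⁻¹ = x * (x * v * x⁻¹) * x⁻¹ by rw [sq]; group, e, ← conj_mul, e,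
        conj_eq_of_comm hx.1, h.ttv]
  rw [pow_succ, pow_mul] at h3
  exact mem_cent.1 ((mul_mem_cancel_left (pow_mem h4 j)).1 h3)

theorem evenY (hy : CY a b t v y s) (he : Nat.card Ω % 2 = 0) :
    ((Fx Ω t).ncard = 2 ∨ (Fx Ω t).ncard = 4) ∧
      s * ((Fx Ω t).ncard * ((Fx Ω t).ncard - 1)) + i * (Fx Ω t).ncard = i * Nat.card Ω := by
  have g2 : {x : Ω | x ∈ Fx Ω t ∧ v • x = x}.ncard = 2 := by
    refine Set.ncard_eq_two.2 ⟨a, b, h.ne, Set.ext fun c => ⟨fun hc => ?_, ?_⟩⟩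
    · by_contra hn
      obtain ⟨k, hk, e1, e2⟩ := h.T2B.tr hc h.aV hc h.bV (fun e => hn (.inl e)) fun e => hn (.inr e)
      have h1 := h.cenB he (mul_mem (inv_mem (show y ∈ NV h.ht v from ⟨yt hy, .inr hy.yv⟩)) hk) h.aV
        (by rw [mul_smul, e2, inv_smul_eq_iff, hy.ya])
      have h2 := (mul_mem_cancel_right (mem_cent.2 (h.cenB he hk hc e1))).1 (mem_cent.2 h1)
      exact h.tvne' (hy.yv.symm.trans (conj_eq_of_comm (mem_cent.1 (inv_mem_iff.1 h2))))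
    · rintro (rfl | rfl)
      exacts [h.aV, h.bV]
  have k4 : {u | u ∈ TT Ω t ∧ u • a = b}.ncard ≤ 2 := by
    refine (Set.ncard_le_ncard (t := {y * v, y * (t * v)}) fun u hu => ?_).trans
      ((Set.ncard_insert_le _ _).trans (by rw [Set.ncard_singleton]))
    have e := hu.1.1.1
    obtain ⟨k, rfl | rfl | rfl | rfl, rfl⟩ := h.swapC (yt hy) hy.ya (h.yb hy) hu.1.1.2.2
      hu.2 (e.smul_eq hu.2)
    · exact absurd (by simpa [hy.yy] using e.2) h.ht.1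
    · refine absurd ?_ h.ht.1
      rw [← e.2, mul_assoc, ← mul_assoc k, ← yt hy, mul_assoc, h.ht.2, mul_one, hy.yy]
    exacts [.inl rfl, .inr rfl]
  have c1 := h.count_f
  have c2 := h.count_n
  have c3 := h.f_mod
  rw [g2] at c1
  refine ⟨by omega, ?_⟩
  rw [← c2, ← hy.card]
  congr 3
  exact Set.ext fun u => and_congr_left' ⟨h.allY hy, fun ⟨g, e⟩ => e ▸ h.ht.conj g⟩

theorem not_three_dvd (hx : CX a b z) (he : Nat.card Ω % 2 = 0) :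
    {x : Ω | x ∈ Fx Ω t ∧ v • x = x}.ncard % 3 ≠ 0 := fun h3 => by
  set F := {x : Ω | x ∈ Fx Ω t ∧ v • x = x} with hF
  have two : ∀ u ∈ NV h.ht v, ∀ c ∈ F, ∀ d ∈ F, c ≠ d → u • c = c → u • d = d →
      u ∈ ({1, t, v, t * v} : Set G) := fun u hu c hc d hd e e1 e2 =>
    h.cen' hc.1 hd.1 e h.hv.1 h.vne h.vt hc.2 hd.2 hu.1 e1 e2
  have VB : ∀ u ∈ ({1, t, v, t * v} : Set G), u ∈ St G a b ∧ u * u = 1 ∧ u * t = t * u ∧
      u * v = v * u ∧ ∀ x ∈ F, u • x = x := by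
    rintro _ (rfl | rfl | rfl | rfl)
    · simp
    · exact ⟨h.tK, h.ht.2, rfl, h.vt.symm, fun x hx => hx.1⟩
    · exact ⟨h.vK, h.hv.2, h.vt, rfl, fun x hx => hx.2⟩
    · exact ⟨mul_mem h.tK h.vK, h.htv.2, h.tvt, by rw [← mul_assoc, h.vt],
        fun x hx => by rw [mul_smul, hx.2, hx.1]⟩
  have d := derange h.T2B.inv (h.T2B.tr1 h.aV h.bV h.ne) h.aV (M := {1, t, v, t * v}) (N := ∅)
    (fun u hu => ⟨(VB u hu).2.2.1, .inl (conj_eq_of_comm (VB u hu).2.2.2.1)⟩) (Set.empty_subset _)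
    (Set.disjoint_empty _) (fun g hg u hu => two _ (mul_mem (mul_mem hg ⟨(VB u hu).2.2.1,
      .inl (conj_eq_of_comm (VB u hu).2.2.2.1)⟩) (inv_mem hg)) _ (h.T2B.inv g hg a h.aV) _
      (h.T2B.inv g hg b h.bV) (fun e => h.ne ((smul_left_cancel_iff g).1 e))
      (conj_smul_iff.2 (VB u hu).1.1) (conj_smul_iff.2 (VB u hu).1.2)) (fun _ _ _ h => h.elim)
    (φ := F.ncard) (ψ := 0) (fun u hu => by
      congr 1; exact Set.ext fun x => and_iff_left_of_imp ((VB u hu).2.2.2.2 x))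
    (fun _ h => h.elim) fun u hu h1 _ c hc d hd => by_contra fun e =>
      h1 (two u hu c hc.1 d hd.1 e hc.2 hd.2)
  set T := {u | u ∈ NV h.ht v ∧ u * u = 1 ∧ ∀ x ∈ F, u • x ≠ x} with hT
  obtain ⟨-, -, c⟩ := h.T2B.counts h.aV h.bV h.ne (T := T) (fun u hu => hu.1) (fun g hg u hu =>
    ⟨mul_mem (mul_mem hg hu.1) (inv_mem hg), by rw [conj_mul, hu.2.1]; group, fun x hx e =>
      hu.2.2 _ (h.T2B.inv _ (inv_mem hg) x hx) (by
        rw [← smul_inv_smul g x] at e; exact conj_smul_iff.1 e)⟩) (φ := 0) fun u hu =>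
    (Set.ncard_eq_zero (Set.toFinite _)).2 (Set.eq_empty_of_forall_notMem fun x hx =>
      hu.2.2 x hx.1 hx.2)
  have k4 : 4 ≤ {u | u ∈ T ∧ u • a = b}.ncard := by
    refine le_of_eq_of_le ((Set.ncard_image_of_injective _ (mul_right_injective z)).trans
      h.ncard_four).symm (Set.ncard_le_ncard ?_)
    rintro _ ⟨u, hu, rfl⟩
    obtain ⟨h1, h2, h4, h5, h6⟩ := VB u hu
    have zB : z * u ∈ NV h.ht v := mul_mem ⟨hx.cen t h.tK, .inl (conj_eq_of_comm (hx.cen v h.vK))⟩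
      ⟨h4, .inl (conj_eq_of_comm h5)⟩
    have za : (z * u) • a = b := by rw [mul_smul, h1.1, hx.za]
    have z2 : z * u * (z * u) = 1 := by
      rw [mul_assoc, ← mul_assoc u, ← hx.cen u h1, mul_assoc, h2, mul_one, hx.hz.2]
    refine ⟨⟨zB, z2, fun x hx' e => h.ne ?_⟩, za⟩
    obtain ⟨d, hd, e1, e2⟩ := exists_second (k := 1) (by rw [pow_one, sq, z2]) (h.T2B.inv _ zB)
      (h.g_mod.trans he) hx' e
    exact ((VB _ (two _ zB d hd x hx' e1 e2 e)).1.1).symm.trans za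
  have g2 := T2.two_le h.aV h.bV h.ne
  have eq := Set.eq_of_subset_of_ncard_le (s := T) (t := {u | u ∈ NV h.ht v ∧
    u ∉ ({1, t, v, t * v} : Set G) ∧ u ∉ (∅ : Set G) ∧ ∀ x ∈ F, u • x ≠ x})
    (fun u hu => ⟨hu.1, fun e => hu.2.2 a h.aV (VB u e).1.1, fun e => e, hu.2.2⟩) (by
      rw [h.ncard_four, Set.ncard_empty] at d
      have := Nat.mul_le_mul_left (F.ncard - 1) k4
      rw [← hF] at c d g2
      omega)
  have : Fact (Nat.Prime 3) := ⟨Nat.prime_three⟩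
  obtain ⟨⟨e, he'⟩, ho⟩ := exists_prime_orderOf_dvd_card' (G := NV h.ht v) 3 (by
    rw [h.T2B.card_eq h.aV h.bV h.ne]; exact (Nat.dvd_of_mod_eq_zero h3).mul_right _)
  rw [orderOf_mk] at ho
  have n2 : e * e ≠ 1 := fun e2 => by
    have : orderOf e ∣ 2 := orderOf_dvd_of_pow_eq_one (by rw [sq, e2])
    exact absurd (ho ▸ this) (by norm_num)
  have m := modEq_elt (k := 1) Nat.prime_three (by rw [pow_one, ← ho, pow_orderOf_eq_one])
    (h.T2B.inv e he')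
  by_cases ex : ∃ x ∈ F, e • x = x
  · obtain ⟨x, h1, h2⟩ := ex
    rw [← hF, ncard_one (S := {x | x ∈ F ∧ e • x = x}) ⟨h1, h2⟩ fun y hy => by_contra fun e' =>
      n2 (VB _ (two e he' y hy.1 x h1 e' hy.2 h2)).2.1, Nat.ModEq] at m
    omega
  · exact n2 (eq.symm.subset ⟨he', fun e' => n2 (VB _ e').2.1, fun e => e,
      fun x hx e' => ex ⟨x, hx, e'⟩⟩).2.1

omit [Finite Ω] in
theorem s_cases (hx : CX a b z) :
    {u | u ∈ {u | ∃ g, g * t * g⁻¹ = u} ∧ u • a = b}.ncard = 1 ∨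
      ({u | u ∈ {u | ∃ g, g * t * g⁻¹ = u} ∧ u • a = b}.ncard = i ∧ ¬ ∃ g, g * t * g⁻¹ = z) ∨
      {u | u ∈ {u | ∃ g, g * t * g⁻¹ = u} ∧ u • a = b}.ncard = i + 1 := by
  by_cases zt : ∃ g, g * t * g⁻¹ = z * t
  · right
    have n1 := (Set.ncard_image_of_injective _ (mul_right_injective z)).trans h.ncard_K
    have e : {u | u ∈ {u | ∃ g, g * t * g⁻¹ = u} ∧ u • a = b} \ {z} =
        (z * ·) '' {u | u ∈ {u | ∃ g, g * t * g⁻¹ = u} ∧ u • a = a ∧ u • b = b} := by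
      ext u
      refine ⟨fun ⟨⟨⟨g, e⟩, h1⟩, h2⟩ => ?_, ?_⟩
      · obtain ⟨k, hk, rfl⟩ := (h.swapX hx (e ▸ h.ht.conj g) h1).resolve_left h2
        exact ⟨k * t * k⁻¹, ⟨⟨k, rfl⟩, mul_mem (mul_mem hk h.tK) (inv_mem hk)⟩, by
          rw [← conj_mul, conj_eq_of_comm (hx.cen k hk).symm]⟩
      · rintro ⟨w, ⟨⟨g, e⟩, h1⟩, rfl⟩
        obtain ⟨k, hk, rfl⟩ := h.cj w h1 (e ▸ h.ht.conj g)
        obtain ⟨x, hx'⟩ := zt
        refine ⟨⟨⟨k * x, ?_⟩, by rw [mul_smul, h1.1, hx.za]⟩,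
          fun e => (h.ht.conj k).1 (mul_eq_left.1 e)⟩
        rw [show k * x * t * (k * x)⁻¹ = k * (x * t * x⁻¹) * k⁻¹ by group, hx', ← conj_mul,
          conj_eq_of_comm (hx.cen k hk).symm]
    by_cases hz : ∃ g, g * t * g⁻¹ = z
    · right
      rw [← n1, ← e]
      exact (Set.ncard_sdiff_singleton_add_one (a := z)
        (s := {u | u ∈ {u | ∃ g, g * t * g⁻¹ = u} ∧ u • a = b}) ⟨hz, hx.za⟩).symm
    · left
      rw [← n1, ← e, Set.sdiff_singleton_eq_self fun hu => hz hu.1]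
      exact ⟨rfl, hz⟩
  · have key : ∀ u ∈ {u | u ∈ {u | ∃ g, g * t * g⁻¹ = u} ∧ u • a = b}, u = z := by
      rintro _ ⟨⟨g, rfl⟩, e⟩
      refine (h.swapX hx (h.ht.conj g) e).resolve_right fun ⟨k, _, hk⟩ => zt ⟨k⁻¹ * g, ?_⟩
      rw [← conj_back k⁻¹ (z * t), inv_inv, hk]; group
    obtain ⟨g, hg⟩ := h.swap_conj h.ht
    exact .inl (Set.ncard_eq_one.2 ⟨_, Set.eq_singleton_iff_unique_mem.2 ⟨⟨⟨g, rfl⟩, hg⟩,
      fun u hu => (key u hu).trans (key _ ⟨⟨g, rfl⟩, hg⟩).symm⟩⟩)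

theorem evenX (hx : CX a b z) (he : Nat.card Ω % 2 = 0) (hi : i = 3 ∨ i = 15) :
    i = 3 ∧ Nat.card Ω = 16 ∧ (Fx Ω t).ncard = 4 ∧ {x : Ω | x ∈ Fx Ω t ∧ v • x = x}.ncard = 4 ∧
      ¬ ∃ g, g * t * g⁻¹ = z := by
  have cl : ∀ u : G, Invo u → u • a = a → ∃ g : G, g • a = a ∧ g * t * g⁻¹ = u := fun u hu e => by
    obtain ⟨d, -, h1, h2⟩ := exists_second (Invo.pow_two hu) (S := (Set.univ : Set Ω))
      (fun _ _ => trivial) (by rwa [Set.ncard_univ]) trivial e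
    obtain ⟨g, e1, e2, -⟩ := h.two hu h1.symm e h2
    exact ⟨g, e2, e1⟩
  have n2 := T2.two_le (F := (Set.univ : Set Ω)) trivial trivial h.ne
  rw [Set.ncard_univ] at n2
  obtain ⟨m, k, h1, h2⟩ := kf (G := stabilizer G a) (t := ⟨t, h.tK.1⟩) (v := ⟨v, h.vK.1⟩)
    (invo_coe.1 h.ht) (invo_coe.1 h.hv) (fun e => h.vne (congrArg Subtype.val e))
    (Subtype.ext h.vt) (by
      rw [h.card_stab]
      obtain ⟨n, hn⟩ : ∃ n, Nat.card Ω - 1 = 2 * n + 1 := ⟨(Nat.card Ω - 1) / 2, by omega⟩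
      obtain ⟨j, hj⟩ := h.odd
      rw [hn, hj, show (2 * n + 1) * (4 * (2 * j + 1)) = 8 * (2 * n * j + n + j) + 4 by ring]
      omega) fun u hu => let ⟨g, e1, e2⟩ := cl u (invo_coe.2 hu) u.2; ⟨⟨g, e1⟩, Subtype.ext e2⟩
  have e1 := ncard_coe (H := stabilizer G a)
    (S := {u | u ∈ {u | ∃ g, g * t * g⁻¹ = u} ∧ u • a = a}) fun u hu => hu.2
  have e2 := ncard_coe (H := stabilizer G a) (S := {u | u ∈ TT Ω t ∧ u • a = a}) fun u hu => hu.2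
  rw [show {u : stabilizer G a | (u : G) ∈ {u | u ∈ {u | ∃ g, g * t * g⁻¹ = u} ∧ u • a = a}} =
    {u | Invo u} from Set.ext fun u => ⟨fun ⟨⟨g, e⟩, _⟩ => invo_coe.1 (e ▸ h.ht.conj g), fun hu =>
      ⟨let ⟨g, _, e⟩ := cl u (invo_coe.2 hu) u.2; ⟨g, e⟩, u.2⟩⟩, h.count_j] at e1
  rw [show {u : stabilizer G a | (u : G) ∈ {u | u ∈ TT Ω t ∧ u • a = a}} =
    {w | Invo w ∧ w ≠ ⟨t, h.tK.1⟩ ∧ w * ⟨t, h.tK.1⟩ = ⟨t, h.tK.1⟩ * w} from Set.ext fun u =>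
      ⟨fun ⟨⟨⟨h1, h2, h3⟩, _⟩, _⟩ => ⟨invo_coe.1 h1, fun e => h2 (congrArg Subtype.val e),
        Subtype.ext h3⟩, fun ⟨h1, h2, h3⟩ => by
        have h3' : (u : G) * t = t * u := congrArg Subtype.val h3
        obtain ⟨d, h4, h5, h6⟩ := exists_second (Invo.pow_two (invo_coe.2 h1)) (S := Fx Ω t)
          (fun x hx => smul_mem_Fx h3' hx) (h.f_mod.trans he) h.tK.1 u.2
        exact ⟨⟨⟨invo_coe.2 h1, fun e => h2 (Subtype.ext e), h3'⟩, d, a, h5, h4, h.tK.1, h6, u.2⟩,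
          u.2⟩⟩, h1] at e2
  have k4 : {u | u ∈ TT Ω t ∧ u • a = b}.ncard ≤ 4 := by
    refine le_of_le_of_eq ?_ ((Set.ncard_image_of_injective _ (mul_right_injective z)).trans
      h.ncard_four)
    exact Set.ncard_le_ncard fun u hu => h.swapC (hx.cen t h.tK) hx.za (hx.hz.smul_eq hx.za)
      hu.1.1.2.2 hu.2 (hu.1.1.1.smul_eq hu.2)
  have k2 := modEq_elt (Ω := G) Nat.prime_two (Invo.pow_two h.ht)
    (S := {u | u ∈ TT Ω t ∧ u • a = b}) fun u hu => ⟨TT_mul h.ht hu.1, by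
      rw [smul_eq_mul, mul_smul, hu.2]; exact h.tK.2⟩
  rw [show {x | x ∈ {u | u ∈ TT Ω t ∧ u • a = b} ∧ t • x = x} = ∅ from
    Set.eq_empty_of_forall_notMem fun x hx => h.ht.1 (mul_eq_right.1 hx.2), Set.ncard_empty] at k2
  obtain ⟨σ, hσ⟩ := Nat.modEq_zero_iff_dvd.1 k2
  have c1 := h.count_f
  have c2 := h.count_A
  have c3 := h.count_n
  have c4 := h.s_cases hx
  have g2 := T2.two_le h.aV h.bV h.ne
  have g3 := h.not_three_dvd hx he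
  have ge := h.g_mod.trans he
  have fe := h.f_mod.trans he
  rw [← e2] at c2
  rw [hσ] at c1 k4
  rw [e1] at h2
  generalize {u | u ∈ {u | ∃ g, g * t * g⁻¹ = u} ∧ u • a = b}.ncard = s at *
  generalize {x : Ω | x ∈ Fx Ω t ∧ v • x = x}.ncard = g at *
  generalize (Fx Ω t).ncard = f at *
  obtain rfl : f = g + σ * (g * (g - 1)) := by linarith
  have km : k * m = 2 * (1 + σ * g) := by
    obtain ⟨g, rfl⟩ : ∃ g', g = g' + 1 := ⟨g - 1, by omega⟩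
    rw [Nat.add_sub_cancel, show g + 1 + σ * ((g + 1) * g) - 1 = g + σ * ((g + 1) * g) by omega] at c2
    exact Nat.eq_of_mul_eq_mul_right (show 0 < g by omega) (by rw [c2]; ring)
  have mo : m % 2 = 1 := by
    have jo : Odd (i + s * (g + σ * (g * (g - 1)))) :=
      h.odd.add_even ((Nat.even_iff.2 fe).mul_left _)
    refine Nat.odd_iff.1 ((Nat.odd_pow_iff two_ne_zero).1 ?_)
    rcases h2 with e | ⟨j, -, e⟩ <;> rw [e] at jo <;> exact (Nat.odd_mul.1 jo).2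
  obtain ⟨e3, rfl, rfl⟩ := arith (i := i) (s := s) (σ := σ) (g := g) (m := m)
    (by rcases hi with rfl | rfl <;> rcases c4 with rfl | ⟨rfl, -⟩ | rfl <;> simp) (by omega) g2 ge
    g3 rfl ((Nat.coprime_two_right.2 (Nat.odd_iff.2 mo)).dvd_of_dvd_mul_left
      (km ▸ dvd_mul_left _ _)) mo (h2.imp (fun e => by rw [e]; nlinarith) fun ⟨j, e, e'⟩ => by
        rw [e']; subst e; nlinarith)
  obtain ⟨rfl, rfl⟩ := Prod.mk.inj e3
  refine ⟨rfl, by omega, rfl, rfl, ?_⟩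
  rcases c4 with e | e | e
  exacts [by omega, e.2, by omega]

end Hy

end CL.TwoS
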