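import Mathlib
import Cfsg.Agent.PERM.TwoS7
import Cfsg.Agent.SPOR.Ord11c

/-!
Doubly transitive groups whose two-point stabilizer `K` has Klein four Sylow 2-subgroups: the
small degrees.
-/

set_option autoImplicit false

namespace CL.TwoS

open MulAction CL.Zass CL.TIInv CL.R3F CL.CFix Subgroup Cfsg

variable {G Ω : Type*} [Group G] [MulAction G Ω]

namespace Hy

variable {a b : Ω} {t v ρ y z : G} {i s : ℕ} (h : Hy a b t v ρ i)
include h

theorem faithful : FaithfulSMul G Ω := ⟨fun {g g'} e => by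
  rw [← inv_mul_eq_one]
  exact h.faith _ fun x => by rw [mul_smul, ← e, inv_smul_smul]⟩

theorem trans_of_normal {M : Subgroup G} [M.Normal] (h1 : M ≠ ⊥) : IsPretransitive M Ω := by
  have := h.faithful
  exact CL.Perm.isPretransitive_of_normal_of_ne_bot (isPreprimitive_of_is_two_pretransitive
    (is_two_pretransitive_iff.mpr h.tr : IsMultiplyPretransitive G Ω 2)) M h1

variable [Finite G] [Finite Ω]

theorem card_dvd_of_normal {M : Subgroup G} [M.Normal] (h1 : M ≠ ⊥) : Nat.card Ω ∣ Nat.card M := by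
  have := card_orbit (C := M) (F := Set.univ) (a := a) (fun _ _ => trivial) fun x _ =>
    let ⟨g, hg⟩ := (h.trans_of_normal h1).exists_smul_eq a x; ⟨g, g.2, hg⟩
  rw [this, Set.ncard_univ]
  exact dvd_mul_right _ _

theorem no_order (hy : CY a b t v y s) (f4 : (Fx Ω t).ncard = 4) {p : ℕ} (hp : p ≠ 0)
    (h48 : ¬ p * 2 ∣ 48) (g : G) : orderOf g ≠ p * 2 := fun hg => by
  obtain ⟨x, e⟩ := h.allY hy (u := g ^ p) (invo_iff.2 (by
    rw [orderOf_pow' g hp, hg, Nat.gcd_mul_right_left, Nat.mul_div_cancel_left _ (Nat.pos_of_ne_zero hp)]))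
  have c := card_inf_cent_conj ⊤ x t
  rw [top_inf_eq, top_inf_eq, h.card_C, f4, e] at c
  have := orderOf_dvd_natCard _ (mem_cent.2 ((Commute.refl g).pow_right p))
  rw [hg, c] at this
  exact h48 this

theorem m11 (hy : CY a b t v y 10) (he : Nat.card Ω % 2 = 0) (hi : i = 15) :
    Nat.card Ω = 12 ∧ Spor.IsoM11 G := by
  obtain ⟨h1, h2⟩ := h.evenY hy he
  subst hi
  rcases h1 with f | f <;> rw [f] at h2
  · omega
  have n : Nat.card Ω = 12 := by omega
  have c : Nat.card G = 7920 := by rw [h.card_G, n]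
  have := Ord.simple_of_not_22 c (h.no_order hy f (by norm_num) (by norm_num))
  exact ⟨n, Ord.iso_M11 c⟩

theorem alt6 (n : Nat.card Ω = 6) (hi : i = 3) : Nonempty (G ≃* alternatingGroup (Fin 6)) := by
  classical
  have := Fintype.ofFinite Ω
  have := h.faithful
  have e := MonoidHom.ofInjective (f := toPermHom G Ω) toPerm_injective
  have c := (toPermHom G Ω).range.card_mul_index
  rw [← Nat.card_congr e.toEquiv, h.card_G, Nat.card_perm, n, hi] at c
  have e2 := Equiv.Perm.eq_alternatingGroup_of_index_eq_two (G := (toPermHom G Ω).range) (by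
    simp only [Nat.factorial] at c; omega)
  exact ⟨(e.trans (MulEquiv.subgroupCongr e2)).trans
    (Fintype.equivFinOfCardEq (Nat.card_eq_fintype_card.symm.trans n)).altCongrHom⟩

theorem not_28 (hy : CY a b t v y s) (f4 : (Fx Ω t).ncard = 4) (n : Nat.card Ω = 28) (hi : i = 3) :
    False := by
  have : Fact (Nat.Prime 7) := ⟨by norm_num⟩
  have : Fact (Nat.Prime 3) := ⟨by norm_num⟩
  have cG : Nat.card G = 9072 := by rw [h.card_G, n, hi]
  obtain ⟨P⟩ : Nonempty (Sylow 7 G) := inferInstance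
  have hP := CL.Small.card_sylow_eq_of_factor P (a := 1) (m := 1296) cG (by norm_num)
  obtain ⟨m, c, e, h1, h2, h3, h4, h5⟩ := Ord.prime_data P hP
  have h6 : ¬ 2 ∣ c := fun h6 => (Ord.exists_order_mul P hP (by norm_num) h3 h6).elim
    (h.no_order hy f4 (by norm_num) (by norm_num))
  have h7 : ¬ 3 ^ 2 ∣ c := fun h7 => by
    obtain ⟨Q, hQ⟩ := Sylow.exists_subgroup_card_pow_prime (G := centralizer ((P : Subgroup G) : Set G))
      3 (h3 ▸ h7.mul_left _)
    have q := (card_map_of_injective (K := Q) (centralizer ((P : Subgroup G) : Set G)).subtype_injective).trans hQ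
    have md := SR.ncard_modEq_of_isPGroup (IsPGroup.of_card q) (Set.univ : Set Ω) fun _ _ _ _ => trivial
    obtain ⟨x, -, hx⟩ := (Set.ncard_pos (Set.toFinite _)).1 (Nat.pos_of_ne_zero fun e => by
      rw [e, Set.ncard_univ, n] at md
      exact absurd md (by decide) : 0 < {x : Ω | x ∈ Set.univ ∧ ∀ g ∈ Q.map
        (centralizer ((P : Subgroup G) : Set G)).subtype, g • x = x}.ncard)
    obtain ⟨w, hw, ho⟩ := Small.exists_mem_orderOf_eq_prime (P : Subgroup G) 7 (by rw [hP]; rfl)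
    obtain ⟨k, -, rfl⟩ := h.T2G.tr1 trivial trivial h.ne a trivial x trivial
    have ne : k • a ≠ w • k • a := fun e => by
      have := orderOf_dvd_natCard (stabilizer G a) (x := k⁻¹ * w * k⁻¹⁻¹) (inv_conj_fix rfl e.symm)
      rw [h.card_stab, n, hi, show orderOf (k⁻¹ * w * k⁻¹⁻¹) = orderOf w from
        (MulAut.conj k⁻¹).orderOf_eq w, ho] at this
      omega
    obtain ⟨g, e1, e2⟩ := h.tr h.ne ne
    have := card_dvd_of_le (H := Q.map (centralizer ((P : Subgroup G) : Set G)).subtype)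
      (K := St G (k • a) (w • k • a)) fun u hu => ⟨hx u hu, smul_mem_Fx (by
        obtain ⟨u, -, rfl⟩ := hu; exact u.2 w hw) (hx u hu)⟩
    rw [q, ← e2, ← e1, ← card_St_smul, h.card, hi] at this
    omega
  have h8 : c * e = 1 := by
    rw [cG] at h5
    have hc : c ∣ 2 ^ 4 * 3 ^ 4 := ⟨m * e, by linarith⟩
    have hc3 : c ∣ 3 ^ 4 := ((Nat.coprime_two_right.2 (Nat.odd_iff.2 (by omega))).pow_right
      4).dvd_of_dvd_mul_left hc
    obtain ⟨j, hj, rfl⟩ := (Nat.dvd_prime_pow Nat.prime_three).1 hc3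
    have := Nat.le_of_dvd (by norm_num) h2
    interval_cases j <;> interval_cases e <;> omega
  obtain ⟨K, _, hK⟩ := Ord.exists_compl P (eq_of_le_of_card_ge
    (centralizer_le_normalizer _) (by
      rw [h3, h4, mul_assoc, h8]; exact Nat.mul_le_mul_left _ (Nat.pos_of_ne_zero (by rintro rfl; omega)))).ge
  rw [hP, cG] at hK
  have := h.card_dvd_of_normal (M := K) (by rintro rfl; simp at hK)
  rw [n, show Nat.card K = 1296 by omega] at this
  exact absurd this (by norm_num)

theorem not_regular_odd (hy : CY a b t v y 6) (hi : i = 3) {M : Subgroup G} [hM : M.Normal]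
    (h1 : M ≠ ⊥) (hc : ∀ x ∈ M, ∀ y ∈ M, x * y = y * x) : False := by
  have c := h.count_n
  rw [show {u | u ∈ {u | ∃ g, g * t * g⁻¹ = u} ∧ u • a = b} = {u | Invo u ∧ u • a = b} from
    Set.ext fun u => and_congr_left' ⟨fun ⟨g, e⟩ => e ▸ h.ht.conj g, h.allY hy⟩, hy.card, hi] at c
  obtain ⟨f, hf⟩ : ∃ f, (Fx Ω t).ncard = f + 2 :=
    ⟨_, (Nat.sub_add_cancel (T2.two_le (F := Fx Ω t) h.tK.1 h.tK.2 h.ne)).symm⟩
  rw [hf, show f + 2 - 1 = f + 1 from rfl] at c
  have d := h.card_dvd_of_normal h1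
  rw [show Nat.card Ω = (f + 2) * (2 * f + 3) by linarith] at d
  obtain ⟨p, hp, h2⟩ := Nat.exists_prime_and_dvd (n := f + 2) (by omega)
  obtain ⟨q, hq, h3⟩ := Nat.exists_prime_and_dvd (n := 2 * f + 3) (by omega)
  have := Fact.mk hp
  have := Fact.mk hq
  obtain ⟨x, hx, ox⟩ := Small.exists_mem_orderOf_eq_prime M p ((h2.mul_right _).trans d)
  obtain ⟨w, hw, ow⟩ := Small.exists_mem_orderOf_eq_prime M q ((h3.mul_left _).trans d)
  have r := (h.regular h1 hc).2 a
  obtain ⟨g, e1, e2⟩ := h.tr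
    (show a ≠ x • a from fun e => hp.one_lt.ne (by rw [← ox, r x hx e.symm, orderOf_one]))
    (show a ≠ w • a from fun e => hq.one_lt.ne (by rw [← ow, r w hw e.symm, orderOf_one]))
  have e := r (w⁻¹ * (g * x * g⁻¹)) (mul_mem (inv_mem hw) (hM.conj_mem x hx g)) (by
    rw [mul_smul, inv_smul_eq_iff, ← e2]; nth_rewrite 1 [← e1]; exact conj_smul_iff.2 rfl)
  obtain rfl : q = p := by
    rw [← ox, ← ow, inv_mul_eq_one.1 e]; exact (MulAut.conj g).orderOf_eq x
  have := Nat.dvd_sub (h2.mul_left 2) h3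
  rw [show 2 * (f + 2) - (2 * f + 3) = 1 by omega] at this
  exact hp.one_lt.ne' (Nat.dvd_one.1 this)

theorem card_of_alt7 (e : G ≃* alternatingGroup (Fin 7)) :
    (i = 3 → Nat.card Ω = 15) ∧ (i = 15 → Nat.card Ω = 7) := by
  have c := (card_alt7 e).symm.trans h.card_G
  generalize Nat.card Ω = n at c
  have : n ≤ 2520 := Nat.le_of_dvd (by norm_num) ⟨_, c⟩
  rcases n with _ | n
  · omega
  rw [Nat.add_sub_cancel] at c
  constructor <;> rintro rfl <;> nlinarith

end Hy

end CL.TwoS
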