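import Mathlib
import Cfsg.Agent.PERM.TwoS8
import Cfsg.Agent.S2119

/-!
Doubly transitive groups whose two-point stabilizer is `A₄` or `A₅`: the stabilizer of the pair.
-/

set_option autoImplicit false

namespace CL.TwoS

open MulAction CL.Zass CL.TIInv CL.R3F CL.CFix Subgroup Cfsg Equiv Equiv.Perm

variable {G Ω : Type*} [Group G] [MulAction G Ω]

/-- the stabilizer of the pair `{a, b}`. -/
def Pr (G : Type*) [Group G] [MulAction G Ω] (a b : Ω) : Subgroup G where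
  carrier := {g | g • a = a ∧ g • b = b ∨ g • a = b ∧ g • b = a}
  one_mem' := .inl ⟨one_smul _ _, one_smul _ _⟩
  mul_mem' := by rintro g x (⟨h1, h2⟩ | ⟨h1, h2⟩) (⟨h3, h4⟩ | ⟨h3, h4⟩) <;> simp [mul_smul, *]
  inv_mem' := by rintro g (⟨h1, h2⟩ | ⟨h1, h2⟩) <;> simp [inv_smul_eq_iff, *]

theorem bridge {S : Type*} [Group S] {A : Subgroup S} [A.Normal] (hA : A.index = 2)
    (hb : Function.Bijective (MulAut.conjNormal : S →* MulAut A)) {a b : Ω} (hab : a ≠ b)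
    (e : St G a b ≃* A) {τ : G} (t1 : τ • a = b) (t2 : τ • b = a) :
    (∃ z : G, CX a b z) ∨ ∃ ω : S →* G, Function.Injective ω ∧ (∀ σ : A, ω σ = e.symm σ) ∧
      (∀ σ ∉ A, ω σ • a = b) ∧ ∀ u : G, u • a = b → u • b = a → ∃ σ ∉ A, ω σ = u := by
  let π : Pr G a b →* S := ((MulEquiv.ofBijective _ hb).symm.toMonoidHom.comp
    ((MulAut.congr e).toMonoidHom.comp (St G a b).normalizerMonoidHom)).comp
    (inclusion fun g hg => mem_normalizer_of_pair hg)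
  have p1 : ∀ g : Pr G a b, MulAut.conjNormal (π g) = MulAut.congr e
      ((St G a b).normalizerMonoidHom ⟨g, mem_normalizer_of_pair g.2⟩) := fun g =>
    (MulEquiv.ofBijective _ hb).apply_symm_apply _
  have p2 : ∀ k : St G a b, π ⟨k, .inl k.2⟩ = e k := fun k => hb.1 (by
    rw [p1]
    ext x
    obtain ⟨x, rfl⟩ := e.surjective x
    rw [MulAut.conjNormal_apply, ← Subgroup.coe_inv, ← Subgroup.coe_mul, ← Subgroup.coe_mul,
      ← map_inv, ← map_mul, ← map_mul]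
    exact congrArg (fun y => (e y : S)) (congrArg (fun y => k * y * k⁻¹) (e.symm_apply_apply x)))
  have p3 : ∀ g : Pr G a b, (g : G) ∈ St G a b → π g = 1 → g = 1 := fun g hg h1 =>
    Subtype.ext (congrArg (Subtype.val : St G a b → G) (e.injective (a₁ := ⟨g, hg⟩) (a₂ := 1)
      (Subtype.ext (((p2 ⟨g, hg⟩).symm.trans h1).trans (by rw [map_one]; rfl)))))
  by_cases hx : ∃ u : Pr G a b, (u : G) • a = b ∧ π u ∈ A
  · obtain ⟨u, h1, h2⟩ := hx
    have h3 : (u : G) • b = a := (u.2.resolve_left fun h => hab (h.1.symm.trans h1)).2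
    let k := e.symm ⟨π u, h2⟩
    let z : Pr G a b := (⟨k, .inl k.2⟩ : Pr G a b)⁻¹ * u
    have z1 : π z = 1 := by rw [map_mul, map_inv, p2, e.apply_symm_apply, inv_mul_cancel]
    have za : (z : G) • a = b := by
      change ((k : G)⁻¹ * u) • a = b
      rw [mul_smul, h1]; exact (inv_mem k.2).2
    have zb : (z : G) • b = a := (z.2.resolve_left fun h => hab (h.1.symm.trans za)).2
    refine .inl ⟨z, ⟨fun h => hab (by rw [← za, h, one_smul]), congrArg Subtype.val (p3 (z * z)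
      ⟨show ((z : G) * z) • a = a by rw [mul_smul, za, zb],
        show ((z : G) * z) • b = b by rw [mul_smul, zb, za]⟩ (by rw [map_mul, z1, one_mul]))⟩,
      za, fun k hk => ?_⟩
    have := p1 z
    rw [z1, map_one, eq_comm, map_eq_one_iff _ (MulAut.congr e).injective, ← MonoidHom.mem_ker,
      normalizerMonoidHom_ker] at this
    exact (this k hk).symm
  push Not at hx
  have bij : Function.Bijective π := by
    refine ⟨(injective_iff_map_eq_one π).2 fun g hg => p3 g (g.2.resolve_right fun h =>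
      hx g h.1 (hg ▸ A.one_mem)) hg, fun σ => ?_⟩
    by_cases hσ : σ ∈ A
    · exact ⟨_, (p2 (e.symm ⟨σ, hσ⟩)).trans (by rw [e.apply_symm_apply])⟩
    · have := (mul_mem_iff_of_index_two hA).2 (iff_of_false hσ
        fun h => hx ⟨τ, .inr ⟨t1, t2⟩⟩ t1 (inv_mem_iff.1 h))
      exact ⟨_ * ⟨τ, .inr ⟨t1, t2⟩⟩, by
        rw [map_mul, p2 (e.symm ⟨_, this⟩), e.apply_symm_apply, inv_mul_cancel_right]⟩
  let ε := MulEquiv.ofBijective π bij
  refine .inr ⟨(Pr G a b).subtype.comp ε.symm.toMonoidHom,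
    (Pr G a b).subtype_injective.comp ε.symm.injective, fun σ => ?_, fun σ hσ => ?_,
    fun u h1 h2 => ⟨π ⟨u, .inr ⟨h1, h2⟩⟩, hx _ h1, congrArg Subtype.val (ε.symm_apply_apply _)⟩⟩
  · have : ε ⟨e.symm σ, .inl (e.symm σ).2⟩ = σ := (p2 _).trans (by rw [e.apply_symm_apply])
    rw [← this]
    exact congrArg Subtype.val (ε.symm_apply_apply _)
  · refine ((ε.symm σ).2.resolve_left fun h => hσ ?_).1
    rw [← ε.apply_symm_apply σ]
    exact (p2 ⟨_, h⟩) ▸ (e _).2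

/-- the facts needed about `Aₙ ≤ Sₙ`. -/
structure Mdl {S : Type*} [Group S] (A : Subgroup S) (t v ρ y : S) (i s : ℕ) : Prop where
  ht : t ≠ 1 ∧ t * t = 1
  tA : t ∈ A
  ρA : ρ ∈ A
  yA : y ∉ A
  r1 : ρ * t * ρ⁻¹ = v
  r2 : ρ * v * ρ⁻¹ = t * v
  cen : ∀ g ∈ A, g * t = t * g → g = 1 ∨ g = t ∨ g = v ∨ g = t * v
  cj : ∀ u ∈ A, u ≠ 1 ∧ u * u = 1 → ∃ g ∈ A, g * t * g⁻¹ = u
  card : Nat.card A = 4 * i
  odd : Odd i
  yy : y * y = t
  yv : y * v * y⁻¹ = t * v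
  cj' : ∀ u ∉ A, u * u = 1 → ∃ g, g * (y * v) * g⁻¹ = u
  card' : {u | u ∉ A ∧ u * u = 1}.ncard = s

theorem setup {S : Type*} [Group S] {A : Subgroup S} [A.Normal] (hA : A.index = 2)
    (hb : Function.Bijective (MulAut.conjNormal : S →* MulAut A)) {t v ρ y : S} {i s : ℕ}
    (m : Mdl A t v ρ y i s) [FaithfulSMul G Ω] (h2 : IsMultiplyPretransitive G Ω 2) {a b : Ω}
    (hab : a ≠ b) (e : St G a b ≃* A) : ∃ t v ρ : G, Hy a b t v ρ i ∧
      ((∃ z : G, CX a b z) ∨ ∃ y, CY a b t v y s) := by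
  have tr := @is_two_pretransitive_iff.1 h2
  let ι : A →* G := (St G a b).subtype.comp e.symm.toMonoidHom
  have hι : Function.Injective ι := (St G a b).subtype_injective.comp e.symm.injective
  have ιK : ∀ x, ι x ∈ St G a b := fun x => (e.symm x).2
  have su : ∀ g ∈ St G a b, ∃ x, ι x = g := fun g hg =>
    ⟨e ⟨g, hg⟩, congrArg Subtype.val (e.symm_apply_apply _)⟩
  have vA : v ∈ A := m.r1 ▸ mul_mem (mul_mem m.ρA m.tA) (inv_mem m.ρA)
  have iv : ∀ {H : Type _} [Group H] {f : H →* G}, Function.Injective f → ∀ x,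
      Invo (f x) ↔ x ≠ 1 ∧ x * x = 1 := fun hf x => by
    rw [Invo, ← map_mul, Ne, map_eq_one_iff _ hf, map_eq_one_iff _ hf]
  refine ⟨ι ⟨t, m.tA⟩, ι ⟨v, vA⟩, ι ⟨ρ, m.ρA⟩, ⟨fun g hg => eq_of_smul_eq_smul (α := Ω) fun x => by
    rw [hg, one_smul], tr, hab, (iv hι _).2 (invo_coe.1 m.ht), ιK _, ιK _, ?_, ?_, fun g hg c => ?_,
    fun u hu h1 => ?_, by rw [Nat.card_congr e.toEquiv, m.card], m.odd⟩, ?_⟩
  · rw [← map_inv, ← map_mul, ← map_mul]; exact congrArg ι (Subtype.ext m.r1)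
  · rw [← map_inv, ← map_mul, ← map_mul, ← map_mul]; exact congrArg ι (Subtype.ext m.r2)
  · obtain ⟨x, rfl⟩ := su g hg
    rw [← map_mul, ← map_mul] at c
    rw [← map_mul, ← map_one ι]
    simp only [hι.eq_iff, Subtype.ext_iff]
    exact m.cen x x.2 (congrArg Subtype.val (hι c))
  · obtain ⟨x, rfl⟩ := su u hu
    obtain ⟨g, hg, e1⟩ := m.cj x x.2 (invo_coe.2 ((iv hι _).1 h1))
    exact ⟨ι ⟨g, hg⟩, ιK _, by rw [← map_inv, ← map_mul, ← map_mul]; exact congrArg ι (Subtype.ext e1)⟩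
  obtain ⟨τ, t1, t2⟩ := tr hab hab.symm
  refine (bridge hA hb hab e t1 t2).imp_right fun ⟨ω, h1, h2, h3, h4⟩ => ?_
  have e1 : ι ⟨t, m.tA⟩ = ω t := (h2 ⟨t, m.tA⟩).symm
  have e2 : ι ⟨v, vA⟩ = ω v := (h2 ⟨v, vA⟩).symm
  refine ⟨ω y, h3 y m.yA, by rw [e1, ← map_mul, m.yy], by
    rw [e1, e2, ← map_inv, ← map_mul, ← map_mul, ← map_mul, m.yv], fun u w hu hw u1 w1 => ?_, ?_⟩
  · obtain ⟨σ, hσ, rfl⟩ := h4 u u1 (hu.smul_eq u1)
    obtain ⟨σ', hσ', rfl⟩ := h4 w w1 (hw.smul_eq w1)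
    obtain ⟨g, rfl⟩ := m.cj' σ hσ ((iv h1 _).1 hu).2
    obtain ⟨g', rfl⟩ := m.cj' σ' hσ' ((iv h1 _).1 hw).2
    exact ⟨ω (g' * g⁻¹), by rw [← map_inv, ← map_mul, ← map_mul]; congr 1; group⟩
  · rw [← m.card', ← Set.ncard_image_of_injective _ h1]
    congr 1
    ext u
    refine ⟨fun ⟨hu, u1⟩ => ?_, ?_⟩
    · obtain ⟨σ, hσ, rfl⟩ := h4 u u1 (hu.smul_eq u1)
      exact ⟨σ, ⟨hσ, ((iv h1 _).1 hu).2⟩, rfl⟩
    · rintro ⟨σ, ⟨hσ, e⟩, rfl⟩
      exact ⟨(iv h1 _).2 ⟨fun e => hσ (e ▸ A.one_mem), e⟩, h3 σ hσ⟩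

theorem mdl4 : Mdl (alternatingGroup (Fin 4)) (swap 0 1 * swap 2 3) (swap 0 2 * swap 1 3)
    (swap 1 3 * swap 1 2) (swap 0 3 * swap 0 1 * swap 0 2) 3 6 := by
  refine ⟨by decide, ?_, ?_, ?_, by decide, by decide, ?_, ?_, ?_, by decide, by decide, by decide,
    ?_, ?_⟩
  any_goals simp only [mem_alternatingGroup]
  any_goals decide +kernel
  · rw [Nat.card_eq_fintype_card]; decide +kernel
  · rw [Set.ncard_eq_toFinset_card', Set.toFinset_ofPred]; decide +kernel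

theorem mdl5 : Mdl (alternatingGroup (Fin 5)) (swap 0 1 * swap 2 3) (swap 0 2 * swap 1 3)
    (swap 1 3 * swap 1 2) (swap 0 3 * swap 0 1 * swap 0 2) 15 10 := by
  refine ⟨by decide, ?_, ?_, ?_, by decide, by decide, ?_, ?_, ?_, by decide, by decide, by decide,
    ?_, ?_⟩
  any_goals simp only [mem_alternatingGroup]
  any_goals decide +kernel
  · rw [Nat.card_eq_fintype_card]; decide +kernel
  · rw [Set.ncard_eq_toFinset_card', Set.toFinset_ofPred]; decide +kernel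

end CL.TwoS
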