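import Mathlib
import Cfsg.Agent.PERM.Sims
import Cfsg.Agent.TECH.S4Recog
import Cfsg.Agent.S0206

/-!
Sims' theorem on primitive groups with a suborbit of length three: commutator analysis.
-/

set_option autoImplicit false

namespace CL.Sims

open Subgroup CL.MSS CL.TW
open scoped commutatorElement

variable {G : Type*} [Group G]

namespace Sys

variable [Finite G] {M : Subgroup G} {τ : G} {n : ℕ} {a : ℤ → G} (h : Sys M τ n a)
include h

omit [Finite G] in
theorem card_I {i j : ℤ} {r : ℕ} (hr : j = i + r - 1) (hn : r ≤ n) : Nat.card (I a i j) = 2 ^ r :=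
  hr ▸ h.card i r hn

theorem relIndex_left {i j : ℤ} (h1 : i ≤ j) (h2 : j < i + n) :
    (I a (i + 1) j).relIndex (I a i j) = 2 := by
  obtain ⟨r, rfl⟩ : ∃ r : ℕ, j = i + r := ⟨(j - i).toNat, by omega⟩
  refine relIndex_eq_of_card (I_mono a (by omega) le_rfl) ?_
  rw [h.card_I (r := r + 1) (by omega) (by omega), h.card_I (r := r) (by omega) (by omega),
    pow_succ']

theorem relIndex_right {i j : ℤ} (h1 : i ≤ j) (h2 : j < i + n) :
    (I a i (j - 1)).relIndex (I a i j) = 2 := by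
  obtain ⟨r, rfl⟩ : ∃ r : ℕ, j = i + r := ⟨(j - i).toNat, by omega⟩
  refine relIndex_eq_of_card (I_mono a le_rfl (by omega)) ?_
  rw [h.card_I (r := r + 1) (by omega) (by omega), h.card_I (r := r) (by omega) (by omega),
    pow_succ']

theorem notMem_left {i j : ℤ} (h1 : i ≤ j) (h2 : j < i + n) : a i ∉ I a (i + 1) j := by
  intro h3
  have h4 := h.relIndex_left h1 h2
  rw [relIndex_eq_one.mpr (I_le fun l h5 h6 => ?_)] at h4
  · omega
  · by_cases hl : l = i
    · exact hl ▸ h3
    · exact mem_I a (by omega) h6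

theorem notMem_right {i j : ℤ} (h1 : i ≤ j) (h2 : j < i + n) : a j ∉ I a i (j - 1) := by
  intro h3
  have h4 := h.relIndex_right h1 h2
  rw [relIndex_eq_one.mpr (I_le fun l h5 h6 => ?_)] at h4
  · omega
  · by_cases hl : l = j
    · exact hl ▸ h3
    · exact mem_I a h5 (by omega)

theorem mem_left {i j : ℤ} (h1 : i ≤ j) (h2 : j < i + n) {x : G} (hx : x ∈ I a i j) :
    x ∈ I a (i + 1) j ∨ a i * x ∈ I a (i + 1) j := by
  rw [mul_mem_iff_of_relIndex_two (h.relIndex_left h1 h2) (mem_I a le_rfl h1) hx]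
  have := h.notMem_left h1 h2
  tauto

theorem mem_right {i j : ℤ} (h1 : i ≤ j) (h2 : j < i + n) {x : G} (hx : x ∈ I a i j) :
    x ∈ I a i (j - 1) ∨ x * a j ∈ I a i (j - 1) := by
  rw [mul_mem_iff_of_relIndex_two (h.relIndex_right h1 h2) hx (mem_I a h1 le_rfl)]
  have := h.notMem_right h1 h2
  tauto

theorem ne_one (i : ℤ) : a i ≠ 1 := fun e =>
  h.notMem_left (i := i) le_rfl (by have := h.pos; omega) (e ▸ one_mem _)

omit [Finite G] in
theorem orderOf_eq (i : ℤ) : orderOf (a i) = 2 := by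
  rw [← Nat.card_zpowers, ← I_self, h.card_I (r := 1) (by omega) h.pos, pow_one]

omit [Finite G] in
theorem mul_self (i : ℤ) : a i * a i = 1 := by
  rw [← sq, ← h.orderOf_eq i, pow_orderOf_eq_one]

omit [Finite G] in
theorem inv_eq (i : ℤ) : (a i)⁻¹ = a i := inv_eq_of_mul_eq_one_right (h.mul_self i)

omit [Finite G] in
theorem mul_self_mul (i : ℤ) (x : G) : a i * (a i * x) = x := by
  rw [← mul_assoc, h.mul_self, one_mul]

theorem eq_of_mem_self {i : ℤ} {x : G} (hx : x ∈ I a i i) : x = 1 ∨ x = a i := by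
  have := h.mem_left le_rfl (by have := h.pos; omega) hx
  rw [I_eq_bot a (by omega), mem_bot, mem_bot] at this
  exact this.imp_right fun e => (eq_inv_of_mul_eq_one_right e).trans (h.inv_eq i)

theorem comm_mem {i j : ℤ} (h1 : i < j) (h2 : j < i + n) : ⁅a i, a j⁆ ∈ I a (i + 1) (j - 1) := by
  rw [← h.inf i j h1 h2.le]
  exact ⟨commutator_le_left_of_normalizes (le_normalizer_of_relIndex_two
      (I_mono a le_rfl (by omega)) (h.relIndex_right h1.le h2))
      (commutator_mem_commutator (mem_I a le_rfl (by omega)) (mem_I a h1.le le_rfl)),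
    commutator_le_right_of_normalizes (le_normalizer_of_relIndex_two
      (I_mono a (by omega) le_rfl) (h.relIndex_left h1.le h2))
      (commutator_mem_commutator (mem_I a le_rfl h1.le) (mem_I a (by omega) le_rfl))⟩

omit [Finite G] in
theorem shift_zpow (i d : ℤ) : a (i + d) = τ ^ d * a i * (τ ^ d)⁻¹ := by
  induction d using Int.induction_on with
  | zero => simp
  | succ d ih => rw [← add_assoc, h.shift, ih, add_comm (d : ℤ), zpow_one_add]; group
  | pred d ih =>
    have := h.shift (i + (-d - 1))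
    rw [show i + (-d - 1) + 1 = i + -d by omega, ih] at this
    rw [show a (i + (-d - 1)) = τ⁻¹ * (τ * a (i + (-d - 1)) * τ⁻¹) * τ by group, ← this]
    group

omit [Finite G] in
theorem commute_shift {i j : ℤ} (hc : Commute (a i) (a j)) {i' j' : ℤ} (e : j' - i' = j - i) :
    Commute (a i') (a j') := by
  obtain ⟨d, rfl⟩ : ∃ d, i' = i + d := ⟨i' - i, by omega⟩
  obtain rfl : j' = j + d := by omega
  rw [h.shift_zpow, h.shift_zpow]
  exact hc.map (MulAut.conj (τ ^ d))

omit [Finite G] in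
theorem normal : M ≤ normalizer (I a 1 (n - 1) : Set G) := h.core ▸ le_normalizer_coreIn _ _

omit [Finite G] in
theorem mem {i : ℤ} (h1 : 0 ≤ i) (h2 : i ≤ n) : a i ∈ M := h.top ▸ mem_I a h1 h2

theorem not_commute : ¬ Commute (a 0) (a n) := by
  intro hc
  have h0 := h.pos
  have h1 : M ≤ normalizer (I a 0 (n - 1) : Set G) := by
    rw [← h.top]
    refine I_le fun l h1 h2 => ?_
    by_cases hl : l = n
    · subst hl
      apply mem_normalizer_of_cj_le
      rw [cj_le_iff]
      refine I_le fun k h3 h4 => ?_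
      rw [mem_cj, inv_inv]
      by_cases hk : k = 0
      · rw [hk, ← hc.eq, mul_inv_cancel_right]
        exact mem_I a le_rfl (by omega)
      · exact I_mono a zero_le_one le_rfl
          (conj_mem_of_normalizes h.normal (h.mem h1 h2) (mem_I a (by omega) h4))
    · exact le_normalizer (mem_I a h1 (by omega))
  have h2 := le_coreIn le_rfl h1
  rw [h.core] at h2
  exact h.notMem_left (i := 0) (j := n - 1) (by omega) (by omega) (h2 (mem_I a le_rfl (by omega)))

omit [Finite G] in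
theorem centralizer_le {x : G} (h1 : x ≠ 1) (hx : x ∈ M)
    (hc : ∀ l : ℤ, 0 ≤ l → l ≤ n → Commute (a l) x) : centralizer {x} ≤ M := by
  have h2 : centralizer {x} ≤ normalizer (zpowers x : Set G) := by
    refine le_trans ?_ (centralizer_le_normalizer _)
    rw [zpowers_eq_closure, centralizer_closure]
  refine h2.trans (h.prim _ (mt zpowers_eq_bot.mp h1) (zpowers_le_of_mem hx) (le_trans ?_ h2))
  rw [← h.top]
  exact I_le fun l h3 h4 => mem_centralizer_singleton_iff.mpr (hc l h3 h4)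

theorem exists_k : ∃ k : ℕ, 0 < k ∧ k ≤ n ∧ 2 * k ≤ n + 2 ∧
    (∀ i j : ℤ, i < j + k → j < i + k → Commute (a i) (a j)) ∧
    ∀ i j : ℤ, j = i + k → ¬ Commute (a i) (a j) := by
  classical
  have hex : ∃ k : ℕ, ¬ Commute (a 0) (a k) := ⟨n, h.not_commute⟩
  obtain ⟨k, hk, hkn, hlt⟩ : ∃ k : ℕ, ¬ Commute (a 0) (a k) ∧ k ≤ n ∧
      ∀ j < k, Commute (a 0) (a (j : ℕ)) :=
    ⟨Nat.find hex, Nat.find_spec hex, Nat.find_min' hex h.not_commute,
      fun j hj => not_not.mp (Nat.find_min hex hj)⟩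
  have hk0 : 0 < k := Nat.pos_of_ne_zero (by rintro rfl; exact hk (Commute.refl _))
  have hc : ∀ i j : ℤ, i < j + k → j < i + k → Commute (a i) (a j) := by
    intro i j h1 h2
    rcases le_total i j with h3 | h3
    · exact h.commute_shift (hlt (j - i).toNat (by omega)) (by omega)
    · exact (h.commute_shift (hlt (i - j).toNat (by omega)) (by omega)).symm
  refine ⟨k, hk0, hkn, ?_, hc, fun i j e h1 => hk (h.commute_shift h1 (by omega))⟩
  by_contra hcon
  have h1 := h.centralizer_le (h.ne_one (k - 1)) (h.mem (by omega) (by omega))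
    fun l h2 h3 => hc _ _ (by omega) (by omega)
  have h2 : τ •ᶜ M ≤ M := by
    rw [cj_le_iff]
    conv_lhs => rw [← h.top]
    refine I_le fun l h2 h3 => ?_
    rw [mem_cj, inv_inv, ← h.shift]
    exact h1 (mem_centralizer_singleton_iff.mpr (hc _ _ (by omega) (by omega)))
  exact h.notMem (h.prim M (fun e => h.ne_one 0 (mem_bot.mp (e ▸ h.mem le_rfl (by omega)))) le_rfl
    le_normalizer (mem_normalizer_of_cj_le h2))

theorem comm_mem_of_k {k : ℕ} (hk0 : 0 < k) (hkn : k < n)
    (hc : ∀ i j : ℤ, i < j + k → j < i + k → Commute (a i) (a j))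
    (hnc : ∀ i j : ℤ, j = i + k → ¬ Commute (a i) (a j)) :
    ⁅a 0, a k⁆ ∈ I a (n - k) (2 * k - n) := by
  have hL : ∀ μ : ℕ, 1 ≤ μ → μ + k ≤ n → ⁅a 0, a k⁆ ∈ I a μ (k - 1) := by
    intro μ h1
    induction μ, h1 using Nat.le_induction with
    | base => exact fun _ => by simpa using h.comm_mem (i := 0) (j := k) (by omega) (by omega)
    | succ μ h1 ih =>
      intro h2
      replace ih := ih (by omega)
      by_cases hμ : k ≤ μ
      · rw [I_eq_bot a (by omega)] at ih ⊢
        exact ih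
      refine (h.mem_left (by omega) (by omega) ih).resolve_right fun h3 => hnc μ (μ + k) rfl ?_
      have hw := h.comm_mem (i := 0) (j := μ + k) (by omega) (by omega)
      have e1 : Commute ⁅a 0, a (μ + k)⁆ (a k) :=
        commute_of_mem_I (fun l _ _ => hc _ _ (by omega) (by omega)) hw
      have e2 : Commute ⁅a 0, a (μ + k)⁆ ⁅a 0, a k⁆ := commute_of_mem_I (fun l _ _ =>
        (commute_of_mem_I (fun l' _ _ => hc _ _ (by omega) (by omega)) ih).symm) hw
      have e3 : Commute (a k) (a (μ + k)) := hc _ _ (by omega) (by omega)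
      have e4 : Commute ⁅a 0, a k⁆ (a (μ + k)) := by
        generalize a (μ + k) = y at *
        have : y * ⁅a 0, a k⁆ * y⁻¹ = ⁅a 0, a k⁆ := by
          calc y * ⁅a 0, a k⁆ * y⁻¹ = ⁅a 0, y⁆⁻¹ * (a 0 * (y * a k * y⁻¹) * (a 0)⁻¹) *
                (⁅a 0, y⁆ * (y * a k * y⁻¹)⁻¹) := by simp only [commutatorElement_def]; group
            _ = ⁅a 0, y⁆⁻¹ * (⁅a 0, a k⁆ * ⁅a 0, y⁆) := by
                rw [← e3.eq, mul_inv_cancel_right, e1.inv_right.eq, commutatorElement_def (a 0) (a k)]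
                group
            _ = _ := by rw [← e2.eq, inv_mul_cancel_left]
        exact (mul_inv_eq_iff_eq_mul.mp this).symm
      have e5 : Commute (a μ * ⁅a 0, a k⁆) (a (μ + k)) :=
        commute_of_mem_I (fun l _ _ => hc _ _ (by omega) (by omega)) h3
      simpa only [mul_inv_cancel_right] using e5.mul_left e4.inv_left
  have hR : ∀ d : ℕ, d + k < n → ⁅a 0, a k⁆ ∈ I a (n - k) (k - 1 - d) := by
    intro d
    induction d with
    | zero =>
      intro _
      convert hL (n - k) (by omega) (by omega) using 2 <;> omega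
    | succ d ih =>
      intro h2
      replace ih := ih (by omega)
      obtain ⟨ν, hν⟩ : ∃ ν : ℤ, ν = k - 1 - d := ⟨_, rfl⟩
      rw [← hν] at ih
      rw [show (k : ℤ) - 1 - (d + 1 : ℕ) = ν - 1 by omega]
      by_cases hμ : ν < n - k
      · rw [I_eq_bot a (by omega)] at ih ⊢
        exact ih
      refine (h.mem_right (by omega) (by omega) ih).resolve_right fun h3 =>
        hnc (ν - k) ν (by omega) ?_
      have hw := h.comm_mem (i := ν - k) (j := k) (by omega) (by omega)
      have e1 : Commute ⁅a (ν - k), a k⁆ (a 0) :=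
        commute_of_mem_I (fun l _ _ => hc _ _ (by omega) (by omega)) hw
      have e2 : Commute ⁅a (ν - k), a k⁆ ⁅a 0, a k⁆ := commute_of_mem_I (fun l _ _ =>
        (commute_of_mem_I (fun l' _ _ => hc _ _ (by omega) (by omega)) ih).symm) hw
      have e3 : Commute (a 0) (a (ν - k)) := hc _ _ (by omega) (by omega)
      have e4 : Commute ⁅a 0, a k⁆ (a (ν - k)) := by
        generalize a (ν - k) = y at *
        have : y * ⁅a 0, a k⁆ * y⁻¹ = ⁅a 0, a k⁆ := by
          calc y * ⁅a 0, a k⁆ * y⁻¹ = ((y * a 0 * y⁻¹) * ⁅y, a k⁆) * a k * (y * a 0 * y⁻¹)⁻¹ *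
                (a k)⁻¹ * ⁅y, a k⁆⁻¹ := by simp only [commutatorElement_def]; group
            _ = ⁅y, a k⁆ * ⁅a 0, a k⁆ * ⁅y, a k⁆⁻¹ := by
                rw [← e3.eq, mul_inv_cancel_right, ← e1.eq, commutatorElement_def (a 0) (a k)]
                group
            _ = _ := by rw [e2.eq, mul_inv_cancel_right]
        exact (mul_inv_eq_iff_eq_mul.mp this).symm
      have e5 : Commute (⁅a 0, a k⁆ * a ν) (a (ν - k)) :=
        commute_of_mem_I (fun l _ _ => hc _ _ (by omega) (by omega)) h3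
      simpa only [inv_mul_cancel_left] using (e4.inv_left.mul_left e5).symm
  convert hR (n - k - 1) (by omega) using 2
  omega

omit [Finite G] in
theorem mul_self_of_mem {i j : ℤ}
    (hc : ∀ l l', i ≤ l → l ≤ j → i ≤ l' → l' ≤ j → Commute (a l) (a l')) {z : G}
    (hz : z ∈ I a i j) : z * z = 1 := by
  refine closure_induction (p := fun x _ => x * x = 1) ?_ (mul_one _) ?_ ?_ hz
  · rintro _ ⟨l, -, rfl⟩
    exact h.mul_self l
  · intro x y hx hy h8 h9
    have : Commute x y := commute_of_mem_I (fun l h1 h2 =>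
      (commute_of_mem_I (fun l' h3 h4 => hc _ _ h3 h4 h1 h2) hy).symm) hx
    rw [this.symm.mul_mul_mul_comm, h8, h9, mul_one]
  · intro x _ h8
    rw [← mul_inv_rev, h8, inv_one]

theorem ne_six : n ≠ 6 := by
  rintro rfl
  obtain ⟨k, hk0, hkn, hk2, hc, hnc⟩ := h.exists_k
  have h1 := h.comm_mem_of_k hk0 (by omega) hc hnc
  have h2 : ⁅a 0, a k⁆ ≠ 1 := fun e => hnc 0 k (by omega) (commutatorElement_eq_one_iff_commute.mp e)
  obtain rfl : k = 4 := by
    by_contra hk
    rw [I_eq_bot a (by omega)] at h1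
    exact h2 h1
  have e04 : ⁅a 0, a 4⁆ = a 2 := (h.eq_of_mem_self h1).resolve_left h2
  have e26 : ⁅a 2, a 6⁆ = a 4 := by
    have := congrArg (fun x => τ ^ (2 : ℤ) * x * (τ ^ (2 : ℤ))⁻¹) e04
    simp only [conjugate_commutatorElement, ← h.shift_zpow] at this
    exact this
  have s1 : τ⁻¹ * a 2 * τ = a 1 := by rw [show a 2 = _ from h.shift 1]; group
  have s2 : τ⁻¹ * a 3 * τ = a 2 := by rw [show a 3 = _ from h.shift 2]; group
  have s3 : τ⁻¹ * a 4 * τ = a 3 := by rw [show a 4 = _ from h.shift 3]; group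
  have c : ∀ i j : ℤ, i < j + 4 → j < i + 4 → a i * a j = a j * a i := hc
  have f1 : a 6 * a 2 * a 6 = a 2 * a 4 := by
    rw [← e26, commutatorElement_def, h.inv_eq, h.inv_eq, mul_assoc (a 2), mul_assoc (a 2),
      h.mul_self_mul]
  have f2 : a 0 * a 4 * a 0 = a 2 * a 4 := by
    rw [← e04, commutatorElement_def, h.inv_eq, h.inv_eq, mul_assoc _ (a 4) (a 4), h.mul_self,
      mul_one]
  set m := a 0 * a 6 with hm
  have hmi : m⁻¹ = a 6 * a 0 := by rw [hm, mul_inv_rev, h.inv_eq, h.inv_eq]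
  have g3 : m * a 3 * m⁻¹ = a 3 := by
    rw [mul_inv_eq_iff_eq_mul]
    exact (hc 0 3 (by omega) (by omega)).mul_left (hc 6 3 (by omega) (by omega))
  have g2 : m * a 2 * m⁻¹ = a 4 := by
    calc m * a 2 * m⁻¹ = a 0 * (a 6 * a 2 * a 6) * a 0 := by rw [hmi, hm]; group
      _ = a 2 * (a 0 * a 4 * a 0) := by rw [f1, ← mul_assoc, c 0 2 (by omega) (by omega)]; group
      _ = a 4 := by rw [f2, h.mul_self_mul]
  have g2' : m⁻¹ * a 2 * m = a 2 * a 4 := by
    calc m⁻¹ * a 2 * m = a 6 * (a 0 * a 2 * a 0) * a 6 := by rw [hmi, hm]; group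
      _ = _ := by rw [c 0 2 (by omega) (by omega), mul_assoc (a 2), h.mul_self, mul_one, f1]
  set g := τ⁻¹ * m with hg
  have hgg : g * g ∈ M := by
    refine h.centralizer_le (h.ne_one 3) (h.mem (by omega) (by omega))
      (fun l h3 h4 => hc _ _ (by omega) (by omega)) (mem_centralizer_singleton_iff.mpr ?_)
    rw [← mul_inv_eq_iff_eq_mul]
    calc g * g * a 3 * (g * g)⁻¹ = τ⁻¹ * (m * (τ⁻¹ * (m * a 3 * m⁻¹) * τ) * m⁻¹) * τ := by
          rw [hg]; group
      _ = a 3 := by rw [g3, s2, g2, s3]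
  have h3 : Commute (a 2 * a 4) ((g * g)⁻¹ * a 4 * (g * g)) :=
    (commute_of_mem_I (fun l h3 h4 => (hc l 2 (by omega) (by omega)).mul_right
      (hc l 4 (by omega) (by omega)))
      (conj_mem_of_normalizes' h.normal hgg (mem_I a (by omega) (by omega)))).symm
  have h4 : Commute (a 6 * a 1 * a 6) (a 0 * a 5 * a 0) := by
    have h5 := h3.map (MulAut.conj (a 0 * τ * (g * g)))
    rw [MulAut.conj_apply, MulAut.conj_apply] at h5
    convert h5 using 1
    · rw [← g2', ← s1, hg, hm, ← h.inv_eq 6]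
      nth_rw 1 [h.inv_eq 6]
      simp only [mul_inv_rev, h.inv_eq, inv_inv, mul_assoc, h.mul_self_mul, mul_inv_cancel_left]
    · rw [show a 5 = _ from h.shift 4]
      nth_rw 2 [← h.inv_eq 0]
      group
  have h5 := h.comm_mem (i := 0) (j := 5) (by omega) (by omega)
  have h6 : a 0 * a 5 * a 0 = ⁅a 0, a 5⁆ * a 5 := by
    rw [commutatorElement_def, h.inv_eq, h.inv_eq, mul_assoc _ (a 5) (a 5), h.mul_self, mul_one]
  apply hnc 1 5 (by omega)
  rcases h.mem_left (by omega) (by omega) h5 with h7 | h7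
  · have h8 : Commute ⁅a 0, a 5⁆ (a 6 * a 1 * a 6) := by
      have := conj_mem_of_normalizes h.normal (h.mem (i := 6) (by omega) (by omega))
        (mem_I a (l := 1) (by omega) (by omega))
      rw [h.inv_eq] at this
      exact commute_of_mem_I (fun l h3 h4 =>
        (commute_of_mem_I (fun l' _ _ => hc _ _ (by omega) (by omega)) this).symm) h7
    rw [h6] at h4
    have h9 : Commute (a 6 * a 1 * a 6) (a 5) := by
      simpa only [inv_mul_cancel_left] using h8.symm.inv_right.mul_right h4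
    have h10 := hc 6 5 (by omega) (by omega)
    simpa [mul_assoc, h.mul_self_mul, h.mul_self] using (h10.mul_left h9).mul_left h10
  · set z := a (0 + 1) * ⁅a 0, a 5⁆ with hz
    have z1 : Commute z (a 1) := commute_of_mem_I (fun l _ _ => hc _ _ (by omega) (by omega)) h7
    have z5 : Commute z (a 5) := commute_of_mem_I (fun l _ _ => hc _ _ (by omega) (by omega)) h7
    have zz : z * z = 1 :=
      h.mul_self_of_mem (fun l l' _ _ _ _ => hc _ _ (by omega) (by omega)) h7
    have h8 : a 0 * a 5 * a 0 = a 1 * a 5 * z := by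
      rw [h6, mul_assoc, ← z5.eq, hz, mul_assoc, zero_add, h.mul_self_mul]
    have h9 : a 1 * a 5 * z * (a 1 * a 5 * z) = 1 := by
      rw [← h8]
      simp only [mul_assoc, h.mul_self_mul, h.mul_self]
    rw [(z1.mul_right z5).mul_mul_mul_comm, zz, mul_one] at h9
    rw [← commutatorElement_eq_one_iff_commute, commutatorElement_def, h.inv_eq, h.inv_eq, ← h9,
      mul_assoc]

theorem le_four : n ≤ 4 := by
  obtain ⟨k, hk0, hkn, hk2, hc, hnc⟩ := h.exists_k
  have h6 := h.ne_six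
  by_contra hn
  have h1 := h.comm_mem_of_k hk0 (by omega) hc hnc
  rw [I_eq_bot a (by omega), mem_bot, commutatorElement_eq_one_iff_commute] at h1
  exact hnc 0 k (by omega) h1

omit [Finite G] in
theorem card_eq : Nat.card M = 2 ^ n * 3 := by
  rw [← card_mul_relIndex_of_le (h.top ▸ I_mono a le_rfl (by omega) : I a 0 (n - 1) ≤ M), h.index,
    h.card_I (r := n) (by omega) le_rfl]

theorem exists_hom : ∃ f : M →* Equiv.Perm (Fin 3), Function.Surjective f ∧
    ∀ x, f x = 1 ↔ x ∈ (I a 1 (n - 1)).subgroupOf M := by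
  let φ := MulAction.toPermHom M (M ⧸ (I a 0 (n - 1)).subgroupOf M)
  have hq : Nat.card (M ⧸ (I a 0 (n - 1)).subgroupOf M) = 3 := h.index
  have hk : φ.ker = (I a 1 (n - 1)).subgroupOf M := by
    rw [← normalCore_eq_ker, ← coreIn_subgroupOf, h.core]
  refine ⟨(Finite.equivFinOfCardEq hq).permCongrHom.toMonoidHom.comp φ,
    (Finite.equivFinOfCardEq hq).permCongrHom.surjective.comp ?_, fun x => ?_⟩
  · rw [← MonoidHom.range_eq_top]
    apply eq_top_of_card_eq
    have h0 := h.pos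
    rw [← index_ker, hk, Nat.card_perm, hq]
    refine relIndex_eq_of_card (h.top ▸ I_mono a zero_le_one (by omega)) ?_
    rw [h.card_eq, h.card_I (r := n - 1) (by omega) (by omega), ← Nat.sub_add_cancel h0, pow_succ,
      Nat.add_sub_cancel, show Nat.factorial 3 = 2 * 3 from rfl]
    ring
  · rw [← hk, MonoidHom.mem_ker]
    exact (Finite.equivFinOfCardEq hq).permCongrHom.map_eq_one_iff

theorem centralizer_core_le {k : ℕ} (hk0 : 1 < k) (hkn : n = k + 1)
    (hc : ∀ i j : ℤ, i < j + k → j < i + k → Commute (a i) (a j))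
    (hnc : ∀ i j : ℤ, j = i + k → ¬ Commute (a i) (a j)) :
    centralizer ((I a 1 (n - 1)).subgroupOf M : Set M) ≤ (I a 1 (n - 1)).subgroupOf M := by
  intro x hx
  have key : ∀ i j l : ℤ, 0 ≤ i → j ≤ n → j = i + n - 1 → 1 ≤ l → l ≤ n - 1 →
      (∀ l', i ≤ l' → l' ≤ j → Commute (a l') (a l)) → ¬ M ≤ centralizer {a l} →
      (x : G) ∈ I a i j := by
    intro i j l h1 h2 h3 h4 h5 h6 h7
    by_contra h8
    have h9 : I a i j ≤ M := h.top ▸ I_mono a h1 h2
    apply h7
    rw [← sup_eq_of_relIndex_prime h9 (zpowers_le_of_mem x.2) (by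
      rw [relIndex_eq_of_card h9 (k := 3) (by rw [h.card_eq, h.card_I h3 le_rfl, mul_comm])]
      exact Nat.prime_three) (mt zpowers_le.mp h8)]
    refine sup_le (I_le fun l' h10 h11 => mem_centralizer_singleton_iff.mpr (h6 l' h10 h11))
      (zpowers_le_of_mem (mem_centralizer_singleton_iff.mpr ?_))
    exact (congrArg Subtype.val (hx ⟨a l, h.mem (by omega) (by omega)⟩ (mem_I a h4 h5))).symm
  rw [mem_subgroupOf, ← show _ = I a 1 (n - 1) from h.inf 0 n (by omega) (by omega)]
  exact ⟨key 0 _ 1 le_rfl (by omega) (by omega) le_rfl (by omega)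
      (fun l' _ _ => hc _ _ (by omega) (by omega)) fun h1 => hnc 1 n (by omega)
        (mem_centralizer_singleton_iff.mp (h1 (h.mem (by omega) le_rfl))).symm,
    key _ _ k (by omega) le_rfl (by omega) (by omega) (by omega)
      (fun l' _ _ => hc _ _ (by omega) (by omega)) fun h1 => hnc 0 k (by omega)
        (mem_centralizer_singleton_iff.mp (h1 (h.mem le_rfl (by omega))))⟩

omit h in
theorem dihedral (h : Sys M τ 2 a) : Nonempty (M ≃* DihedralGroup 6) := by
  obtain ⟨k, hk0, hkn, hk2, hc, hnc⟩ := h.exists_k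
  obtain rfl : k = 2 := by
    by_contra hk
    have h1 := h.comm_mem_of_k hk0 (by omega) hc hnc
    rw [I_eq_bot a (by omega), mem_bot, commutatorElement_eq_one_iff_commute] at h1
    exact hnc 0 k (by omega) h1
  have c01 := hc 0 1 (by omega) (by omega)
  have c21 := hc 2 1 (by omega) (by omega)
  have key : ∀ b : G, b ∈ M → ¬ Commute (a 0) b → b * b = 1 →
      (orderOf (a 0 * b) = 3 ∧ closure {a 0, b} ≠ M) ∨ Nonempty (M ≃* DihedralGroup 6) := by
    intro b hb h1 h2
    obtain ⟨e⟩ := Cfsg.Agent.S0206.result (a 0) b (h.orderOf_eq 0)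
      (orderOf_eq_prime (by rw [sq, h2]) (by rintro rfl; exact h1 (Commute.one_right _)))
      (by rintro rfl; exact h1 (Commute.refl _))
    have h3 := (Nat.card_congr e.toEquiv).trans DihedralGroup.nat_card
    have h4 : closure {a 0, b} ≤ M := by
      rw [closure_le, Set.pair_subset_iff]
      exact ⟨h.mem le_rfl (by omega), hb⟩
    by_cases h5 : closure {a 0, b} = M
    · rw [h5, h.card_eq] at h3
      rw [show orderOf (a 0 * b) = 6 by omega, h5] at e
      exact Or.inr ⟨e⟩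
    refine Or.inl ⟨?_, h5⟩
    have h6 := card_dvd_of_le h4
    have h7 : Nat.card (closure {a 0, b}) ≠ Nat.card M := fun e => h5 (eq_of_le_of_card_ge h4 e.ge)
    rw [h3, h.card_eq] at h6 h7
    have h8 : ¬ orderOf (a 0 * b) ∣ 2 := by
      rw [orderOf_dvd_iff_pow_eq_one, sq]
      intro h8
      apply h1
      rwa [← commutatorElement_eq_one_iff_commute, commutatorElement_def, h.inv_eq,
        inv_eq_of_mul_eq_one_right h2, mul_assoc]
    have h9 := Nat.le_of_dvd (by norm_num) h6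
    have h10 : orderOf (a 0 * b) ≤ 6 := by omega
    interval_cases orderOf (a 0 * b) <;> omega
  have hn := hnc 0 2 (by omega)
  refine (key (a 2) (h.mem (by omega) le_rfl) hn (h.mul_self 2)).elim (fun h1 => ?_) id
  refine (key (a 2 * a 1) (mul_mem (h.mem (by omega) le_rfl) (h.mem (by omega) (by omega)))
    (fun h2 => hn (by simpa using h2.mul_right c01.inv_right))
    (by rw [c21.symm.mul_mul_mul_comm, h.mul_self, h.mul_self, mul_one])).elim (fun h2 => ?_) id
  have h3 := pow_orderOf_eq_one (a 0 * (a 2 * a 1))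
  rw [h2.1, ← mul_assoc, (c01.mul_left c21).mul_pow, ← h1.1, pow_orderOf_eq_one, one_mul, h1.1,
    pow_succ, sq, h.mul_self, one_mul] at h3
  exact (h.ne_one 1 h3).elim

theorem structure_thm : Nonempty (M ≃* Equiv.Perm (Fin 3)) ∨ Nonempty (M ≃* DihedralGroup 6) ∨
    Nonempty (M ≃* Equiv.Perm (Fin 4)) ∨
    Nonempty (M ≃* Equiv.Perm (Fin 4) × Multiplicative (ZMod 2)) := by
  obtain ⟨f, hf, hk⟩ := h.exists_hom
  have h0 := h.pos
  have h4 := h.le_four
  by_cases h1 : n = 1
  · subst h1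
    refine Or.inl ⟨MulEquiv.ofBijective f ⟨(injective_iff_map_eq_one f).mpr fun x hx => ?_, hf⟩⟩
    rw [hk, I_eq_bot a (by omega)] at hx
    exact Subtype.ext hx
  by_cases h2 : n = 2
  · subst h2
    exact Or.inr (Or.inl h.dihedral)
  obtain ⟨k, hk0, hkn, hk2, hc, hnc⟩ := h.exists_k
  have hk1 : n = k + 1 := by
    by_contra hk
    have h1 := h.comm_mem_of_k hk0 (by omega) hc hnc
    rw [I_eq_bot a (by omega), mem_bot, commutatorElement_eq_one_iff_commute] at h1
    exact hnc 0 k (by omega) h1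
  have := normal_subgroupOf_of_le_normalizer h.normal
  have hC := h.centralizer_core_le (by omega) hk1 hc hnc
  have hQ : ∀ x ∈ (I a 1 (n - 1)).subgroupOf M, x ^ 2 = 1 := fun x hx => Subtype.ext (by
    rw [sq]
    exact h.mul_self_of_mem (fun l l' _ _ _ _ => hc _ _ (by omega) (by omega)) hx)
  have hcard : Nat.card ((I a 1 (n - 1)).subgroupOf M) = 2 ^ k := by
    rw [Nat.card_congr (subgroupOfEquivOfLe (h.top ▸ I_mono a zero_le_one (by omega))).toEquiv,
      h.card_I (r := k) (by omega) (by omega)]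
  by_cases h3 : n = 3
  · obtain rfl : k = 2 := by omega
    exact Or.inr (Or.inr (Or.inl (Amalg.iso_perm_four hC f hf hk hQ hcard)))
  · obtain rfl : k = 3 := by omega
    obtain ⟨e⟩ := Amalg.iso_two_prod_perm_four hC f hf hk hQ hcard
      (t := ⟨a 0, h.mem le_rfl (by omega)⟩) (Subtype.ext (by rw [sq]; exact h.mul_self 0))
      (h.notMem_left (i := 0) (by omega) (by omega))
    exact Or.inr (Or.inr (Or.inr ⟨e.trans MulEquiv.prodComm⟩))

end Sys

theorem exists_sys_of_pair [Finite G] {M₁ M₂ : Subgroup G} (h : Pair M₁ M₂)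
    (h3 : M₂.relIndex M₁ = 3) : Nat.card M₁ = 3 ∨ ∃ τ n a, Sys M₁ τ n a := by
  have h3' : (M₁ ⊓ M₂).relIndex M₁ = 3 := by rwa [inf_relIndex_left]
  have h3'' : (M₁ ⊓ M₂).relIndex M₂ = 3 := relIndex_eq_of_card inf_le_right (by
    rw [← h.card_eq, ← card_mul_relIndex_of_le (inf_le_left : M₁ ⊓ M₂ ≤ M₁), h3', mul_comm])
  have key : ∀ M : Subgroup G, M₁ ⊓ M₂ ≤ M → (M₁ ⊓ M₂).relIndex M = 3 →
      oU[2] (M₁ ⊓ M₂) ≤ M ∧ M ≤ normalizer ((oU[2] (M₁ ⊓ M₂) : Subgroup G) : Set G) := by
    intro M hM h4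
    refine ⟨(oU_le _).trans hM, ?_⟩
    rw [← oU_eq_of_le (K := coreIn M (M₁ ⊓ M₂)) (oU_le_of_pow fun x hx => ⟨1, ?_⟩) (coreIn_le _ _)]
    · exact le_normalizer_oU (le_normalizer_coreIn _ _)
    · obtain ⟨c, hc⟩ := relIndex_coreIn_dvd' hM
      have := normal_subgroupOf_of_le_normalizer (hM.trans (le_normalizer_coreIn M (M₁ ⊓ M₂)))
      rw [h4] at hc
      rw [show 2 ^ 1 = _ from hc, pow_mul]
      exact pow_mem (pow_index_mem ((coreIn M (M₁ ⊓ M₂)).subgroupOf (M₁ ⊓ M₂)) ⟨x, hx⟩) c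
  have hp : IsPGroup 2 (M₁ ⊓ M₂ : Subgroup G) := oU_eq_bot_iff.mp
    (h.eq_bot (key M₁ inf_le_left h3').1 (key M₁ inf_le_left h3').2 (key M₂ inf_le_right h3'').2)
  obtain ⟨g, hg, hgT⟩ : ∃ g : G, g •ᶜ M₁ = M₂ ∧ g •ᶜ (M₁ ⊓ M₂) = M₁ ⊓ M₂ := by
    obtain ⟨g, hg⟩ := h.conj
    have h1 := (sylIn_of_not_dvd_relIndex hp inf_le_left (by rw [h3']; decide)).cj g
    rw [← hg] at h1
    obtain ⟨u, hu, hu'⟩ := h1.exists_conj
      (sylIn_of_not_dvd_relIndex hp inf_le_right (by rw [h3'']; decide))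
    exact ⟨u * g, by rw [cj_mul, ← hg, cj_eq_of_mem hu], by rw [cj_mul]; exact hu'⟩
  by_cases hn : M₁ ≤ normalizer ((M₁ ⊓ M₂ : Subgroup G) : Set G)
  · left
    have h1 := cj_mono g hn
    rw [cj_normalizer, hg, hgT] at h1
    rw [← card_mul_relIndex_of_le (inf_le_left : M₁ ⊓ M₂ ≤ M₁), h3', h.eq_bot inf_le_left hn h1,
      card_bot]
  · right
    obtain ⟨m, hm, hm'⟩ := SetLike.not_le_iff_exists.mp hn
    have h1 : (m * g⁻¹) •ᶜ (M₁ ⊓ M₂) = m •ᶜ (M₁ ⊓ M₂) := by
      rw [cj_mul, ← cj_eq_iff.mp hgT]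
    obtain ⟨n, a, h2, -⟩ := exists_sys (τ := m * g⁻¹) h.n₁ (fun h2 => h.ne (by
      rw [← hg, cj_eq_of_mem ((mul_mem_cancel_left hm).trans inv_mem_iff |>.mp h2)]))
      inf_le_left h3' hm h1 (fun e => hm' (mem_normalizer_iff_cj.mpr (h1.symm.trans e)))
    exact ⟨_, n, a, h2⟩

end CL.Sims
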