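/- Presentations of PSp(4,3), its automorphism group and Sp(6,2) (generated). -/
import Cfsg.Agent.PERM.T43P
set_option autoImplicit false
set_option maxRecDepth 100000

namespace CL.T42.Q.EH
open CL.CE CL.K

noncomputable def tT0 : ℕ := nat_lit 0xeeafe05fad1f625e59fcc6ba48f513e721d057b7076a7e247c6977cd6f24dd37c947692eccfdc3fb6878527024e3cdb093b33ea23d331af4f427ed66d145a45f5916aa3d8cb9e8f7b3659aca3b9d4330fe6e2c947913f8737066cfc9c59b532f5e7c3338f57150e317c29f9393110eae5ba1d7336f08de99c0bd7e4b3525f1fc1afa3975b2dda1b19b643ad0c5990b5396d52e2be2e3dbcd6f7f131dde2b0ad5e5ab2e56dea7bf4e32ae95550a9a95147b93d760a6354a6a84dd11da0995082fb16664b743b99a8e7d19f9d373c76b904d1c9fa5808a5cecb4c992d306270c4d9c9ebd28728afc89b95a195923a64bde8f33206a4cdc91b94bb0b6e6af56a083a96b8604b41598036ff3212ccdde85393b7a46ed0df7ea3bb99f4c461a7c9901724eec95da4bf4b7f2f26fe6e6cf1a3e32dc5d890bb1465ec63dda7596ea2af713b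d17a2b878e08e3c568ab51f7610e3b587014e12dc685a617327a7962cd3edb98bce85a72f3b99efcfde9db29b6d56bacd6271b1dc21d2cb8289bcbb757afc160819e934546712d85de4cc0dc73b13379a8b34d687a51351b8bb1d3c746f36586a3089e8cec54196a3253892b104da4b2dd2b64306716c4b1155da3548198aae5288a90c4990ab697d74ae563ab3af9158a4b025669329586a70e5570a3416bfc53e795a856205612b24d689ae945390a61de0cde62e44cfc6d7a9f4e7a940bc518082a50510ea322cf0b918ce492a76ad02b92632bcf9d7e8aa914d8c9c19407a7cf8db5ca9f6536825c849848e90fa78fb2c37589106a1c6491694211c5a40845108c2d306a58db9456284f23224e3e147a1d083a08a40147e1d32725ce390a7314ee61d8ca6c1407e58f471d7f38f86dead1d4c7130ec64ca5190535909338d2423ce469c6720de51b4a74b2df60b82998b2e8e7d3506698472f8e8134e059b8b2a045508b2496096aaecd5982aad5457a6ab48b4495c95220a8449a393024a9c6c2d2271a8b34168b38a2393c752a2a14094113883d9a5e28c45214d3f9a6028a4414084e9e9a3d0c71e0d200442149028f821e0a3b088a191063a187130c6596ca218c38086c111c619043d186620e4517862e0c4e2098416062404521888110061f046828a041688301032186830e022b102e08a840b0221108c307432b12532496412471b8a41187e30d451d0c3114260850206000d00220840112881b0c46206030f08150c24103c107020b041400240040007000a00180020003000400040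
noncomputable def tJ0 : ℕ := nat_lit 0x5135178466373464413152451313511143661518814121111111b128115121771853111412529111111113463197741911351111613734141931524518131111436611111141211141111122111176111c1119182117115311741251117111112146311414a912351111313711144b3112456713a2118116131125112181121114211111211122711114121154111171121210000012112173699523001165a538111212000000021121716115230011611531111212000000b211211111112300111111111110008612218a10001116115c21181642211a41811221111b10002116001812121311000210191ab1179d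
noncomputable def tD0 : ℕ := nat_lit 0x9cf0698f0594f0490f038cf0288d0b84d0a80c077cc0678c0574c0470c036cc0268c0164a0b60a0a5c9075890654905509044c903489024470b4070a3c60a38609346083050a2c509285082420a202091c2081820314202101030c102081010400a00000
noncomputable def tT : Tr := (.leaf tT0)
noncomputable def tJ : Tr := (.leaf tJ0)
noncomputable def tD : Tr := (.leaf tD0)

def rels : List (List ℕ) := [[0,0],
  [1,1],
  [2,3],
  [3,2],
  [4,5],
  [5,4],
  [6,7],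
  [7,6],
  [8,9],
  [9,8],
  [10,11],
  [11,10],
  [2,2,2],
  [4,4,4],
  [6,6,6],
  [3,5,2,4],
  [3,7,2,6],
  [5,7,4,6],
  [8,8,8],
  [8,6,9,3],
  [8,2,9,5],
  [8,4,9,7],
  [0,2,0,5],
  [0,6,0,7],
  [0,8,0,8],
  [1,2,1,2],
  [1,4,1,4],
  [1,6,1,7],
  [0,1,0,1],
  [1,8,1,8,1,8],
  [1,8,1,9,1,8,1,9],
  [10,10,0],
  [10,2,4,6,11,3,5,7],
  [10,2,5,11,9],
  [10,8,11,2,5],
  [10,2,4,10,2,4,10,2,4],
  [10,1,10,1,2,4,10,1,10,1,2,4,10,1,10,1,2,4,0],
  [11,1,11,1,10,1,10,1]]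
def subs : List (List ℕ) := [[0],
  [1],
  [2],
  [3],
  [4],
  [5],
  [6],
  [7],
  [8],
  [9]]
def iv (a : ℕ) : ℕ := [0,1,3,2,5,4,7,6,9,8,11,10,12].getD a 0
noncomputable def RR0 : List Rule := [.bwd [0] 0 0 0,
  .bwd [10,10] 31 2 0,
  .bwd [9,0,9] 24 1 1,
  .bwd [11,11] 31 0 1,
  .bwd [2,0,5] 22 0 0,
  .bwd [3,0,4] 22 1 1,
  .bwd [7,0,6] 23 2 0,
  .bwd [1,0,1] 28 2 0,
  .bwd [6,0,7] 23 0 0,
  .bwd [4,0,3] 22 3 1,
  .bwd [5,0,2] 22 2 0,
  .bwd [1,0,1] 28 0 0,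
  .sub [] [] 0 0]
noncomputable def RR1 : List Rule := [.bwd [1] 1 0 0,
  .bwd [9,1,9,1,9] 29 1 1,
  .bwd [7,1,6] 27 2 0,
  .bwd [5,1,5] 26 1 1,
  .bwd [2,1,2] 25 2 0,
  .bwd [4,1,4] 26 2 0,
  .bwd [5,1,5] 26 3 1,
  .bwd [3,1,3] 25 1 1,
  .sub [] [] 1 0,
  .bwd [6,1,7] 27 0 0,
  .bwd [10,1,11,1,11,1,10] 37 5 0]
noncomputable def RR2 : List Rule := [.bwd [3] 2 0 0,
  .bwd [4,3,5] 15 2 0,
  .bwd [5,3,4] 15 3 1,
  .bwd [6,3,7] 16 2 0,
  .bwd [8,7,9] 19 0 1,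
  .bwd [7,3,6] 16 3 1,
  .sub [] [] 2 0,
  .bwd [9,5,8] 20 1 0,
  .bwd [1,2,1] 25 3 0]
noncomputable def RR3 : List Rule := [.bwd [2] 3 0 0,
  .bwd [3,3] 12 1 1,
  .bwd [9,4,8] 20 2 1,
  .bwd [5,2,4] 15 0 0,
  .bwd [4,2,5] 15 1 1,
  .bwd [7,2,6] 16 0 0,
  .bwd [6,2,7] 16 1 1,
  .bwd [11,8,10,4] 33 3 1,
  .bwd [8,6,9] 19 3 0]
noncomputable def RR4 : List Rule := [.bwd [5] 4 0 0,
  .bwd [2,5,3] 15 2 1,
  .bwd [3,10,9,11] 34 0 1,
  .bwd [7,5,6] 17 3 1,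
  .bwd [9,7,8] 21 1 0,
  .bwd [1,4,1] 26 3 0,
  .bwd [6,5,7] 17 2 0,
  .bwd [6,11,3,5,7,10,2] 32 2 0,
  .bwd [8,3,9] 20 0 1]
noncomputable def RR5 : List Rule := [.bwd [4] 5 0 0,
  .bwd [11,9,10,2] 33 2 0,
  .bwd [5,5] 13 1 1,
  .bwd [7,10,2,4,6,11,3] 32 6 0,
  .bwd [5,5] 13 2 1,
  .bwd [8,2,9] 20 3 0,
  .bwd [2,4,3] 15 1 0,
  .bwd [7,4,6] 17 0 0,
  .bwd [6,4,7] 17 1 1,
  .bwd [9,6,8] 21 2 1,
  .bwd [0,2,0] 22 3 0]
noncomputable def RR6 : List Rule := [.bwd [7] 6 0 0,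
  .bwd [5,7,4] 17 3 0,
  .bwd [8,5,9] 21 0 1,
  .bwd [1,7,1] 27 1 0,
  .bwd [9,3,8] 19 1 0,
  .bwd [2,7,3] 16 2 1,
  .bwd [6,6] 14 1 0,
  .bwd [4,2,10,7,5,3,11] 32 0 1,
  .bwd [6,6] 14 2 0,
  .sub [] [] 6 0,
  .bwd [4,7,5] 17 2 1,
  .bwd [11,3,5,7,10,2,4] 32 3 0]
noncomputable def RR7 : List Rule := [.bwd [6] 7 0 0,
  .bwd [1,6,1] 27 3 0,
  .bwd [7,7] 14 1 1,
  .bwd [4,6,5] 17 1 0,
  .bwd [5,6,4] 17 0 1,
  .bwd [9,2,8] 19 2 1,
  .bwd [8,4,9] 21 3 0,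
  .bwd [2,6,3] 16 1 0,
  .bwd [5,3,11,6,4,2,10] 32 4 1,
  .bwd [7,7] 14 2 1,
  .bwd [3,6,2] 16 0 1]
noncomputable def RR8 : List Rule := [.bwd [9] 8 0 0,
  .bwd [11,2,5,10] 34 1 0,
  .bwd [3,9,4] 20 1 1,
  .bwd [2,9,5] 20 0 0,
  .bwd [5,9,6] 21 1 1,
  .bwd [4,9,7] 21 0 0,
  .bwd [10,4,3,11] 33 0 1,
  .bwd [6,9,3] 19 0 0,
  .sub [] [] 8 0]
noncomputable def RR9 : List Rule := [.bwd [8] 9 0 0,
  .bwd [9,9] 18 1 1,
  .bwd [3,8,6] 19 2 0,
  .bwd [2,8,7] 19 3 1,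
  .bwd [11,4,3,10] 34 3 1,
  .bwd [6,8,5] 21 3 1,
  .bwd [10,2,5,11] 33 4 0,
  .bwd [5,8,2] 20 2 0]
noncomputable def RR10 : List Rule := [.bwd [11] 10 0 0,
  .bwd [0,10] 31 1 0,
  .bwd [2,4,6,11,3,5,7] 32 0 0,
  .bwd [8,11,2,5] 34 0 0,
  .bwd [2,5,11,9] 33 0 0,
  .bwd [1,10,1,11,1,11,1] 37 4 0,
  .bwd [10,0] 31 0 0,
  .bwd [1,10,1,2,4,10,1,10,1,2,4,0,10,1,10,1,2,4] 36 6 0]
noncomputable def RR11 : List Rule := [.bwd [10] 11 0 0,
  .bwd [0,11] 31 2 1,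
  .bwd [9,10,2,5] 33 3 0,
  .bwd [5,3,11,5,3,11,5,3] 35 8 1,
  .bwd [3,5,7,10,2,4,6] 32 4 0,
  .bwd [4,3,10,9] 34 4 1,
  .bwd [1,11,1,10,1,10,1] 37 0 0]
noncomputable def RR : List (List Rule) := [RR0, RR1, RR2, RR3, RR4, RR5, RR6, RR7, RR8, RR9, RR10, RR11]
noncomputable def rowp (j : ℕ) : ℕ := piece tT (nat_lit 3) (nat_lit 7) (nat_lit 2880) (Nat.pred (Nat.shiftLeft 1 (nat_lit 2880))) j
noncomputable def row (u : ℕ) : ℕ := rowOf rowp (nat_lit 4) (nat_lit 15) (nat_lit 180) u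
noncomputable def jrowp (j : ℕ) : ℕ := piece tJ (nat_lit 3) (nat_lit 7) (nat_lit 3072) (Nat.pred (Nat.shiftLeft 1 (nat_lit 3072))) j
noncomputable def jrow (u : ℕ) : ℕ := rowOf jrowp (nat_lit 6) (nat_lit 63) (nat_lit 48) u
noncomputable def drowp (j : ℕ) : ℕ := piece tD (nat_lit 3) (nat_lit 7) (nat_lit 2560) (Nat.pred (Nat.shiftLeft 1 (nat_lit 2560))) j
noncomputable def drow (u : ℕ) : ℕ := rowOf drowp (nat_lit 7) (nat_lit 127) (nat_lit 20) u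
noncomputable def cert : PCert := ⟨(nat_lit 12), (nat_lit 12), (nat_lit 63), (nat_lit 15), (nat_lit 32767), (nat_lit 32766), (nat_lit 40), (nat_lit 39), (nat_lit 39), (nat_lit 4), (nat_lit 15), (nat_lit 4), (nat_lit 15), (nat_lit 1048575), (nat_lit 0), row, jrow, drow, RR⟩
theorem params : cert.paramsOK = true := by decide +kernel
theorem rules : rulesOK rels subs iv cert.L cert.LL cert.RR = true := by decide +kernel
theorem blk0 : cert.alive (nat_lit 0) (nat_lit 1) (nat_lit 40) = 0 := by decide +kernel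
theorem up0 : cert.Upto 0 := PCert.upto_zero _
theorem up1 : cert.Upto 40 := up0.alive params blk0 (by decide)

theorem covers {G : Type*} [Group G] {g : ℕ → G} {H : Subgroup G}
    (h : Sat g H 12 iv rels subs) : Covers g 12 H 40 :=
  PCert.covers (p := cert) params rules (by decide +kernel) up1 h

end CL.T42.Q.EH

namespace CL.T42.Q.EL
open CL.CE CL.K

noncomputable def tT0 : ℕ := nat_lit 0x735cf1be99e58e17edadb61651240e28c206102
noncomputable def tJ0 : ℕ := nat_lit 0x555655466666a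
noncomputable def tD0 : ℕ := nat_lit 0x106000
noncomputable def tT : Tr := (.leaf tT0)
noncomputable def tJ : Tr := (.leaf tJ0)
noncomputable def tD : Tr := (.leaf tD0)

def rels : List (List ℕ) := [[0,0],
  [1,1],
  [2,3],
  [3,2],
  [4,5],
  [5,4],
  [6,7],
  [7,6],
  [8,9],
  [9,8],
  [10,11],
  [11,10],
  [12,12],
  [2,2,2],
  [4,4,4],
  [6,6,6],
  [3,5,2,4],
  [3,7,2,6],
  [5,7,4,6],
  [8,8,8],
  [8,6,9,3],
  [8,2,9,5],
  [8,4,9,7],
  [0,2,0,5],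
  [0,6,0,7],
  [0,8,0,8],
  [1,2,1,2],
  [1,4,1,4],
  [1,6,1,7],
  [0,1,0,1],
  [1,8,1,8,1,8],
  [1,8,1,9,1,8,1,9],
  [10,10,0],
  [10,2,4,6,11,3,5,7],
  [10,2,5,11,9],
  [10,8,11,2,5],
  [10,2,4,10,2,4,10,2,4],
  [10,1,10,1,2,4,10,1,10,1,2,4,10,1,10,1,2,4,0],
  [11,1,11,1,10,1,10,1],
  [12,2,12,2],
  [12,4,12,4],
  [12,6,12,6],
  [12,0,12,0],
  [12,1,12,1],
  [12,8,12,9],
  [12,10,12,10]]
def subs : List (List ℕ) := [[0],
  [1],
  [2],
  [3],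
  [4],
  [5],
  [6],
  [7],
  [8],
  [9],
  [10],
  [11]]
def iv (a : ℕ) : ℕ := [0,1,3,2,5,4,7,6,9,8,11,10,12,13].getD a 0
noncomputable def RR0 : List Rule := [.bwd [12,0,12] 42 1 0,
  .sub [] [] 0 0]
noncomputable def RR1 : List Rule := [.bwd [12,1,12] 43 1 0,
  .sub [] [] 1 0]
noncomputable def RR2 : List Rule := [.bwd [12,2,12] 39 1 0,
  .sub [] [] 2 0]
noncomputable def RR3 : List Rule := [.bwd [2] 3 0 0]
noncomputable def RR4 : List Rule := [.bwd [12,4,12] 40 1 0,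
  .bwd [5] 4 0 0]
noncomputable def RR5 : List Rule := [.bwd [0,2,0] 23 3 0,
  .bwd [4] 5 0 0]
noncomputable def RR6 : List Rule := [.bwd [12,6,12] 41 1 0,
  .sub [] [] 6 0]
noncomputable def RR7 : List Rule := [.bwd [6] 7 0 0]
noncomputable def RR8 : List Rule := [.bwd [12,9,12] 44 1 0,
  .sub [] [] 8 0]
noncomputable def RR9 : List Rule := [.bwd [8] 9 0 0]
noncomputable def RR10 : List Rule := [.bwd [12,10,12] 45 1 0,
  .sub [] [] 10 0]
noncomputable def RR11 : List Rule := [.bwd [10] 11 0 0]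
noncomputable def RR12 : List Rule := [.bwd [12] 12 0 0]
noncomputable def RR : List (List Rule) := [RR0, RR1, RR2, RR3, RR4, RR5, RR6, RR7, RR8, RR9, RR10, RR11, RR12]
noncomputable def rowp (j : ℕ) : ℕ := piece tT (nat_lit 3) (nat_lit 7) (nat_lit 2496) (Nat.pred (Nat.shiftLeft 1 (nat_lit 2496))) j
noncomputable def row (u : ℕ) : ℕ := rowOf rowp (nat_lit 5) (nat_lit 31) (nat_lit 78) u
noncomputable def jrowp (j : ℕ) : ℕ := piece tJ (nat_lit 3) (nat_lit 7) (nat_lit 3328) (Nat.pred (Nat.shiftLeft 1 (nat_lit 3328))) j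
noncomputable def jrow (u : ℕ) : ℕ := rowOf jrowp (nat_lit 7) (nat_lit 127) (nat_lit 26) u
noncomputable def drowp (j : ℕ) : ℕ := piece tD (nat_lit 3) (nat_lit 7) (nat_lit 2816) (Nat.pred (Nat.shiftLeft 1 (nat_lit 2816))) j
noncomputable def drow (u : ℕ) : ℕ := rowOf drowp (nat_lit 8) (nat_lit 255) (nat_lit 11) u
noncomputable def cert : PCert := ⟨(nat_lit 13), (nat_lit 13), (nat_lit 1), (nat_lit 6), (nat_lit 63), (nat_lit 62), (nat_lit 2), (nat_lit 1), (nat_lit 1), (nat_lit 2), (nat_lit 3), (nat_lit 2), (nat_lit 3), (nat_lit 2047), (nat_lit 0), row, jrow, drow, RR⟩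
theorem params : cert.paramsOK = true := by decide +kernel
theorem rules : rulesOK rels subs iv cert.L cert.LL cert.RR = true := by decide +kernel
theorem blk0 : cert.alive (nat_lit 0) (nat_lit 1) (nat_lit 2) = 0 := by decide +kernel
theorem up0 : cert.Upto 0 := PCert.upto_zero _
theorem up1 : cert.Upto 2 := up0.alive params blk0 (by decide)

theorem covers {G : Type*} [Group G] {g : ℕ → G} {H : Subgroup G}
    (h : Sat g H 13 iv rels subs) : Covers g 13 H 2 :=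
  PCert.covers (p := cert) params rules (by decide +kernel) up1 h

end CL.T42.Q.EL

namespace CL.T42.Q.ES
open CL.CE CL.K

noncomputable def tT0 : ℕ := nat_lit 0xc26f059c4470b6bd6af8eb946e2dbc4aed5baeee9bc04afd8b0eabf8ad2eb74b23af7bb34edf4b6ead9ab5c2c4cb432bb9ab6707baa52a4ba3628a9a74aa0ba55e98da466939ac36bdaa0e2c1a9fda7b199268f99ada66c9e627789cce6eaa1ceffb9842515965654a8e5a365915648790369798f5e3f7975e4d08cda2b4c36e81885163b785b26d8895a23687d21a68bd2271842a53782425b77d51f24801e477bbedfd27e55fb5835604a7bd22d6ae6aab97711f75b769df37a51e74789a2168c59eab724dc4c6f15ba372a1cf27852cfa764dd7374aa758a161c126ac9a6d680da25744dac86c2e9f97fd6f3b6d49b72c0edc3366c592b9f630fb5fc17c363b6e7b61ad8a760c585165ae29697dd5ca5e2a0b5528d81154294c656c15905532d5a58424f751a12c84cbd30f4eb536c48bd24f45b914347a51a54a2126f5a25069431d106beeecba3f38fae3c0d18f3ca0f6440a4fe95bb5a923890e023ab138fb86d911a6e64374f353ed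abe4e6c5c31c733608da44d3cecd9a6219650b140cb1e9570b4e8e8d672d951a9e6b3a32a8c82a8e5b32349d89133acd0b6645ed483d55f095dd7702e88ccb2f1953030a8c0a9c61d53312a0755ab908e2c18b47a2666382b24ae92920a222a1520f413900e513d2ef27209e86bc9cd326209682408a692490f4e4abc9a85c988a72da50ae1f987c192de0356344d4b209c847231c8665d1c76643b8b291c0480753c0bea1d187268759e541e1888759146a46949bf38d5e13617946051690581473caa919906235b106c53730e4d7c55db414104e413045c53e389481a14522588c4626e4d9f25ec54900f8c40344bceee0e883811088645598848337b4d6c31acb8a0d0832228248e80c043c3110c54407802410b042a11e9c6e60a0426115944a40d8c2e2088420107041a00600160050012004000e002800c002000600100020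
noncomputable def tJ0 : ℕ := nat_lit 0x6714447144135714125151161538112321242321111145113212321122232124212122831111311232652121212113213271111162123115463132111561841412135111711152162121232121131111321234c1251411413157469b1111131148d3113132011121744112311113111131102111212111511511311211e1216a0041315111c171111311411312192111112122235111111211f1a5110041311146d1110013111113b900008100819131000015001111281700160000a90a1815175116ba
noncomputable def tD0 : ℕ := nat_lit 0xdb41f4b0aca4270908b9426c508a9026840898c2e430a88c26030878c15c3046882d820a58825420848815020438424c1082841481041840c4102080340000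
noncomputable def tT : Tr := (.leaf tT0)
noncomputable def tJ : Tr := (.leaf tJ0)
noncomputable def tD : Tr := (.leaf tD0)

def rels : List (List ℕ) := [[0,0],
  [1,1],
  [2,3],
  [3,2],
  [4,5],
  [5,4],
  [6,7],
  [7,6],
  [8,9],
  [9,8],
  [10,11],
  [11,10],
  [12,12],
  [13,13],
  [2,2,2],
  [4,4,4],
  [6,6,6],
  [3,5,2,4],
  [3,7,2,6],
  [5,7,4,6],
  [8,8,8],
  [8,6,9,3],
  [8,2,9,5],
  [8,4,9,7],
  [0,2,0,5],
  [0,6,0,7],
  [0,8,0,8],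
  [1,2,1,2],
  [1,4,1,4],
  [1,6,1,7],
  [0,1,0,1],
  [1,8,1,8,1,8],
  [1,8,1,9,1,8,1,9],
  [10,10,0],
  [10,2,4,6,11,3,5,7],
  [10,2,5,11,9],
  [10,8,11,2,5],
  [10,2,4,10,2,4,10,2,4],
  [10,1,10,1,2,4,10,1,10,1,2,4,10,1,10,1,2,4,0],
  [11,1,11,1,10,1,10,1],
  [12,2,12,2],
  [12,4,12,4],
  [12,6,12,6],
  [12,0,12,0],
  [12,1,12,1],
  [12,8,12,9],
  [12,10,12,10],
  [13,0,13,0],
  [13,1,13,1],
  [13,12,13,12],
  [13,6,13,7],
  [13,12,8,1,9,13,12,8,1,9],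
  [13,2,12,8,1,9,13,2,12,8,1,9,13,2,12,8,1,9],
  [13,2,4,13,2,4,13,2,4,0],
  [13,10,13,11]]
def subs : List (List ℕ) := [[0],
  [1],
  [2],
  [3],
  [4],
  [5],
  [6],
  [7],
  [8],
  [9],
  [10],
  [11],
  [12]]
def iv (a : ℕ) : ℕ := [0,1,3,2,5,4,7,6,9,8,11,10,12,13,14].getD a 0
noncomputable def RR0 : List Rule := [.bwd [0] 0 0 0,
  .bwd [9,0,9] 26 1 1,
  .bwd [3,0,4] 24 1 1,
  .bwd [11,11] 33 0 1,
  .bwd [8,0,8] 26 2 0,
  .bwd [2,0,5] 24 0 0,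
  .bwd [6,0,7] 25 0 0,
  .bwd [10,10] 33 2 0,
  .bwd [13,0,13] 47 1 0,
  .sub [] [] 0 0]
noncomputable def RR1 : List Rule := [.bwd [1] 1 0 0,
  .bwd [9,1,9,1,9] 31 1 1,
  .bwd [11,1,11,1,10,1,10] 39 7 0,
  .bwd [5,1,5] 28 1 1,
  .bwd [6,1,7] 29 0 0,
  .bwd [8,1,8,1,8] 31 2 0,
  .bwd [11,1,10,1,10,1,11] 39 1 0,
  .bwd [2,1,2] 27 0 0,
  .bwd [3,1,3] 27 1 1,
  .bwd [13,1,13] 48 1 0,
  .sub [] [] 1 0,
  .bwd [9,1,8,1,9,1,8] 32 2 0,
  .bwd [4,1,4] 28 2 0,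
  .bwd [7,1,6] 29 2 0,
  .bwd [9,13,12,8,1,9,13,12,8] 51 3 0]
noncomputable def RR2 : List Rule := [.bwd [3] 2 0 0,
  .bwd [9,5,8] 22 1 0,
  .bwd [6,3,7] 18 2 0,
  .bwd [1,2,1] 27 3 0,
  .bwd [5,11,9,10] 35 1 0,
  .sub [] [] 2 0,
  .bwd [4,3,5] 17 2 0,
  .bwd [5,3,4] 17 3 1]
noncomputable def RR3 : List Rule := [.bwd [2] 3 0 0,
  .bwd [8,6,9] 21 3 0,
  .bwd [9,4,8] 22 2 1,
  .bwd [5,2,4] 17 0 0,
  .bwd [4,2,5] 17 1 1,
  .bwd [5,7,10,2,4,6,11] 34 5 0,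
  .bwd [7,2,6] 18 0 0,
  .bwd [3,3] 14 1 1]
noncomputable def RR4 : List Rule := [.bwd [5] 4 0 0,
  .bwd [9,7,8] 23 1 0,
  .bwd [8,3,9] 22 0 1,
  .bwd [6,5,7] 19 2 0,
  .bwd [3,5,2] 17 3 0,
  .bwd [1,4,1] 28 3 0]
noncomputable def RR5 : List Rule := [.bwd [4] 5 0 0,
  .bwd [8,2,9] 22 3 0,
  .bwd [5,5] 15 1 1,
  .bwd [6,4,7] 19 1 1,
  .bwd [0,2,0] 24 3 0]
noncomputable def RR6 : List Rule := [.bwd [7] 6 0 0,
  .bwd [9,3,8] 21 1 0,
  .bwd [5,7,4] 19 3 0,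
  .bwd [8,5,9] 23 0 1,
  .bwd [3,7,2] 18 3 0,
  .bwd [13,7,13] 50 1 0,
  .sub [] [] 6 0]
noncomputable def RR7 : List Rule := [.bwd [6] 7 0 0,
  .bwd [8,4,9] 23 3 0,
  .bwd [9,2,8] 21 2 1,
  .bwd [4,6,5] 19 1 0,
  .bwd [5,3,11,6,4,2,10] 34 4 1,
  .bwd [1,6,1] 29 3 0,
  .bwd [7,7] 16 1 1,
  .bwd [2,6,3] 18 1 0]
noncomputable def RR8 : List Rule := [.bwd [9] 8 0 0,
  .bwd [10,4,3,11] 35 0 1,
  .bwd [11,2,5,10] 36 1 0,
  .bwd [4,9,7] 23 0 0,
  .sub [] [] 8 0]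
noncomputable def RR9 : List Rule := [.bwd [8] 9 0 0,
  .bwd [9,9] 20 1 1,
  .bwd [10,2,5,11] 35 4 0,
  .bwd [2,8,7] 21 3 1,
  .bwd [11,4,3,10] 36 3 1]
noncomputable def RR10 : List Rule := [.bwd [11] 10 0 0,
  .bwd [0,10] 33 1 0,
  .bwd [2,5,11,9] 35 0 0,
  .bwd [2,4,6,11,3,5,7] 34 0 0,
  .bwd [4,3,11,8] 35 1 1,
  .bwd [10,0] 33 0 0,
  .bwd [13,11,13] 54 1 0,
  .sub [] [] 10 0,
  .bwd [12,10,12] 46 3 0,
  .bwd [8,11,2,5] 36 0 0]
noncomputable def RR11 : List Rule := [.bwd [10] 11 0 0,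
  .bwd [4,3,10,9] 36 4 1,
  .bwd [0,11] 33 2 1,
  .bwd [2,5,10,8] 36 2 0,
  .bwd [12,11,12] 46 0 1,
  .bwd [9,10,2,5] 35 3 0,
  .bwd [3,5,7,10,2,4,6] 34 4 0]
noncomputable def RR12 : List Rule := [.bwd [12] 12 0 0,
  .bwd [8,12,9] 45 0 0,
  .bwd [9,12,8] 45 2 0,
  .bwd [10,12,10] 46 2 0,
  .bwd [5,12,5] 41 1 1,
  .bwd [11,12,11] 46 1 1,
  .bwd [7,12,7] 42 1 1,
  .bwd [13,12,13] 49 1 0,
  .bwd [3,12,3] 40 1 1,
  .sub [] [] 12 0,
  .bwd [4,12,4] 41 2 0]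
noncomputable def RR13 : List Rule := [.bwd [11,13,10] 54 2 0,
  .bwd [13] 13 0 0,
  .bwd [1,13,1] 48 2 0,
  .bwd [10,13,11] 54 0 0,
  .bwd [7,13,6] 50 2 0,
  .bwd [6,13,7] 50 0 0,
  .bwd [0,13,0] 47 0 0,
  .bwd [1,13,1] 48 0 0,
  .bwd [2,4,13,2,4,0,13,2,4] 53 3 0,
  .bwd [0,13,0] 47 2 0,
  .bwd [2,12,8,1,9,13,2,12,8,1,9,13,2,12,8,1,9] 52 6 0,
  .bwd [2,4,13,2,4,13,2,4,0] 53 0 0,
  .bwd [5,3,13,5,3,13,0,5,3] 53 3 1]
noncomputable def RR : List (List Rule) := [RR0, RR1, RR2, RR3, RR4, RR5, RR6, RR7, RR8, RR9, RR10, RR11, RR12, RR13]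
noncomputable def rowp (j : ℕ) : ℕ := piece tT (nat_lit 3) (nat_lit 7) (nat_lit 3136) (Nat.pred (Nat.shiftLeft 1 (nat_lit 3136))) j
noncomputable def row (u : ℕ) : ℕ := rowOf rowp (nat_lit 4) (nat_lit 15) (nat_lit 196) u
noncomputable def jrowp (j : ℕ) : ℕ := piece tJ (nat_lit 3) (nat_lit 7) (nat_lit 3584) (Nat.pred (Nat.shiftLeft 1 (nat_lit 3584))) j
noncomputable def jrow (u : ℕ) : ℕ := rowOf jrowp (nat_lit 6) (nat_lit 63) (nat_lit 56) u
noncomputable def drowp (j : ℕ) : ℕ := piece tD (nat_lit 3) (nat_lit 7) (nat_lit 2304) (Nat.pred (Nat.shiftLeft 1 (nat_lit 2304))) j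
noncomputable def drow (u : ℕ) : ℕ := rowOf drowp (nat_lit 7) (nat_lit 127) (nat_lit 18) u
noncomputable def cert : PCert := ⟨(nat_lit 14), (nat_lit 14), (nat_lit 31), (nat_lit 14), (nat_lit 16383), (nat_lit 16382), (nat_lit 28), (nat_lit 27), (nat_lit 27), (nat_lit 4), (nat_lit 15), (nat_lit 4), (nat_lit 15), (nat_lit 262143), (nat_lit 0), row, jrow, drow, RR⟩
theorem params : cert.paramsOK = true := by decide +kernel
theorem rules : rulesOK rels subs iv cert.L cert.LL cert.RR = true := by decide +kernel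
theorem blk0 : cert.alive (nat_lit 0) (nat_lit 1) (nat_lit 28) = 0 := by decide +kernel
theorem up0 : cert.Upto 0 := PCert.upto_zero _
theorem up1 : cert.Upto 28 := up0.alive params blk0 (by decide)

theorem covers {G : Type*} [Group G] {g : ℕ → G} {H : Subgroup G}
    (h : Sat g H 14 iv rels subs) : Covers g 14 H 28 :=
  PCert.covers (p := cert) params rules (by decide +kernel) up1 h

end CL.T42.Q.ES

namespace CL.T42.Q
open CL.CE CL.K CL.Reg CL.T43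

def RelsH : List (List ℕ) := P.RelsM ++ [[11,1,11,1,10,1,10,1]]
def RelsL : List (List ℕ) := RelsH ++ [[12,12], [12,2,12,2], [12,4,12,4], [12,6,12,6], [12,0,12,0], [12,1,12,1], [12,8,12,9], [12,10,12,10]]
def RelsS : List (List ℕ) := RelsL ++ [[13,13], [13,0,13,0], [13,1,13,1], [13,12,13,12], [13,6,13,7], [13,12,8,1,9,13,12,8,1,9], [13,2,12,8,1,9,13,2,12,8,1,9,13,2,12,8,1,9], [13,2,4,13,2,4,13,2,4,0], [13,10,13,11]]
def wsL : List (List ℕ) := [[0], [1], [2], [3], [4], [5], [6], [7], [8], [9], [10], [11], [12]]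
def wsS : List (List ℕ) := [[0], [1], [2], [3], [4], [5], [6], [7], [8], [9], [10], [11], [12], [13]]

theorem idx_H {G : Type*} [Group G] {g : ℕ → G} (h : Pres g P.iv RelsH) :
    IdxLe (gen g [[0], [1], [2], [3], [4], [5], [6], [7], [8], [9]]) (gen g [[0], [1], [2], [3], [4], [5], [6], [7], [8], [9], [10], [11]]) 40 :=
  h.idxLe _ _ CL.T42.Q.EH.covers (by decide +kernel)

theorem idx_L {G : Type*} [Group G] {g : ℕ → G} (h : Pres g P.iv RelsL) :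
    IdxLe (gen g [[0], [1], [2], [3], [4], [5], [6], [7], [8], [9], [10], [11]]) (gen g [[0], [1], [2], [3], [4], [5], [6], [7], [8], [9], [10], [11], [12]]) 2 :=
  h.idxLe _ _ CL.T42.Q.EL.covers (by decide +kernel)

theorem idx_S {G : Type*} [Group G] {g : ℕ → G} (h : Pres g P.iv RelsS) :
    IdxLe (gen g [[0], [1], [2], [3], [4], [5], [6], [7], [8], [9], [10], [11], [12]]) (gen g [[0], [1], [2], [3], [4], [5], [6], [7], [8], [9], [10], [11], [12], [13]]) 28 :=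
  h.idxLe _ _ CL.T42.Q.ES.covers (by decide +kernel)

theorem le_H {G : Type*} [Group G] {g : ℕ → G} (h : Pres g P.iv RelsH) : CardLe (gen g P.ws) 25920 :=
  (idx_H h).cardLe (P.le_zduvxc ⟨h.inv, fun r hr =>
    h.rel r (List.mem_append_left _ (List.mem_append_left _ hr))⟩) (by norm_num)

theorem le_L {G : Type*} [Group G] {g : ℕ → G} (h : Pres g P.iv RelsL) : CardLe (gen g wsL) 51840 :=
  (idx_L h).cardLe (le_H ⟨h.inv, fun r hr => h.rel r (List.mem_append_left _ hr)⟩) (by norm_num)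

theorem le_S {G : Type*} [Group G] {g : ℕ → G} (h : Pres g P.iv RelsS) : CardLe (gen g wsS) 1451520 :=
  (idx_S h).cardLe (le_L ⟨h.inv, fun r hr => h.rel r (List.mem_append_left _ hr)⟩) (by norm_num)

end CL.T42.Q
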