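import Mathlib
import Cfsg.Agent.PERM.TwoS9
import Cfsg.Agent.S0200

/-!
Doubly transitive groups whose two-point stabilizer is `A₄`: the affine group of degree 16.
-/

set_option autoImplicit false

namespace CL.TwoS

open MulAction CL.Zass CL.TIInv CL.R3F CL.CFix Subgroup Cfsg

variable {G Ω : Type*} [Group G] [MulAction G Ω]

instance : Fact (∀ r : ZMod 2, r ^ 2 ≠ 1 + 1 * r) := ⟨by decide⟩

theorem card_agl {F : Type*} [Field F] [Fintype F] (hF : Fintype.card F = 4) :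
    Finite ((Fin 2 → F) ≃ᵃ[F] (Fin 2 → F)) ∧ Nat.card ((Fin 2 → F) ≃ᵃ[F] (Fin 2 → F)) ≤ 2880 := by
  classical
  let e := (Matrix.GeneralLinearGroup.toLin (n := Fin 2) (R := F)).trans
    (LinearMap.GeneralLinearGroup.generalLinearEquiv F (Fin 2 → F))
  have : Finite ((Fin 2 → F) ≃ₗ[F] (Fin 2 → F)) := Finite.of_equiv _ e.toEquiv
  have inj : Function.Injective fun ψ : (Fin 2 → F) ≃ᵃ[F] (Fin 2 → F) => (ψ 0, ψ.linear) :=
    fun ψ χ h => AffineEquiv.ext fun p => by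
      rw [← vsub_vadd p 0, ψ.map_vadd, χ.map_vadd, (Prod.mk.inj h).1, (Prod.mk.inj h).2]
  refine ⟨.of_injective _ inj, (Nat.card_le_card_of_injective _ inj).trans_eq ?_⟩
  rw [Nat.card_prod, ← Nat.card_congr e.toEquiv, Matrix.card_GL_field, Nat.card_fun,
    Nat.card_eq_fintype_card, hF]
  simp [Fin.prod_univ_two]

theorem agl [Finite G] [FaithfulSMul G Ω] {M : Subgroup G} [hM : M.Normal]
    (hc : ∀ x ∈ M, ∀ y ∈ M, x * y = y * x) (h2 : ∀ x ∈ M, x * x = 1) {a : Ω}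
    (tr : ∀ x : Ω, ∃ m ∈ M, m • a = x) (fr : ∀ m ∈ M, m • a = a → m = 1) (cM : Nat.card M = 16)
    (cG : Nat.card G = 2880) {l : G} (hl : ∀ h : G, h • a = a → h * l = l * h)
    (l3 : ∀ m ∈ M, l * (l * m * l⁻¹) * l⁻¹ = m * (l * m * l⁻¹)) :
    ∃ (F : Type) (_ : Field F) (_ : Fintype F), Fintype.card F = 4 ∧
      Nonempty (G ≃* ((Fin 2 → F) ≃ᵃ[F] (Fin 2 → F))) := by
  let F := QuadraticAlgebra (ZMod 2) 1 1
  let _ : Fintype F := Fintype.ofEquiv _ (QuadraticAlgebra.equivProd 1 1).symm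
  have hF : Fintype.card F = 4 := by rw [Fintype.ofEquiv_card]; rfl
  refine ⟨F, inferInstance, inferInstance, hF, ?_⟩
  let _ : CommGroup M := { mul_comm := fun x y => Subtype.ext (hc x x.2 y y.2) }
  let _ : Module (ZMod 2) (Additive M) := AddCommGroup.zmodModule fun x => by
    rw [two_nsmul]; exact Subtype.ext (h2 _ x.toMul.2)
  let κ : G → Additive M ≃+ Additive M := fun g => MulEquiv.toAdditive (MulAut.conjNormal g)
  let lam : Module.End (ZMod 2) (Additive M) := (κ l).toAddMonoidHom.toZModLinearMap 2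
  let φ := QuadraticAlgebra.lift (a := (1 : ZMod 2)) (b := 1) ⟨lam, by
    rw [one_smul, one_smul]; exact LinearMap.ext fun x => Subtype.ext (l3 _ x.toMul.2)⟩
  let _ : Module F (Additive M) := Module.compHom _ φ.toRingHom
  have cm : ∀ g x, κ g (lam x) = lam (κ g x) := fun g x => Subtype.ext (by
    obtain ⟨m, hm, e⟩ := tr (g • a)
    have := hl (m⁻¹ * g) (by rw [mul_smul, ← e, inv_smul_smul])
    have k : ∀ y ∈ M, g * y * g⁻¹ = m⁻¹ * g * y * (m⁻¹ * g)⁻¹ := fun y hy => by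
      rw [show m⁻¹ * g * y * (m⁻¹ * g)⁻¹ = m⁻¹ * (g * y * g⁻¹) * m by group,
        hc _ (inv_mem hm) _ (hM.conj_mem y hy g)]; group
    change g * (l * x.toMul * l⁻¹) * g⁻¹ = l * (g * x.toMul * g⁻¹) * l⁻¹
    rw [k _ x.toMul.2, k _ (hM.conj_mem _ x.toMul.2 l)]
    generalize m⁻¹ * g = h at this ⊢
    calc h * (l * x.toMul * l⁻¹) * h⁻¹ = (h * l) * x.toMul * (h * l)⁻¹ := by group
      _ = _ := by rw [this]; group)
  let L : G → Additive M ≃ₗ[F] Additive M := fun g =>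
    { κ g with
      map_smul' := fun c x => by
        change κ g (c.re • x + c.im • lam x) = c.re • κ g x + c.im • lam (κ g x)
        rw [map_add, ZMod.map_smul, ZMod.map_smul, cm] }
  let ε : Additive M ≃ Ω := Equiv.ofBijective (fun x => (x.toMul : G) • a) ⟨fun x y e => by
    have := fr _ (mul_mem (inv_mem y.toMul.2) x.toMul.2) (by rw [mul_smul, inv_smul_eq_iff]; exact e)
    exact (Subtype.ext (inv_mul_eq_one.1 this) : y.toMul = x.toMul).symm, fun x =>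
      let ⟨m, hm, e⟩ := tr x; ⟨Additive.ofMul ⟨m, hm⟩, e⟩⟩
  have fr2 : Module.finrank F (Additive M) = 2 := by
    have := Module.natCard_eq_pow_finrank (K := F) (V := Additive M)
    rw [Nat.card_eq_fintype_card (α := F), hF, show Nat.card (Additive M) = 4 ^ 2 from cM] at this
    exact (Nat.pow_right_injective (by norm_num) this).symm
  let β := (Module.finBasisOfFinrankEq F (Additive M) fr2).equivFun
  have af : ∀ (g : G) x, ε.symm (g • ε x) = L g x + ε.symm (g • ε 0) := fun g x => by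
    rw [Equiv.symm_apply_eq]
    change g • (x.toMul : G) • a = (g * x.toMul * g⁻¹ * (ε.symm (g • ε 0)).toMul) • a
    rw [mul_smul _ _ a, show ((ε.symm (g • ε 0)).toMul : G) • a = g • (1 : G) • a from
      ε.apply_symm_apply _, one_smul]
    exact (conj_smul_iff.2 rfl).symm
  let Φ : G →* ((Fin 2 → F) ≃ᵃ[F] (Fin 2 → F)) := MonoidHom.mk' (fun g =>
    AffineEquiv.mk' (fun p => β (ε.symm (g • ε (β.symm p)))) ((β.symm.trans (L g)).trans β) 0
      fun p => by rw [af, map_add, β.symm.map_zero]; simp) fun g g' => AffineEquiv.ext fun p => by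
    change β _ = β (ε.symm (g • ε (β.symm (β _))))
    rw [β.symm_apply_apply, ε.apply_symm_apply, mul_smul]
  have inj : Function.Injective Φ := fun g g' e => eq_of_smul_eq_smul (α := Ω) fun x => by
    have : β (ε.symm (g • ε (β.symm (β (ε.symm x))))) =
      β (ε.symm (g' • ε (β.symm (β (ε.symm x))))) := congrArg (fun ψ => ψ (β (ε.symm x))) e
    simpa using this
  obtain ⟨_, h⟩ := card_agl hF
  exact ⟨MulEquiv.ofBijective Φ (inj.bijective_of_nat_card_le (cG ▸ h))⟩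

namespace Hy

variable {a b : Ω} {t v ρ z : G} (h : Hy a b t v ρ 3) [Finite G] [Finite Ω]
include h

theorem exists_regular (hx : CX a b z) (n : Nat.card Ω = 16) (hn : ¬ ∃ g, g * t * g⁻¹ = z) :
    ∃ M : Subgroup G, M.Normal ∧ M ≠ ⊥ ∧ ∀ x ∈ M, ∀ y ∈ M, x * y = y * x := by
  have nt : ∀ g x : G, x * t * x⁻¹ ≠ g * z * g⁻¹ := fun g x e =>
    hn ⟨g⁻¹ * x, by rw [← conj_back g⁻¹ z, inv_inv, ← e]; group⟩
  have zt : ∃ g, g * t * g⁻¹ = z * t := by
    obtain ⟨g, hg⟩ := h.swap_conj h.ht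
    obtain ⟨k, -, hk⟩ := (h.swapX hx (h.ht.conj g) hg).resolve_left fun e => hn ⟨g, e⟩
    exact ⟨k⁻¹ * g, by rw [← conj_back k⁻¹ (z * t), inv_inv, hk]; group⟩
  have u1 : ∀ g : G, (g * z * g⁻¹) • a = b → g * z * g⁻¹ = z := fun g e =>
    (h.swapX hx (hx.hz.conj g) e).resolve_right fun ⟨k, _, hk⟩ => by
      obtain ⟨x, e'⟩ := zt
      exact nt g (k * x) (by rw [← hk, ← e']; group)
  have fp : ∀ x : Ω, z • x ≠ x := fun x e => by
    obtain ⟨d, -, h1, h2⟩ := exists_second (Invo.pow_two hx.hz) (S := (Set.univ : Set Ω))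
      (fun _ _ => trivial) (by rw [Set.ncard_univ, n]) trivial e
    obtain ⟨g, e1, -⟩ := h.two hx.hz h1 h2 e
    exact hn ⟨g, e1⟩
  by_contra hc
  obtain ⟨w, w1, w2, w3⟩ := Cfsg.Agent.S0200.result z (invo_iff.1 hx.hz) fun N _ hN hz => by
    have : Fact (Nat.Prime 2) := ⟨Nat.prime_two⟩
    have := hN.isNilpotent
    obtain ⟨M, -, h1⟩ := InvT.exists_abelian_normal_le N (fun e => hx.hz.1 (mem_bot.1 (e ▸ hz)))
      inferInstance
    exact hc ⟨M, h1⟩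
  obtain ⟨p, hp, k, hk⟩ := Nat.exists_prime_and_dvd fun e => w1 (orderOf_eq_one_iff.1 e)
  have k0 : k ≠ 0 := by rintro rfl; exact (orderOf_pos w).ne' hk
  have o : orderOf (w ^ k) = p := by
    rw [orderOf_pow' w k0, hk, Nat.gcd_mul_left_left, Nat.mul_div_cancel _ (Nat.pos_of_ne_zero k0)]
  have po : Odd p := w2.of_dvd_nat ⟨k, hk⟩
  have i : z * w ^ k * z⁻¹ = (w ^ k)⁻¹ := by rw [← conj_pow, w3, inv_pow]
  generalize w ^ k = y at o i
  have zz : z * (z * y) = y := by rw [← mul_assoc, hx.hz.2, one_mul]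
  obtain ⟨j, hj⟩ := InvT.exists_conj hx.hz.2 (y := z * y) (by
    rw [hx.hz.inv_eq] at i; rw [← mul_assoc, i, inv_mul_cancel]) (by rw [zz, o]; exact po)
  have m := modEq_elt (k := 1) hp (show y ^ p ^ 1 = 1 by rw [pow_one, ← o, pow_orderOf_eq_one])
    (S := (Set.univ : Set Ω)) fun _ _ => trivial
  rw [show {x : Ω | x ∈ Set.univ ∧ y • x = x} = ∅ from Set.eq_empty_of_forall_notMem fun x hx' => ?_,
    Set.ncard_univ, n, Set.ncard_empty] at m
  · have := (Nat.prime_dvd_prime_iff_eq hp Nat.prime_two).1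
      (hp.dvd_of_dvd_pow (n := 4) (Nat.modEq_zero_iff_dvd.1 m))
    rw [this] at po
    exact absurd po (by decide)
  obtain ⟨g, e1, e2⟩ := h.tr (fp x).symm h.ne
  have e3 := u1 g (by rw [← e1, ← e2]; exact conj_smul_iff.2 rfl)
  have e4 := u1 (g * ((z * (z * y)) ^ j)⁻¹)
  rw [show g * ((z * (z * y)) ^ j)⁻¹ * z * (g * ((z * (z * y)) ^ j)⁻¹)⁻¹ = g * (z * y) * g⁻¹ by
    nth_rewrite 3 [← hj]; group] at e4
  have := (e4 (by rw [← e1, ← e2]; exact conj_smul_iff.2 (by rw [mul_smul, hx'.2]))).trans e3.symm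
  rw [mul_left_inj, mul_right_inj, mul_eq_left] at this
  exact hp.one_lt.ne (by rw [← o, this, orderOf_one])

open Pointwise in
theorem exists_scalar (n : Nat.card Ω = 16) (f4 : (Fx Ω t).ncard = 4)
    (g4 : {x : Ω | x ∈ Fx Ω t ∧ v • x = x}.ncard = 4) :
    ∃ l : G, orderOf l = 3 ∧ l • a = a ∧ ∀ k : G, k • a = a → k * l = l * k := by
  have he : Nat.card Ω % 2 = 0 := by rw [n]
  have Fv : ∀ x ∈ Fx Ω t, v • x = x := fun x hx =>
    ((Set.eq_of_subset_of_ncard_le (s := {x : Ω | x ∈ Fx Ω t ∧ v • x = x}) (t := Fx Ω t)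
      (fun x hx => hx.1) (by omega)).symm.subset hx).2
  have kV : ∀ u ∈ St G a b, Invo u → u ∈ ({t, v, t * v} : Set G) := fun u hu hi => by
    obtain ⟨g, -, e⟩ := h.cj u hu hi
    refine (Set.eq_of_subset_of_ncard_le (t := {u | u ∈ {u | ∃ g, g * t * g⁻¹ = u} ∧
      u • a = a ∧ u • b = b}) ?_ (by rw [h.ncard_K, h.ncard_three])).symm.subset ⟨⟨g, e⟩, hu⟩
    rintro _ (rfl | rfl | rfl)
    exacts [⟨⟨1, by group⟩, h.tK⟩, ⟨⟨ρ, h.r1⟩, h.vK⟩,
      ⟨⟨ρ * ρ, by rw [← h.r2, ← h.r1]; group⟩, mul_mem h.tK h.vK⟩]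
  have kF : ∀ u ∈ St G a b, Invo u → Fx Ω u = Fx Ω t := fun u hu hi => by
    obtain ⟨g, -, e⟩ := h.cj u hu hi
    refine (Set.eq_of_subset_of_ncard_le (fun x hx => ?_) (by rw [← e, ← ncard_Fx_conj])).symm
    rcases kV u hu hi with rfl | rfl | rfl
    exacts [hx, Fv x hx, show (t * v) • x = x by rw [mul_smul, Fv x hx, hx]]
  have cF : ∀ g u : G, Fx Ω (g * u * g⁻¹) = g • Fx Ω u := fun g u => Set.ext fun x => by
    rw [Set.mem_smul_set_iff_inv_smul_mem, ← smul_inv_smul g x, inv_smul_smul]; exact conj_smul_iff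
  have same : ∀ u w : G, Invo u → Invo w → u • a = a → w • a = a → ∀ x : Ω, x ≠ a → u • x = x →
      w • x = x → Fx Ω u = Fx Ω w := fun u w hu hw h1 h2 x h3 h4 h5 => by
    obtain ⟨g, rfl, e1, e2⟩ := h.two hu h3.symm h1 h4
    rw [← conj_back g w, cF, cF, kF _ ⟨inv_conj_fix e1 h2, inv_conj_fix e2 h5⟩ (hw.conj _)]
  set 𝓛 : Set (Set Ω) := {S | ∃ u : G, Invo u ∧ u • a = a ∧ S = Fx Ω u} with h𝓛
  have Lc : ∀ g : G, g • a = a → ∀ S ∈ 𝓛, g • S ∈ 𝓛 := by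
    rintro g hg _ ⟨u, h1, h2, rfl⟩
    exact ⟨_, h1.conj g, by rw [← hg]; exact conj_smul_iff.2 (hg.symm ▸ h2), (cF g u).symm⟩
  have L3 : ∀ S ∈ 𝓛, {x | x ∈ Set.univ \ {a} ∧ x ∈ S}.ncard = 3 := by
    rintro _ ⟨u, h1, h2, rfl⟩
    obtain ⟨d, -, h3, h4⟩ := exists_second (Invo.pow_two h1) (S := (Set.univ : Set Ω))
      (fun _ _ => trivial) (by rwa [Set.ncard_univ]) trivial h2
    obtain ⟨g, rfl, -⟩ := h.two h1 h3 h4 h2
    rw [show {x | x ∈ Set.univ \ {a} ∧ x ∈ Fx Ω (g * t * g⁻¹)} = Fx Ω (g * t * g⁻¹) \ {a} from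
      Set.ext fun x => ⟨fun h => ⟨h.2, h.1.2⟩, fun h => ⟨⟨trivial, h.2⟩, h.1⟩⟩,
      Set.ncard_sdiff_singleton_of_mem (s := Fx Ω _) h2, ← ncard_Fx_conj, f4]
  have L5 := ncard_mul_eq 𝓛 (Set.univ \ {a}) (fun S x => x ∈ S) L3 (n := 1) fun x hx => by
    obtain ⟨g, e1, e2⟩ := h.tr h.ne (Ne.symm hx.2)
    have e3 : (g * t * g⁻¹) • a = a := by rw [← e1]; exact conj_smul_iff.2 (e1.symm ▸ h.tK.1)
    have e4 : (g * t * g⁻¹) • x = x := by rw [← e2]; exact conj_smul_iff.2 h.tK.2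
    refine Set.ncard_eq_one.2 ⟨_, Set.eq_singleton_iff_unique_mem.2
      ⟨⟨⟨_, h.ht.conj g, e3, rfl⟩, e4⟩, ?_⟩⟩
    rintro _ ⟨⟨u, h1, h2, rfl⟩, h3⟩
    exact same _ _ h1 (h.ht.conj g) h2 e3 x hx.2 h3 e4
  have F0 : Fx Ω t ∈ 𝓛 := ⟨t, h.ht, h.tK.1, rfl⟩
  have L4 : (𝓛 \ {Fx Ω t}).ncard = 4 := by
    rw [Set.ncard_sdiff_singleton_of_mem (Set.mem_univ a), Set.ncard_univ, n] at L5
    rw [Set.ncard_sdiff_singleton_of_mem F0]; omega
  have fr : ∀ u ∈ St G a b, u * u = 1 → ∀ S ∈ 𝓛 \ {Fx Ω t}, u • S = S → u = 1 :=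
    fun u hu h1 S hS e => by_contra fun h2 => by
      obtain ⟨x, ⟨h3, h4⟩, h5⟩ := exists_fix_of_odd (Invo.pow_two ⟨h2, h1⟩)
        (S := {x | x ∈ Set.univ \ {a} ∧ x ∈ S}) (fun x hx => ⟨⟨trivial, fun e => hx.1.2
          ((smul_left_cancel_iff u).1 (Eq.trans e hu.1.symm))⟩, e ▸ Set.smul_mem_smul_set hx.2⟩)
        (by rw [L3 S hS.1]; decide)
      obtain ⟨⟨w, w1, w2, rfl⟩, h6⟩ := hS
      exact h6 ((same w u w1 ⟨h2, h1⟩ w2 hu.1 x h3.2 h4 h5).trans (kF u hu ⟨h2, h1⟩))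
  have cB : Nat.card ↥(centralizer {t} ⊓ stabilizer G a) = 12 := by
    rw [h.T2C.card_stab h.tK.1 h.tK.2 h.ne, h.card_CK, f4]
  have : Fact (Nat.Prime 3) := ⟨Nat.prime_three⟩
  obtain ⟨l, hl, ho⟩ := Small.exists_mem_orderOf_eq_prime _ 3 (by rw [cB]; decide)
  have l3 : l ^ 3 ^ 1 = 1 := by rw [pow_one, ← ho, pow_orderOf_eq_one]
  have nV : ∀ x : G, x • a = a → x • Fx Ω t = Fx Ω t → ∀ u ∈ St G a b, Invo u →
      x * u * x⁻¹ ∈ St G a b := fun x h1 h2 u h3 h4 =>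
    ⟨by rw [← h1]; exact conj_smul_iff.2 (h1.symm ▸ h3.1),
      show b ∈ Fx Ω (x * u * x⁻¹) by rw [cF, kF u h3 h4, h2]; exact h.tK.2⟩
  have cV : ∀ x ∈ centralizer ({t} : Set G) ⊓ stabilizer G a, x * v = v * x := fun x hx => by
    refine h.cenB he ⟨mem_cent.1 hx.1, (kV _ (nV x hx.2 (by
      rw [← cF, conj_eq_of_comm (mem_cent.1 hx.1)]) v h.vK h.hv) (h.hv.conj x)).resolve_left
        fun e => h.vne ?_⟩ h.aV hx.2
    rwa [← conj_eq_of_comm (mem_cent.1 hx.1), mul_left_inj, mul_right_inj] at e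
  have lF : l • Fx Ω t = Fx Ω t := by rw [← cF, conj_eq_of_comm (mem_cent.1 hl.1)]
  have inv : ∀ g : G, g • a = a → g • Fx Ω t = Fx Ω t → ∀ S ∈ 𝓛 \ {Fx Ω t},
      g • S ∈ 𝓛 \ {Fx Ω t} := fun g h1 h2 S hS =>
    ⟨Lc g h1 S hS.1, fun e => hS.2 ((smul_left_cancel_iff g).1 (Eq.trans e h2.symm))⟩
  obtain ⟨S, hS, lS⟩ := (Set.ncard_pos (Set.toFinite _)).1 (Nat.pos_of_ne_zero fun e => by
    have := modEq_elt Nat.prime_three l3 (inv l hl.2 lF)
    rw [e, L4] at this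
    exact absurd this (by decide) : 0 < {S | S ∈ 𝓛 \ {Fx Ω t} ∧ l • S = S}.ncard)
  have VB : ∀ u ∈ ({1, t, v, t * v} : Set G), u ∈ St G a b ∧ u * u = 1 ∧ l * u = u * l ∧
      u • Fx Ω t = Fx Ω t ∧ ∀ w ∈ ({1, t, v, t * v} : Set G), w⁻¹ * u ∈ ({1, t, v, t * v} : Set G) :=
    fun u hu => by
      rw [← h.coe_CK] at hu ⊢
      refine ⟨hu.2, h.sq_eq_one h.tK.1 h.tK.2 h.ne (mem_cent.1 hu.1) hu.2.1 hu.2.2, ?_,
        by rw [← cF, conj_eq_of_comm (mem_cent.1 hu.1)], fun w hw => mul_mem (inv_mem hw) hu⟩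
      rcases h.cen u hu.2 (mem_cent.1 hu.1) with rfl | rfl | rfl | rfl
      exacts [by simp, mem_cent.1 hl.1, cV l hl, by
        rw [← mul_assoc, mem_cent.1 hl.1, mul_assoc, cV l hl, mul_assoc]]
  have all : ∀ T ∈ 𝓛, l • T = T := fun T hT => by
    by_cases e : T = Fx Ω t
    · rw [e, lF]
    obtain ⟨u, hu, rfl⟩ := (Set.eq_of_subset_of_ncard_le (s := (· • S) '' {1, t, v, t * v})
      (t := 𝓛 \ {Fx Ω t}) (by
        rintro _ ⟨u, hu, rfl⟩; exact inv u (VB u hu).1.1 (VB u hu).2.2.2.1 S hS) (by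
        rw [L4, Set.InjOn.ncard_image fun u hu w hw e => (inv_mul_eq_one.1
          (fr _ (VB _ ((VB u hu).2.2.2.2 w hw)).1 (VB _ ((VB u hu).2.2.2.2 w hw)).2.1 S hS
            (by rw [mul_smul, inv_smul_eq_iff]; exact e))).symm, h.ncard_four])).symm.subset ⟨hT, e⟩
    rw [← mul_smul, (VB u hu).2.2.1, mul_smul, lS]
  have cl : ∀ k : G, k • a = a → k * l * k⁻¹ ∈ centralizer ({t} : Set G) ⊓ stabilizer G a :=
    fun k hk => by
      have la := mul_mem (mul_mem (mem_stabilizer_iff.2 hk) hl.2) (inv_mem (mem_stabilizer_iff.2 hk))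
      have al : ∀ T ∈ 𝓛, (k * l * k⁻¹) • T = T := fun T hT => by
        rw [mul_smul, mul_smul, all _ (Lc _ (inv_smul_eq_iff.2 hk.symm) T hT), smul_inv_smul]
      generalize k * l * k⁻¹ = x at la al ⊢
      have m1 := nV x la (al _ F0) t h.tK h.ht
      have m2 : t⁻¹ * (x * t * x⁻¹) ∈ ({1, t, v, t * v} : Set G) :=
        (VB _ (.inr (kV _ m1 (h.ht.conj x)))).2.2.2.2 t (.inr (.inl rfl))
      have := fr _ (VB _ m2).1 (VB _ m2).2.1 S hS (by
        rw [mul_smul, mul_smul, mul_smul, inv_smul_eq_iff.2 (al S hS.1).symm,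
          al _ (Lc t h.tK.1 S hS.1), inv_smul_smul])
      exact ⟨mem_cent.2 (mul_inv_eq_iff_eq_mul.1 (inv_mul_eq_one.1 this).symm), la⟩
  have lc : centralizer ({t} : Set G) ⊓ stabilizer G a ≤ centralizer {l} := by
    have d1 := card_dvd_of_le (H := centralizer {t} ⊓ St G a b)
      (K := centralizer ({t} : Set G) ⊓ stabilizer G a ⊓ centralizer {l}) fun u hu =>
      ⟨⟨hu.1, hu.2.1⟩, mem_cent.2 (VB u (h.coe_CK ▸ hu)).2.2.1.symm⟩
    have d2 := orderOf_dvd_natCard (centralizer ({t} : Set G) ⊓ stabilizer G a ⊓ centralizer {l})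
      ⟨hl, mem_cent.2 rfl⟩
    rw [h.card_CK] at d1
    rw [ho] at d2
    exact inf_eq_left.1 (eq_of_le_of_card_ge inf_le_left (cB ▸ Nat.le_of_dvd Nat.card_pos
      (Nat.Coprime.mul_dvd_of_dvd_of_dvd (by decide) d1 d2)))
  have xz : ∀ k : G, k • a = a → k * l * k⁻¹ ∈ zpowers l := fun k hk => by
    obtain ⟨j, hj⟩ := ((SylowAux.isPGroup_zpowers_of_pow l3).to_sup_of_normal_left'
      (SylowAux.isPGroup_zpowers_of_pow (x := k * l * k⁻¹) (n := 1) (by rw [conj_pow, l3]; group))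
      (zpowers_le.2 (centralizer_le_normalizer _ (by
        rintro _ ⟨j, rfl⟩; exact (Commute.zpow_right (mem_cent.1 (lc (cl k hk))) j).symm)))).exists_card_eq
    have d := card_dvd_of_le (sup_le (zpowers_le.2 hl) (zpowers_le.2 (cl k hk)))
    rw [cB, hj] at d
    exact (eq_of_le_of_card_ge (le_sup_left (a := zpowers l) (b := zpowers (k * l * k⁻¹))) (by
      rw [Nat.card_zpowers, ho, hj]
      exact Nat.le_of_dvd (by decide) ((Nat.Coprime.pow_left j (by decide : Nat.Coprime 3 4)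
        ).dvd_of_dvd_mul_left d))).ge (mem_sup_right (mem_zpowers _))
  have c := card_class (stabilizer G a) l (S := {w | ∃ g ∈ stabilizer G a, g * l * g⁻¹ = w})
    fun _ => Iff.rfl
  obtain ⟨r, hr⟩ := card_dvd_of_le (le_inf inf_le_right lc)
  have le : {w | ∃ g ∈ stabilizer G a, g * l * g⁻¹ = w}.ncard ≤ 2 := by
    refine (Set.ncard_le_ncard (t := (zpowers l : Set G) \ {1}) ?_).trans ?_
    · rintro _ ⟨g, hg, rfl⟩
      exact ⟨xz g hg, fun e => by rw [conj_eq_one_iff.1 e, orderOf_one] at ho; omega⟩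
    · rw [Set.ncard_sdiff_singleton_of_mem (one_mem _), ← Nat.card_coe_set_eq]
      exact Nat.sub_le_of_le_add (Nat.card_zpowers l ▸ ho.le)
  rw [h.card_stab, n, hr, cB] at c
  refine ⟨l, ho, hl.2, fun k hk => mul_inv_eq_iff_eq_mul.1 ((Set.ncard_le_one (Set.toFinite _)).1
    (?_ : {w | ∃ g ∈ stabilizer G a, g * l * g⁻¹ = w}.ncard ≤ 1) _ ⟨k, hk, rfl⟩ _
    ⟨1, one_mem _, by group⟩)⟩
  by_contra hc
  rw [show {w | ∃ g ∈ stabilizer G a, g * l * g⁻¹ = w}.ncard = 2 by omega] at c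
  omega

theorem agl4 (hx : CX a b z) (he : Nat.card Ω % 2 = 0) : Nat.card Ω = 16 ∧
    ∃ (F : Type) (_ : Field F) (_ : Fintype F), Fintype.card F = 4 ∧
      Nonempty (G ≃* ((Fin 2 → F) ≃ᵃ[F] (Fin 2 → F))) := by
  obtain ⟨-, n, f4, g4, hn⟩ := h.evenX hx he (.inl rfl)
  obtain ⟨M, hM, h1, hc⟩ := h.exists_regular hx n hn
  obtain ⟨l, ho, la, hl⟩ := h.exists_scalar n f4 g4
  obtain ⟨tr, fr⟩ := h.regular h1 hc
  have tr' : ∀ x : Ω, ∃ m ∈ M, m • a = x := fun x =>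
    let ⟨m, e⟩ := tr.exists_smul_eq a x; ⟨m, m.2, e⟩
  have cM : Nat.card M = 16 := by
    have := card_orbit (C := M) (F := Set.univ) (a := a) (fun _ _ => trivial) fun x _ => tr' x
    rwa [Set.ncard_univ, n, (eq_bot_iff_forall (M ⊓ stabilizer G a)).2 fun x hx => fr a x hx.1 hx.2,
      card_bot] at this
  have cj : ∀ g : G, g • a = a → ∀ x ∈ M, ∀ w ∈ M, g • x • a = w • a → g * x * g⁻¹ = w :=
    fun g e1 x hx w hw e2 => (inv_mul_eq_one.1 (fr a _ (mul_mem (inv_mem hw) (hM.conj_mem x hx g)) (by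
      rw [mul_smul, inv_smul_eq_iff, ← e2]; nth_rewrite 1 [← e1]; exact conj_smul_iff.2 rfl))).symm
  have h2 : ∀ x ∈ M, x * x = 1 := fun x hx => by
    by_cases e : x = 1
    · rw [e, one_mul]
    obtain ⟨w, hw, iw⟩ := exists_invo (H := M) (by rw [cM]; decide)
    obtain ⟨g, e1, e2⟩ := h.tr (show a ≠ w • a from fun e => iw.1 (fr a w hw e.symm))
      (show a ≠ x • a from fun e' => e (fr a x hx e'.symm))
    exact cj g e1 w hw x hx e2 ▸ (iw.conj g).2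
  have l3 : l * l * l = 1 := by rw [← pow_three', ← ho, pow_orderOf_eq_one]
  have := h.faithful
  refine ⟨n, agl hc h2 tr' (fr a) cM (by rw [h.card_G, n]) hl fun m hm => ?_⟩
  have m1 := hM.conj_mem m hm l
  have m2 := hM.conj_mem _ m1 l
  have m3 := mul_mem (mul_mem hm m1) m2
  have e : l * (m * (l * m * l⁻¹) * (l * (l * m * l⁻¹) * l⁻¹)) * l⁻¹ =
      m * (l * m * l⁻¹) * (l * (l * m * l⁻¹) * l⁻¹) := by
    rw [← conj_mul, ← conj_mul, show l * (l * (l * m * l⁻¹) * l⁻¹) * l⁻¹ =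
      l * l * l * m * (l * l * l)⁻¹ by group, l3, one_mul, inv_one, mul_one,
      hc _ (mul_mem m1 m2) m hm, mul_assoc m]
  have e1 : m * (l * m * l⁻¹) * (l * (l * m * l⁻¹) * l⁻¹) = 1 := by
    by_contra hn
    have lx := smul_mem_Fx (mul_inv_eq_iff_eq_mul.1 e).symm la
    refine absurd (h.faith l fun x => ?_) fun e => by rw [e, orderOf_one] at ho; omega
    by_cases ex : x = a
    · rw [ex, la]
    obtain ⟨g, e1, rfl⟩ := h.tr (fun e => hn (fr a _ m3 e.symm)) (Ne.symm ex)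
    exact smul_mem_Fx (hl g e1) lx
  rw [eq_inv_of_mul_eq_one_right e1, inv_eq_of_mul_eq_one_right (h2 _ (mul_mem hm m1))]

end Hy

end CL.TwoS
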