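import Cfsg.Agent.S0483
import Cfsg.Agent.S3224
import Cfsg.Agent.S0205
import Cfsg.Agent.INV.ABG.Three
import Cfsg.Agent.INV.AbPSL1
import Cfsg.Agent.INV.ThompsonTransfer
import Cfsg.Agent.INV.GW.GenD2
import Cfsg.Agent.SOLV.MaxClass
import Cfsg.Agent.SOLV.MinNormal
import Cfsg.Agent.TECH.S4Pair

/-!
Characteristically simple groups with a self-centralizing four-group.
-/

set_option autoImplicit false

namespace CL.W3

open Cfsg Subgroup CL.MSS CL.JC CL.PGL2 CL.Dk Matrix
open scoped MatrixGroups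

theorem card_centralizer_pgl {F : Type*} [Field F] [Finite F] (hodd : Odd (Nat.card F))
    {t : PGL(2, F)} (ht : orderOf t = 2) :
    Nat.card (centralizer ({t} : Set PGL(2, F))) = 2 * (Nat.card F - 1) ∨
      Nat.card (centralizer ({t} : Set PGL(2, F))) = 2 * (Nat.card F + 1) := by
  obtain ⟨p, hp⟩ := CharP.exists F
  have : Fact p.Prime := ⟨CharP.char_is_prime F p⟩
  let f : F →+* AlgebraicClosure F := algebraMap _ _
  have ht1 : t ≠ 1 := by rintro rfl; simp at ht
  have ht2 : t * t = 1 := by have := pow_orderOf_eq_one t; rwa [ht, sq] at this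
  have hp2 : p ≠ 2 := by
    rintro rfl
    exact (Nat.not_even_iff_odd.2 hodd) (even_iff_two_dvd.2 (char_dvd_card (F := F) 2))
  obtain ⟨x, y, hxy, hm⟩ := exists_mem_pairT_of_not_dvd f p ht1 (by
      rw [ht, Nat.prime_dvd_prime_iff_eq Fact.out Nat.prime_two]
      exact hp2)
  have hρ := mapG_injective f
  have hne : pairT (mapG f) x y ≠ ⊥ := fun h => by
    rw [h, Subgroup.mem_bot] at hm
    exact ht1 hm
  have hcyc := isCyclic_pairT hρ hxy
  have hC : centralizer ({t} : Set PGL(2, F)) = pairN (mapG f) x y := by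
    ext c
    rw [mem_centralizer_singleton_iff]
    refine ⟨fun h => mem_pairN_of_commute hρ hxy hm ht1 h, fun hc => ?_⟩
    by_cases hcT : c ∈ pairT (mapG f) x y
    · exact congrArg Subtype.val (mul_comm' (⟨c, hcT⟩ : pairT (mapG f) x y) ⟨t, hm⟩)
    · have := conj_eq_inv_of_mem_pairN hρ hxy hc hcT hm
      rwa [inv_eq_of_mul_eq_one_right ht2, mul_inv_eq_iff_eq_mul] at this
  rw [hC, card_pairN f hxy hne]
  exact (card_pairT_cases f hxy hne).imp (congrArg _) (congrArg _)

theorem card_centralizer_inf_range_le {X Y : Type*} [Group X] [Finite X] [Group Y] (f : X →* Y)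
    (x : X) : Nat.card ↥(centralizer ({f x} : Set Y) ⊓ f.range) ≤
      Nat.card (centralizer ({x} : Set X)) := by
  refine le_trans ?_ (CL.PCyc.card_centralizer_mk_le f.ker x)
  let e := QuotientGroup.quotientKerEquivRange f
  have he : ∀ a : X, (e (a : X ⧸ f.ker) : Y) = f a := fun a => rfl
  refine Nat.card_le_card_of_injective (fun y => ⟨e.symm ⟨y, y.2.2⟩, ?_⟩) fun a b h => ?_
  · rw [mem_centralizer_singleton_iff]
    apply e.injective
    rw [map_mul, map_mul, e.apply_symm_apply]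
    apply Subtype.ext
    simp only [Subgroup.coe_mul, he]
    exact mem_centralizer_singleton_iff.1 y.2.1
  · have := e.symm.injective (Subtype.mk.inj h)
    exact Subtype.ext (Subtype.mk.inj this)

theorem three_of_ctx {G F : Type*} [Group G] [Finite G] [Field F] [Fintype F] (Λ : ABG.Ctx G F)
    {t : Λ.C} (ht : t * t = 1) (hC : Nat.card (centralizer ({t} : Set Λ.C)) ≤ 4) :
    Fintype.card F = 3 := by
  have h1 := card_centralizer_inf_range_le Λ.q.π t
  have h2 : Λ.q.π t * Λ.q.π t = 1 := by rw [← map_mul, ht, map_one]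
  have h3 : (Λ.q.π t).right = 1 := by
    have a : (Λ.q.π t).right ^ 2 = 1 := by
      rw [sq, ← SemidirectProduct.mul_right, h2, SemidirectProduct.one_right]
    have b := (Nat.dvd_prime Nat.prime_two).1 (orderOf_dvd_of_pow_eq_one a)
    have c := Λ.q.odd t
    rcases b with b | b
    · exact orderOf_eq_one_iff.1 b
    · rw [b] at c; exact absurd c (by decide)
  set g := (Λ.q.π t).left with hg
  have h4 : Λ.q.π t = SemidirectProduct.inl g := SemidirectProduct.ext rfl h3
  have h5 : Nat.card (centralizer ({g} : Set PGL(2, F))) ≤ 4 := by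
    refine le_trans ?_ (h1.trans hC)
    refine Nat.card_le_card_of_injective (fun y => ⟨SemidirectProduct.inl y.1, ?_, Λ.q.pgl _⟩)
      fun a b h => ?_
    · refine mem_centralizer_singleton_iff.2 ?_
      rw [h4, ← map_mul, ← map_mul, mem_centralizer_singleton_iff.1 y.2]
    · exact Subtype.ext (SemidirectProduct.inl_injective (congrArg Subtype.val h))
  have h6 : g ^ 2 = 1 := by
    rw [h4, ← map_mul] at h2
    rw [sq]
    exact SemidirectProduct.inl_injective (h2.trans (map_one _).symm)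
  have h7 := Λ.hF
  have h8 : 1 < Nat.card F := Finite.one_lt_card
  rw [← Nat.card_eq_fintype_card]
  obtain ⟨k, hk⟩ := h7
  rcases (Nat.dvd_prime Nat.prime_two).1 (orderOf_dvd_of_pow_eq_one h6) with b | b
  · exfalso
    rw [orderOf_eq_one_iff.1 b] at h5
    have : centralizer ({1} : Set PGL(2, F)) = ⊤ := by
      rw [eq_top_iff]
      intro x _
      simp [mem_centralizer_singleton_iff]
    rw [this, card_top, card_PGL2, hk] at h5
    have e : (2 * k + 1) ^ 2 - 1 = 4 * k * (k + 1) := Nat.sub_eq_of_eq_add (by ring)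
    rw [e] at h5
    have : 1 ≤ k := by omega
    nlinarith
  · rcases card_centralizer_pgl Λ.hF b with e | e <;> omega

variable {K : Type*} [Group K] [Finite K]

theorem odd_index_of_le (S : Sylow 2 K) {C : Subgroup K} (h : (S : Subgroup K) ≤ C) :
    Odd C.index :=
  (CL.Iso.sylow_two_odd_index S).of_dvd_nat (index_dvd_of_le h)

theorem odd_index_dihedral (h2 : ∀ H : Subgroup K, H.index ≠ 2) (S : Sylow 2 K) {n : ℕ}
    (e : (S : Subgroup K) ≃* DihedralGroup n) {t : K} (ht : orderOf t = 2) :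
    Odd (centralizer ({t} : Set K)).index := by
  obtain ⟨ψ, hψ, hr, -⟩ := exists_model e
  have htt : t * t = 1 := by rw [← sq, ← ht, pow_orderOf_eq_one]
  let R : Subgroup (DihedralGroup n) :=
    { carrier := {x | ∃ i, x = .r i}
      one_mem' := ⟨0, rfl⟩
      mul_mem' := by rintro _ _ ⟨i, rfl⟩ ⟨j, rfl⟩; exact ⟨i + j, rfl⟩
      inv_mem' := by rintro _ ⟨i, rfl⟩; exact ⟨-i, rfl⟩ }
  have hR : ∀ x, x ∈ R ↔ ∃ i, x = .r i := fun x => Iff.rfl
  have hle : R.map ψ ≤ S := by
    rintro _ ⟨x, -, rfl⟩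
    exact (hr _).2 ⟨x, rfl⟩
  have hi : (R.map ψ).relIndex S = 2 := by
    have hS : (S : Subgroup K) = (⊤ : Subgroup _).map ψ := by
      ext x
      rw [hr, mem_map]
      simp
    rw [hS, relIndex_map_map_of_injective _ _ hψ, relIndex_top_right]
    refine index_eq_two_iff.2 ⟨.sr 0, fun b => ?_⟩
    rcases b with i | i
    · refine Or.inr ⟨⟨i, rfl⟩, ?_⟩
      rintro ⟨j, hj⟩
      simp at hj
    · refine Or.inl ⟨⟨_, rfl⟩, ?_⟩
      rintro ⟨j, hj⟩
      simp at hj
  obtain ⟨g, _, ⟨i, rfl⟩, hg⟩ := CL.ThompsonTransfer.exists_conj_mem h2 S hle hi.dvd htt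
  have hii : i + i = 0 := by
    have : ψ (.r i * .r i) = ψ 1 := by
      rw [map_mul, hg, map_one]
      calc _ = g * (t * t) * g⁻¹ := by group
        _ = 1 := by rw [htt]; group
    exact DihedralGroup.r.inj (hψ this)
  rw [← index_cj g, cj_centralizer_singleton, ← hg]
  refine odd_index_of_le S fun s hs => ?_
  obtain ⟨x, rfl⟩ := (hr s).1 hs
  rw [mem_centralizer_singleton_iff, ← map_mul, ← map_mul]
  congr 1
  rcases x with j | j
  · simp [add_comm]
  · simp only [DihedralGroup.sr_mul_r, DihedralGroup.r_mul_sr]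
    congr 1
    linear_combination hii

/-- Non-solvable characteristically simple groups. -/
structure CS (K : Type*) [Group K] : Prop where
  char : ∀ N : Subgroup K, N.Characteristic → N = ⊥ ∨ N = ⊤
  nsolv : ¬ Group.IsSolvable K

namespace CS

variable (h : CS K)
include h

omit [Finite K] in
theorem eq_bot (N : Subgroup K) [hN : N.Characteristic] (hs : Group.IsSolvable N) : N = ⊥ :=
  (h.char N hN).resolve_right fun e => h.nsolv (by
    subst e
    exact CL.isSolvable_of_mulEquiv topEquiv)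

omit [Finite K] in
theorem perfect : commutator K = ⊤ :=
  (h.char _ inferInstance).resolve_left fun e => h.nsolv
    (Group.isSolvable_of_comm fun a b => by
      have := (commutator_eq_bot_iff_center_eq_top K).1 e
      exact (mem_center_iff.1 (this ▸ mem_top b) a))

omit [Finite K] in
theorem index_ne (H : Subgroup K) : H.index ≠ 2 := CL.GW.index_ne_two_of_perfect h.perfect H

theorem core : oddCore K = ⊥ :=
  h.eq_bot _ (Cfsg.Agent.S0205.result
    (Nat.coprime_two_right.1 (CL.coprime_card_pPrimeCore 2 K)))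

theorem two_group {N : Subgroup K} [N.Normal] (hN : IsPGroup 2 N) : N = ⊥ := by
  have := Fact.mk Nat.prime_two
  have := (CL.isPGroup_pCore 2 K).isNilpotent
  exact le_bot_iff.1 (h.eq_bot (pCore 2 K) inferInstance ▸ CL.le_pCore hN)

theorem simple (h1 : ∀ a b : K, orderOf a = 2 → orderOf b = 2 → IsConj a b) :
    IsSimpleGroup K := by
  have := Fact.mk Nat.prime_two
  have hn : Nontrivial K := by
    by_contra e
    rw [not_nontrivial_iff_subsingleton] at e
    exact h.nsolv inferInstance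
  refine ⟨fun L hL => or_iff_not_imp_left.2 fun hL1 => ?_⟩
  have he : 2 ∣ Nat.card L := by
    by_contra e
    exact hL1 (le_bot_iff.1 (h.core ▸ CL.le_pPrimeCore
      ((Nat.Prime.coprime_iff_not_dvd Nat.prime_two).2 e).symm))
  obtain ⟨a, ha⟩ := exists_prime_orderOf_dvd_card' 2 he
  have ha' : orderOf (a : K) = 2 := by rw [orderOf_coe, ha]
  have hch : (closure {x : K | orderOf x = 2}).Characteristic := by
    rw [characteristic_iff_map_le]
    intro ϕ
    rw [MonoidHom.map_closure]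
    refine closure_mono ?_
    rintro _ ⟨x, hx, rfl⟩
    exact (ϕ.orderOf_eq x).trans hx
  rcases h.char _ hch with e | e
  · have : (a : K) ∈ (⊥ : Subgroup K) := e ▸ subset_closure ha'
    rw [mem_bot.1 this] at ha'
    simp at ha'
  · rw [eq_top_iff, ← e, closure_le]
    intro x hx
    obtain ⟨c, rfl⟩ := isConj_iff.1 (h1 _ _ ha' hx)
    exact hL.conj_mem _ a.2 c

end CS

omit [Finite K] in
theorem exists_pair {V : Subgroup K} (hV : Four V) (z : K) :
    ∃ t ∈ V, t ≠ 1 ∧ t ≠ z := by
  by_contra e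
  push Not at e
  have : Nat.card V ≤ Nat.card Bool := by
    classical
    refine Nat.card_le_card_of_injective (fun v => decide (v.1 = 1)) fun a b hab => Subtype.ext ?_
    simp only [decide_eq_decide] at hab
    by_cases ha : a.1 = 1
    · rw [ha, hab.1 ha]
    · rw [e _ a.2 ha, e _ b.2 (fun hb => ha (hab.2 hb))]
  rw [hV.card] at this
  simp at this

omit [Finite K] in
theorem mem_of_comm {V : Subgroup K} (hV : Four V) (hC : centralizer (V : Set K) ≤ V) {z t y : K}
    (hz : z ∈ V) (ht : t ∈ V) (hz1 : z ≠ 1) (ht1 : t ≠ 1) (hne : t ≠ z) (h1 : y * z = z * y)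
    (h2 : y * t = t * y) : y ∈ V := by
  refine hC fun v hv => ?_
  by_cases a : v = 1
  · simp [a]
  by_cases b : v = z
  · rw [b, h1]
  by_cases c : v = t
  · rw [c, h2]
  rw [hV.eq_mul_of_ne hz ht hv hz1 ht1 a hne.symm (Ne.symm b) (Ne.symm c), mul_assoc, ← h2,
    ← mul_assoc, ← h1, mul_assoc]

theorem card_le_four {V C : Subgroup K} (hV : Four V) (hC : centralizer (V : Set K) ≤ V) {z : K}
    {t : C} (hz : z ∈ V) (ht : (t : K) ∈ V) (hz1 : z ≠ 1) (ht1 : (t : K) ≠ 1) (hne : (t : K) ≠ z)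
    (h1 : ∀ y ∈ C, y * z = z * y) : Nat.card (centralizer ({t} : Set C)) ≤ 4 := by
  rw [← hV.card]
  exact Nat.card_le_card_of_injective (fun y => ⟨y.1.1, mem_of_comm hV hC hz ht hz1 ht1 hne
    (h1 _ y.1.2) (congrArg Subtype.val (mem_centralizer_singleton_iff.1 y.2))⟩)
    fun a b h => Subtype.ext (Subtype.ext (Subtype.mk.inj h))

theorem sylow_cases {V : Subgroup K} (hV : Four V) (hC : centralizer (V : Set K) ≤ V) :
    ∃ S : Sylow 2 K, (∃ n : ℕ, 2 ≤ n ∧ Nonempty ((S : Subgroup K) ≃* DihedralGroup n)) ∨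
      IsQuasiDihedral (S : Subgroup K) := by
  have := Fact.mk Nat.prime_two
  obtain ⟨S, hS⟩ := hV.isPGroup.exists_le_sylow
  refine ⟨S, ?_⟩
  have h4 : 4 ≤ Nat.card (S : Subgroup K) := hV.card ▸ card_le_of_le hS
  obtain ⟨z, hz, hz1⟩ := exists_ne_one (inf_centralizer_ne_bot S.isPGroup' S.isPGroup'
    le_normalizer fun e => hV.ne_bot (le_bot_iff.1 (e ▸ hS)))
  have hzc : ∀ y ∈ (S : Subgroup K), y * z = z * y := fun y hy => hz.2 y hy
  have hzV : z ∈ V := hC fun v hv => hzc v (hS hv)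
  obtain ⟨t, ht, ht1, htz⟩ := exists_pair hV z
  have ho : orderOf (⟨t, hS ht⟩ : (S : Subgroup K)) = 2 := by
    rw [← orderOf_coe]
    exact orderOf_eq_prime (by rw [sq]; exact hV.sq t ht) ht1
  have hc : Nat.card (centralizer ({⟨t, hS ht⟩} : Set (S : Subgroup K))) = 4 := by
    refine le_antisymm (card_le_four hV hC hzV ht hz1 ht1 htz hzc) ?_
    rw [← hV.card]
    exact Nat.card_le_card_of_injective (fun y => ⟨⟨y.1, hS y.2⟩,
      mem_centralizer_singleton_iff.2 (Subtype.ext (hV.comm y.2 ht))⟩)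
      fun a b h => Subtype.ext (congrArg (fun x => x.1.1) h)
  rcases Cfsg.Agent.S3224.result S.isPGroup' _ ho hc with ⟨n, ⟨e⟩⟩ | h | h
  · rw [Nat.card_congr e.toEquiv, DihedralGroup.nat_card] at h4
    exact Or.inl ⟨n, by omega, ⟨e⟩⟩
  · exact Or.inr h
  · have e : V = S := eq_of_le_of_card_ge hS (by rw [h, hV.card])
    have : IsKleinFour (S : Subgroup K) := by
      refine ⟨h, ?_⟩
      have : Nontrivial (S : Subgroup K) := Finite.one_lt_card_iff_nontrivial.1 (by omega)
      exact Monoid.exponent_eq_prime_iff Nat.prime_two |>.2 fun g hg =>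
        orderOf_eq_prime (Subtype.ext (by rw [sq]; exact hV.sq _ (e ▸ g.2))) hg
    exact Or.inl ⟨2, le_rfl, IsKleinFour.nonempty_mulEquiv⟩

/-- Recognition of the characteristically simple groups with a self-centralizing four-group. -/
theorem CS.recog (h : CS K) {V : Subgroup K} (hV : Four V) (hC : centralizer (V : Set K) ≤ V) :
    (∀ t : K, orderOf t = 2 → Odd (centralizer ({t} : Set K)).index) ∧
      ((∃ (F : Type) (_ : Field F) (_ : Fintype F), Odd (Fintype.card F) ∧ 3 < Fintype.card F ∧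
        Nonempty (K ≃* PSL(2, F))) ∨ Nonempty (K ≃* alternatingGroup (Fin 7)) ∨
      (16 ∣ Nat.card K ∧ (Nonempty (K ≃* PSL(3, ZMod 3)) ∨ IsM11 K))) := by
  obtain ⟨S, ⟨n, hn, ⟨e⟩⟩ | hS⟩ := sylow_cases hV hC
  · refine ⟨fun t ht => odd_index_dihedral h.index_ne S e ht, ?_⟩
    have : Group.IsPerfect K := ⟨h.perfect⟩
    have q : K ≃* K ⧸ oddCore K :=
      ((QuotientGroup.quotientMulEquivOfEq h.core).trans QuotientGroup.quotientBot).symm
    rcases Cfsg.Agent.S0483.result S n hn ⟨e⟩ with ⟨F, _, _, h1, h2, ⟨f⟩⟩ | ⟨⟨f⟩⟩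
    · exact Or.inl ⟨F, _, _, h1, h2, ⟨q.trans f⟩⟩
    · exact Or.inr (Or.inl ⟨q.trans f⟩)
  · have h1 := ABG.one_class S (Or.inl hS) h.index_ne
    have := h.simple h1
    obtain ⟨F, _, _, Λ, e⟩ := ABG.exists_ctx_of_simple S (Or.inl hS)
    refine ⟨fun t ht => ?_, Or.inr (Or.inr ⟨?_, ?_⟩)⟩
    · obtain ⟨c, rfl⟩ := isConj_iff.1 (h1 _ _ Λ.hz ht)
      rw [← cj_centralizer_singleton, index_cj]
      exact odd_index_of_le Λ.S fun s hs => mem_centralizer_singleton_iff.2 (Λ.zc s hs)
    · obtain ⟨m, hm, hc, -⟩ := hS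
      refine dvd_trans ?_ (card_subgroup_dvd_card (S : Subgroup K))
      rw [hc]
      exact pow_dvd_pow 2 (show 4 ≤ m + 1 by omega)
    · obtain ⟨v, hv, hv1⟩ := exists_ne_one hV.ne_bot
      have := Fact.mk Nat.prime_two
      obtain ⟨c, hc⟩ := isConj_iff.1
        (h1 _ _ (orderOf_eq_prime (by rw [sq]; exact hV.sq v hv) hv1) Λ.hz)
      have hV' := hV.cj c
      have hz : Λ.z ∈ c •ᶜ V := hc ▸ conj_mem_cj hv
      obtain ⟨t, ht, ht1, htz⟩ := exists_pair hV' Λ.z
      have hF := three_of_ctx Λ (t := ⟨t, mem_centralizer_singleton_iff.2 (hV'.comm ht hz)⟩)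
        (Subtype.ext (hV'.sq t ht)) (card_le_four hV' (by
          rw [← cj_centralizer]; exact cj_mono c hC) hz ht (fun e => by
            have := Λ.hz
            rw [e] at this
            simp at this) ht1 htz fun y hy => mem_centralizer_singleton_iff.1 hy)
      refine (Λ.sd_three (e ▸ hS) hF).imp_left fun ⟨f⟩ => ⟨f.trans ?_⟩
      exact CL.Graph.pslCongr (ZMod.ringEquivOfPrime F Nat.prime_three hF).symm

end CL.W3
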