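import Cfsg.Agent.PERM.Wong1
import Cfsg.Agent.CLAS.AutPSL
import Cfsg.Agent.CLAS.PGL2MaxCases
import Cfsg.Agent.KSG.AltAut
import Cfsg.Agent.SPOR.Ord11c
import Cfsg.Agent.S2060

/-!
Almost simple groups with socle `A₅`, `PSL₂(p)`, `M₁₁`; small maximal subgroups.
-/

set_option autoImplicit false

namespace CL.W3

open Cfsg Subgroup CL.MSS CL.JC CL.PGL2 CL.Dk Matrix MulAction
open scoped MatrixGroups Pointwise

variable {G : Type*} [Group G] [Finite G]

omit [Finite G] in
theorem exists_aut_hom {K : Subgroup G} [K.Normal] (hC : centralizer (K : Set G) = ⊥)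
    {L : Type*} [Group L] (e : K ≃* L) : ∃ φ : G →* MulAut L, Function.Injective φ := by
  refine ⟨(MulAut.congr e).toMonoidHom.comp MulAut.conjNormal,
    (MulAut.congr e).injective.comp ((injective_iff_map_eq_one _).2 fun g hg => ?_)⟩
  rw [← mem_bot, ← hC]
  intro k hk
  have := congrArg Subtype.val (DFunLike.congr_fun hg ⟨k, hk⟩)
  rw [MulAut.conjNormal_apply] at this
  exact (mul_inv_eq_iff_eq_mul.1 this).symm

theorem two_mul_le {K : Subgroup G} (hK : K ≠ ⊤) : 2 * Nat.card K ≤ Nat.card G := by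
  rw [← K.index_mul_card]
  refine Nat.mul_le_mul_right _ ?_
  have h1 : K.index ≠ 1 := fun e => hK (index_eq_one.1 e)
  have h2 : K.index ≠ 0 := index_ne_zero_of_finite
  omega

omit [Finite G] in
theorem iso_of_le {A : Type*} [Group A] [Finite A] (φ : G →* A) (hφ : Function.Injective φ)
    (h : Nat.card A ≤ Nat.card G) : Nonempty (G ≃* A) :=
  ⟨MulEquiv.ofBijective φ ((Nat.bijective_iff_injective_and_card φ).2
    ⟨hφ, le_antisymm (Nat.card_le_card_of_injective φ hφ) h⟩)⟩

theorem iso_s5 {K : Subgroup G} [K.Normal] (hC : centralizer (K : Set G) = ⊥) (hK : K ≠ ⊤)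
    (e : K ≃* alternatingGroup (Fin 5)) : Nonempty (G ≃* Equiv.Perm (Fin 5)) := by
  obtain ⟨φ, hφ⟩ := exists_aut_hom hC e
  let ε : Equiv.Perm (Fin 5) ≃* MulAut (alternatingGroup (Fin 5)) :=
    MulEquiv.ofBijective MulAut.conjNormal ⟨(injective_iff_map_eq_one _).2 fun g hg =>
      CL.KSG.eq_one_of_commute_alt (by simp) fun k hk => by
        have := congrArg Subtype.val (DFunLike.congr_fun hg ⟨k, hk⟩)
        rw [MulAut.conjNormal_apply] at this
        exact mul_inv_eq_iff_eq_mul.1 this, fun α => by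
      obtain ⟨σ, hσ⟩ := CL.KSG.exists_perm_of_mulAut (α := Fin 5) (by simp) (by simp) α
      exact ⟨σ, MulEquiv.ext fun g => Subtype.ext (hσ g).symm⟩⟩
  refine iso_of_le (ε.symm.toMonoidHom.comp φ) (ε.symm.injective.comp hφ)
    (le_trans ?_ (two_mul_le hK))
  rw [card_of_alt_five ⟨e⟩, Nat.card_perm]
  simp [Nat.factorial]

theorem iso_pgl {K : Subgroup G} [K.Normal] (hC : centralizer (K : Set G) = ⊥) (hK : K ≠ ⊤)
    {F : Type*} [Field F] [Fintype F] (hp : (Fintype.card F).Prime) (ho : Odd (Fintype.card F))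
    (e : K ≃* PSL(2, F)) : Nonempty (G ≃* PGL(2, F)) := by
  obtain ⟨φ, hφ⟩ := exists_aut_hom hC e
  have := Fact.mk hp
  have h1 : Nat.card (F ≃+* F) = 1 := CL.FieldAut.card_ringAut (pow_one _).symm
  have h2 : (CL.AutPSL.diag (Fin 2) F).range = ⊤ := by
    rw [eq_top_iff, ← CL.AutPSL.range_gam_eq_top (by simp)]
    rintro _ ⟨γ, rfl⟩
    exact CL.AutPSL.gam_mem_range_diag_iff.2 ((Nat.card_eq_one_iff_unique.1 h1).1.elim _ _)
  let ε : MulAut PSL(2, F) ≃* PGL(2, F) :=
    (CL.AutPSL.pglEquiv.trans ((MulEquiv.subgroupCongr h2).trans topEquiv)).symm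
  refine iso_of_le (ε.toMonoidHom.comp φ) (ε.injective.comp hφ) (le_trans ?_ (two_mul_le hK))
  rw [← Nat.card_eq_fintype_card] at ho
  rw [Nat.card_congr (e.trans (pslInEquiv F)).toEquiv, card_pslIn_of_odd ho, card_PGL2]

theorem m11_top {K : Subgroup G} [K.Normal] (hC : centralizer (K : Set G) = ⊥) (h : IsM11 K) :
    K = ⊤ := by
  by_contra hK
  have := h.1
  obtain ⟨e⟩ := CL.Ord.iso_M11 h.2
  obtain ⟨φ, hφ⟩ := exists_aut_hom hC e
  have h1 := (two_mul_le hK).trans (Nat.card_le_card_of_injective φ hφ)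
  have h2 : (Inn Spor.M11).index = 1 := Cfsg.Agent.S2060.result
  have h3 : Nat.card (Inn Spor.M11) ≤ Nat.card Spor.M11 :=
    Nat.card_le_card_of_surjective _ (MonoidHom.rangeRestrict_surjective _)
  rw [index_eq_one.1 h2, card_top, ← Nat.card_congr e.toEquiv] at h3
  rw [h.2] at h1 h3
  omega

omit [Finite G] in
theorem not_max_of_action {Ω : Type*} [MulAction G Ω] [Fintype Ω] [DecidableEq Ω]
    [IsPretransitive G Ω] (hΩ : Fintype.card Ω = 11)
    (hfix : ∀ g : G, g ≠ 1 → ∀ s : Finset Ω, (∀ x ∈ s, g • x = x) → s.card ≤ 3)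
    {H Q : Subgroup G} (hH : IsCoatom H) (hi : H.index = 330) (hQ : IsPGroup 2 Q) (h1 : Q ≠ ⊥)
    (hn : H ≤ normalizer (Q : Set G)) : False := by
  classical
  have := Fact.mk Nat.prime_two
  let s : Finset Ω := Finset.univ.filter fun x => ∀ q ∈ Q, q • x = x
  have hs : ∀ x, x ∈ s ↔ ∀ q ∈ Q, q • x = x := fun x => by simp [s]
  obtain ⟨q, hq, hq1⟩ := exists_ne_one h1
  have h3 : s.card ≤ 3 := hfix q hq1 s fun x hx => (hs x).1 hx q hq
  obtain ⟨x, hx⟩ : ∃ x, x ∈ s := by
    obtain ⟨x, hx⟩ := hQ.nonempty_fixed_point_of_prime_not_dvd_card Ω (by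
      rw [Nat.card_eq_fintype_card, hΩ]; decide)
    exact ⟨x, (hs x).2 fun q hq => hx ⟨q, hq⟩⟩
  have hle : H ≤ stabilizer G s := fun g hg => by
    rw [mem_stabilizer_iff]
    refine Finset.eq_of_subset_of_card_le (fun y hy => ?_) (by rw [Finset.card_smul_finset])
    obtain ⟨y, hy', rfl⟩ := Finset.mem_smul_finset.1 hy
    refine (hs _).2 fun q hq => ?_
    have := (hs y).1 hy' _ (conj_mem_of_normalizes' hn hg hq)
    rw [mul_smul, mul_smul, inv_smul_eq_iff] at this
    exact this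
  rcases hle.lt_or_eq with e | e
  · have e' := hH.2 _ e
    have : s = Finset.univ := Finset.eq_univ_of_forall fun y => by
      obtain ⟨g, rfl⟩ := exists_smul_eq G x y
      have hg : g • s = s := mem_stabilizer_iff.1 (e' ▸ mem_top g)
      exact hg ▸ Finset.smul_mem_smul_finset hx
    rw [this, Finset.card_univ] at h3
    omega
  · rw [e, index_stabilizer] at hi
    have : (orbit G s).ncard ≤ (Finset.powersetCard s.card (Finset.univ : Finset Ω)).card := by
      rw [← Set.ncard_coe_finset]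
      refine Set.ncard_le_ncard ?_
      rintro _ ⟨g, rfl⟩
      simp [Finset.card_smul_finset]
    rw [hi, Finset.card_powersetCard, Finset.card_univ, hΩ] at this
    revert this
    generalize s.card = k at h3
    interval_cases k <;> decide

theorem m11_not_max (h : IsM11 G) {H Q : Subgroup G} (hH : IsCoatom H) (hc : Nat.card H = 24)
    (hQ : IsPGroup 2 Q) (h1 : Q ≠ ⊥) (hn : H ≤ normalizer (Q : Set G)) : False := by
  classical
  have := h.1
  obtain ⟨e⟩ := CL.Ord.iso_M11 h.2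
  have hd := CL.Golay.D0_mem
  rw [← CL.M12.squareDodecad_eq] at hd
  have hp : (some 0 : GolayPt) ∈ Spor.squareDodecad := by decide +kernel
  have m1 : ∀ g : G, (e g).1 ∈ CL.M12.St Spor.squareDodecad := fun g => (e g).2.1
  have m2 : ∀ g : G, (e g).1 (some 0) = some 0 := fun g => (e g).2.2
  let Ω := {x // x ∈ Spor.squareDodecad.erase (some 0)}
  let _ : MulAction G Ω :=
    { smul := fun g x => ⟨(e g).1 x.1, by
        obtain ⟨a, b⟩ := Finset.mem_erase.1 x.2
        refine Finset.mem_erase.2 ⟨fun c => a ((e g).1.injective (c.trans (m2 g).symm)), ?_⟩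
        have := Finset.smul_mem_smul_finset (a := (e g).1) b
        rwa [(CL.M12.mem_St.1 (m1 g)).2] at this⟩
      one_smul := fun x => Subtype.ext (by change (e 1).1 x.1 = x.1; rw [map_one]; rfl)
      mul_smul := fun a b x => Subtype.ext (by
        change (e (a * b)).1 x.1 = (e a).1 ((e b).1 x.1); rw [map_mul]; rfl) }
  have hs : ∀ (g : G) (x : Ω), (g • x).1 = (e g).1 x.1 := fun g x => rfl
  have : IsPretransitive G Ω := ⟨fun x y => by
    obtain ⟨a, b⟩ := Finset.mem_erase.1 x.2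
    obtain ⟨c, d⟩ := Finset.mem_erase.1 y.2
    obtain ⟨g, h1, h2, h3⟩ := CL.M12.trans2 hd hp b hp d a.symm c.symm
    refine ⟨e.symm ⟨g, h1, h2⟩, Subtype.ext ?_⟩
    rw [hs, e.apply_symm_apply]
    exact h3⟩
  refine not_max_of_action (Ω := Ω) ?_ (fun g hg s hx => ?_) hH ?_ hQ h1 hn
  · rw [Fintype.card_coe, Finset.card_erase_of_mem hp, hd.2]
  · by_contra h4
    have hn : some 0 ∉ s.map (Function.Embedding.subtype _) := fun c => by
      obtain ⟨x, -, hx⟩ := Finset.mem_map.1 c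
      exact (Finset.mem_erase.1 x.2).1 hx
    refine hg (e.injective (Subtype.ext ?_))
    rw [map_one]
    refine CL.M12.eq_one_of_fix (s := Finset.cons _ _ hn) hd (fun x hx => ?_)
      (by rw [Finset.card_cons, Finset.card_map]; omega) (m1 g) fun x hx' => ?_
    · rcases Finset.mem_cons.1 hx with rfl | c
      · exact hp
      · obtain ⟨y, -, rfl⟩ := Finset.mem_map.1 c
        exact (Finset.mem_erase.1 y.2).2
    · rcases Finset.mem_cons.1 hx' with rfl | c
      · exact m2 g
      · obtain ⟨y, hy, rfl⟩ := Finset.mem_map.1 c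
        exact congrArg Subtype.val (hx y hy)
  · have := H.index_mul_card
    rw [hc, h.2] at this
    omega

omit [Finite G] in
theorem covBy_map {A : Type*} [Group A] {φ : G →* A} (hφ : Function.Injective φ) {H : Subgroup G}
    (hH : IsCoatom H) : H.map φ ⋖ φ.range := by
  refine covBy_of_forall (map_le_range _ _) (fun e => hH.1 ?_) fun M h1 h2 => ?_
  · rw [eq_top_iff]
    intro x _
    exact (mem_map_iff_mem hφ).1 (e ⟨x, rfl⟩)
  · have : M.comap φ = ⊤ := hH.2 _ (lt_of_le_of_ne (map_le_iff_le_comap.1 h1.le) fun e =>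
      h1.ne (by rw [e, map_comap_eq_self h2]))
    rintro _ ⟨x, rfl⟩
    exact (this ▸ mem_top x : x ∈ M.comap φ)

omit [Finite G] in
theorem psl_octa {F : Type} [Field F] [Fintype F] (ho : Odd (Fintype.card F))
    (e : G ≃* PSL(2, F)) {H : Subgroup G} (hH : IsCoatom H) (i : H ≃* Equiv.Perm (Fin 4))
    (h16 : 16 ∣ Nat.card G) : ∃ p : ℕ, p.Prime ∧ (p % 16 = 1 ∨ p % 16 = 15) ∧
      Nonempty (G ≃* PSL(2, ZMod p)) := by
  obtain ⟨φ, hφ, hr⟩ := CL.AbS.exists_embed e
  have hc := covBy_map hφ hH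
  rw [← Nat.card_eq_fintype_card] at ho
  have h2 := two_ne_zero_of_odd ho
  obtain ⟨B, hB⟩ := exists_eq_octa h2 (H := H.map φ) ⟨(H.equivMapOfInjective φ hφ).symm.trans i⟩
  rw [hB, hr] at hc
  have hq : Nat.card F % 16 = 1 ∨ Nat.card F % 16 = 15 := by
    have h1 := card_pslIn_of_odd ho
    rw [← Nat.card_congr (e.trans (pslInEquiv F)).toEquiv] at h1
    obtain ⟨k, hk⟩ := h16
    have h3 : 32 ∣ Nat.card F ^ 2 - 1 := by
      refine (Nat.Coprime.pow_left 5 (Nat.coprime_two_left.2 ho)).dvd_of_dvd_mul_left ⟨k, ?_⟩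
      rw [← h1, hk]; ring
    have h4 : 1 ≤ Nat.card F ^ 2 := Nat.one_le_pow _ _ Nat.card_pos
    have h5 : (Nat.card F % 32) ^ 2 % 32 = 1 := by rw [← Nat.pow_mod]; omega
    have h6 : Nat.card F % 16 = Nat.card F % 32 % 16 := by omega
    have h7 : Nat.card F % 32 < 32 := Nat.mod_lt _ (by decide)
    rw [h6]
    revert h5
    generalize Nat.card F % 32 = r at h7
    interval_cases r <;> decide
  obtain ⟨p, hp⟩ := CharP.exists F
  have hp' : Fact p.Prime := ⟨CharP.char_is_prime F p⟩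
  have hp2 : p ≠ 2 := by
    rintro rfl
    exact h2 (CharP.cast_eq_zero F 2)
  rcases card_of_octa_covBy p hp2 hc with ⟨h1, -⟩ | ⟨k, g, h1, h3⟩
  · refine ⟨p, hp'.out, h1 ▸ hq, ⟨e.trans (CL.Graph.pslCongr
      (ZMod.ringEquivOfPrime F hp'.out (by rw [← Nat.card_eq_fintype_card, h1])).symm)⟩⟩
  · exfalso
    have h4 := card_octa h2 B
    rw [h3, card_cjs, card_pglOf] at h4
    rw [mul_sq_sub_one_injective (b := 3) (by decide) h4] at h1
    omega

theorem not_max_six {M H X : Subgroup G} (hM : Nat.card M = 24) (hG : Nat.card G = 168)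
    (hH : IsCoatom H) (h6 : Nat.card H ∣ 6) (hX : Nat.card X = 3)
    (hN : normalizer (X : Set G) = H) : False := by
  have := Fact.mk Nat.prime_three
  obtain ⟨g, -, hg⟩ := exists_le_cjs_of_card (L := ⊤) (D := X) (S := M) 3 1 le_top le_top hX
    (by rw [hM]; decide) (by rw [card_top, hG]; decide)
  have hM' : Nat.card (cjs g M) = 24 := by rw [card_cjs, hM]
  generalize cjs g M = N at hg hM'
  have hp : IsPGroup 3 X := IsPGroup.of_card (n := 1) hX
  have hrel : X.relIndex N = 8 := by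
    have := (X.subgroupOf N).index_mul_card
    rw [Nat.card_congr (subgroupOfEquivOfLe hg).toEquiv, hX, hM'] at this
    change (X.subgroupOf N).index = 8
    omega
  have hS : SylIn 3 X N := sylIn_of_not_dvd_relIndex hp hg (by rw [hrel]; decide)
  have h1 := card_sylow_modEq_one 3 N
  rw [hS.toSylow.card_eq_index_normalizer] at h1
  change (normalizer ((X.subgroupOf N : Subgroup N) : Set N)).index ≡ 1 [MOD 3] at h1
  rw [← subgroupOf_normalizer_eq hg, hN] at h1
  have h2 := (H.subgroupOf N).index_mul_card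
  rw [← inf_subgroupOf_right, Nat.card_congr (subgroupOfEquivOfLe inf_le_right).toEquiv,
    inf_subgroupOf_right, hM'] at h2
  have h3 : Nat.card ↥(H ⊓ N) ∣ Nat.card H := card_dvd_of_le inf_le_left
  have h4 : 3 ∣ Nat.card ↥(H ⊓ N) := hX ▸ card_dvd_of_le (le_inf (hN ▸ le_normalizer) hg)
  have h5 := Nat.le_of_dvd (by decide) (h3.trans h6)
  have h7 := Nat.le_of_dvd (by decide) h6
  have h8 : Nat.card ↥(H ⊓ N) = 6 := by
    generalize Nat.card ↥(H ⊓ N) = c at h2 h4 h5
    generalize (H.subgroupOf N).index = d at h1 h2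
    unfold Nat.ModEq at h1
    interval_cases c <;> omega
  have h9 : H ⊓ N = H := eq_of_le_of_card_ge inf_le_left (by omega)
  rcases (inf_eq_left.1 h9).lt_or_eq with e | e
  · rw [hH.2 _ e, card_top] at hM'
    omega
  · rw [e] at h7
    omega

omit [Finite G] in
theorem exists_24 (e : G ≃* PSL(2, ZMod 7)) :
    Nat.card G = 168 ∧ ∃ M : Subgroup G, Nat.card M = 24 := by
  have := Fact.mk (show Nat.Prime 7 by decide)
  have hF : Nat.card (ZMod 7) = 7 := by simp
  have ho : Odd (Nat.card (ZMod 7)) := by rw [hF]; decide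
  obtain ⟨φ, hφ, hr⟩ := CL.AbS.exists_embed (F := ZMod 7) e
  obtain ⟨B⟩ := nonempty_QB_of_finite (F := ZMod 7)
  have h2 := two_ne_zero_of_odd ho
  have h1 := card_pslIn_of_odd ho
  rw [← hr, card_range_of_injective hφ, hF] at h1
  refine ⟨by omega, (octa B).comap φ, ?_⟩
  rw [CL.AbS.card_comap_eq hφ, hr, inf_eq_left.2 ((octa_le_pslIn_iff h2 B).2
    ((isSquare_two_iff_of_odd ho).2 (by rw [hF]; decide))), card_octa h2]

end CL.W3
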