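import Cfsg.Agent.PERM.Wong2
import Cfsg.Agent.S3331
import Cfsg.Agent.S0144

/-!
Non-solvable groups with a core-free maximal subgroup of order 3, 6 or dihedral of order 12.
-/

set_option autoImplicit false

namespace CL.W3

open Cfsg Subgroup CL.MSS CL.JC CL.PGL2 CL.Dk Matrix
open scoped MatrixGroups

variable {G : Type*} [Group G] [Finite G]

/-- A solvable core-free maximal subgroup of a non-solvable group. -/
structure Mx (H : Subgroup G) : Prop where
  nsolv : ¬ Group.IsSolvable G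
  solv : Group.IsSolvable H
  max : IsCoatom H
  free : ∀ N : Subgroup G, N.Normal → N ≤ H → N = ⊥

theorem sc3 (hns : ¬ Group.IsSolvable G) (h2 : ∀ N : Subgroup G, N.Normal → IsPGroup 2 N → N = ⊥)
    {X : Subgroup G} (hX : Nat.card X = 3) (hC : centralizer (X : Set G) ≤ X) :
    Nonempty (G ≃* alternatingGroup (Fin 5)) ∨ Nonempty (G ≃* PSL(2, ZMod 7)) := by
  have := Fact.mk Nat.prime_three
  have hc := (isCyclic_of_prime_card hX).isMulCommutative
  rcases Cfsg.Agent.S3331.result X hX (le_antisymm hC (le_centralizer X)) with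
    ⟨N, _, h1, -, h3⟩ | ⟨N, _, -, h1, ⟨e⟩⟩ | h
  · refine absurd ?_ hns
    have : Group.IsSolvable (G ⧸ N) := by
      rcases h3 with h3 | ⟨⟨e⟩⟩
      · have := (isCyclic_of_prime_card h3).isMulCommutative
        exact CL.isSolvable_of_isMulCommutative _
      · exact Cfsg.Agent.S0144.result 2 3 1 1 Nat.prime_two Nat.prime_three (by
          rw [Nat.card_congr e.toEquiv, Nat.card_perm]; simp [Nat.factorial])
    exact Group.isSolvable_of_ker_le_range N.subtype (QuotientGroup.mk' N) (by simp)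
  · have hN := h2 N inferInstance (isPGroup_of_sq fun y hy => by rw [← sq]; exact h1 y hy)
    exact Or.inl ⟨((QuotientGroup.quotientMulEquivOfEq hN).trans
      QuotientGroup.quotientBot).symm.trans e⟩
  · exact Or.inr h

theorem le_normalizer_zpowers {H : Subgroup G} {x : G}
    (h : ∀ g ∈ H, g * x * g⁻¹ ∈ zpowers x) : H ≤ normalizer (zpowers x : Set G) := fun g hg =>
  mem_normalizer_of_cj_le (by rw [cj_zpowers, zpowers_le]; exact h g hg)

namespace Mx

variable {H : Subgroup G} (h : Mx H)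
include h

omit [Finite G] in
theorem sup_eq (N : Subgroup G) [hN : N.Normal] (h1 : N ≠ ⊥) : H ⊔ N = ⊤ :=
  h.max.2 _ (lt_of_le_of_ne le_sup_left fun e => h1 (h.free N hN (e ▸ le_sup_right)))

omit [Finite G] in
theorem eq_bot (N : Subgroup G) [N.Normal] (hs : Group.IsSolvable N) : N = ⊥ := by
  by_contra h1
  have := CL.isSolvable_sup_of_normal h.solv hs
  rw [h.sup_eq N h1] at this
  exact h.nsolv (CL.isSolvable_of_mulEquiv topEquiv)

theorem two_group (N : Subgroup G) (_ : N.Normal) (hN : IsPGroup 2 N) : N = ⊥ := by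
  have := Fact.mk Nat.prime_two
  have := hN.isNilpotent
  exact h.eq_bot N inferInstance

omit [Finite G] in
theorem norm {X : Subgroup G} (h1 : X ≠ ⊥) (hX : X ≤ H) (hn : H ≤ normalizer (X : Set G)) :
    normalizer (X : Set G) = H :=
  (hn.lt_or_eq.resolve_left fun e => h1 (h.free X (normalizer_eq_top_iff.1 (h.max.2 _ e)) hX)).symm

omit [Finite G] in
theorem cent (K : Subgroup G) [K.Normal] (h1 : K ≠ ⊥) : centralizer (K : Set G) = ⊥ := by
  by_contra h2
  have h3 := h.sup_eq _ h2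
  refine h1 (h.eq_bot K (CL.isSolvable_of_map_of_inf_ker K
    (QuotientGroup.mk' (centralizer (K : Set G))) ?_ ?_))
  · have := h.solv
    refine CL.Dk.isSolvable_of_le (S := H.map (QuotientGroup.mk' _)) ?_ (CL.isSolvable_map H _)
    have : H.map (QuotientGroup.mk' (centralizer (K : Set G))) = ⊤ := by
      rw [← comap_injective (QuotientGroup.mk'_surjective _) |>.eq_iff, comap_map_eq,
        QuotientGroup.ker_mk', h3, comap_top]
    rw [this]
    exact le_top
  · rw [QuotientGroup.ker_mk']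
    exact Group.isSolvable_of_comm fun a b => Subtype.ext (b.2.2 a a.2.1)

omit [Finite G] in
theorem cs {K : Subgroup G} (hK : CL.IsMinNormal K) : CS K :=
  have := hK.normal
  ⟨fun N _ => hK.eq_bot_or_top_of_characteristic N, fun e => hK.ne_bot (h.eq_bot K e)⟩

omit [Finite G] in
theorem cs_top (hK : CL.IsMinNormal (⊤ : Subgroup G)) : CS G :=
  ⟨fun _ _ => or_iff_not_imp_left.2 fun e => hK.eq_of_le le_top e, h.nsolv⟩

theorem mem_of_conj {x y : G} (hx : x ∈ H) (h1 : x ≠ 1) (hn : ∀ g ∈ H, g * x * g⁻¹ ∈ zpowers x)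
    (hy : y * x = x * y) : y ∈ H := by
  rw [← h.norm (zpowers_ne_bot.2 h1) (zpowers_le.2 hx) (le_normalizer_zpowers hn)]
  refine mem_normalizer_of_cj_le ?_
  rw [cj_zpowers, hy, mul_inv_cancel_right]

theorem exists_min : ∃ K : Subgroup G, CL.IsMinNormal K ∧ K ≤ pResidual 2 G := by
  have := Fact.mk Nat.prime_two
  refine CL.exists_isMinNormal_le _ fun e => h.nsolv ?_
  have := (CL.isPGroup_iff_pResidual_eq_bot.2 e).isNilpotent
  infer_instance

theorem small {X : Subgroup G} (hX : Nat.card X = 3) (hXH : X ≤ H)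
    (hn : H ≤ normalizer (X : Set G)) (hc : ∀ y ∈ H, y ∈ centralizer (X : Set G) → y ∈ X)
    (h6 : Nat.card H ∣ 6) : Nonempty (G ≃* alternatingGroup (Fin 5)) := by
  have hN := h.norm (fun e => by rw [e, card_bot] at hX; omega) hXH hn
  refine (sc3 h.nsolv h.two_group hX fun y hy =>
    hc y (hN ▸ centralizer_le_normalizer _ hy) hy).resolve_right fun ⟨e⟩ => ?_
  obtain ⟨h1, M, hM⟩ := exists_24 e
  exact not_max_six hM h1 h.max h6 hX hN

theorem three (hc : Nat.card H = 3) : Nonempty (G ≃* alternatingGroup (Fin 5)) :=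
  h.small hc le_rfl le_normalizer (fun _ hy _ => hy) (by rw [hc]; decide)

theorem six (e : H ≃* Equiv.Perm (Fin 3)) : Nonempty (G ≃* alternatingGroup (Fin 5)) := by
  have := Fact.mk Nat.prime_three
  obtain ⟨ψ, hψ, hr, -⟩ := exists_model e
  let c : Equiv.Perm (Fin 3) := finRotate 3
  have a1 : ∀ g : Equiv.Perm (Fin 3), g * c * g⁻¹ = c ∨ g * c * g⁻¹ = c * c := by decide
  have a2 : ∀ g : Equiv.Perm (Fin 3), c * g = g * c → g = 1 ∨ g = c ∨ g = c * c := by decide
  have a3 : orderOf c = 3 := orderOf_eq_prime (by decide) (by decide)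
  have m : ∀ g, g = 1 ∨ g = c ∨ g = c * c → ψ g ∈ zpowers (ψ c) := by
    rintro g (rfl | rfl | rfl)
    · rw [map_one]; exact one_mem _
    · exact mem_zpowers _
    · rw [map_mul]; exact mul_mem (mem_zpowers _) (mem_zpowers _)
  refine h.small (X := zpowers (ψ c)) (by rw [Nat.card_zpowers, orderOf_injective ψ hψ, a3])
    (zpowers_le.2 ((hr _).2 ⟨_, rfl⟩)) (le_normalizer_zpowers fun g hg => ?_) (fun y hy hy' => ?_)
    (by rw [Nat.card_congr e.toEquiv, Nat.card_perm]; simp [Nat.factorial])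
  · obtain ⟨g, rfl⟩ := (hr g).1 hg
    rw [← map_inv, ← map_mul, ← map_mul]
    exact m _ (Or.inr (a1 g))
  · obtain ⟨g, rfl⟩ := (hr y).1 hy
    exact m _ (a2 g (hψ (by rw [map_mul, map_mul]; exact hy' _ (mem_zpowers _))))

end Mx

open DihedralGroup in
theorem d6_a : ∀ d : DihedralGroup 6, d = 1 ∨ d = r 3 ∨
    ∃ g, d * (g * d * g⁻¹) = r 2 ∨ d * (g * d * g⁻¹) * (d * (g * d * g⁻¹)) = r 2 := by decide

open DihedralGroup in
theorem d6_b : ∀ d : DihedralGroup 6, d * r 2 = r 2 * d →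
    (d = 1 ∨ d = r 2 ∨ d = r 2 * r 2) ∨ d * d * d = r 3 := by decide

open DihedralGroup in
theorem d6_c : ∀ g : DihedralGroup 6, g * r 2 * g⁻¹ = r 2 ∨ g * r 2 * g⁻¹ = r 2 * r 2 := by decide

open DihedralGroup in
theorem d6_d : ∀ g : DihedralGroup 6, g * r 3 = r 3 * g := by decide

open DihedralGroup in
theorem d6_e : ∀ d : DihedralGroup 6, (d ^ 2 ^ 2 = 1 → d = 1 ∨ d = r 3) ∨
    ∀ x, ∃ g, x = d * (g * d * g⁻¹) ∨ x = r 3 * (d * (g * d * g⁻¹)) ∨ x = g * d * g⁻¹ ∨
      x = r 3 * (g * d * g⁻¹) := by decide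

open DihedralGroup in
theorem d6_f : ∀ d : DihedralGroup 6, d * sr 0 = sr 0 * d →
    d = 1 ∨ d = r 3 ∨ d = sr 0 ∨ d = r 3 * sr 0 := by decide

theorem d6_g {d : DihedralGroup 6} {k : ℕ} (h : d ^ 2 ^ k = 1) : d ^ 2 ^ 2 = 1 := by
  have h1 : orderOf d ∣ 2 ^ 2 * 3 := by
    have := orderOf_dvd_natCard d
    rwa [DihedralGroup.nat_card] at this
  exact orderOf_dvd_iff_pow_eq_one.1 ((Nat.Coprime.coprime_dvd_left (orderOf_dvd_of_pow_eq_one h)
    (Nat.Coprime.pow_left k (by decide))).dvd_of_dvd_mul_right h1)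

theorem eq_one_of_isolated (h2 : ∀ H : Subgroup G, H.index ≠ 2) {u : G} (hu : u * u = 1)
    (h : ∀ (p : G) (k : ℕ), p ^ 2 ^ k = 1 → p * u = u * p → p = 1 ∨ p = u) : u = 1 := by
  have := Fact.mk Nat.prime_two
  by_contra h1
  obtain ⟨S, hS⟩ := (isPGroup_zpowers (p := 2) (k := 1) (x := u) (by simpa [sq] using hu)
    ).exists_le_sylow
  have huS := hS (mem_zpowers u)
  have key : ∀ p ∈ (S : Subgroup G), p * u = u * p → p = 1 ∨ p = u := fun p hp =>
    let ⟨k, hk⟩ := isPGroup_iff_forall_mem.1 S.isPGroup' p hp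
    h p k hk
  obtain ⟨c, hc, hc1⟩ := exists_ne_one (inf_centralizer_ne_bot S.isPGroup' S.isPGroup'
    le_normalizer fun e => h1 (mem_bot.1 (e ▸ huS)))
  have e : c = u := (key c hc.1 (hc.2 u huS).symm).resolve_left hc1
  have hle : (S : Subgroup G) ≤ zpowers u := fun p hp => by
    rcases key p hp (e ▸ hc.2 p hp) with rfl | rfl
    exacts [one_mem _, mem_zpowers _]
  obtain ⟨g, hg⟩ := CL.ThompsonTransfer.exists_conj_mem h2 S bot_le (by
    rw [relIndex_bot_left]
    refine (card_dvd_of_le hle).trans ?_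
    rw [Nat.card_zpowers]
    exact orderOf_dvd_of_pow_eq_one (by rw [sq, hu])) hu
  exact h1 (by simpa using hg)

omit [Finite G] in
theorem card_alt_seven (e : G ≃* alternatingGroup (Fin 7)) : Nat.card G = 2520 := by
  rw [Nat.card_congr e.toEquiv, nat_card_alternatingGroup]
  simp [Nat.factorial]

open DihedralGroup in
theorem Mx.twelve {H : Subgroup G} (h : Mx H) (e : H ≃* DihedralGroup 6) :
    Nonempty (G ≃* Equiv.Perm (Fin 5)) ∨ Nonempty (G ≃* PGL(2, ZMod 7)) ∨
      Nonempty (G ≃* PSL(2, ZMod 11)) ∨ Nonempty (G ≃* PSL(2, ZMod 13)) := by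
  have := Fact.mk Nat.prime_two
  have := Fact.mk Nat.prime_three
  obtain ⟨ψ, hψ, hr, -⟩ := exists_model e
  have mH : ∀ d, ψ d ∈ H := fun d => (hr _).2 ⟨d, rfl⟩
  have ne1 : ∀ d, d ≠ 1 → ψ d ≠ 1 := fun d hd e => hd (hψ (e.trans (map_one ψ).symm))
  have zc : ∀ d, ψ d * ψ (r 3) = ψ (r 3) * ψ d := fun d => by rw [← map_mul, ← map_mul, d6_d]
  have zz : ψ (r 3) * ψ (r 3) = 1 := by rw [← map_mul, ← map_one ψ]; rfl
  have hz : ∀ y, y * ψ (r 3) = ψ (r 3) * y → ∃ d, ψ d = y := fun y hy =>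
    (hr y).1 (h.mem_of_conj (mH _) (ne1 _ (by decide)) (fun g hg => by
      obtain ⟨g, rfl⟩ := (hr g).1 hg
      rw [zc, mul_inv_cancel_right]
      exact mem_zpowers _) hy)
  obtain ⟨K, hK, -⟩ := h.exists_min
  have hn := hK.normal
  have cK : ∀ d g, ψ d ∈ K → ψ (g * d * g⁻¹) ∈ K := fun d g hd => by
    rw [map_mul, map_mul, map_inv]; exact hn.conj_mem _ hd _
  have mK : ∀ a b, ψ a ∈ K → ψ b ∈ K → ψ (a * b) ∈ K := fun a b ha hb => by
    rw [map_mul]; exact mul_mem ha hb
  have cs := h.cs hK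
  by_cases hzK : ψ (r 3) ∈ K
  · have hH : H ≤ K := by
      by_contra hH
      refine ne1 (r 3) (by decide) (congrArg Subtype.val (eq_one_of_isolated cs.index_ne
        (u := ⟨_, hzK⟩) (Subtype.ext zz) fun p k hp hc => ?_))
      obtain ⟨d, hd⟩ := hz p (congrArg Subtype.val hc)
      have hdK : ψ d ∈ K := hd ▸ p.2
      rcases d6_e d with a | a
      · rcases a (d6_g (k := k) (hψ (by
          rw [map_pow, hd, map_one]; exact congrArg Subtype.val hp))) with rfl | rfl
        · exact Or.inl (Subtype.ext (by rw [← hd, map_one]; rfl))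
        · exact Or.inr (Subtype.ext hd.symm)
      · refine absurd (fun y hy => ?_) hH
        obtain ⟨x, rfl⟩ := (hr y).1 hy
        obtain ⟨g, rfl | rfl | rfl | rfl⟩ := a x
        exacts [mK _ _ hdK (cK _ _ hdK), mK _ _ hzK (mK _ _ hdK (cK _ _ hdK)), cK _ _ hdK,
          mK _ _ hzK (cK _ _ hdK)]
    have hT : K = ⊤ := by rw [← h.sup_eq K hK.ne_bot, sup_eq_right.2 hH]
    subst hT
    have tt : ψ (sr 0) * ψ (sr 0) = 1 := by rw [← map_mul, ← map_one ψ]; rfl
    have hV := isKleinFour_fourOf (hx := zz) (hy := tt) (h := zc _) (ne1 _ (by decide))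
      (ne1 _ (by decide)) fun e => absurd (hψ e) (by decide)
    obtain ⟨h1, h2⟩ := (h.cs_top hK).recog (V := fourOf _ _ zz tt (zc _))
      ⟨hV.card_four, fun w hw => by
        have := congrArg Subtype.val (IsKleinFour.mul_self (⟨w, hw⟩ : fourOf _ _ zz tt (zc _)))
        exact this⟩ fun y hy => by
        obtain ⟨d, rfl⟩ := hz y (hy _ (mem_fourOf.2 (Or.inr (Or.inl rfl)))).symm
        have := (hy _ (mem_fourOf.2 (Or.inr (Or.inr (Or.inl rfl))))).symm
        rw [← map_mul, ← map_mul] at this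
        exact mem_fourOf.2 ((d6_f d (hψ this)).imp (fun a => by rw [a, map_one])
          (Or.imp (congrArg ψ) (Or.imp (congrArg ψ) fun a => by rw [a, map_mul])))
    have ho : orderOf (ψ (r 3)) = 2 := orderOf_eq_prime (by rw [sq, zz]) (ne1 _ (by decide))
    have hC : Nat.card (centralizer ({ψ (r 3)} : Set G)) = 12 := by
      have : centralizer ({ψ (r 3)} : Set G) = H := by
        ext y
        rw [mem_centralizer_singleton_iff, hr]
        exact ⟨hz y, fun ⟨d, hd⟩ => hd ▸ zc d⟩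
      rw [this, Nat.card_congr e.toEquiv, DihedralGroup.nat_card]
    have h8 : ¬ 8 ∣ Nat.card G := by
      obtain ⟨k, hk⟩ := h1 _ ho
      rw [← (centralizer ({ψ (r 3)} : Set G)).index_mul_card, hC, hk]
      omega
    rcases h2 with ⟨F, _, _, h3, h4, ⟨f⟩⟩ | ⟨⟨f⟩⟩ | ⟨h3, -⟩
    · obtain ⟨φ, hφ, hφ'⟩ := CL.AbS.exists_embed f
      obtain ⟨T, -, -, -, h5, h6, -⟩ := CL.AbS.exists_torus (by rwa [Nat.card_eq_fintype_card])
        hφ hφ' ho
      rw [Nat.card_eq_fintype_card (α := F)] at h6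
      rcases h6 with h6 | h6
      · exact Or.inr (Or.inr (Or.inr ⟨f.trans (CL.Graph.pslCongr
          (ZMod.ringEquivOfPrime F (by decide) (by omega)).symm)⟩))
      · exact Or.inr (Or.inr (Or.inl ⟨f.trans (CL.Graph.pslCongr
          (ZMod.ringEquivOfPrime F (by decide) (by omega)).symm)⟩))
    · exact absurd (by rw [card_alt_seven f]; decide) h8
    · exact absurd (dvd_trans (by decide) h3) h8
  · have hxK : ψ (r 2) ∈ K := by
      by_contra hx
      refine cs.nsolv (Group.isSolvable_of_comm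
        (MonoidHom.FixedPointFree.commute_all_of_involutive
          (φ := (MulAut.conjNormal (ψ (r 3)) : MulAut K)) (fun g hg => ?_) fun g => ?_))
      · have := congrArg Subtype.val hg
        rw [MulAut.conjNormal_apply, mul_inv_eq_iff_eq_mul] at this
        obtain ⟨d, hd⟩ := hz g this.symm
        have hdK : ψ d ∈ K := hd ▸ g.2
        rcases d6_a d with rfl | rfl | ⟨c, a | a⟩
        · exact Subtype.ext (by rw [← hd, map_one]; rfl)
        · exact absurd hdK hzK
        · exact absurd (a ▸ mK _ _ hdK (cK _ _ hdK)) hx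
        · exact absurd (a ▸ mK _ _ (mK _ _ hdK (cK _ _ hdK)) (mK _ _ hdK (cK _ _ hdK))) hx
      · rw [← MulAut.mul_apply, ← map_mul, zz, map_one, MulAut.one_apply]
    have m : ∀ g, g = 1 ∨ g = r 2 ∨ g = r 2 * r 2 → ψ g ∈ zpowers (ψ (r 2)) := by
      rintro g (rfl | rfl | rfl)
      · rw [map_one]; exact one_mem _
      · exact mem_zpowers _
      · rw [map_mul]; exact mul_mem (mem_zpowers _) (mem_zpowers _)
    have hKT : K ≠ ⊤ := fun e => hzK (e ▸ mem_top _)
    have hle : zpowers (ψ (r 2)) ≤ K := zpowers_le.2 hxK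
    rcases sc3 cs.nsolv (fun N _ => cs.two_group) (X := (zpowers (ψ (r 2))).subgroupOf K) (by
      rw [Nat.card_congr (subgroupOfEquivOfLe hle).toEquiv, Nat.card_zpowers,
        orderOf_injective ψ hψ]
      exact orderOf_eq_prime (by decide) (by decide)) (fun y hy => by
      have hc : (y : G) * ψ (r 2) = ψ (r 2) * y :=
        (congrArg Subtype.val (hy ⟨_, hxK⟩ (mem_zpowers _))).symm
      obtain ⟨d, hd⟩ := (hr y).1 (h.mem_of_conj (mH _) (ne1 _ (by decide)) (fun g hg => by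
        obtain ⟨g, rfl⟩ := (hr g).1 hg
        rw [← map_inv, ← map_mul, ← map_mul]
        exact m _ (Or.inr (d6_c g))) hc)
      have hdK : ψ d ∈ K := hd ▸ y.2
      rw [← hd, ← map_mul, ← map_mul] at hc
      rcases d6_b d (hψ hc) with a | a
      · exact mem_subgroupOf.2 (hd ▸ m d a)
      · exact absurd (a ▸ mK _ _ (mK _ _ hdK hdK) hdK) hzK) with ⟨⟨f⟩⟩ | ⟨⟨f⟩⟩
    · exact Or.inl (iso_s5 (h.cent K hK.ne_bot) hKT f)
    · have := Fact.mk (show Nat.Prime 7 by decide)
      exact Or.inr (Or.inl (iso_pgl (F := ZMod 7) (h.cent K hK.ne_bot) hKT (by simpa using this.out)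
        (by decide) f))

end CL.W3
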