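import Cfsg.Agent.PERM.Wong3
import Cfsg.Agent.PERM.Sims

/-!
Non-solvable groups with a core-free maximal subgroup `S₄` or `S₄ × C₂` meeting a conjugate in a
subgroup of index three.
-/

set_option autoImplicit false

namespace CL.W3

open Cfsg Subgroup CL.MSS CL.JC CL.PGL2 CL.Dk Matrix
open scoped MatrixGroups

variable {G : Type*} [Group G] [Finite G]

omit [Finite G] in
theorem eq_or_eq_of_three {T M H : Subgroup G} (h1 : T ≤ M) (h2 : M ≤ H) (h : T.relIndex H = 3) :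
    M = T ∨ M = H := by
  rw [← relIndex_mul_relIndex T M H h1 h2] at h
  exact (Nat.prime_mul_iff.1 (h ▸ Nat.prime_three)).symm.imp
    (fun e => le_antisymm (relIndex_eq_one.1 e.2) h1) fun e => le_antisymm h2 (relIndex_eq_one.1 e.2)

theorem exists_over {T : Subgroup G} (hT : IsPGroup 2 T) {n : G} (hn : n ∈ normalizer (T : Set G))
    (h1 : n ∉ T) (h2 : n * n ∈ T) :
    ∃ S, SylIn 2 S ⊤ ∧ T ≤ S ∧ n ∈ S ∧ 2 * Nat.card T ∣ Nat.card S := by
  have := Fact.mk Nat.prime_two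
  obtain ⟨k, hk⟩ := isPGroup_iff_forall_mem.1 hT _ h2
  obtain ⟨S, hS, hle⟩ := exists_sylIn_ge (isPGroup_sup_of_normalizes
    (isPGroup_zpowers (k := k + 1) (by rw [pow_succ', pow_mul, sq, hk])) hT (zpowers_le.2 hn)) le_top
  have h3 : T ≤ S := le_sup_right.trans hle
  have h4 : n ∈ S := hle (mem_sup_left (mem_zpowers n))
  refine ⟨S, hS, h3, h4, ?_⟩
  obtain ⟨j, hj⟩ := hS.pgroup.index (T.subgroupOf S)
  rw [← (T.subgroupOf S).index_mul_card, Nat.card_congr (subgroupOfEquivOfLe h3).toEquiv, hj]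
  refine Nat.mul_dvd_mul_right (dvd_pow_self 2 fun e => h1 ?_) _
  rw [e, pow_zero] at hj
  exact relIndex_eq_one.1 hj h4

namespace Mx

variable {H : Subgroup G} (h : Mx H)
include h

omit [Finite G] in
theorem cj (g : G) : Mx (g •ᶜ H) :=
  have := h.solv
  ⟨h.nsolv, CL.isSolvable_of_mulEquiv (cjEquiv g H), isCoatom_cj g h.max, fun N hN e =>
    h.free N hN (by rwa [le_cj_iff, cj_eq_of_normal] at e)⟩

theorem maxLocal {Q : Subgroup G} (hQ : IsPGroup 2 Q) (h1 : Q ≠ ⊥) (hle : Q ≤ H)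
    (hn : H ≤ normalizer (Q : Set G)) : IsMaximalTwoLocal H := by
  refine ⟨⟨Q, hQ, h1, (h.norm h1 hle hn).symm⟩, ?_⟩
  rintro _ ⟨R, a, b, rfl⟩ c
  exact (c.lt_or_eq.resolve_left fun e =>
    b (h.two_group R (normalizer_eq_top_iff.1 (h.max.2 _ e)) a)).symm

theorem exists_central (K : Subgroup G) [K.Normal] (h1 : K ≠ ⊥) {S : Subgroup G}
    (hS : SylIn 2 S ⊤) : ∃ c ∈ K, c ≠ 1 ∧ ∀ s ∈ S, s * c = c * s := by
  have := Fact.mk Nat.prime_two
  have hn : ∀ X : Subgroup G, X ≤ normalizer (K : Set G) := fun X => by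
    rw [normalizer_eq_top]; exact le_top
  obtain ⟨c, hc, hc1⟩ := exists_ne_one (inf_centralizer_ne_bot hS.pgroup
    (hS.pgroup.to_inf_left (K := K)) (le_normalizer_inf le_normalizer (hn S))
    ((hS.inf_normal_of_le (hn ⊤) le_top).ne_bot (by
      by_contra e
      exact h1 (h.eq_bot K (Cfsg.Agent.S0205.result
        (Nat.odd_iff.2 (Nat.two_dvd_ne_zero.1 e)))))))
  exact ⟨c, hc.1.2, hc1, hc.2⟩

omit h in
theorem exists_n {g : G} (h3 : (g •ᶜ H).relIndex H = 3) {k : ℕ} (hc : Nat.card H = 3 * 2 ^ k) :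
    SylIn 2 (H ⊓ g •ᶜ H) H ∧ SylIn 2 (H ⊓ g •ᶜ H) (g •ᶜ H) ∧ (H ⊓ g •ᶜ H).relIndex H = 3 ∧
      Nat.card ↥(H ⊓ g •ᶜ H) = 2 ^ k ∧ H ≠ g •ᶜ H ∧
      ∃ n ∈ normalizer ((H ⊓ g •ᶜ H : Subgroup G) : Set G), n •ᶜ H = g •ᶜ H := by
  have := Fact.mk Nat.prime_two
  have h4 : (H ⊓ g •ᶜ H).relIndex H = 3 := by rwa [inf_relIndex_left]
  have h5 : Nat.card ↥(H ⊓ g •ᶜ H) = 2 ^ k := by
    have := ((H ⊓ g •ᶜ H).subgroupOf H).index_mul_card
    rw [Nat.card_congr (subgroupOfEquivOfLe inf_le_left).toEquiv, hc] at this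
    change (H ⊓ g •ᶜ H).relIndex H * _ = _ at this
    rw [h4] at this
    omega
  have hp : IsPGroup 2 ↥(H ⊓ g •ᶜ H) := IsPGroup.of_card h5
  have s₁ := sylIn_of_not_dvd_relIndex hp inf_le_left (by rw [h4]; decide)
  have s₂ : SylIn 2 (H ⊓ g •ᶜ H) (g •ᶜ H) :=
    (s₁.cj g).of_card_le hp inf_le_right (card_cj _ _).le
  obtain ⟨x, hx, e⟩ := (s₁.cj g).exists_conj s₂
  refine ⟨s₁, s₂, h4, h5, fun e => ?_, x * g, mem_normalizer_iff_cj.2 (by rw [cj_mul, e]),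
    by rw [cj_mul, cj_eq_of_mem hx]⟩
  rw [← e, relIndex_self] at h3
  omega

theorem s4 {g : G} (h3 : (g •ᶜ H).relIndex H = 3) (e : H ≃* S4) :
    (∃ p : ℕ, p.Prime ∧ (p % 16 = 1 ∨ p % 16 = 15) ∧ Nonempty (G ≃* PSL(2, ZMod p))) ∨
      Nonempty (G ≃* PSL(3, ZMod 3)) := by
  have := Fact.mk Nat.prime_two
  obtain ⟨Q₁, x₁⟩ := exists_x4 ⟨e⟩
  obtain ⟨Q₂, x₂⟩ := exists_x4 ⟨(cjEquiv g H).symm.trans e⟩
  obtain ⟨s₁, s₂, r3, cT, hne, n, hn, hnH⟩ := exists_n (k := 3) h3 x₁.card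
  have h' := h.cj g
  generalize g •ᶜ H = H₂ at *
  generalize H ⊓ H₂ = T at *
  have n₁ := h.norm x₁.four.ne_bot x₁.le x₁.norm
  have n₂ := h'.norm x₂.four.ne_bot x₂.le x₂.norm
  have c₁ : centralizer (Q₁ : Set G) ≤ Q₁ := fun y hy =>
    x₁.cent y (n₁ ▸ centralizer_le_normalizer _ hy) hy
  have c₂ : centralizer (Q₂ : Set G) ≤ Q₂ := fun y hy =>
    x₂.cent y (n₂ ▸ centralizer_le_normalizer _ hy) hy
  have q₁ : Q₁ ≤ T := s₁.le_of_normalized x₁.four.isPGroup x₁.le (s₁.le.trans x₁.norm)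
  have q₂ : Q₂ ≤ T := s₂.le_of_normalized x₂.four.isPGroup x₂.le (s₂.le.trans x₂.norm)
  have hQ : Q₁ ≠ Q₂ := fun a => hne (by rw [← n₁, ← n₂, a])
  have e₁ : n •ᶜ Q₁ = Q₂ := (x₂.uniq _ (hnH ▸ cj_mono n x₁.le) (x₁.four.cj n).isPGroup
    (by rw [← cj_normalizer, n₁, hnH])).resolve_left (x₁.four.cj n).ne_bot
  have nle : ¬ Q₂ ≤ Q₁ := fun a =>
    hQ (eq_of_le_of_card_ge a (by rw [x₁.four.card, x₂.four.card])).symm
  have r2 : Q₁.relIndex T = 2 :=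
    CL.Sims.relIndex_eq_of_card q₁ (by rw [cT, x₁.four.card]; rfl)
  have hT : Q₁ ⊔ Q₂ = T := CL.Sims.sup_eq_of_relIndex_prime q₁ q₂ (r2 ▸ Nat.prime_two) nle
  have nN : ¬ H ≤ normalizer (T : Set G) := fun a => by
    rcases x₁.uniq T s₁.le s₁.pgroup a with b | b
    · rw [b, card_bot] at cT
      omega
    · rw [b, x₁.four.card] at cT
      omega
  have e₂ : n •ᶜ Q₂ = Q₁ := by
    obtain ⟨b, hb, hb'⟩ := SetLike.not_le_iff_exists.1 nle
    obtain ⟨w, hw, hw1, hwc⟩ := x₁.four.exists_fixed s₁.pgroup (s₁.le.trans x₁.norm)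
    have hw2 : w ∈ Q₂ := c₂ fun y hy => hwc y (q₂ hy)
    have f := x₂.four.cj n
    rcases le_or_le_of_mem (A := Q₁) (B := Q₂) (E := n •ᶜ Q₂) (fun t ht => by
      refine or_iff_not_imp_left.2 fun h1 => ?_
      have ha : t * b ∈ Q₁ := (CL.Sims.mul_mem_iff_of_relIndex_two r2
        (cj_le_of_mem_normalizer q₂ hn ht) (q₂ hb)).2 (iff_of_false h1 hb')
      refine (mul_mem_cancel_right hb).1 (mem_of_comm x₂.four c₂ hw2 hb hw1
        (fun a => hb' (a ▸ one_mem _)) (fun a => hb' (a ▸ hw)) (x₁.four.comm ha hw) ?_)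
      have a1 := x₁.four.sq _ ha
      have a2 := f.sq t ht
      rw [mul_assoc, x₂.four.sq b hb, mul_one]
      calc t = t * (t * b * (t * b)) := by rw [a1, mul_one]
        _ = t * t * (b * (t * b)) := by group
        _ = _ := by rw [a2, one_mul]) with a | a
    · exact eq_of_le_of_card_ge a (by rw [f.card, x₁.four.card])
    · exact absurd ((cj_inj n).1 (e₁.trans
        (eq_of_le_of_card_ge a (by rw [f.card, x₂.four.card])).symm)) hQ
  have hnn : n * n ∈ T := by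
    rw [← (eq_or_eq_of_three (le_inf s₁.le le_normalizer) inf_le_left r3).resolve_right
      fun a => nN (inf_eq_left.1 a)]
    exact ⟨n₁ ▸ mem_normalizer_iff_cj.2 (by rw [cj_mul, e₁, e₂]), mul_mem hn hn⟩
  obtain ⟨S, hS, hTS, -, h16⟩ := exists_over s₁.pgroup hn
    (fun a => hne (by rw [← hnH, cj_eq_of_mem (s₁.le a)])) hnn
  rw [cT] at h16
  replace h16 : 16 ∣ Nat.card G := h16.trans (card_subgroup_dvd_card S)
  obtain ⟨K, hK, -⟩ := h.exists_min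
  have := hK.normal
  have hn' : H ≤ normalizer (K : Set G) := by rw [normalizer_eq_top]; exact le_top
  obtain ⟨c, hc, hc1, hcc⟩ := h.exists_central K hK.ne_bot hS
  have k₁ : Q₁ ≤ K := inf_eq_left.1 ((x₁.uniq (Q₁ ⊓ K) (inf_le_left.trans x₁.le)
    x₁.four.isPGroup.to_inf_left (le_normalizer_inf x₁.norm hn')).resolve_left fun a =>
      hc1 (mem_bot.1 (a ▸ ⟨c₁ fun y hy => hcc y (hTS (q₁ hy)), hc⟩)))
  have k₂ : Q₂ ≤ K := by rw [← e₁, ← cj_eq_of_normal n K]; exact cj_mono n k₁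
  have kH : H ≤ K := inf_eq_left.1 ((eq_or_eq_of_three (le_inf s₁.le (hT ▸ sup_le k₁ k₂))
    inf_le_left r3).resolve_left fun a => nN (a ▸ le_normalizer_inf le_normalizer hn'))
  have hT : K = ⊤ := by rw [← h.sup_eq K hK.ne_bot, sup_eq_right.2 kH]
  subst hT
  rcases ((h.cs_top hK).recog x₁.four c₁).2 with ⟨F, _, _, a, -, ⟨f⟩⟩ | ⟨⟨f⟩⟩ | ⟨-, a | a⟩
  · exact Or.inl (psl_octa a f h.max e h16)
  · rw [card_alt_seven f] at h16
    omega
  · exact Or.inr a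
  · exact (m11_not_max a h.max x₁.card x₁.four.isPGroup x₁.four.ne_bot x₁.norm).elim

end Mx

end CL.W3
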