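import Cfsg.Agent.PERM.Wong4

/-!
The case of a maximal subgroup `S₄ × C₂`.
-/

set_option autoImplicit false

namespace CL.W3

open Cfsg Subgroup CL.MSS CL.JC CL.PGL2 CL.Dk Matrix
open scoped MatrixGroups

variable {G : Type*} [Group G] [Finite G]

set_option synthInstance.maxSize 1024 in
theorem s4_odd : ∀ u w : S4, u ^ 3 = 1 → w * w = 1 → u * w = w * u → u = 1 ∨ w = 1 := by
  decide +kernel

theorem s42_odd {u w : S42} {r : ℕ} (hr : Odd r) (hu : u ^ r = 1) (hw : w * w = 1)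
    (h : u * w = w * u) : u = 1 ∨ ∀ p, p * w = w * p := by
  have h1 : orderOf u ∣ 3 * 2 ^ 4 := by
    have := orderOf_dvd_natCard u
    rwa [card_s42] at this
  have h2 : u ^ 3 = 1 := orderOf_dvd_iff_pow_eq_one.1 ((Nat.Coprime.coprime_dvd_left
    (orderOf_dvd_of_pow_eq_one hu) (Nat.Coprime.pow_right 4
      (Nat.coprime_two_right.2 hr))).dvd_of_dvd_mul_right h1)
  refine (s4_odd u.1 w.1 (congrArg Prod.fst h2) (congrArg Prod.fst hw)
    (congrArg Prod.fst h)).imp (fun a => Prod.ext a ?_) fun a p => Prod.ext ?_ (mul_comm _ _)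
  · have : u.2 ^ 3 = 1 := congrArg Prod.snd h2
    rwa [pow_succ, sq, c2_sq, one_mul] at this
  · simp [a]

section

variable {T H Q₁ W₁ H₂ Q₂ W₂ : Subgroup G} {z₁ z₂ : G} (h : P42 T H Q₁ W₁ H₂ Q₂ W₂ z₁ z₂)
include h

theorem no_odd (e : H ≃* S42) {g y u w : G} (hy : y = g * z₁ * g⁻¹) {r : ℕ} (hr : Odd r)
    (hu : u ^ r = 1) (hw : w * w = 1) (h1 : w ≠ 1) (h2 : w ≠ y) (c1 : u * w = w * u)
    (c2 : u * y = y * u) (c3 : w * y = y * w) : u = 1 := by
  obtain ⟨ψ, hψ, hm, -⟩ := exists_model e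
  have key : ∀ a, a * y = y * a → ∃ b, ψ b = g⁻¹ * a * g := fun a ha =>
    (hm _).1 (h.x₁.mem_of_comm h.m₁ (by
      calc _ = g⁻¹ * (a * (g * z₁ * g⁻¹)) * g := by group
        _ = _ := by rw [← hy, ha, hy]; group))
  obtain ⟨u', hu'⟩ := key u c2
  obtain ⟨w', hw'⟩ := key w c3
  rcases s42_odd (u := u') (w := w') hr (hψ (by
      rw [map_pow, hu', map_one, show g⁻¹ * u * g = g⁻¹ * u * g⁻¹⁻¹ by group, conj_pow, hu]; group))
    (hψ (by
      rw [map_mul, hw', map_one]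
      calc _ = g⁻¹ * (w * w) * g := by group
        _ = _ := by rw [hw]; group))
    (hψ (by
      rw [map_mul, map_mul, hu', hw']
      calc _ = g⁻¹ * (u * w) * g := by group
        _ = _ := by rw [c1]; group)) with a | a
  · rw [a, map_one] at hu'
    calc u = g * (g⁻¹ * u * g) * g⁻¹ := by group
      _ = 1 := by rw [← hu']; group
  · have b : w = g * ψ w' * g⁻¹ := by rw [hw']; group
    rcases h.x₁.zuniq (ψ w') ((hm _).2 ⟨_, rfl⟩) (fun p hp => by
      obtain ⟨p, rfl⟩ := (hm p).1 hp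
      rw [← map_mul, ← map_mul, a]) with c | c
    · exact absurd (by rw [b, c]; group) h1
    · exact absurd (by rw [b, c, hy]) h2

/-- No element of odd order lies in the torus. -/
theorem torus_odd (e : H ≃* S42) {n : G} (hn : n •ᶜ Q₁ = Q₂) {K : Subgroup G} [K.Normal]
    (kW : W₁ ≤ K) (hC : centralizer (W₁.subgroupOf K : Set K) ≤ W₁.subgroupOf K)
    {w : K} (hw : (w : G) = z₁ * z₂) {Y : Subgroup K} [IsCyclic Y]
    (h1 : Y ≤ centralizer ({w} : Set K))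
    (h2 : ∀ c : K, Commute c w → c ∉ Y → c * c = 1 ∧ ∀ y ∈ Y, c * y * c⁻¹ = y⁻¹)
    {x : K} (hx : x ∈ Y) {r : ℕ} (hr : Odd r) (hxr : x ^ r = 1) : x = 1 := by
  have odd1 : ∀ y : G, y ^ r = 1 → y * y = 1 → y = 1 := fun y a b => by
    obtain ⟨k, rfl⟩ := hr
    rwa [pow_succ, pow_mul, sq, b, one_pow, one_mul] at a
  have hxr' : (x : G) ^ r = 1 := congrArg Subtype.val hxr
  have zz := h.x₁.zz
  have wW : (w : G) ∈ W₁ := hw ▸ h.w_mem
  have w1 : (w : G) ≠ 1 := hw ▸ h.w_ne_one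
  have ww := h.x₁.four.sq _ wW
  have cz : ∀ a ∈ W₁, a * z₁ = z₁ * a := fun a ha => h.x₁.zc a (h.x₁.le (h.x₁.wQ ha))
  have fV : Four (W₁.subgroupOf K) := ⟨by
    rw [Nat.card_congr (subgroupOfEquivOfLe kW).toEquiv, h.x₁.four.card],
    fun a ha => Subtype.ext (h.x₁.four.sq _ ha)⟩
  obtain ⟨a, ha, ha1, haw⟩ := exists_pair h.x₁.four (w : G)
  have cY : ∀ y ∈ Y, (y : G) * w = w * y := fun y hy =>
    congrArg Subtype.val (mem_centralizer_singleton_iff.1 (h1 hy))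
  have cm : ∀ y ∈ Y, ∀ y' ∈ Y, y * y' = y' * y := fun y hy y' hy' =>
    congrArg Subtype.val (mul_comm' (⟨y, hy⟩ : Y) ⟨y', hy'⟩)
  by_contra x1
  have xx : (x : G) * x ≠ 1 := fun b => x1 (Subtype.ext (odd1 _ hxr' b))
  have aY : (⟨a, kW ha⟩ : K) ∉ Y := fun b => xx (h.x₁.four.sq _ (mem_of_comm fV hC (z := w)
    (t := ⟨a, kW ha⟩) wW ha (fun c => w1 (congrArg Subtype.val c))
    (fun c => ha1 (congrArg Subtype.val c)) (fun c => haw (congrArg Subtype.val c))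
    (Subtype.ext (cY x hx)) (cm _ hx _ b)))
  have ainv : ∀ y ∈ Y, a * y * a⁻¹ = (y : G)⁻¹ := fun y hy => congrArg Subtype.val
    ((h2 ⟨a, kW ha⟩ (Subtype.ext (h.x₁.four.comm ha wW)) aY).2 y hy)
  let x' : K := ⟨z₁ * x * z₁⁻¹, (inferInstance : K.Normal).conj_mem _ x.2 _⟩
  have hx'e : (x' : G) = z₁ * x * z₁⁻¹ := rfl
  have hx' : x' ∈ Y := by
    by_contra b
    have := congrArg Subtype.val (h2 x' (Subtype.ext (by
      change z₁ * x * z₁⁻¹ * w = w * (z₁ * x * z₁⁻¹)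
      calc _ = z₁ * x * z₁⁻¹ * (w * z₁) * z₁⁻¹ := by group
        _ = z₁ * (x * w) * z₁⁻¹ := by rw [cz _ wW]; group
        _ = (z₁ * w) * x * z₁⁻¹ := by rw [cY x hx]; group
        _ = _ := by rw [← cz _ wW]; group)) b).1
    change z₁ * x * z₁⁻¹ * (z₁ * x * z₁⁻¹) = 1 at this
    refine xx ?_
    calc _ = z₁⁻¹ * (z₁ * x * z₁⁻¹ * (z₁ * x * z₁⁻¹)) * z₁ := by group
      _ = 1 := by rw [this]; group
  have c : Commute (x : G) x' := congrArg Subtype.val (cm _ hx _ hx')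
  have hx'r : (x' : G) ^ r = 1 := by rw [hx'e, conj_pow, hxr']; group
  have back : z₁ * x' * z₁⁻¹ = x := by
    rw [hx'e]
    calc _ = z₁ * z₁ * x * (z₁ * z₁)⁻¹ := by group
      _ = _ := by rw [zz]; group
  have u1 : (x : G) * x' = 1 := no_odd h e (g := 1) (y := z₁) (w := w) (by group) hr
    (by rw [c.mul_pow, hxr', hx'r, one_mul]) ww w1 (fun b => h.x₁.zW (b ▸ wW))
    (cY _ (mul_mem hx hx')) (by
      rw [← mul_inv_eq_iff_eq_mul.1 (show z₁ * (x * x') * z₁⁻¹ = x * x' by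
        calc _ = (z₁ * x * z₁⁻¹) * (z₁ * x' * z₁⁻¹) := by group
          _ = _ := by rw [back, ← hx'e, c.eq])]) (cz _ wW)
  obtain ⟨p, hp, hpa⟩ := h.x₁.conj _ wW a ha w1 ha1
  have u2 : (x : G) * (x' : G)⁻¹ = 1 := no_odd h e (g := p * n) (y := z₁ * a) (w := w) (by
      calc z₁ * a = z₁ * p * (z₁ * z₂) * p⁻¹ := by rw [← hpa, hw]; group
        _ = p * (z₁ * z₁) * z₂ * p⁻¹ := by rw [← h.x₁.zc p hp]; group
        _ = _ := by rw [zz, ← (h.swap_data hn).2]; group) hr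
    (by rw [c.inv_right.mul_pow, hxr', inv_pow, hx'r, inv_one, one_mul]) ww w1
    (fun b => h.x₁.zW ((mul_mem_cancel_right ha).1 (b ▸ wW)))
    (cY _ (mul_mem hx (inv_mem hx'))) (by
      rw [← mul_inv_eq_iff_eq_mul.1 (show z₁ * a * (x * (x' : G)⁻¹) * (z₁ * a)⁻¹ = x * (x' : G)⁻¹ by
        calc _ = z₁ * ((a * x * a⁻¹) * (a * x' * a⁻¹)⁻¹) * z₁⁻¹ := by group
          _ = (z₁ * x * z₁⁻¹)⁻¹ * (z₁ * x' * z₁⁻¹) := by rw [ainv _ hx, ainv _ hx']; group
          _ = _ := by rw [back, ← hx'e, c.inv_right.eq])])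
    (by rw [← mul_assoc, cz _ wW, mul_assoc, mul_assoc, h.x₁.four.comm wW ha])
  rw [← mul_inv_eq_one.1 u2] at u1
  exact xx u1

end

theorem Mx.s42 {H : Subgroup G} (h : Mx H) {g : G} (h3 : (g •ᶜ H).relIndex H = 3)
    (e : H ≃* S42) : ∃ N : Subgroup G, N.Normal ∧ N.index = 2 ∧ centralizer (N : Set G) = ⊥ ∧
      Nonempty (N ≃* PSL(3, ZMod 3)) := by
  have := Fact.mk Nat.prime_two
  obtain ⟨Q₁, W₁, z₁, x₁⟩ := exists_x42 ⟨e⟩
  obtain ⟨Q₂, W₂, z₂, x₂⟩ := exists_x42 ⟨(cjEquiv g H).symm.trans e⟩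
  obtain ⟨s₁, s₂, r3, cT, hne, n, hn, hnH⟩ := Mx.exists_n (k := 4) h3 x₁.card
  have h' := h.cj g
  generalize g •ᶜ H = H₂ at *
  generalize H ⊓ H₂ = T at *
  have P : P42 T H Q₁ W₁ H₂ Q₂ W₂ z₁ z₂ := ⟨x₁, x₂,
    h.maxLocal x₁.four.isPGroup x₁.four.ne_bot (x₁.wQ.trans x₁.le) x₁.normW,
    h'.maxLocal x₂.four.isPGroup x₂.four.ne_bot (x₂.wQ.trans x₂.le) x₂.normW, s₁, s₂, hne⟩
  have nH : n ∉ H := fun a => hne (by rw [← hnH, cj_eq_of_mem a])
  obtain ⟨e₁, e₂⟩ := P.swap hn nH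
  have nN : ¬ H ≤ normalizer (T : Set G) := fun a => by
    have := card_le_of_le (x₁.max T s₁.le s₁.pgroup a)
    rw [cT, x₁.cardQ] at this
    omega
  have hnn : n * n ∈ T := by
    rw [← (eq_or_eq_of_three (le_inf s₁.le le_normalizer) inf_le_left r3).resolve_right
      fun a => nN (inf_eq_left.1 a)]
    exact ⟨x₁.nQ P.m₁ ▸ mem_normalizer_iff_cj.2 (by rw [cj_mul, e₁, e₂]), mul_mem hn hn⟩
  have nT : n ∉ T := fun a => nH (s₁.le a)
  obtain ⟨S, hS, hTS, hnS, -⟩ := exists_over s₁.pgroup hn nT hnn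
  have hN := P.le_normalizer_t hS.pgroup hTS
  have cS : Nat.card S = 32 := by
    have : (T.subgroupOf S).index = 2 := index_eq_two_iff.2 ⟨⟨n, hnS⟩, fun b => by
      by_cases hb : (b : G) ∈ T
      · exact Or.inr ⟨hb, fun a => nT ((mul_mem_cancel_left hb).1 a)⟩
      · exact Or.inl ⟨P.mul_mem_t hS.pgroup hTS ⟨b.2, hN b.2⟩ ⟨hnS, hn⟩ hb nT, hb⟩⟩
    rw [← (T.subgroupOf S).index_mul_card, Nat.card_congr (subgroupOfEquivOfLe hTS).toEquiv, this,
      cT]
    rfl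
  have hm : ¬ 2 ∣ S.index := by simpa using hS.not_dvd_relIndex
  have cG := S.index_mul_card
  obtain ⟨K, hK, hKr⟩ := h.exists_min
  have hKn := hK.normal
  have zK : z₁ ∉ K := fun a => P.z_not_mem_pResidual (hKr a)
  have hn' : H ≤ normalizer (K : Set G) := by rw [normalizer_eq_top]; exact le_top
  have k₁ : W₁ ≤ K := by
    obtain ⟨c, hc, hc1, hcc⟩ := h.exists_central K hK.ne_bot hS
    obtain ⟨u, hu, hu1, huK⟩ : ∃ u ∈ W₁, u ≠ 1 ∧ u ∈ K := by
      rcases x₁.split c (x₁.cQ P.m₁ fun y hy => hcc y (hTS (P.qT hy))) with a | a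
      · exact ⟨c, a, hc1, hc⟩
      · obtain ⟨v, hv, hv1, hvu⟩ := exists_pair x₁.four (z₁ * c)
        obtain ⟨p, hp, b⟩ := x₁.conj _ a v hv (fun b => zK (by
          rw [eq_inv_of_mul_eq_one_left b]; exact inv_mem hc)) hv1
        refine ⟨(z₁ * c)⁻¹ * v, mul_mem (inv_mem a) hv, fun d => hvu (inv_mul_eq_one.1 d).symm, ?_⟩
        rw [show (z₁ * c)⁻¹ * v = c⁻¹ * (p * c * p⁻¹) by
          rw [← b, ← mul_assoc p, x₁.zc p hp]; group]
        exact mul_mem (inv_mem hc) (hKn.conj_mem _ hc _)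
    intro v hv
    by_cases hv1 : v = 1
    · rw [hv1]; exact one_mem _
    · obtain ⟨p, -, rfl⟩ := x₁.conj u hu v hv hu1 hv1
      exact hKn.conj_mem _ huK _
  have k₂ : W₂ ≤ K := fun w hw => by
    have := hKn.conj_mem _ (k₁ ((P.symm.swap_data e₂).1 w hw)) n⁻¹
    simpa [mul_assoc] using this
  have zH : z₁ ∈ H := x₁.le x₁.zQ
  have hKz : K ⊔ zpowers z₁ = ⊤ := by
    have a : T ≤ K ⊔ zpowers z₁ := fun t ht => (P.t_split ht).elim
      (fun a => mem_sup_left (sup_le k₁ k₂ a)) fun a =>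
        (mul_mem_cancel_left (mem_sup_right (mem_zpowers z₁))).1 (mem_sup_left (sup_le k₁ k₂ a))
    have b : H ≤ K ⊔ zpowers z₁ := inf_eq_left.1 ((eq_or_eq_of_three (le_inf s₁.le a)
      inf_le_left r3).resolve_left fun b => nN (b ▸ le_normalizer_inf le_normalizer
        (le_normalizer_sup hn' (le_normalizer_zpowers fun p hp => by
          rw [x₁.zc p hp, mul_inv_cancel_right]; exact mem_zpowers _))))
    rw [eq_top_iff, ← h.sup_eq K hK.ne_bot]
    exact sup_le b le_sup_left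
  have hi : K.index = 2 := index_eq_two_iff.2 ⟨z₁, fun b => by
    obtain ⟨k, hk, y, hy, rfl⟩ := (mem_sup_of_normalizes_left ((zpowers_le.2 zH).trans hn')).1
      (hKz ▸ mem_top b)
    have : y = 1 ∨ y = z₁ := by
      obtain ⟨j, rfl⟩ := hy
      rcases Int.even_or_odd' j with ⟨i, rfl | rfl⟩
      · exact Or.inl (by simp only [_root_.zpow_mul, zpow_two, x₁.zz, _root_.one_zpow])
      · exact Or.inr (by simp only [_root_.zpow_add, _root_.zpow_mul, zpow_two, x₁.zz,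
          _root_.one_zpow, zpow_one, one_mul])
    rcases this with rfl | rfl
    · exact Or.inr ⟨by simpa using hk, fun a => zK ((mul_mem_cancel_left hk).1 (by simpa using a))⟩
    · exact Or.inl ⟨by rwa [mul_assoc, x₁.zz, mul_one], fun a => zK ((mul_mem_cancel_left hk).1 a)⟩⟩
  have cK := K.index_mul_card
  rw [hi, ← cG, cS] at cK
  have hC := h.cent K hK.ne_bot
  have hKT : K ≠ ⊤ := fun a => zK (a ▸ mem_top _)
  have fV : Four (W₁.subgroupOf K) := ⟨by
    rw [Nat.card_congr (subgroupOfEquivOfLe k₁).toEquiv, x₁.four.card],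
    fun a ha => Subtype.ext (x₁.four.sq _ ha)⟩
  have cV : centralizer (W₁.subgroupOf K : Set K) ≤ W₁.subgroupOf K := fun y hy => by
    have a : (y : G) ∈ centralizer (W₁ : Set G) := fun w hw =>
      congrArg Subtype.val (hy ⟨w, k₁ hw⟩ hw)
    exact (x₁.split _ (x₁.cent _ (x₁.nW P.m₁ ▸ centralizer_le_normalizer _ a) a)).resolve_right
      fun b => zK ((mul_mem_cancel_right y.2).1 (k₁ b))
  obtain ⟨h1, ⟨F, _, _, a, a', ⟨f⟩⟩ | ⟨⟨f⟩⟩ | ⟨-, a | a⟩⟩ := (h.cs hK).recog fV cV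
  · exfalso
    let w : K := ⟨z₁ * z₂, k₁ P.w_mem⟩
    have ho : orderOf w = 2 := orderOf_eq_prime (Subtype.ext (by
      rw [sq]; exact x₁.four.sq _ P.w_mem)) fun b => P.w_ne_one (congrArg Subtype.val b)
    obtain ⟨φ, hφ, hφ'⟩ := CL.AbS.exists_embed f
    have ho' : Odd (Nat.card F) := by rwa [Nat.card_eq_fintype_card]
    obtain ⟨Y, b1, -, b2, b3, b4, b5, -⟩ := CL.AbS.exists_torus ho' hφ hφ' ho
    have b6 := (centralizer ({w} : Set K)).index_mul_card
    have b7 : Nat.card Y = 8 := by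
      obtain ⟨j, hj⟩ := (IsPGroup.iff_card (p := 2) (G := Y)).1 (by
        by_contra b
        obtain ⟨r, hr, hr1, hr2⟩ : ∃ r : ℕ, r.Prime ∧ r ∣ Nat.card Y ∧ r ≠ 2 := by
          by_contra c
          push Not at c
          exact b (IsPGroup.of_card (Nat.eq_prime_pow_of_unique_prime_dvd Nat.card_pos.ne'
            fun hd hd' => c _ hd hd'))
        have := Fact.mk hr
        obtain ⟨x, hx⟩ := exists_prime_orderOf_dvd_card' r hr1
        have := torus_odd P e e₁ k₁ cV (w := w) rfl b2 b5 x.2 (hr.odd_of_ne_two hr2)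
          (congrArg Subtype.val (hx ▸ pow_orderOf_eq_one x))
        rw [show x = 1 from Subtype.ext this, orderOf_one] at hx
        exact hr.one_lt.ne hx)
      obtain ⟨i, hi⟩ := h1 w ho
      rw [b3, hj, hi] at b6
      have b8 : (2 * i + 1) * 2 ^ j = S.index * 2 ^ 3 :=
        Nat.eq_of_mul_eq_mul_left (show 0 < 4 by decide) (by linear_combination 2 * b6 + cK)
      have := congrArg (fun m => m.factorization 2) b8
      simp only [factorization_two_of_eq (mul_comm _ _) ⟨i, rfl⟩,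
        factorization_two_of_eq (mul_comm _ _) (Nat.odd_iff.2 (Nat.two_dvd_ne_zero.1 hm))] at this
      rw [hj, this]
      rfl
    rw [b7] at b4
    rcases b4 with b4 | b4
    · have hF : Nat.card F = 17 := by omega
      obtain ⟨ε⟩ := iso_pgl hC hKT (by rw [← Nat.card_eq_fintype_card, hF]; decide) a f
      have c1 := card_centralizer_inf_range_le ε.symm.toMonoidHom (ε z₁)
      have c2 : H ≤ centralizer {ε.symm.toMonoidHom (ε z₁)} ⊓ ε.symm.toMonoidHom.range :=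
        fun p hp => ⟨mem_centralizer_singleton_iff.2 (by simpa using x₁.zc p hp), ε p, by simp⟩
      have c3 := (card_le_of_le c2).trans c1
      rcases card_centralizer_pgl ho' (t := ε z₁) (by
        rw [MulEquiv.orderOf_eq]
        exact orderOf_eq_prime (by rw [sq, x₁.zz]) x₁.z_ne) with c4 | c4 <;>
      rw [x₁.card, c4, hF] at c3 <;> omega
    · have hF : Nat.card F = 15 := by omega
      obtain ⟨p, hp⟩ := CharP.exists F
      have c1 := eq_char_of_dvd_card (F := F) p Nat.prime_three (by rw [hF]; decide)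
      have c2 := eq_char_of_dvd_card (F := F) p Nat.prime_five (by rw [hF]; decide)
      omega
  · rw [card_alt_seven f] at cK
    omega
  · exact ⟨K, hKn, hi, hC, a⟩
  · exact absurd (m11_top hC a) hKT

end CL.W3
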