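import Mathlib
import Cfsg.Agent.PERM.ZassPGL
import Cfsg.Agent.SOLV.Frobenius
import Cfsg.Agent.S0054

/-!
Doubly transitive groups with trivial three-point stabilisers and a regular normal subgroup.
-/

set_option autoImplicit false

namespace CL.Zass

open MulAction

variable {G Ω : Type*} [Group G] [MulAction G Ω]

theorem conj_eq_of_regular {N : Subgroup G} [hN : N.Normal] (hNr : ∀ x : Ω, stabilizer N x = ⊥)
    {a : Ω} {h u v : G} (hh : h • a = a) (hu : u ∈ N) (hv : v ∈ N) (e : h • u • a = v • a) :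
    h * u * h⁻¹ = v :=
  eq_of_regular hNr (hN.conj_mem u hu h) hv (x := a) (by
    rw [mul_smul, mul_smul, inv_smul_eq_iff.mpr hh.symm, e])

/-- Semi-affine coordinates from an abelian regular normal subgroup and an abelian kernel. -/
theorem Ker.exists_affine_chart [Finite G] {a b : Ω} {F : Subgroup G} (hK : Ker a F) (hab : a ≠ b)
    (hF : ∀ u ∈ F, ∀ v ∈ F, u * v = v * u) (N : Subgroup G) [hN : N.Normal]
    (hNt : IsPretransitive N Ω) (hNr : ∀ x : Ω, stabilizer N x = ⊥)
    (hNc : ∀ u ∈ N, ∀ v ∈ N, u * v = v * u) :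
    ∃ (K : Type) (_ : Field K) (_ : Fintype K) (ι : K ≃ Ω), ι 0 = a ∧ ι 1 = b ∧
      ∀ g : G, ∃ k : K, k ≠ 0 ∧ ∃ (c : K) (φ : K ≃+* K), ∀ y : K, g • ι y = ι (k * φ y + c) := by
  have hne : ∀ u ∈ N, u ≠ 1 → u • a ≠ a := fun u hu u1 e =>
    u1 (eq_of_regular hNr hu N.one_mem (e.trans (one_smul _ _).symm))
  obtain ⟨⟨e, he⟩, hea⟩ := hNt.exists_smul_eq a b
  change e • a = b at hea
  obtain ⟨K, _, _, τ, inj, mem, surj, add, one, -, semi⟩ := exists_field_of_subgroup N F hNc hF
    (fun h _ u hu => hN.conj_mem u hu h) (fun E hE hE1 hinv => by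
      obtain ⟨⟨u, hu⟩, u1⟩ := (Subgroup.ne_bot_iff_exists_ne_one).mp hE1
      have u1' : u ≠ 1 := fun h => u1 (Subtype.ext h)
      refine le_antisymm hE fun v hv => ?_
      by_cases v1 : v = 1
      · exact v1 ▸ E.one_mem
      obtain ⟨f, hf, e⟩ := hK.trans _ _ (hne u (hE hu) u1') (hne v hv v1)
      rw [← conj_eq_of_regular hNr (hK.fix f hf) (hE hu) hv e]
      exact hinv f hf u hu) he (by
        rintro rfl
        exact hab (by simpa using hea))
  have h0 : τ 0 = 1 := by
    have := add 0 0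
    rw [add_zero] at this
    exact left_eq_mul.mp this
  have hf : Function.Bijective fun x => τ x • a := by
    constructor
    · exact fun x y e => inj (eq_of_regular hNr (mem x) (mem y) e)
    · intro y
      obtain ⟨⟨u, hu⟩, e⟩ := hNt.exists_smul_eq a y
      obtain ⟨x, rfl⟩ := surj u hu
      exact ⟨x, e⟩
  refine ⟨K, inferInstance, inferInstance, Equiv.ofBijective _ hf, ?_, ?_, fun g => ?_⟩
  · change τ 0 • a = a
    rw [h0, one_smul]
  · change τ 1 • a = b
    rw [one, hea]
  · obtain ⟨c, hc⟩ := hf.2 (g • a)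
    have h1 : ((τ c)⁻¹ * g) • a = a := by rw [mul_smul, inv_smul_eq_iff]; exact hc.symm
    obtain ⟨k, hk, φ, e⟩ := semi ((τ c)⁻¹ * g) (fun u hu => hN.conj_mem u hu _) (hK.norm _ h1)
    refine ⟨k, hk, c, φ, fun y => ?_⟩
    change g • τ y • a = τ (k * φ y + c) • a
    rw [add_comm, add, ← e, mul_smul, mul_smul, inv_smul_eq_iff.mpr h1.symm, mul_smul, mul_smul,
      smul_inv_smul]

/-- With a regular normal subgroup and non-trivial two-point stabilisers the kernel is abelian. -/
theorem Ker.comm_of_regular_normal (hZ : Z2 G Ω) {a b : Ω} {F : Subgroup G} (hK : Ker a F)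
    (hab : a ≠ b) (hH : St G a b ≠ ⊥) (N : Subgroup G) [hN : N.Normal]
    (hNt : IsPretransitive N Ω) (hNr : ∀ x : Ω, stabilizer N x = ⊥) :
    ∀ u ∈ F, ∀ v ∈ F, u * v = v * u := by
  have := hZ.finiteG
  have := hZ.nonempty
  obtain ⟨⟨h, hh⟩, h1⟩ := (Subgroup.ne_bot_iff_exists_ne_one).mp hH
  have h1' : h ≠ 1 := fun e => h1 (Subtype.ext e)
  obtain ⟨⟨n, hn⟩, hna⟩ := hNt.exists_smul_eq a b
  change n • a = b at hna
  have n1 : n ≠ 1 := by
    rintro rfl
    exact hab (by simpa using hna)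
  have hc : h * n = n * h := mul_inv_eq_iff_eq_mul.mp
    (conj_eq_of_regular hNr hh.1 hn hn (by rw [hna]; exact hh.2))
  have n2 : n * n = 1 := by
    have : h • n • b = n • b := by rw [← mul_smul, hc, mul_smul, (mem_St.mp hh).2]
    rcases hZ.eq_or_eq_of_fixed h1' hab hh.1 hh.2 this with e | e
    · exact eq_of_regular hNr (N.mul_mem hn hn) N.one_mem (x := a)
        (by rw [mul_smul, hna, e, one_smul])
    · exact absurd (eq_of_regular hNr hn N.one_mem (e.trans (one_smul _ _).symm)) n1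
  have : Fact (Nat.Prime 2) := ⟨Nat.prime_two⟩
  have h2 : 2 ∣ Nat.card N := by
    rw [← orderOf_eq_prime (p := 2) (by rw [sq, n2]) n1]
    exact Subgroup.orderOf_dvd_natCard N hn
  have h3 := hK.card hZ
  rw [card_eq_of_regular hNt hNr] at h2
  have : IsZGroup F := CL.Frob.isZGroup_of_odd (H := N) (by omega)
    ((Subgroup.ne_bot_iff_exists_ne_one).mpr ⟨⟨n, hn⟩, fun e => n1 (congrArg Subtype.val e)⟩)
    (by rw [Subgroup.normalizer_eq_top]; exact le_top) (by
      intro x hx x1
      rw [eq_bot_iff]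
      rintro u ⟨hu, e⟩
      have e' : u * x = x * u := Subgroup.mem_centralizer_singleton_iff.mp e
      refine eq_of_regular hNr hu N.one_mem (x := a) ?_
      rw [one_smul]
      by_contra hua
      exact x1 (hK.free x hx _ hua (by rw [← mul_smul, ← e', mul_smul, hK.fix x hx])))
  have := IsZGroup.isCyclic_commutator (G := F)
  let f := ((IsCyclic.mulAutMulEquiv (commutator F)).toMonoidHom.comp
    (MulAut.characteristic (commutator F))).comp F.normalizerMonoidHom
  have hcomm : IsMulCommutative F := by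
    refine (Abelianization.of (G := F)).isMulCommutative_of_isCyclic_of_ker_le_center ?_
    rw [Abelianization.ker_of]
    intro x hx
    rw [Subgroup.mem_center_iff]
    intro u
    obtain ⟨w, hw, e⟩ := hK.exists_commutator hZ hab hh h1' u.2
    have e1 : (⟨u, Subgroup.le_normalizer u.2⟩ : Subgroup.normalizer (F : Set G)) =
        ⟨w, Subgroup.le_normalizer hw⟩ * (⟨h, hK.stabilizer_le_normalizer hh.1⟩ *
          (⟨w, Subgroup.le_normalizer hw⟩)⁻¹ * (⟨h, hK.stabilizer_le_normalizer hh.1⟩)⁻¹) :=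
      Subtype.ext e
    have e2 : f ⟨u, Subgroup.le_normalizer u.2⟩ = 1 := by
      rw [e1]
      simp only [map_mul, map_inv]
      rw [mul_inv_cancel_comm, mul_inv_cancel]
    have e3 : MulAut.characteristic (commutator F)
        (F.normalizerMonoidHom ⟨u, Subgroup.le_normalizer u.2⟩) = 1 :=
      (IsCyclic.mulAutMulEquiv (commutator F)).map_eq_one_iff.mp e2
    have e4 := congrArg (fun α : MulAut (commutator F) => ((α ⟨x, hx⟩ : F) : G)) e3
    exact Subtype.ext (mul_inv_eq_iff_eq_mul.mp e4)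
  exact fun u hu v hv => congrArg Subtype.val (hcomm.is_comm.comm ⟨u, hu⟩ ⟨v, hv⟩)

/-- In semi-affine coordinates a non-trivial subgroup `A` of the stabiliser of `0` and `1` is a
Galois group with fixed field of order two. -/
theorem Z2.card_eq_two_pow (hZ : Z2 G Ω) {K : Type*} [Field K] [Finite K] (ι : K ≃ Ω)
    (h : ∀ g : G, ∃ k : K, k ≠ 0 ∧ ∃ (c : K) (φ : K ≃+* K), ∀ y : K, g • ι y = ι (k * φ y + c))
    {A : Subgroup G} (hA : A ≤ St G (ι 0) (ι 1)) (hA1 : A ≠ ⊥) :
    Nat.card Ω = 2 ^ Nat.card A := by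
  have h01 : ι 0 ≠ ι 1 := ι.injective.ne zero_ne_one
  have : ∀ g : A, ∃ φ : RingAut K, ∀ y : K, (g : G) • ι y = ι (φ y) := fun g => by
    obtain ⟨k, -, c, φ, e⟩ := h g
    have h0 := ι.injective ((e 0).symm.trans (hA g.2).1)
    have h1 := ι.injective ((e 1).symm.trans (hA g.2).2)
    rw [map_zero, mul_zero, zero_add] at h0
    rw [h0, add_zero, map_one, mul_one] at h1
    exact ⟨φ, fun y => by rw [e, h0, h1, add_zero, one_mul]⟩
  choose ψ hψ using this
  let f : A →* RingAut K := MonoidHom.mk' ψ fun g h => by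
    ext y
    apply ι.injective
    rw [← hψ, Subgroup.coe_mul, mul_smul, hψ, hψ]
    rfl
  have hf : Function.Injective f := by
    rw [injective_iff_map_eq_one]
    intro g e
    refine Subtype.ext (hZ.eq_one_of_forall fun x => ?_)
    obtain ⟨y, rfl⟩ := ι.surjective x
    rw [hψ, show ψ g = 1 from e]
    rfl
  obtain ⟨L, hL, e⟩ := card_eq_pow_card_fixed f.range
  rw [← Nat.card_congr ι, e, ← Nat.card_congr (f.ofInjective hf).toEquiv]
  congr 1
  rw [Nat.card_eq_two_iff]
  refine ⟨0, 1, zero_ne_one, ?_⟩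
  rw [Set.eq_univ_iff_forall]
  rintro ⟨x, hx⟩
  obtain ⟨g, g1⟩ := (Subgroup.ne_bot_iff_exists_ne_one).mp hA1
  have := hψ g x
  rw [show ψ g x = x from (hL x).mp hx _ ⟨g, rfl⟩] at this
  rcases hZ.eq_or_eq_of_fixed (fun e => g1 (Subtype.ext e)) h01 (hA g.2).1 (hA g.2).2 this
    with e | e
  · exact Or.inl (Subtype.ext (ι.injective e))
  · exact Or.inr (Subtype.ext (ι.injective e))

theorem Z2.comm_of_regular_normal (hZ : Z2 G Ω) (N : Subgroup G) [N.Normal]
    (hNt : IsPretransitive N Ω) (hNr : ∀ x : Ω, stabilizer N x = ⊥) :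
    (∀ u ∈ N, ∀ v ∈ N, u * v = v * u) ∧ IsPrimePow (Nat.card Ω) := by
  have := hZ.finiteG
  have := hZ.nonempty
  obtain ⟨hcomm, p, hp, hpow⟩ := Cfsg.Agent.S0054.result (X := Ω) hZ.two_trans N hNt hNr
  refine ⟨fun u hu v hv => congrArg Subtype.val (hcomm.is_comm.comm ⟨u, hu⟩ ⟨v, hv⟩), ?_⟩
  have : Fact p.Prime := ⟨hp⟩
  have hP : IsPGroup p N := fun u => ⟨1, Subtype.ext (by simpa using hpow u u.2)⟩
  obtain ⟨j, hj⟩ := IsPGroup.iff_card.mp hP
  have := hZ.three
  rw [card_eq_of_regular hNt hNr] at hj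
  rw [hj] at this ⊢
  refine hp.isPrimePow.pow ?_
  rintro rfl
  simp at this

/-- A transitive group whose point stabiliser has a regular normal subgroup of prime order on the
remaining points has trivial three-point stabilisers. -/
theorem Z2.of_ker_prime [IsPretransitive G Ω] [FaithfulSMul G Ω] {a : Ω} {F : Subgroup G}
    (hK : Ker a F) (hp : (Nat.card F).Prime) (h3 : 3 ≤ Nat.card Ω) : Z2 G Ω where
  trans := by
    intro x y z w hxy hzw
    obtain ⟨g, hg⟩ := exists_smul_eq G x a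
    obtain ⟨h, hh⟩ := exists_smul_eq G z a
    obtain ⟨u, hu, e⟩ := hK.trans (g • y) (h • w) (hg ▸ (MulAction.injective g).ne hxy.symm)
      (hh ▸ (MulAction.injective h).ne hzw.symm)
    exact ⟨h⁻¹ * (u * g), by rw [mul_smul, mul_smul, hg, hK.fix u hu, inv_smul_eq_iff, hh],
      by rw [mul_smul, mul_smul, e, inv_smul_smul]⟩
  sharp := by
    have key : ∀ (h : G) {b c : Ω}, a ≠ b → a ≠ c → b ≠ c → h • a = a → h • b = b → h • c = c →
        h = 1 := by
      intro h b c hab hac hbc ha hb hc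
      obtain ⟨u, hu, e⟩ := hK.trans b c hab.symm hac.symm
      have h1 : h * u * h⁻¹ = u := hK.eq_of_smul_eq (hK.norm h ha u hu) hu hab.symm (by
        rw [mul_smul, mul_smul, inv_smul_eq_iff.mpr hb.symm, e, hc])
      have u1 : (⟨u, hu⟩ : F) ≠ 1 := fun h => hbc (by
        rw [← e, show u = 1 from congrArg Subtype.val h, one_smul])
      have := Fact.mk hp
      refine eq_of_smul_eq_smul (α := Ω) fun y => ?_
      rw [one_smul]
      by_cases hy : y = a
      · rw [hy, ha]
      obtain ⟨v, hv, rfl⟩ := hK.trans b y hab.symm hy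
      obtain ⟨k, hk⟩ := mem_zpowers_of_prime_card (p := Nat.card F) rfl u1 (g' := ⟨v, hv⟩)
      have h2 : Commute h v := by
        rw [← show u ^ k = v from congrArg Subtype.val hk]
        exact Commute.zpow_right (mul_inv_eq_iff_eq_mul.mp h1) k
      rw [← mul_smul, h2.eq, mul_smul, hb]
    intro g x y z hxy hxz hyz hx hy hz
    obtain ⟨t, ht⟩ := exists_smul_eq G x a
    have := key (t * g * t⁻¹) (b := t • y) (c := t • z) (ht ▸ (MulAction.injective t).ne hxy)
      (ht ▸ (MulAction.injective t).ne hxz) ((MulAction.injective t).ne hyz)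
      (by rw [← ht, mul_smul, mul_smul, inv_smul_smul, hx])
      (by rw [mul_smul, mul_smul, inv_smul_smul, hy])
      (by rw [mul_smul, mul_smul, inv_smul_smul, hz])
    simpa using this
  three := h3

end CL.Zass
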